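import Cfsg.Agent.H282.SK.Tools
import Cfsg.Agent.KFacts.RgdVJ
import Cfsg.Agent.KFacts.RgdAutFacts
import Cfsg.Agent.S2159
import Cfsg.Agent.S2126
import Cfsg.Agent.S2128
import Cfsg.Agent.S2129
import Cfsg.Agent.S2130
import Cfsg.Agent.H967.FaTw
import Cfsg.Agent.H933.SubTwist
import Cfsg.Agent.BpExc.TorCent
import Cfsg.Agent.KFacts.RgdOpp
import Cfsg.Agent.KFacts.RgdOver
import Cfsg.Agent.KFacts.RgdTau
import Cfsg.Agent.Nodes.BN
import Cfsg.Agent.KFacts.ChevTwoSysInst
import Cfsg.Agent.KFacts.ChevTwoInstE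
import Cfsg.Agent.ChevalleyStructure.FieldIso
import Cfsg.Agent.S1054
import Mathlib.FieldTheory.Finite.Extension
import Cfsg.Agent.H83.Count
import Cfsg.Agent.H83.RedESix
import Cfsg.Agent.H83.RedESeven
import Cfsg.Agent.H83.RedEEight
import Cfsg.Agent.H81.InvGen
import Mathlib.Data.Fintype.Powerset
import Cfsg.Agent.H129.TwE6Idx
import Cfsg.Agent.H129.TorusChar
import Cfsg.Agent.H293.TwExc
import Cfsg.Agent.KFacts.Mult.LacedE
import Cfsg.Agent.Lib.FinFast
import Cfsg.Agent.ClassicalGeometry.PSUAutMain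
import Cfsg.Agent.H277.Unf.PsuEven
import Cfsg.Agent.UGT.I34.OnCode_m3
import Cfsg.Agent.H199.PslGraphField
import Cfsg.Agent.H731.SK.Rows
import Cfsg.Agent.OddHalf.D4.Spor.MTwentyFour_m3
import Cfsg.Agent.H83.TwDFour
import Cfsg.Agent.BiChar.TwDFour
import Cfsg.Agent.BpExc.EmbInst
import Mathlib
import Cfsg.Agent.H83.TwESix
import Cfsg.Agent.H101.RealOdd
import Cfsg.Agent.H669.RO.McL
import Cfsg.Agent.UGT.End.McLOuter
import Cfsg.Agent.TypeM.FactsMcL
import Cfsg.Agent.H573.Spor.HSFive_m3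
import Cfsg.Agent.H877.SK.B.Ctx
import Cfsg.Agent.H417.Two.Co3Seven
import Cfsg.Agent.CTwoTab.Co3
import Cfsg.Agent.BpSpor.CoThreeFive
import Cfsg.Agent.R08.X4Gamma_m3
import Cfsg.Agent.LThreeFi22.Inst
import Cfsg.Agent.OddHalf.NI3.Ex.FiRow.Outer
import Cfsg.Agent.H323.FiOut
import Cfsg.Agent.PreUniqCo.FiTwentyTwo
import Cfsg.Agent.CoOneType.CoAp
import Cfsg.Agent.CoOneType.CoQ
import Cfsg.Agent.CoOneType.CoW
import Cfsg.Agent.FastGrp
import Cfsg.Agent.Prune
set_option linter.all false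

section
prune_inst 0x7ffcbcfaabb8addfdfff7e7ffed1dffc39901fffa6def9433fe021ef0bdf030009c52b858de010ff1ec3629410387813f9ffceffea6bdc7ffffd5ff41ffbee0fa5e7b508519488340f3c0ff703f0778e7f3fffffffffffffffffffffffffffbefffdffffffff

-- part: H282/SK/Good
section
set_option linter.all false
open scoped Cfsg.Agent.FastGrp

/-!
# S3010 (Sidki pairs): good involutions (helper282, specification of helper737)
-/

set_option autoImplicit false
set_option linter.unusedVariables false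

universe u v

open Subgroup Cfsg

namespace Cfsg.Agent.H282.SK

/-- `Good v`: some `x` of odd order inverted by `v` is such that `C = C_Y(⟨v, x⟩)` has no nontrivial normal
2-subgroup and the only automorphisms of order 2 of `Y` fixing `v`, `x` and `C` elementwise are inner. -/
def Good {Y : Type*} [Group Y] (v : Y) : Prop :=
  ∃ x : Y, Odd (orderOf x) ∧ v * x * v⁻¹ = x⁻¹ ∧
    (∀ N : Subgroup Y, IsPGroup 2 N → N ≤ centralizer {v} ⊓ centralizer {x} →
      (∀ g ∈ (centralizer {v} ⊓ centralizer {x} : Subgroup Y), ∀ z ∈ N, g * z * g⁻¹ ∈ N) → N = ⊥) ∧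
    (∀ α : MulAut Y, α * α = 1 → α v = v → α x = x →
      (∀ c ∈ (centralizer {v} ⊓ centralizer {x} : Subgroup Y), α c = c) → ∃ g, α = MulAut.conj g)

/-- The same for an arbitrary automorphism `α₀`. -/
def GoodA {Y : Type*} [Group Y] (α₀ : MulAut Y) : Prop :=
  ∃ x : Y, Odd (orderOf x) ∧ α₀ x = x⁻¹ ∧
    (∀ N : Subgroup Y, IsPGroup 2 N → (∀ c ∈ N, α₀ c = c ∧ c * x = x * c) →
      (∀ g, α₀ g = g → g * x = x * g → ∀ z ∈ N, g * z * g⁻¹ ∈ N) → N = ⊥) ∧
    (∀ α : MulAut Y, α * α = 1 → α * α₀ = α₀ * α → α x = x →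
      (∀ c, α₀ c = c → c * x = x * c → α c = c) → ∃ g, α = MulAut.conj g)

theorem mem_cc {Y : Type*} [Group Y] {v x c : Y} :
    c ∈ (centralizer {v} ⊓ centralizer {x} : Subgroup Y) ↔ c * v = v * c ∧ c * x = x * c := by
  rw [mem_inf, mem_centralizer_singleton_iff, mem_centralizer_singleton_iff]

/-- transport of `Good` along an isomorphism -/
theorem Good.map {Y : Type*} {Z : Type*} [Group Y] [Group Z] (f : Y ≃* Z) {v : Y} (h : Good v) : Good (f v) := by
  obtain ⟨x, hx, hi, hN, hA⟩ := h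
  refine ⟨f x, by rwa [MulEquiv.orderOf_eq], by rw [← map_inv, ← map_mul, ← map_mul, hi, map_inv], ?_, ?_⟩
  · intro N hNp hNc hNn
    have h1 : N.comap f.toMonoidHom = ⊥ := by
      apply hN
      · exact hNp.comap_of_injective _ f.injective
      · intro c hc
        obtain ⟨h2, h3⟩ := mem_cc.1 (hNc (show f c ∈ N from hc))
        refine mem_cc.2 ⟨f.injective ?_, f.injective ?_⟩
        · rw [map_mul, map_mul]; exact h2
        · rw [map_mul, map_mul]; exact h3
      · intro g hg z hz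
        obtain ⟨h2, h3⟩ := mem_cc.1 hg
        show f (g * z * g⁻¹) ∈ N
        rw [map_mul, map_mul, map_inv]
        refine hNn (f g) (mem_cc.2 ⟨?_, ?_⟩) (f z) hz
        · rw [← map_mul, ← map_mul, h2]
        · rw [← map_mul, ← map_mul, h3]
    rw [eq_bot_iff]
    intro z hz
    have h4 : f.symm z ∈ N.comap f.toMonoidHom := by
      show f (f.symm z) ∈ N
      rwa [MulEquiv.apply_symm_apply]
    rw [h1, mem_bot] at h4
    rw [mem_bot]
    have := congrArg f h4
    simpa using this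
  · intro α hα hv hx' hc
    obtain ⟨g, hg⟩ := hA ((MulAut.congr f).symm α) (by rw [← map_mul, hα, map_one])
      (by
        apply f.injective
        simp only [MulAut.congr_symm_apply, MulEquiv.trans_apply, MulEquiv.apply_symm_apply]
        exact hv)
      (by
        apply f.injective
        simp only [MulAut.congr_symm_apply, MulEquiv.trans_apply, MulEquiv.apply_symm_apply]
        exact hx')
      (by
        intro c hc'
        obtain ⟨h2, h3⟩ := mem_cc.1 hc'
        apply f.injective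
        simp only [MulAut.congr_symm_apply, MulEquiv.trans_apply, MulEquiv.apply_symm_apply]
        apply hc
        refine mem_cc.2 ⟨?_, ?_⟩
        · rw [← map_mul, ← map_mul, h2]
        · rw [← map_mul, ← map_mul, h3])
    refine ⟨f g, ?_⟩
    have h5 : α = MulAut.congr f (MulAut.conj g) := by
      rw [← hg, MulEquiv.apply_symm_apply]
    rw [h5]
    apply MulEquiv.ext
    intro z
    simp only [MulAut.congr_apply, MulEquiv.trans_apply, MulAut.conj_apply, map_mul, map_inv,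
      MulEquiv.apply_symm_apply]

theorem Good.conj {Y : Type*} [Group Y] {v : Y} (h : Good v) (g : Y) : Good (g * v * g⁻¹) := by
  have := h.map (MulAut.conj g)
  simpa using this

theorem Good.of_isConj {Y : Type*} [Group Y] {v w : Y} (h : Good v) (hc : IsConj v w) : Good w := by
  obtain ⟨g, rfl⟩ := isConj_iff.1 hc
  exact h.conj g

/-- `Good v → GoodA (conj v)` if the centre is trivial -/
theorem Good.toA {Y : Type*} [Group Y] (hZ : ∀ z : Y, (∀ y : Y, z * y = y * z) → z = 1) {v : Y} (h : Good v) :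
    GoodA (MulAut.conj v) := by
  obtain ⟨x, hx, hi, hN, hA⟩ := h
  have key : ∀ c : Y, MulAut.conj v c = c ↔ c * v = v * c := by
    intro c
    rw [MulAut.conj_apply, mul_inv_eq_iff_eq_mul]
    exact eq_comm
  refine ⟨x, hx, by rw [MulAut.conj_apply]; exact hi, ?_, ?_⟩
  · intro N hNp hNc hNn
    apply hN N hNp
    · intro c hc
      obtain ⟨h1, h2⟩ := hNc c hc
      exact mem_cc.2 ⟨(key c).1 h1, h2⟩
    · intro g hg z hz
      obtain ⟨h1, h2⟩ := mem_cc.1 hg
      exact hNn g ((key g).2 h1) h2 z hz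
  · intro α hα hc hx' hcc
    apply hA α hα _ hx'
    · intro c hc'
      obtain ⟨h1, h2⟩ := mem_cc.1 hc'
      exact hcc c ((key c).2 h1) h2
    · have h1 : v⁻¹ * α v = 1 := by
        apply hZ
        intro y
        have h2 : α (v * (α.symm y) * v⁻¹) = v * y * v⁻¹ := by
          have h3 := congrArg (fun β : MulAut Y => β (α.symm y)) hc
          simp only [MulAut.mul_apply, MulAut.conj_apply, MulEquiv.apply_symm_apply] at h3
          exact h3
        rw [map_mul, map_mul, map_inv, MulEquiv.apply_symm_apply] at h2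
        calc v⁻¹ * α v * y = v⁻¹ * (α v * y * (α v)⁻¹) * α v := by group
          _ = v⁻¹ * (v * y * v⁻¹) * α v := by rw [h2]
          _ = y * (v⁻¹ * α v) := by group
      rw [inv_mul_eq_one] at h1
      exact h1.symm

namespace Cx

variable {G : Type u} [Group G] [Finite G] {V K : Subgroup G}

/-- general form: `φ` is the action of `exists_toAut`. -/
theorem not_goodA (h : Cx V K) {Y : Type v} [Group Y] (e : K ≃* Y) (φ : G →* MulAut Y)
    (hφ : Function.Injective φ) (hφK : ∀ k : K, φ k = MulAut.conj (e k))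
    (hφg : ∀ (g : G) (k : K), ∃ hgk : g * k * g⁻¹ ∈ K, φ g (e k) = e ⟨g * k * g⁻¹, hgk⟩)
    {w : G} (hw : w ∈ V) (hw1 : w ≠ 1) : ¬ GoodA (φ w) := by
  rintro ⟨x, hx, hi, hN, hA⟩
  -- `x` back in `K`
  set x' : K := e.symm x with hx'
  have hex : e x' = x := by rw [hx', MulEquiv.apply_symm_apply]
  have hcomm : ∀ (g : G) (k : K), φ g (e k) = e k ↔ g * (k : G) = (k : G) * g := by
    intro g k
    obtain ⟨hgk, hg⟩ := hφg g k
    rw [hg]
    constructor
    · intro h1
      have h2 := congrArg Subtype.val (e.injective h1)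
      simp only at h2
      rwa [mul_inv_eq_iff_eq_mul] at h2
    · intro h1
      congr 1
      apply Subtype.ext
      simp only
      rw [h1]; group
  have hxo : Odd (orderOf (x' : G)) := by
    rw [Subgroup.orderOf_coe, hx', MulEquiv.orderOf_eq]
    exact hx
  have hinv : w * (x' : G) * w⁻¹ = (x' : G)⁻¹ := by
    obtain ⟨hgk, hg⟩ := hφg w x'
    rw [hex] at hg
    rw [hg, ← hex, ← map_inv] at hi
    exact congrArg Subtype.val (e.injective hi)
  obtain ⟨r, hrV, hr1, hrx, hrO⟩ := h.t1 hw hw1 hxo hinv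
  set C : Subgroup G := centralizer ({w} : Set G) ⊓ centralizer ({(x' : G)} : Set G) with hC
  have hmemC : ∀ k : K, (k : G) ∈ C ↔ φ w (e k) = e k ∧ e k * x = x * e k := by
    intro k
    rw [hC, mem_cc, hcomm]
    constructor
    · rintro ⟨h1, h2⟩
      refine ⟨h1.symm, ?_⟩
      rw [← hex, ← map_mul, ← map_mul]
      congr 1
      exact Subtype.ext h2
    · rintro ⟨h1, h2⟩
      refine ⟨h1.symm, ?_⟩
      rw [← hex, ← map_mul, ← map_mul] at h2
      exact congrArg Subtype.val (e.injective h2)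
  -- `O_2(C) ∩ K = 1`
  have hOK : ∀ z ∈ O2 C, z ∈ K → z = 1 := by
    intro z hz hzK
    have h1 : ((O2 C).subgroupOf K).map e.toMonoidHom = ⊥ := by
      apply hN
      · refine IsPGroup.map ?_ _
        exact (isPGroup_O2 C).comap_of_injective K.subtype K.subtype_injective
      · rintro _ ⟨k, hk, rfl⟩
        exact (hmemC k).1 (O2_le C hk)
      · rintro g hg1 hg2 _ ⟨k, hk, rfl⟩
        obtain ⟨g', rfl⟩ := e.surjective g
        have hg' : (g' : G) ∈ C := (hmemC g').2 ⟨hg1, hg2⟩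
        refine ⟨g' * k * g'⁻¹, ?_, by simp⟩
        show ((g' * k * g'⁻¹ : K) : G) ∈ O2 C
        exact conj_mem_O2 hg' hk
    have h2 : e ⟨z, hzK⟩ ∈ ((O2 C).subgroupOf K).map e.toMonoidHom := ⟨⟨z, hzK⟩, hz, rfl⟩
    rw [h1, mem_bot] at h2
    have h3 : (⟨z, hzK⟩ : K) = 1 := e.injective (by rw [h2, map_one])
    exact congrArg Subtype.val h3
  -- `r` is inner
  have hr2 : φ r * φ r = 1 := by rw [← map_mul, h.sq hrV, map_one]
  have hrc : φ r * φ w = φ w * φ r := by rw [← map_mul, ← map_mul, (h.comm hrV hw).eq]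
  have hrx' : φ r x = x := by
    rw [← hex, hcomm]
    exact hrx.eq
  obtain ⟨g, hg⟩ := hA (φ r) hr2 hrc hrx' (by
    intro c hc1 hc2
    obtain ⟨k, rfl⟩ := e.surjective c
    rw [hcomm]
    have hkC : (k : G) ∈ C := (hmemC k).2 ⟨hc1, hc2⟩
    have key : ∀ κ : G, κ ∈ C → κ ∈ K → r * κ = κ * r := by
      intro κ hκC hκK
      have h1 : r * κ * r⁻¹ * κ⁻¹ = 1 := by
        apply hOK
        · have e1 : r * κ * r⁻¹ * κ⁻¹ = r * (κ * r⁻¹ * κ⁻¹) := by group
          rw [e1]
          exact (O2 C).mul_mem hrO (conj_mem_O2 hκC ((O2 C).inv_mem hrO))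
        · exact K.mul_mem (h.norm.conj_mem κ hκK r) (K.inv_mem hκK)
      rw [mul_inv_eq_one, mul_inv_eq_iff_eq_mul] at h1
      exact h1
    exact key k hkC k.2)
  obtain ⟨k, rfl⟩ := e.surjective g
  rw [← hφK] at hg
  have hrK : r = (k : G) := hφ hg
  apply hr1
  exact hOK r hrO (hrK ▸ k.2)

/-- **No element of `V# ∩ K` is good.** -/
theorem not_good (h : Cx V K) {Y : Type v} [Group Y] (e : K ≃* Y) {w : G} (hw : w ∈ V) (hw1 : w ≠ 1)
    (hwK : w ∈ K) : ¬ Good (e ⟨w, hwK⟩) := by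
  intro hg
  obtain ⟨φ, hφ, hφK, hφg⟩ := h.exists_toAut e
  apply h.not_goodA e φ hφ hφK hφg hw hw1
  have h1 : φ w = MulAut.conj (e ⟨w, hwK⟩) := hφK ⟨w, hwK⟩
  rw [h1]
  apply hg.toA
  intro z hz
  obtain ⟨k, rfl⟩ := e.surjective z
  have h2 : (k : G) = 1 := by
    apply h.eq_one_of_comm
    intro y hy
    have h3 := hz (e ⟨y, hy⟩)
    rw [← map_mul, ← map_mul] at h3
    exact congrArg Subtype.val (e.injective h3)
  have h4 : k = 1 := Subtype.ext h2
  rw [h4, map_one]

/-- `V ∩ K ≠ 1` if elementary abelian 2-subgroups of `Aut Y` meeting `Inn Y` trivially have order at most 4. -/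
theorem exists_mem_inf (h : Cx V K) {Y : Type v} [Group Y] (e : K ≃* Y)
    (hout : ∀ A : Subgroup (MulAut Y), IsElementaryAbelian 2 A → (∀ α ∈ A, (∃ g, α = MulAut.conj g) → α = 1) →
      Nat.card A ≤ 4) : ∃ w ∈ V, w ≠ 1 ∧ w ∈ K := by
  obtain ⟨φ, hφ, hφK, hφg⟩ := h.exists_toAut e
  by_contra hcon
  push Not at hcon
  have h1 := hout (V.map φ) (H273.Sidki.elemAb_map h.elem φ) (by
    rintro _ ⟨w, hw, rfl⟩ ⟨g, hg⟩
    obtain ⟨k, rfl⟩ := e.surjective g
    rw [← hφK] at hg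
    have hwk : w = (k : G) := hφ hg
    by_contra hw1
    apply hcon w hw (fun h2 => hw1 (by rw [h2, map_one]))
    rw [hwk]
    exact k.2)
  have h2 : Nat.card (V.map φ) = Nat.card V := Nat.card_congr (V.equivMapOfInjective φ hφ).toEquiv.symm
  have h3 := h.card
  omega

end Cx

/-- **Rows from good involutions.** -/
theorem dead_of_good {Y : Type v} [Group Y] (hgood : ∀ y : Y, y ≠ 1 → y * y = 1 → Good y)
    (hout : ∀ A : Subgroup (MulAut Y), IsElementaryAbelian 2 A → (∀ α ∈ A, (∃ g, α = MulAut.conj g) → α = 1) →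
      Nat.card A ≤ 4) : DeadS.{u} (fun K _ => Nonempty (K ≃* Y)) := by
  intro G _ _ V K h he
  obtain ⟨e⟩ := he
  obtain ⟨w, hw, hw1, hwK⟩ := h.exists_mem_inf e hout
  refine h.not_good e hw hw1 hwK (hgood _ ?_ ?_)
  · intro h1
    apply hw1
    have : (⟨w, hwK⟩ : K) = 1 := e.injective (by rw [h1, map_one])
    exact congrArg Subtype.val this
  · rw [← map_mul]
    have : (⟨w, hwK⟩ : K) * ⟨w, hwK⟩ = 1 := Subtype.ext (h.sq hw)
    rw [this, map_one]

end Cfsg.Agent.H282.SK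
end

-- part: H297/SK/Opp
section
set_option linter.all false
open scoped Cfsg.Agent.FastGrp

/-!
# S3010 (Sidki pairs): the opposite trick (helper297)

* `le_U` : a `p`-subgroup of `P_J` normalised by the root groups of `J` lies in `U`;
* `good_opp` : `v` with `C(v) ≤ P_J`, `X_a ≤ C(v)` for the roots `a` of `J`, `v^-` the conjugate of `v` by an element
  over the longest element of `W`: then `Good v` (with `x = v v^-`).
-/

set_option autoImplicit false
set_option linter.unusedSectionVars false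

namespace Cfsg.Agent.H297.SK.Opp

open CoxeterSystem Cfsg.Agent.ChevalleyStructure.CoxeterGeom Cfsg.Agent.Tits.Roots Cfsg.Agent.Tits.Core
  Cfsg.Agent.Tits.RootComb Cfsg.Agent.Tits.Exchange Cfsg.Agent.Nodes.Reps Cfsg.Agent.Nodes.BNOf
  Cfsg.Agent.Nodes.StabComb Cfsg.Agent.Nodes.Bruhat Cfsg.Agent.Nodes.OppDec Cfsg.Agent.Nodes.LeviDec
  Cfsg.Agent.Nodes.NormX Cfsg.Agent.Nodes.Coroot Cfsg.Agent.KFacts.RgdAutFacts
open Cfsg.Agent.H282.SK

variable {I W Y : Type*} [Fintype I] [DecidableEq I] [Group W] [Group Y] {M : CoxeterMatrix I}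
  {cs : CoxeterSystem M W} {A : I → I → ℤ} {h : IsCartan M A} {p : ℕ} {T : Subgroup Y} {n : I → Y}
  {X : (I → ℤ) → Subgroup Y}

theorem le_normalizer_of_conj {Z : Type*} [Group Z] {H N : Subgroup Z} (hn : ∀ g ∈ H, ∀ z ∈ N, g * z * g⁻¹ ∈ N) :
    H ≤ Subgroup.normalizer (N : Set Z) := by
  intro g hg
  rw [Subgroup.mem_normalizer_iff]
  intro z
  refine ⟨fun hz => hn g hg z hz, fun hz => ?_⟩
  have h1 := hn g⁻¹ (inv_mem hg) _ hz
  have h2 : g⁻¹ * (g * z * g⁻¹) * g⁻¹⁻¹ = z := by group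
  rwa [h2] at h1

section

variable (R : RGD cs h p T n X) [Finite W] [Finite Y] [Fact p.Prime] (hG : GG cs h T X = ⊤)

include R hG

/-- A `p`-subgroup of `P_J` normalised by the root groups of `J` lies in `U`. -/
theorem le_U {J : Set I} {N : Subgroup Y} (hN : IsPGroup p N) (hNP : N ≤ PJ cs h T X J)
    (hn : ∀ x ∈ RootsJ cs h J, ∀ g ∈ X x, ∀ z ∈ N, g * z * g⁻¹ ∈ N) : N ≤ RGD.Sup X (RGD.Pos cs h) := by
  obtain ⟨S, hS⟩ := exists_sylow R hG
  have hV : IsPGroup p (VJ cs h X J) := R.isPGroup_of_pos (S := NotJ cs h J) fun _ hx => ⟨hx.1, hx.2.1⟩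
  have hNV : N ≤ Subgroup.normalizer (VJ cs h X J : Set Y) := hNP.trans (PJ_le_normalizer_VJ R J)
  have hM : IsPGroup p (N ⊔ VJ cs h X J : Subgroup Y) := hN.to_sup_of_normal_right' hV hNV
  have hUJ : UJ cs h X J ≤ Subgroup.normalizer (N : Set Y) :=
    RGD.Sup_le fun x hx => le_normalizer_of_conj fun g hg z hz => hn x (PosJ_subset J hx) g hg z hz
  have hUJ' : UJ cs h X J ≤ Subgroup.normalizer (VJ cs h X J : Set Y) :=
    le_trans (RGD.Sup_le fun x hx => le_trans (X_le_LJ (PosJ_subset J hx)) LJ_le_PJ) (PJ_le_normalizer_VJ R J)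
  have hUM : RGD.Sup X (RGD.Pos cs h) ≤ Subgroup.normalizer ((N ⊔ VJ cs h X J : Subgroup Y) : Set Y) := by
    intro u hu
    obtain ⟨a, ha, v, hv, rfl⟩ := (mem_U_iff R (J := J)).1 hu
    refine mul_mem ?_ (Subgroup.le_normalizer (Subgroup.mem_sup_right hv))
    rw [mem_normalizer_iff_cj]
    have h1 := mem_normalizer_iff_cj.1 (hUJ ha)
    have h2 := mem_normalizer_iff_cj.1 (hUJ' ha)
    unfold cj at h1 h2 ⊢
    rw [Subgroup.map_sup, h1, h2]
  have hU : IsPGroup p (RGD.Sup X (RGD.Pos cs h)) := R.isPGroup_Upos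
  have h1 : IsPGroup p ((N ⊔ VJ cs h X J) ⊔ RGD.Sup X (RGD.Pos cs h) : Subgroup Y) :=
    hM.to_sup_of_normal_left' hU hUM
  have h2 : ((N ⊔ VJ cs h X J) ⊔ RGD.Sup X (RGD.Pos cs h) : Subgroup Y) = S :=
    S.is_maximal' h1 (by rw [hS]; exact le_sup_right)
  rw [← hS, ← h2]
  exact le_sup_left.trans le_sup_left

/-- **Triviality of the `p`-core by the opposite trick.** -/
theorem eq_bot_of_opp {J : Set I} {N : Subgroup Y} (hN : IsPGroup p N) {n0 : Y} {w : W} (hn0 : Rp cs R.nsys w n0)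
    (hw : ∀ x, IsRoot cs h x → 0 ≤ x → rep cs h w x ≤ 0) (hwJ : ∀ x ∈ RootsJ cs h J, rep cs h w x ∈ RootsJ cs h J)
    (hNP : N ≤ PJ cs h T X J) (hNP' : ∀ z ∈ N, n0 * z * n0⁻¹ ∈ PJ cs h T X J)
    (hn : ∀ x ∈ RootsJ cs h J, ∀ g ∈ X x, ∀ z ∈ N, g * z * g⁻¹ ∈ N) : N = ⊥ := by
  have h1 := le_U R hG hN hNP hn
  have h2 : cj n0 N ≤ RGD.Sup X (RGD.Pos cs h) := by
    refine le_U R hG (J := J) (hN.map _) ?_ ?_
    · rintro _ ⟨z, hz, rfl⟩
      exact hNP' z hz
    · rintro x hx g hg _ ⟨z, hz, rfl⟩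
      rw [mem_cj]
      -- `X x = n0 X (w⁻¹ x) n0⁻¹`
      have h3 : n0⁻¹ * g * n0 ∈ X (rep cs h w⁻¹ x) := R.conj_mem' hn0 hx.1 hg
      have h4 : rep cs h w⁻¹ x ∈ RootsJ cs h J := by
        have : Function.Surjective (fun y : RootsJ cs h J => (⟨rep cs h w y, hwJ y y.2⟩ : RootsJ cs h J)) := by
          have hfin : Finite (RootsJ cs h J) := by
            have : Finite {x // IsRoot cs h x} := (RGD.finite_roots (cs := cs) (h := h)).to_subtype
            exact Finite.of_injective (fun y : RootsJ cs h J => (⟨y.1, y.2.1⟩ : {x // IsRoot cs h x}))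
              fun a b hab => Subtype.ext (congrArg (fun z : {x // IsRoot cs h x} => z.1) hab)
          refine Finite.injective_iff_surjective.1 fun a b hab => Subtype.ext ?_
          have h5 : rep cs h w (a : I → ℤ) = rep cs h w (b : I → ℤ) := congrArg Subtype.val hab
          have h6 := congrArg (rep cs h w⁻¹) h5
          rwa [rep_inv_apply, rep_inv_apply] at h6
        obtain ⟨y, hy⟩ := this ⟨x, hx⟩
        have h5 : rep cs h w (y : I → ℤ) = x := congrArg Subtype.val hy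
        rw [← h5, rep_inv_apply]
        exact y.2
      have h5 := hn _ h4 _ h3 z hz
      show n0⁻¹ * (g * (n0 * z * n0⁻¹) * g⁻¹) * n0 ∈ N
      have h6 : n0⁻¹ * (g * (n0 * z * n0⁻¹) * g⁻¹) * n0 = (n0⁻¹ * g * n0) * z * (n0⁻¹ * g * n0)⁻¹ := by group
      rw [h6]
      exact h5
  rw [Subgroup.eq_bot_iff_forall]
  intro z hz
  have h3 : n0 * z * n0⁻¹ ∈ UN cs h X :=
    cj_Sup_le R hn0 (S := RGD.Pos cs h) (S' := Neg cs h) (fun x hx => hx.1)
      (fun x hx => ⟨hx.1.act w, hw x hx.1 hx.2⟩) (conj_mem_cj.2 (h1 hz))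
  have h4 : n0 * z * n0⁻¹ ∈ RGD.B cs h T X := RGD.U_le_B (h2 (conj_mem_cj.2 hz))
  have h5 := eq_one_of_mem_UN_of_mem_B R h3 h4
  have h6 : z = n0⁻¹ * (n0 * z * n0⁻¹) * n0 := by group
  rw [h6, h5]; group

end

/-- **Good involutions by the opposite trick.** -/
theorem good_opp [Finite W] [Finite Y] (R : RGD cs h 2 T n X) (hG : GG cs h T X = ⊤) {J : Set I} {v n0 : Y} {w : W}
    (hn0 : Rp cs R.nsys w n0) (hw : ∀ x, IsRoot cs h x → 0 ≤ x → rep cs h w x ≤ 0)
    (hwJ : ∀ x ∈ RootsJ cs h J, rep cs h w x ∈ RootsJ cs h J) (hv2 : v * v = 1) {k : ℕ} (hk : Odd k)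
    (hvk : (v * (n0⁻¹ * v * n0)) ^ k = 1) (hCv : ∀ g, g * v = v * g → g ∈ PJ cs h T X J)
    (hJ : ∀ x ∈ RootsJ cs h J, ∀ g ∈ X x, g * v = v * g)
    (hin : ∀ α : MulAut Y, (∀ a ∈ RootsJ cs h J, ∀ z ∈ X a, α z = z) → ∃ g, α = MulAut.conj g) : Good v := by
  have : Fact (Nat.Prime 2) := ⟨Nat.prime_two⟩
  obtain ⟨v', hv'⟩ : ∃ v', v' = n0⁻¹ * v * n0 := ⟨_, rfl⟩
  have hv1 : v⁻¹ = v := inv_eq_of_mul_eq_one_right hv2
  have hv2' : v' * v' = 1 := by
    rw [hv']
    calc n0⁻¹ * v * n0 * (n0⁻¹ * v * n0) = n0⁻¹ * (v * v) * n0 := by group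
      _ = 1 := by rw [hv2]; group
  have hv1' : v'⁻¹ = v' := inv_eq_of_mul_eq_one_right hv2'
  -- the root groups of `J` centralise `v'`
  have hJ' : ∀ x ∈ RootsJ cs h J, ∀ g ∈ X x, g * v' = v' * g := by
    intro x hx g hg
    have h1 := hJ _ (hwJ x hx) _ (R.conj_mem hn0 hx.1 hg)
    rw [hv']
    calc g * (n0⁻¹ * v * n0) = n0⁻¹ * ((n0 * g * n0⁻¹) * v) * n0 := by group
      _ = n0⁻¹ * (v * (n0 * g * n0⁻¹)) * n0 := by rw [h1]
      _ = _ := by group
  have hC : ∀ x ∈ RootsJ cs h J, ∀ g ∈ X x,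
      g ∈ (Subgroup.centralizer {v} ⊓ Subgroup.centralizer {v * v'} : Subgroup Y) := by
    intro x hx g hg
    have h1 := hJ x hx g hg
    have h2 := hJ' x hx g hg
    refine mem_cc.2 ⟨h1, ?_⟩
    rw [← mul_assoc, h1, mul_assoc, h2, mul_assoc]
  refine ⟨v * v', ?_, ?_, ?_, ?_⟩
  · rw [← hv'] at hvk
    exact hk.of_dvd_nat (orderOf_dvd_of_pow_eq_one hvk)
  · rw [mul_inv_rev, hv1, hv1', ← mul_assoc, hv2, one_mul]
  · intro N hNp hNc hNn
    have hNv : ∀ z ∈ N, z * v = v * z ∧ z * v' = v' * z := by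
      intro z hz
      obtain ⟨h1, h2⟩ := mem_cc.1 (hNc hz)
      refine ⟨h1, ?_⟩
      have h3 : v * (z * v') = v * (v' * z) := by
        calc v * (z * v') = (z * v) * v' := by rw [h1]; group
          _ = z * (v * v') := by group
          _ = (v * v') * z := h2
          _ = _ := by group
      exact mul_left_cancel h3
    refine eq_bot_of_opp R hG hNp hn0 hw hwJ (fun z hz => hCv z (hNv z hz).1) (fun z hz => hCv _ ?_)
      (fun x hx g hg z hz => hNn g (hC x hx g hg) z hz)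
    have h1 := (hNv z hz).2
    rw [hv'] at h1
    calc n0 * z * n0⁻¹ * v = n0 * (z * (n0⁻¹ * v * n0)) * n0⁻¹ := by group
      _ = n0 * (n0⁻¹ * v * n0 * z) * n0⁻¹ := by rw [h1]
      _ = _ := by group
  · intro α _ _ _ hc
    exact hin α fun a ha z hz => hc z (hC a ha z hz)

end Cfsg.Agent.H297.SK.Opp
end

-- part: H282/SK/Out
section
set_option linter.all false
open scoped Cfsg.Agent.FastGrp

/-!
# S3010 (Sidki pairs): elementary abelian 2-subgroups of outer automorphism groups (helper282)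

`OutLe Y`: every elementary abelian 2-subgroup of `Aut Y` meeting `Inn Y` trivially has order at most 4.
-/

set_option autoImplicit false
set_option linter.unusedVariables false

universe u v

open Subgroup Cfsg

namespace Cfsg.Agent.H282.SK

/-- every elementary abelian 2-subgroup of `Aut Y` meeting `Inn Y` trivially has order at most 4. -/
def OutLe (Y : Type u) [Group Y] : Prop :=
  ∀ A : Subgroup (MulAut Y), IsElementaryAbelian 2 A → (∀ α ∈ A, (∃ g, α = MulAut.conj g) → α = 1) → Nat.card A ≤ 4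

theorem card_le_two_of_cyclic {Γ : Type*} [Group Γ] [Finite Γ] {C A : Subgroup Γ} (hC : IsCyclic C) (hAC : A ≤ C)
    (hA : ∀ a ∈ A, a * a = 1) : Nat.card A ≤ 2 := by
  have h1 : IsCyclic (A.subgroupOf C) := inferInstance
  have h2 : Nat.card (A.subgroupOf C) = Nat.card A := Nat.card_congr (Subgroup.subgroupOfEquivOfLe hAC).toEquiv
  have h3 : Monoid.exponent (A.subgroupOf C) ∣ 2 := by
    apply Monoid.exponent_dvd_of_forall_pow_eq_one
    intro a
    apply Subtype.ext
    apply Subtype.ext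
    have h4 := hA ((a : C) : Γ) a.2
    rw [pow_two]
    exact h4
  rw [IsCyclic.exponent_eq_card, h2] at h3
  exact Nat.le_of_dvd (by norm_num) h3

/-- an elementary abelian 2-subgroup of a group with a cyclic subgroup of odd index has order at most 2 -/
theorem card_le_two_of_index {Γ : Type*} [Group Γ] [Finite Γ] {C A : Subgroup Γ} (hC : IsCyclic C)
    (hi : Odd C.index) (hA : IsElementaryAbelian 2 A) : Nat.card A ≤ 2 := by
  haveI : Fact (Nat.Prime 2) := ⟨Nat.prime_two⟩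
  have hp : IsPGroup 2 A := H273.Sidki.elemAb_isPGroup hA
  have hfix : (MulAction.fixedPoints A (Γ ⧸ C)).Nonempty := by
    apply hp.nonempty_fixed_point_of_prime_not_dvd_card
    intro h
    rw [← Subgroup.index_eq_card] at h
    exact (Nat.not_even_iff_odd.2 hi) (even_iff_two_dvd.2 h)
  obtain ⟨x, hx⟩ := hfix
  obtain ⟨g, rfl⟩ := QuotientGroup.mk_surjective x
  have h1 : ∀ a ∈ A, g⁻¹ * a * g ∈ C := by
    intro a ha
    have h2 := hx ⟨a, ha⟩
    have h3 : (QuotientGroup.mk (a * g) : Γ ⧸ C) = QuotientGroup.mk g := h2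
    have h4 := QuotientGroup.eq.1 h3.symm
    simpa [mul_assoc] using h4
  have h5 : A.map (MulAut.conj g⁻¹).toMonoidHom ≤ C := by
    rintro _ ⟨a, ha, rfl⟩
    have := h1 a ha
    simpa using this
  have h6 := card_le_two_of_cyclic hC h5 (by
    rintro _ ⟨a, ha, rfl⟩
    rw [← map_mul]
    have h7 := hA.2 a ha
    rw [pow_two] at h7
    rw [h7, map_one])
  have h8 : Nat.card (A.map (MulAut.conj g⁻¹).toMonoidHom) = Nat.card A :=
    Nat.card_congr (A.equivMapOfInjective _ (MulAut.conj g⁻¹).injective).toEquiv.symm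
  omega

section Out

variable {Y : Type u} [Group Y] [Finite Y]

theorem finite_mulAut : Finite (MulAut Y) :=
  Finite.of_injective (fun α : MulAut Y => (α : Y → Y)) DFunLike.coe_injective

theorem finite_out : Finite (Out Y) := by
  haveI : Finite (MulAut Y) := finite_mulAut
  exact inferInstanceAs (Finite (MulAut Y ⧸ Inn Y))

omit [Finite Y] in
theorem mk_inj {A : Subgroup (MulAut Y)} (h : ∀ α ∈ A, (∃ g, α = MulAut.conj g) → α = 1) {α : MulAut Y}
    (hα : α ∈ A) (h1 : QuotientGroup.mk' (Inn Y) α = 1) : α = 1 := by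
  have h2 : α ∈ Inn Y := (QuotientGroup.eq_one_iff α).1 h1
  obtain ⟨g, hg⟩ := h2
  exact h α hα ⟨g, hg.symm⟩

omit [Finite Y] in
theorem card_map_out {A : Subgroup (MulAut Y)} (h : ∀ α ∈ A, (∃ g, α = MulAut.conj g) → α = 1) :
    Nat.card (A.map (QuotientGroup.mk' (Inn Y))) = Nat.card A := by
  apply Nat.card_congr
  refine (Equiv.ofBijective (fun α : A => (⟨QuotientGroup.mk' (Inn Y) α, ⟨α, α.2, rfl⟩⟩ :
    A.map (QuotientGroup.mk' (Inn Y)))) ⟨?_, ?_⟩).symm
  · intro α β hαβ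
    have h1 : QuotientGroup.mk' (Inn Y) (α : MulAut Y) = QuotientGroup.mk' (Inn Y) (β : MulAut Y) :=
      congrArg Subtype.val hαβ
    have h2 := mk_inj h (A.mul_mem α.2 (A.inv_mem β.2)) (by rw [map_mul, map_inv, h1, mul_inv_cancel])
    exact Subtype.ext (mul_inv_eq_one.1 h2)
  · rintro ⟨_, α, hα, rfl⟩
    exact ⟨⟨α, hα⟩, rfl⟩

/-- a cyclic subgroup of odd index in `Out Y` -/
theorem outLe_of_index {C : Subgroup (Out Y)} (hC : IsCyclic C) (hi : Odd C.index) : OutLe Y := by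
  haveI : Finite (Out Y) := finite_out
  intro A hA h
  rw [← card_map_out h]
  exact (card_le_two_of_index hC hi (H273.Sidki.elemAb_map hA (QuotientGroup.mk' (Inn Y)))).trans (by norm_num)

/-- `Out Y` of odd order -/
theorem outLe_of_odd (ho : Odd (Nat.card (Out Y))) : OutLe Y := by
  haveI : Finite (Out Y) := finite_out
  apply outLe_of_index (C := ⊥)
  · infer_instance
  · rwa [Subgroup.index_bot]

/-- the structure of `Out Y` as in S2159, with the diagonal part of odd order -/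
theorem outLe_of_structure {D F : Subgroup (Out Y)} (hD : D.Normal) (hDo : Odd (Nat.card D)) (hF : IsCyclic F)
    (hN : (D ⊔ F).Normal) (hi : (D ⊔ F).index = 1 ∨ (D ⊔ F).index = 2 ∨ (D ⊔ F).index = 6) : OutLe Y := by
  haveI : Finite (Out Y) := finite_out
  intro A hA h
  rw [← card_map_out h]
  have hB := H273.Sidki.elemAb_map hA (QuotientGroup.mk' (Inn Y))
  set B : Subgroup (Out Y) := A.map (QuotientGroup.mk' (Inn Y)) with hBdef
  clear_value B
  clear hBdef h hA
  set N : Subgroup (Out Y) := D ⊔ F with hNdef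
  -- `|B| = |B N / N| |B ∩ N|`
  have h1 : Nat.card (B.map (QuotientGroup.mk' N)) * Nat.card (B ⊓ N : Subgroup (Out Y)) = Nat.card B := by
    have h2 := Subgroup.card_mul_index ((QuotientGroup.mk' N).comp B.subtype).ker
    rw [Subgroup.index_ker] at h2
    have h3 : Nat.card ((QuotientGroup.mk' N).comp B.subtype).ker = Nat.card (B ⊓ N : Subgroup (Out Y)) := by
      apply Nat.card_congr
      refine ⟨fun x => ⟨((x : B) : Out Y), ⟨x.1.2, ?_⟩⟩, fun x => ⟨⟨x, x.2.1⟩, ?_⟩, fun x => rfl, fun x => rfl⟩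
      · have h4 : QuotientGroup.mk' N ((x : B) : Out Y) = 1 := x.2
        exact (QuotientGroup.eq_one_iff _).1 h4
      · show QuotientGroup.mk' N (x : Out Y) = 1
        exact (QuotientGroup.eq_one_iff _).2 x.2.2
    have h5 : ((QuotientGroup.mk' N).comp B.subtype).range = B.map (QuotientGroup.mk' N) := by
      rw [MonoidHom.range_comp, Subgroup.range_subtype]
    rw [h3, h5] at h2
    rw [mul_comm]
    exact h2
  have h2 : Nat.card (B ⊓ N : Subgroup (Out Y)) ≤ 2 := by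
    have hc : IsCyclic (F.map (QuotientGroup.mk' D)) :=
      isCyclic_of_surjective _ (MonoidHom.subgroupMap_surjective (QuotientGroup.mk' D) F)
    have hle : (B ⊓ N).map (QuotientGroup.mk' D) ≤ F.map (QuotientGroup.mk' D) := by
      refine (Subgroup.map_mono inf_le_right).trans ?_
      rw [hNdef, Subgroup.map_sup]
      refine sup_le ?_ le_rfl
      rw [QuotientGroup.map_mk'_self]
      exact bot_le
    have h3 := card_le_two_of_cyclic hc hle (by
      rintro _ ⟨a, ha, rfl⟩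
      rw [← map_mul]
      have h7 := hB.2 a (mem_inf.1 ha).1
      rw [pow_two] at h7
      rw [h7, map_one])
    refine le_trans (le_of_eq ?_) h3
    apply Nat.card_congr
    refine Equiv.ofBijective (fun α : (B ⊓ N : Subgroup (Out Y)) => (⟨QuotientGroup.mk' D α, ⟨α, α.2, rfl⟩⟩ :
      (B ⊓ N).map (QuotientGroup.mk' D))) ⟨?_, ?_⟩
    · intro α β hαβ
      have h4 : QuotientGroup.mk' D (α : Out Y) = QuotientGroup.mk' D (β : Out Y) :=
        congrArg Subtype.val hαβ
      have h5 : (α : Out Y) * (β : Out Y)⁻¹ ∈ D := by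
        rw [← QuotientGroup.eq_one_iff, ← QuotientGroup.mk'_apply, map_mul, map_inv, h4, mul_inv_cancel]
      have h6 : (α : Out Y) * (β : Out Y)⁻¹ ∈ B := B.mul_mem (mem_inf.1 α.2).1 (B.inv_mem (mem_inf.1 β.2).1)
      have h7 := hB.2 _ h6
      have h8 : Odd (orderOf ((α : Out Y) * (β : Out Y)⁻¹)) :=
        Odd.of_dvd_nat hDo (Subgroup.orderOf_dvd_natCard D h5)
      have h9 : (α : Out Y) * (β : Out Y)⁻¹ = 1 := by
        apply S3011.eq_one_of_odd_of_inv h8
        rw [eq_inv_iff_mul_eq_one, ← pow_two]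
        exact h7
      exact Subtype.ext (mul_inv_eq_one.1 h9)
    · rintro ⟨_, α, hα, rfl⟩
      exact ⟨⟨α, hα⟩, rfl⟩
  have h3 : Nat.card (B.map (QuotientGroup.mk' N)) ≤ 2 := by
    have h4 : Nat.card (B.map (QuotientGroup.mk' N)) ∣ N.index := by
      rw [Subgroup.index_eq_card]
      exact Subgroup.card_subgroup_dvd_card _
    have hp : IsPGroup 2 (B.map (QuotientGroup.mk' N)) := (H273.Sidki.elemAb_isPGroup hB).map _
    haveI : Fact (Nat.Prime 2) := ⟨Nat.prime_two⟩
    obtain ⟨k, hk⟩ := IsPGroup.iff_card.1 hp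
    have h5 : N.index ∣ 6 := by
      rcases hi with hi | hi | hi
      · rw [hi]; norm_num
      · rw [hi]; norm_num
      · rw [hi]
    have h6 : 2 ^ k ∣ 6 := by
      rw [← hk]
      exact h4.trans h5
    have hk2 : k ≤ 1 := by
      by_contra hcon
      push Not at hcon
      have h7 : 2 ^ 2 ∣ 6 := (pow_dvd_pow 2 hcon).trans h6
      norm_num at h7
    rw [hk]
    calc 2 ^ k ≤ 2 ^ 1 := Nat.pow_le_pow_right (by norm_num) hk2
      _ = 2 := by norm_num
  rw [← h1]
  calc Nat.card (B.map (QuotientGroup.mk' N)) * Nat.card (B ⊓ N : Subgroup (Out Y)) ≤ 2 * 2 :=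
        Nat.mul_le_mul h3 h2
    _ = 4 := by norm_num

end Out

/-- `V ≤ K` if `|Out K|` is odd -/
theorem Cx.le_of_odd_out {G : Type u} [Group G] [Finite G] {V K : Subgroup G} (h : Cx V K) {Y : Type v} [Group Y]
    [Finite Y] (e : K ≃* Y) (ho : Odd (Nat.card (Out Y))) : V ≤ K := by
  haveI : Finite (Out Y) := finite_out
  obtain ⟨φ, hφ, hφK, hφg⟩ := h.exists_toAut e
  intro w hw
  have h1 : (QuotientGroup.mk' (Inn Y) (φ w)) ^ 2 = 1 := by
    rw [← map_pow, ← map_pow, h.elem.2 w hw, map_one, map_one]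
  have h2 : orderOf (QuotientGroup.mk' (Inn Y) (φ w)) ∣ 2 := orderOf_dvd_of_pow_eq_one h1
  have h3 : orderOf (QuotientGroup.mk' (Inn Y) (φ w)) ∣ Nat.card (Out Y) := orderOf_dvd_natCard _
  have h4 := orderOf_eq_one_iff.1 (Nat.eq_one_of_dvd_coprimes ((Nat.coprime_two_left).2 ho) h2 h3)
  obtain ⟨g, hg⟩ : φ w ∈ Inn Y := (QuotientGroup.eq_one_iff _).1 h4
  obtain ⟨k, rfl⟩ := e.surjective g
  have h5 : φ w = φ k := by rw [hφK]; exact hg.symm
  rw [hφ h5]
  exact k.2

/-! ### The Chevalley groups in characteristic 2 -/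

open Cfsg.Agent in
theorem outLe_chev {F : Type u} [Field F] [Finite F] [CharP F 2] (D : Cfsg.Lie.ChevalleyDatum)
    (hD : D ∈ [Cfsg.Lie.chevG2, Cfsg.Lie.chevB2, Cfsg.Lie.chevD4, Cfsg.Lie.chevF4, Cfsg.Lie.chevE6,
      Cfsg.Lie.chevE7, Cfsg.Lie.chevE8]) [Finite ↥(D.group F)] : OutLe ↥(D.group F) := by
  classical
  haveI := Fintype.ofFinite F
  obtain ⟨h1, h2, h3, h4, h5⟩ := S2159.result (F := F) D hD _ _ rfl rfl
  refine outLe_of_structure h1 ?_ h3 h4 (h5.imp id fun h => h.imp id fun h => h.1)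
  -- the diagonal part has odd order
  have hodd : Odd (Nat.card F - 1) := by
    obtain ⟨n, hn⟩ := FiniteField.card F 2
    rw [Nat.card_eq_fintype_card, hn.2]
    exact Nat.Even.sub_odd (Nat.one_le_pow _ _ (by norm_num)) (even_two.pow_of_ne_zero n.ne_zero) odd_one
  have hpow : ∀ x ∈ (Subgroup.closure {φ : MulAut ↥(D.group F) | D.IsDiagonalAut φ}).map
      (QuotientGroup.mk' (Cfsg.Inn ↥(D.group F))), x ^ (Nat.card F - 1) = 1 := by
    rintro _ ⟨φ, hφ, rfl⟩
    rw [H79.OutChev.closure_isDiagonalAut (hD := hD) (H79.DiagAuts.diagFacts hD F)] at hφ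
    obtain ⟨c, hc⟩ := hφ
    have h6 : ∀ n : ℕ, H79.OutChev.IsD hD (c ^ n) (φ ^ n) := by
      intro n
      induction n with
      | zero => rw [pow_zero, pow_zero]; exact H79.OutChev.IsD.one hD
      | succ n ih => rw [pow_succ, pow_succ]; exact ih.mul hc
    have h7 : c ^ (Nat.card F - 1) = 1 := by
      funext i
      rw [Pi.pow_apply, Pi.one_apply, ← Nat.card_units]
      exact pow_card_eq_one'
    have h8 := h6 (Nat.card F - 1)
    rw [h7] at h8
    rw [← map_pow, h8.unique (H79.OutChev.IsD.one hD), map_one]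
  by_contra hcon
  rw [Nat.not_odd_iff_even, even_iff_two_dvd] at hcon
  haveI : Fact (Nat.Prime 2) := ⟨Nat.prime_two⟩
  haveI : Finite (Out ↥(D.group F)) := finite_out
  obtain ⟨x, hx⟩ := exists_prime_orderOf_dvd_card' 2 hcon
  have h9 := hpow x x.2
  have h10 : orderOf x ∣ Nat.card F - 1 := by
    apply orderOf_dvd_of_pow_eq_one
    exact Subtype.ext h9
  rw [hx] at h10
  exact (Nat.not_even_iff_odd.2 hodd) (even_iff_two_dvd.2 h10)

/-! ### The twisted groups -/

open Cfsg.Agent Cfsg.Agent.H967.CopMat Cfsg.Agent.H967.CopTw Cfsg.Agent.H967.CopD4 Cfsg.Agent.H967.FaTw in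
theorem outLe_3d4 {K : Type u} [Field K] [Fintype K] (p f : ℕ) [Fact p.Prime] [CharP K p]
    (hK : Fintype.card K = p ^ (3 * f)) (hf : 1 ≤ f) [Finite ↥(Cfsg.Lie.twistedD4 K (p ^ f))] :
    OutLe ↥(Cfsg.Lie.twistedD4 K (p ^ f)) := by
  have hq : IsPrimePow (p ^ f) := (Fact.out : p.Prime).isPrimePow.pow (by omega)
  have hK' : Fintype.card K = (p ^ f) ^ 3 := by rw [hK, ← pow_mul, mul_comm]
  have hout := S2129.result (K := K) p f hK hf
  let j : (K ≃+* K) →* Cfsg.Out ↥(Cfsg.Lie.twistedD4 K (p ^ f)) :=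
    (QuotientGroup.mk' (Cfsg.Inn _)).comp (fieldAut (stab_d4 (p ^ f)))
  have hj : Function.Injective j := by
    rw [injective_iff_map_eq_one]
    intro σ hσ
    by_contra h1
    exact not_inner_d4 hq hK' σ h1 ((QuotientGroup.eq_one_iff _).1 hσ)
  have hc : IsCyclic (K ≃+* K) := H933.SubTwist.isCyclic_ringAut (show 1 ≤ 3 * f by omega) hK
  have hcard : Nat.card (K ≃+* K) = 3 * f := Lib.FieldAutCard.card_ringAut (by omega) hK
  have hcard' : Nat.card j.range = 3 * f := by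
    rw [← hcard]
    exact Nat.card_congr (MonoidHom.ofInjective hj).toEquiv.symm
  refine outLe_of_index (C := j.range) (isCyclic_of_surjective _ j.rangeRestrict_surjective) ?_
  have h1 := j.range.card_mul_index
  rw [hcard', hout] at h1
  have h2 : j.range.index = 1 := by
    apply Nat.eq_of_mul_eq_mul_left (show 0 < 3 * f by omega)
    rw [h1, mul_one]
  rw [h2]
  exact odd_one

open Cfsg.Agent Cfsg.Agent.H967.CopMat Cfsg.Agent.H967.CopTw Cfsg.Agent.H967.CopD4 Cfsg.Agent.H967.FaTw in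
theorem outLe_2e6 {K : Type u} [Field K] [Fintype K] (p f : ℕ) [Fact p.Prime] [CharP K p]
    (hK : Fintype.card K = p ^ (2 * f)) (hf : 1 ≤ f) [Finite ↥(Cfsg.Lie.twistedE6 K (p ^ f))] :
    OutLe ↥(Cfsg.Lie.twistedE6 K (p ^ f)) := by
  have hq : IsPrimePow (p ^ f) := (Fact.out : p.Prime).isPrimePow.pow (by omega)
  have hK' : Fintype.card K = (p ^ f) ^ 2 := by rw [hK, ← pow_mul, mul_comm]
  have hout := S2130.result (K := K) p f hK hf
  let j : (K ≃+* K) →* Cfsg.Out ↥(Cfsg.Lie.twistedE6 K (p ^ f)) :=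
    (QuotientGroup.mk' (Cfsg.Inn _)).comp (fieldAut (stab_e6 (p ^ f)))
  have hj : Function.Injective j := by
    rw [injective_iff_map_eq_one]
    intro σ hσ
    by_contra h1
    exact not_inner_e6 hq hK' σ h1 ((QuotientGroup.eq_one_iff _).1 hσ)
  have hc : IsCyclic (K ≃+* K) := H933.SubTwist.isCyclic_ringAut (show 1 ≤ 2 * f by omega) hK
  have hcard : Nat.card (K ≃+* K) = 2 * f := Lib.FieldAutCard.card_ringAut (by omega) hK
  have hcard' : Nat.card j.range = 2 * f := by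
    rw [← hcard]
    exact Nat.card_congr (MonoidHom.ofInjective hj).toEquiv.symm
  refine outLe_of_index (C := j.range) (isCyclic_of_surjective _ j.rangeRestrict_surjective) ?_
  have h1 := j.range.card_mul_index
  rw [hcard', hout] at h1
  have h2 : j.range.index = Nat.gcd 3 (p ^ f + 1) := by
    apply Nat.eq_of_mul_eq_mul_left (show 0 < 2 * f by omega)
    rw [h1]
    ring
  rw [h2]
  exact Odd.of_dvd_nat (by decide) (Nat.gcd_dvd_left 3 _)

theorem outLe_2f4 {K : Type u} [Field K] [Fintype K] {m : ℕ} (hm : 1 ≤ m)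
    (hK : Fintype.card K = 2 ^ (2 * m + 1)) [Finite ↥(Cfsg.Lie.twistedF4 K (2 ^ m))] :
    OutLe ↥(Cfsg.Lie.twistedF4 K (2 ^ m)) := by
  apply outLe_of_odd
  rw [Cfsg.Agent.S2128.result (K := K) hm hK]
  exact ⟨m, rfl⟩

end Cfsg.Agent.H282.SK
end

-- part: H737/SK/GoodTwo
section
prune_inst 0x42010400100020000180002a0001c069c000400100884000ca1060006808e422d0281000020000340022008000c00600210005000000000000004000001050100881006a048000800008e000080000000000000000000000000000000000000200000000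
set_option linter.all false
open scoped Cfsg.Agent.FastGrp

-- part: H737/SK/O2
section
/-!
# S3010, characteristic two: `O_p(C_K(⟨t, v⟩)) = 1` (helper737)

`Y` a group with root group data and coordinates, `t ∈ T` of prime order `l` (on the characters), `v` a `p`-element over
`w' ∈ W` inverting `t`, such that `w'` preserves the sign of every root of `Sx t`. `K ≤ Y` is closed under the Bruhat normal
form. Then every normal `p`-subgroup of `K ∩ C(t) ∩ C(v)` is trivial.
-/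

set_option autoImplicit false
set_option linter.unusedSectionVars false

namespace Cfsg.Agent.H737.SK.O2

open CoxeterSystem Cfsg.Agent.ChevalleyStructure.CoxeterGeom Cfsg.Agent.Tits.Roots Cfsg.Agent.Tits.Core
  Cfsg.Agent.Tits.Exchange Cfsg.Agent.Nodes.Reps Cfsg.Agent.Nodes.BNOf Cfsg.Agent.Nodes.StabComb
  Cfsg.Agent.Nodes.Bruhat Cfsg.Agent.Nodes.OppDec Cfsg.Agent.Nodes.LeviDec Cfsg.Agent.Nodes.NormalForm
  Cfsg.Agent.KFacts.RgdField Cfsg.Agent.BpExc.TorCent

/-! ### A `p`-element acting on a `p`-group has fixed points -/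

variable {I W Y : Type*} [Fintype I] [DecidableEq I] [Group W] [Group Y] {M : CoxeterMatrix I}
  {cs : CoxeterSystem M W} {A : I → I → ℤ} {h : IsCartan M A} {p : ℕ} {T : Subgroup Y} {n : I → Y}
  {X : (I → ℤ) → Subgroup Y} {F : Type*} [Field F] {xx : (I → ℤ) → F → Y} {χ : (I → ℤ) → Y → F}

theorem NW_eq_PW [Finite W] (w : W) : NW cs h w = PW cs h (w0 cs * w) := by
  ext x
  constructor
  · rintro ⟨h1, h2, h3⟩
    refine ⟨h1, h2, ?_⟩
    rw [rep_mul_apply]
    have h4 := rep_w0_nonpos (cs := cs) (h := h) (h1.act w).neg (neg_nonneg.2 h3)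
    rw [map_neg] at h4
    exact neg_nonpos.1 h4
  · rintro ⟨h1, h2, h3⟩
    refine ⟨h1, h2, ?_⟩
    rcases (h1.act w).pos_or_neg with h4 | h4
    · exfalso
      rw [rep_mul_apply] at h3
      exact ((h1.act w).act (w0 cs)).not_pos_neg h3 (rep_w0_nonpos (h1.act w) h4)
    · exact h4

/-- The normal form of an element of the centraliser of `t ∈ T`, with `v` in the right place. -/
theorem exists_cform [Finite W] (R : RGD cs h p T n X) {t : Y} (ht : t ∈ T) {g : Y} (hg : g ∈ GG cs h T X)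
    (hc : g ∈ Subgroup.centralizer {t}) :
    ∃ u ∈ RGD.Sup (fun x => X x ⊓ Subgroup.centralizer {t}) (RGD.Pos cs h),
      ∃ w k, Rp cs R.nsys w k ∧ k ∈ Subgroup.centralizer {t} ∧
      ∃ v ∈ RGD.Sup (fun x => X x ⊓ Subgroup.centralizer {t}) (NW cs h w), g = u * k * v := by
  have hS : ({t} : Set Y) ⊆ T := Set.singleton_subset_iff.2 ht
  obtain ⟨w, hw⟩ := (mem_GG R).1 hg
  obtain ⟨u, hu, k, hk, v, hv, rfl⟩ := exists_normal_form R hw
  obtain ⟨h1, h2, h3⟩ := centralizer_form R hS hu hk hv hc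
  refine ⟨u, ?_, w, k, hk, h2, v, ?_, rfl⟩
  · rw [← centralizer_U R hS]; exact ⟨hu, h1⟩
  · rw [NW_eq_PW] at hv ⊢
    exact centralizer_PW R _ hS hv h3

section Main

variable (R : RGD cs h p T n X) (C : Coords cs h T n X xx χ)

variable {t v : Y} (ht : t ∈ T) {w' : W} (hv : Rp cs R.nsys w' v) (hinv : v * t * v⁻¹ = t⁻¹)
  (hChar : ChAdd cs h T χ) (hA : ∀ a ∈ Sx cs h χ t, 0 ≤ a → 0 ≤ rep cs h w' a)

end Main

end Cfsg.Agent.H737.SK.O2
end

-- part: H737/SK/O2G
section
/-!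
# S3010, characteristic two: `O_p(C(t) ∩ Fix(Γ)) = 1` for frame automorphisms (helper737)

* `FrA R α π θ` : `α` maps `X a` to `X (π a)` and representatives of `w` to representatives of `θ w`;
* `Adm R χ t K` : `K` is closed under the normal form of the elements of `C(t)` and meets the unipotent groups
  `Sup (X ⊓ C(t)) (NW w)` it should meet;
* `Adm.top`, `Adm.fix` (`K ⊓ Fix α`, `α` of `p`-power order), `Adm.fix'` (any order);
* `Adm.normal_le_U`, `normal_eq_bot_of_adm`.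
-/

set_option autoImplicit false
set_option linter.unusedSectionVars false

namespace Cfsg.Agent.H737.SK.O2

open CoxeterSystem Cfsg.Agent.ChevalleyStructure.CoxeterGeom Cfsg.Agent.Tits.Roots Cfsg.Agent.Tits.Core
  Cfsg.Agent.Tits.Exchange Cfsg.Agent.Nodes.Reps Cfsg.Agent.Nodes.BNOf Cfsg.Agent.Nodes.StabComb
  Cfsg.Agent.Nodes.Bruhat Cfsg.Agent.Nodes.OppDec Cfsg.Agent.Nodes.LeviDec Cfsg.Agent.Nodes.NormalForm
  Cfsg.Agent.KFacts.RgdField Cfsg.Agent.BpExc.TorCent Cfsg.Agent.KFacts.RgdOpp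

/-- the fixed points of an automorphism -/
def FixA {Y : Type*} [Group Y] (α : MulAut Y) : Subgroup Y where
  carrier := {z | α z = z}
  mul_mem' := by intro a b ha hb; show α (a * b) = a * b; rw [map_mul, ha, hb]
  one_mem' := map_one α
  inv_mem' := by intro a ha; show α a⁻¹ = a⁻¹; rw [map_inv, ha]

theorem mem_FixA {Y : Type*} [Group Y] {α : MulAut Y} {z : Y} : z ∈ FixA α ↔ α z = z := Iff.rfl

theorem exists_fixed' {Y : Type*} [Group Y] [Finite Y] {p : ℕ} [Fact p.Prime] {Q : Subgroup Y} (hQ : IsPGroup p Q)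
    (hQ1 : Q ≠ ⊥) {α : MulAut Y} (hn : ∀ z ∈ Q, α z ∈ Q) (hm : ∃ m : ℕ, ∀ z ∈ Q, (α ^ p ^ m) z = z) :
    ∃ z ∈ Q, z ≠ 1 ∧ α z = z := by
  classical
  have := Fintype.ofFinite Q
  have hiff : ∀ x, α x ∈ Q ↔ x ∈ Q := by
    have h1 : Q.map α.toMonoidHom = Q := by
      refine Subgroup.eq_of_le_of_card_ge ?_ ?_
      · rintro _ ⟨y, hy, rfl⟩
        exact hn y hy
      · exact le_of_eq (Subgroup.card_map_of_injective (MulEquiv.injective _)).symm
    intro x
    refine ⟨fun hx => ?_, hn x⟩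
    rw [← h1] at hx
    obtain ⟨y, hy, e⟩ := hx
    rwa [← α.injective e]
  obtain ⟨m, hm⟩ := hm
  let σ : Equiv.Perm Q := Equiv.Perm.subtypePerm (p := fun x => x ∈ Q) (α : MulAut Y).toEquiv hiff
  have hσ : ∀ z : Q, ((σ z : Q) : Y) = α z := fun z => rfl
  have hpow : ∀ (j : ℕ) (z : Q), (((σ ^ j) z : Q) : Y) = (α ^ j) z := by
    intro j
    induction j with
    | zero => intro z; rfl
    | succ j ih =>
      intro z
      rw [pow_succ', pow_succ', Equiv.Perm.mul_apply, hσ, ih, MulAut.mul_apply]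
  have hd : p ∣ Fintype.card Q := by
    rw [← Nat.card_eq_fintype_card]
    obtain ⟨k, hk⟩ := IsPGroup.iff_card.1 hQ
    rw [hk]
    rcases k with _ | k
    · exfalso
      rw [pow_zero] at hk
      exact hQ1 (Subgroup.card_eq_one.1 hk)
    · exact dvd_pow_self p (Nat.succ_ne_zero k)
  obtain ⟨b, hb, hb1⟩ := Equiv.Perm.exists_fixed_point_of_prime' (p := p) (n := m) hd (σ := σ) (a := 1) (by
    ext z
    rw [hpow, Equiv.Perm.one_apply, hm z z.2]) (by
    apply Subtype.ext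
    rw [hσ]; simp only [_root_.OneMemClass.coe_one, _root_.map_one])
  refine ⟨b, b.2, fun h0 => hb1 (Subtype.ext h0), ?_⟩
  rw [← hσ, hb]

variable {I W Y : Type*} [Fintype I] [DecidableEq I] [Group W] [Group Y] {M : CoxeterMatrix I}
  {cs : CoxeterSystem M W} {A : I → I → ℤ} {h : IsCartan M A} {p : ℕ} {T : Subgroup Y} {n : I → Y}
  {X : (I → ℤ) → Subgroup Y} {F : Type*} [Field F] {xx : (I → ℤ) → F → Y} {χ : (I → ℤ) → Y → F}

/-- A frame automorphism: `π` on the roots, `θ` on `W`. -/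
structure FrA (R : RGD cs h p T n X) (α : MulAut Y) (π : (I → ℤ) → (I → ℤ)) (θ : W → W) : Prop where
  root : ∀ a, IsRoot cs h a → IsRoot cs h (π a)
  map : ∀ a, IsRoot cs h a → ∀ z ∈ X a, α z ∈ X (π a)
  rp : ∀ w k, Rp cs R.nsys w k → Rp cs R.nsys (θ w) (α k)
  rep' : ∀ w a, IsRoot cs h a → rep cs h (θ w) (π a) = π (rep cs h w a)
  neg : ∀ a, π (-a) = - π a

/-- the groups `Sup (X ⊓ C(t)) S` -/
def CS (X : (I → ℤ) → Subgroup Y) (t : Y) (S : Set (I → ℤ)) : Subgroup Y :=
  RGD.Sup (fun x => X x ⊓ Subgroup.centralizer {t}) S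

theorem CS_le_Sup {t : Y} (S : Set (I → ℤ)) : CS X t S ≤ RGD.Sup X S :=
  RGD.Sup_le fun _ ha => le_trans inf_le_left (RGD.le_Sup ha)

theorem CS_le_cent {t : Y} (S : Set (I → ℤ)) : CS X t S ≤ Subgroup.centralizer {t} :=
  RGD.Sup_le fun _ _ => inf_le_right

theorem NW_le_U {w : W} : RGD.Sup X (NW cs h w) ≤ RGD.Sup X (RGD.Pos cs h) :=
  RGD.Sup_mono (S := NW cs h w) (S' := RGD.Pos cs h) fun _ hx => ⟨hx.1, hx.2.1⟩

/-- `K` is admissible for `t`. -/
structure Adm (R : RGD cs h p T n X) (χ : (I → ℤ) → Y → F) (t : Y) (K : Subgroup Y) : Prop where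
  nf : ∀ (w : W) (u k b : Y), u ∈ CS X t (RGD.Pos cs h) → Rp cs R.nsys w k → k ∈ Subgroup.centralizer {t} →
    b ∈ CS X t (NW cs h w) → u * k * b ∈ K → u ∈ K ∧ k ∈ K ∧ b ∈ K
  ex : ∀ w : W, (∃ k ∈ K ⊓ Subgroup.centralizer {t}, Rp cs R.nsys w k) → ∀ a ∈ Sx cs h χ t, 0 ≤ a →
    rep cs h w a ≤ 0 → K ⊓ CS X t (NW cs h w) ≠ ⊥

theorem Adm.top [Finite W] {R : RGD cs h p T n X} (C : Coords cs h T n X xx χ) {t : Y} (ht : t ∈ T) :
    Adm R χ t ⊤ where
  nf := fun _ _ _ _ _ _ _ _ _ => ⟨Subgroup.mem_top _, Subgroup.mem_top _, Subgroup.mem_top _⟩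
  ex := by
    rintro w - a ha h0 h1 h2
    have h3 : X a ≤ CS X t (NW cs h w) :=
      le_trans (le_inf le_rfl (X_le_centralizer C ht ha))
        (RGD.le_Sup (X := fun x => X x ⊓ Subgroup.centralizer {t}) ⟨ha.1, h0, h1⟩)
    rw [top_inf_eq] at h2
    rw [h2, le_bot_iff] at h3
    exact X_ne_bot R ha.1 h3

section Fix

variable {R : RGD cs h p T n X} (C : Coords cs h T n X xx χ) {t : Y} (ht : t ∈ T) {α : MulAut Y}
  {π : (I → ℤ) → (I → ℤ)} {θ : W → W} (hα : FrA R α π θ)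
  (hcen : ∀ z ∈ Subgroup.centralizer {t}, α z ∈ Subgroup.centralizer {t})
  (hpos : ∀ a ∈ Sx cs h χ t, 0 ≤ a → 0 ≤ π a) (hneg : ∀ a ∈ Sx cs h χ t, a ≤ 0 → π a ≤ 0)

include hα hcen in
theorem map_CS_mem {S S' : Set (I → ℤ)} (hS : ∀ a ∈ S, IsRoot cs h a)
    (hSS : ∀ a ∈ S, (∃ z ∈ X a, z ≠ 1 ∧ z ∈ Subgroup.centralizer {t}) → π a ∈ S') {g : Y}
    (hg : g ∈ CS X t S) : α g ∈ CS X t S' := by
  have key : CS X t S ≤ (CS X t S').comap α.toMonoidHom := by
    refine RGD.Sup_le fun a ha => ?_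
    rintro z ⟨hz, hzc⟩
    rw [Subgroup.mem_comap]
    show α z ∈ _
    by_cases h1 : z = 1
    · rw [h1, map_one]; exact one_mem _
    · exact RGD.le_Sup (X := fun x => X x ⊓ Subgroup.centralizer {t}) (hSS a ha ⟨z, hz, h1, hzc⟩)
        ⟨hα.map a (hS a ha) z hz, hcen z hzc⟩
  exact key hg

include C ht hα hcen hpos hneg in
theorem map_NW_mem {w : W} {k : Y} (hk : Rp cs R.nsys w k) (hkc : k ∈ Subgroup.centralizer {t}) {b : Y}
    (hb : b ∈ CS X t (NW cs h w)) : α b ∈ CS X t (NW cs h (θ w)) := by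
  refine map_CS_mem hα hcen (fun a ha => ha.1) (fun a ha => ?_) hb
  rintro ⟨z, hz, hz1, hzc⟩
  have h1 := mem_Sx_of_centralizer C ht ha.1 hz hz1 hzc
  refine ⟨hα.root a ha.1, hpos a h1 ha.2.1, ?_⟩
  rw [hα.rep' w a ha.1]
  refine hneg _ ⟨ha.1.act w, ?_⟩ ha.2.2
  rw [chi_of_centralizer R C ht hk hkc ha.1]
  exact h1.2

include C ht hα hcen hpos hneg in
/-- The parts of the normal form of a fixed element of `C(t)` are fixed. -/
theorem parts_fixed [Finite W] {w : W} {u k b : Y} (hu : u ∈ CS X t (RGD.Pos cs h))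
    (hk : Rp cs R.nsys w k) (hkc : k ∈ Subgroup.centralizer {t}) (hb : b ∈ CS X t (NW cs h w))
    (hg : α (u * k * b) = u * k * b) : α u = u ∧ α k = k ∧ α b = b ∧ θ w = w := by
  have hu' : α u ∈ CS X t (RGD.Pos cs h) := by
    refine map_CS_mem hα hcen (fun a ha => ha.1) (fun a ha => ?_) hu
    rintro ⟨z, hz, hz1, hzc⟩
    exact ⟨hα.root a ha.1, hpos a (mem_Sx_of_centralizer C ht ha.1 hz hz1 hzc) ha.2⟩
  have hb' := map_NW_mem C ht hα hcen hpos hneg hk hkc hb
  have hk' := hα.rp w k hk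
  have e0 : α u * α k * α b = u * k * b := by rw [← map_mul, ← map_mul, hg]
  have hcell : Cell R.nsys cs h X w (u * k * b) :=
    ⟨u, RGD.U_le_B (CS_le_Sup _ hu), k, hk, b, RGD.U_le_B (NW_le_U (CS_le_Sup _ hb)), rfl⟩
  have hcell' : Cell R.nsys cs h X (θ w) (u * k * b) := by
    rw [← e0]
    exact ⟨_, RGD.U_le_B (CS_le_Sup _ hu'), _, hk', _, RGD.U_le_B (NW_le_U (CS_le_Sup _ hb')), rfl⟩
  have hww : θ w = w := Cell.unique R hcell' hcell
  rw [hww] at hk' hb'
  obtain ⟨h1, h2, h3⟩ := normal_form_unique R (CS_le_Sup _ hu') (CS_le_Sup _ hu) hk' hk (CS_le_Sup _ hb')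
    (CS_le_Sup _ hb) e0
  exact ⟨h1, h2, h3, hww⟩

include C ht hα hcen hpos hneg in
theorem theta_eq [Finite W] {w : W} {k : Y} (hk : Rp cs R.nsys w k) (hkc : k ∈ Subgroup.centralizer {t})
    (hkα : α k = k) : θ w = w :=
  (parts_fixed C ht hα hcen hpos hneg (one_mem _) hk hkc (one_mem _) (by rw [one_mul, mul_one]; exact hkα)).2.2.2

include C ht hα hcen hpos hneg in
/-- `K ⊓ Fix α` is admissible (any order, the second condition assumed). -/
theorem Adm.fix' [Finite W] {K : Subgroup Y} (hK : Adm R χ t K)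
    (hex : ∀ w : W, (∃ k ∈ (K ⊓ FixA α) ⊓ Subgroup.centralizer {t}, Rp cs R.nsys w k) → ∀ a ∈ Sx cs h χ t, 0 ≤ a →
      rep cs h w a ≤ 0 → (K ⊓ FixA α) ⊓ CS X t (NW cs h w) ≠ ⊥) : Adm R χ t (K ⊓ FixA α) where
  nf := by
    rintro w u k b hu hk hkc hb ⟨h1, h2⟩
    obtain ⟨h3, h4, h5⟩ := hK.nf w u k b hu hk hkc hb h1
    obtain ⟨h6, h7, h8, -⟩ := parts_fixed C ht hα hcen hpos hneg hu hk hkc hb h2
    exact ⟨⟨h3, h6⟩, ⟨h4, h7⟩, ⟨h5, h8⟩⟩
  ex := hex

include C ht hα hcen hpos hneg in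
/-- `K ⊓ Fix α` is admissible, if `α` normalises `K` and has `p`-power order. -/
theorem Adm.fix [Finite W] [Finite Y] [Fact p.Prime] {K : Subgroup Y} (hK : Adm R χ t K)
    (hαK : ∀ z ∈ K, α z ∈ K) (hm : ∃ m : ℕ, ∀ z ∈ K, (α ^ p ^ m) z = z) : Adm R χ t (K ⊓ FixA α) := by
  refine hK.fix' C ht hα hcen hpos hneg ?_
  rintro w ⟨k, ⟨⟨hkK, hkα⟩, hkc⟩, hk⟩ a ha h0 h1
  have h2 := hK.ex w ⟨k, ⟨hkK, hkc⟩, hk⟩ a ha h0 h1
  have hQp : IsPGroup p (K ⊓ CS X t (NW cs h w) : Subgroup Y) :=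
    (show IsPGroup p (RGD.Sup X (RGD.Pos cs h)) from R.isPGroup_Upos).to_le
      (le_trans inf_le_right (le_trans (CS_le_Sup _) NW_le_U))
  have hθ := theta_eq C ht hα hcen hpos hneg hk hkc hkα
  obtain ⟨m, hm⟩ := hm
  obtain ⟨z, ⟨hzK, hz⟩, hz1, hzα⟩ := exists_fixed' hQp h2 (α := α) (by
    rintro z ⟨hzK, hz⟩
    refine ⟨hαK z hzK, ?_⟩
    have := map_NW_mem C ht hα hcen hpos hneg hk hkc hz
    rwa [hθ] at this) ⟨m, fun z hz => hm z hz.1⟩
  intro h3
  have h4 : z ∈ (⊥ : Subgroup Y) := by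
    rw [← h3]
    exact ⟨⟨hzK, hzα⟩, hz⟩
  exact hz1 (Subgroup.mem_bot.1 h4)

end Fix

section Main

variable {R : RGD cs h p T n X} (C : Coords cs h T n X xx χ) {t : Y} (ht : t ∈ T) (hChar : ChAdd cs h T χ)

include C ht hChar in
/-- **A `p`-subgroup of `H = K ∩ C(t)` containing `H ∩ U` lies in `U`.** -/
theorem Adm.le_U [Finite W] [Finite Y] [Fact p.Prime] {l : ℕ} (hl : l.Prime) (hlp : l ≠ p)
    (htl : ∀ a, IsRoot cs h a → χ a t ^ l = 1) (hG : GG cs h T X = ⊤) {K : Subgroup Y} (hK : Adm R χ t K)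
    {P : Subgroup Y} (hP : IsPGroup p P) (hPH : P ≤ K ⊓ Subgroup.centralizer {t})
    (hUP : K ⊓ Subgroup.centralizer {t} ⊓ RGD.Sup X (RGD.Pos cs h) ≤ P) :
    P ≤ RGD.Sup X (RGD.Pos cs h) := by
  set U : Subgroup Y := RGD.Sup X (RGD.Pos cs h) with hUdef
  set H : Subgroup Y := K ⊓ Subgroup.centralizer {t} with hH
  by_contra hne
  have hlt : (H ⊓ U) < P := lt_of_le_of_ne hUP (by rintro h0; exact hne (h0 ▸ inf_le_right))
  have hnil : Group.IsNilpotent P := hP.isNilpotent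
  have h1 : (H ⊓ U).subgroupOf P < ⊤ := by
    rw [lt_top_iff_ne_top]
    intro h2
    rw [Subgroup.subgroupOf_eq_top] at h2
    exact absurd (lt_of_lt_of_le hlt h2) (lt_irrefl _)
  have h2 := (Group.normalizerCondition_of_isNilpotent (h := hnil)) _ h1
  obtain ⟨y, hy, hyU⟩ := SetLike.exists_of_lt h2
  have hyn : ∀ x ∈ H ⊓ U, (y : Y) * x * (y : Y)⁻¹ ∈ H ⊓ U := by
    intro x hx
    have h4 := (Subgroup.mem_normalizer_iff.1 hy ⟨x, hUP hx⟩).1 (Subgroup.mem_subgroupOf.2 hx)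
    exact Subgroup.mem_subgroupOf.1 h4
  have hyH : (y : Y) ∈ H := hPH y.2
  have hyK : (y : Y) ∈ K := (Subgroup.mem_inf.1 hyH).1
  have hyt : (y : Y) ∈ Subgroup.centralizer {t} := (Subgroup.mem_inf.1 hyH).2
  obtain ⟨u, hu, w, k, hk, hkc, b, hb, e⟩ := exists_cform R ht (hG ▸ Subgroup.mem_top (y : Y)) hyt
  obtain ⟨huK, hkK, hbK⟩ := hK.nf w u k b hu hk hkc hb (e ▸ hyK)
  have huH : u ∈ H ⊓ U := ⟨⟨huK, CS_le_cent _ hu⟩, CS_le_Sup _ hu⟩
  have hbH : b ∈ H ⊓ U := ⟨⟨hbK, CS_le_cent _ hb⟩, NW_le_U (CS_le_Sup _ hb)⟩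
  have hkP : k ∈ P := by
    have : k = u⁻¹ * y * b⁻¹ := by rw [e]; group
    rw [this]
    exact mul_mem (mul_mem (inv_mem (hUP huH)) y.2) (inv_mem (hUP hbH))
  have hkn : ∀ x ∈ H ⊓ U, k * x * k⁻¹ ∈ U := by
    intro x hx
    have hxb : b⁻¹ * x * b⁻¹⁻¹ ∈ H ⊓ U := by
      rw [inv_inv]
      exact (H ⊓ U).mul_mem ((H ⊓ U).mul_mem ((H ⊓ U).inv_mem hbH) hx) hbH
    rw [inv_inv] at hxb
    have hxb' : b * x * b⁻¹ ∈ H ⊓ U := (H ⊓ U).mul_mem ((H ⊓ U).mul_mem hbH hx) ((H ⊓ U).inv_mem hbH)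
    have h3 : u⁻¹ * ((y : Y) * (b⁻¹ * x * b) * (y : Y)⁻¹) * u ∈ H ⊓ U :=
      (H ⊓ U).mul_mem ((H ⊓ U).mul_mem ((H ⊓ U).inv_mem huH) (hyn _ hxb)) huH
    have h4 : u⁻¹ * ((y : Y) * (b⁻¹ * x * b) * (y : Y)⁻¹) * u = k * x * k⁻¹ := by rw [e]; group
    rw [h4] at h3
    exact h3.2
  have hpos : ∀ a ∈ Sx cs h χ t, 0 ≤ a → 0 ≤ rep cs h w a := by
    intro a ha h0
    rcases (ha.1.act w).pos_or_neg with h3 | h3
    · exact h3
    exfalso
    have hne1 := hK.ex w ⟨k, ⟨hkK, hkc⟩, hk⟩ a ha h0 h3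
    apply hne1
    rw [eq_bot_iff]
    rintro z ⟨hzK, hz⟩
    have hzU : z ∈ H ⊓ U := ⟨⟨hzK, CS_le_cent _ hz⟩, NW_le_U (CS_le_Sup _ hz)⟩
    have h6 := hkn z hzU
    have h7 : k * z * k⁻¹ ∈ UN cs h X :=
      conj_mem_Sup R hk (S' := _root_.Cfsg.Agent.Nodes.OppDec.Neg cs h) (fun x hx => hx.1) (fun x hx => ⟨hx.1.act _, hx.2.2⟩) (CS_le_Sup _ hz)
    have h8 := eq_one_of_mem_UN_of_mem_B R h7 (RGD.U_le_B h6)
    rw [Subgroup.mem_bot]
    have : z = k⁻¹ * (k * z * k⁻¹) * k := by group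
    rw [this, h8]; group
  have hwPP : w ∈ PP cs h χ t := mem_PP.2 ⟨fun a ha => chi_of_centralizer R C ht hk hkc ha, hpos⟩
  obtain ⟨m, hm⟩ := isPGroup_PP hChar ht hl htl ⟨w, hwPP⟩
  have hwl : w ^ l ^ m = 1 := congrArg Subtype.val hm
  obtain ⟨m', hm'⟩ := hP ⟨k, hkP⟩
  have hkp : k ^ p ^ m' = 1 := by simpa only [_root_.SubmonoidClass.mk_pow, _root_.OneMemClass.coe_one] using congrArg Subtype.val hm'
  have hpw : ∀ j : ℕ, Rp cs R.nsys (w ^ j) (k ^ j) := by
    intro j
    induction j with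
    | zero => rw [pow_zero, pow_zero]; exact rp_one
    | succ j ih => rw [pow_succ, pow_succ]; exact ih.mul hk
  have hwp : w ^ p ^ m' = 1 := by
    have h3 := hpw (p ^ m')
    rw [hkp] at h3
    exact R.eq_one_of_mem_B h3 (one_mem _)
  have hw1 : w = 1 := by
    have hco : Nat.Coprime (l ^ m) (p ^ m') :=
      Nat.Coprime.pow _ _ ((Nat.coprime_primes hl (Fact.out : p.Prime)).2 hlp)
    exact (orderOf_eq_one_iff.1 (Nat.eq_one_of_dvd_coprimes hco (orderOf_dvd_of_pow_eq_one hwl)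
      (orderOf_dvd_of_pow_eq_one hwp)))
  subst hw1
  have hkT : k ∈ T := hk.mem_of_one
  have hk1 : k = 1 := by
    have h3 : orderOf k ∣ Nat.card T := Subgroup.orderOf_dvd_natCard T hkT
    have h4 : orderOf k ∣ p ^ m' := orderOf_dvd_of_pow_eq_one hkp
    have h5 : Nat.Coprime (Nat.card T) (p ^ m') := Nat.Coprime.pow_right _ R.tcop
    exact orderOf_eq_one_iff.1 (Nat.eq_one_of_dvd_coprimes h5 h3 h4)
  apply hyU
  rw [Subgroup.mem_subgroupOf]
  have : (y : Y) = u * b := by rw [e, hk1, mul_one]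
  rw [this]
  exact mul_mem huH hbH

include C ht hChar in
theorem Adm.normal_le_U [Finite W] [Finite Y] [Fact p.Prime] {l : ℕ} (hl : l.Prime) (hlp : l ≠ p)
    (htl : ∀ a, IsRoot cs h a → χ a t ^ l = 1) (hG : GG cs h T X = ⊤) {K : Subgroup Y} (hK : Adm R χ t K)
    {N : Subgroup Y} (hN : IsPGroup p N) (hNH : N ≤ K ⊓ Subgroup.centralizer {t})
    (hn : ∀ g ∈ K ⊓ Subgroup.centralizer {t}, ∀ z ∈ N, g * z * g⁻¹ ∈ N) :
    N ≤ RGD.Sup X (RGD.Pos cs h) := by
  set H : Subgroup Y := K ⊓ Subgroup.centralizer {t} with hH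
  have h1 : H ≤ Subgroup.normalizer (N : Set Y) := by
    intro g hg
    rw [Subgroup.mem_normalizer_iff]
    intro z
    refine ⟨hn g hg z, fun hz => ?_⟩
    have h2 := hn g⁻¹ (inv_mem hg) _ hz
    have h3 : g⁻¹ * (g * z * g⁻¹) * g⁻¹⁻¹ = z := by group
    rwa [h3] at h2
  have hUp : IsPGroup p (H ⊓ RGD.Sup X (RGD.Pos cs h) : Subgroup Y) :=
    (show IsPGroup p (RGD.Sup X (RGD.Pos cs h)) from R.isPGroup_Upos).to_le inf_le_right
  have hP : IsPGroup p (N ⊔ (H ⊓ RGD.Sup X (RGD.Pos cs h)) : Subgroup Y) :=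
    hN.to_sup_of_normal_left' hUp (le_trans inf_le_left h1)
  exact le_trans le_sup_left (hK.le_U C ht hChar hl hlp htl hG hP (sup_le hNH inf_le_left) le_sup_right)

/-! ### The opposite datum -/

theorem coords_opp (C : Coords cs h T n X xx χ) :
    Coords cs h T n (fun x => X (-x)) (fun x => xx (-x)) (fun x => χ (-x)) where
  coord r hr := C.coord (-r) hr.neg
  nact i r hr := by
    obtain ⟨c, hc, e⟩ := C.nact i (-r) hr.neg
    refine ⟨c, hc, fun a => ?_⟩
    rw [e, map_neg]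

theorem chAdd_opp (hChar : ChAdd cs h T χ) : ChAdd cs h T (fun x => χ (-x)) := by
  intro t ht
  obtain ⟨φ, h0, hadd, hφ⟩ := hChar t ht
  refine ⟨fun x => φ (-x), by simpa using h0, fun x y => ?_, fun a ha => hφ _ ha.neg⟩
  show φ (-(x + y)) = φ (-x) * φ (-y)
  rw [neg_add, hadd]

theorem mem_Sx_opp {a : I → ℤ} {t : Y} : a ∈ Sx cs h (fun x => χ (-x)) t ↔ -a ∈ Sx cs h χ t := by
  constructor
  · rintro ⟨h1, h2⟩
    exact ⟨h1.neg, h2⟩
  · rintro ⟨h1, h2⟩
    exact ⟨by simpa using h1.neg, h2⟩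

theorem FrA.opp [Finite W] {α : MulAut Y} {π : (I → ℤ) → (I → ℤ)} {θ : W → W} (hα : FrA R α π θ) :
    FrA (Cfsg.Agent.KFacts.RgdOpp.opp R) α π θ where
  root := hα.root
  map a ha z hz := by
    have h1 := hα.map (-a) ha.neg z hz
    rwa [hα.neg] at h1
  rp := hα.rp
  rep' := hα.rep'
  neg := hα.neg

/-- `K` is admissible for `t`, for the datum and its opposite. -/
structure Adm2 (R : RGD cs h p T n X) (χ : (I → ℤ) → Y → F) (t : Y) (K : Subgroup Y) [Finite W] : Prop where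
  pos : Adm R χ t K
  neg : Adm (Cfsg.Agent.KFacts.RgdOpp.opp R) (fun x => χ (-x)) t K

theorem Adm2.top [Finite W] (C : Coords cs h T n X xx χ) {t : Y} (ht : t ∈ T) : Adm2 R χ t ⊤ :=
  ⟨Adm.top C ht, Adm.top (coords_opp C) ht⟩

/-- `K ⊓ Fix α` -/
theorem Adm2.fix [Finite W] [Finite Y] [Fact p.Prime] (C : Coords cs h T n X xx χ) {t : Y} (ht : t ∈ T) {α : MulAut Y}
    {π : (I → ℤ) → (I → ℤ)} {θ : W → W} (hα : FrA R α π θ)
    (hcen : ∀ z ∈ Subgroup.centralizer {t}, α z ∈ Subgroup.centralizer {t})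
    (hpos : ∀ a ∈ Sx cs h χ t, 0 ≤ a → 0 ≤ π a) (hneg : ∀ a ∈ Sx cs h χ t, a ≤ 0 → π a ≤ 0) {K : Subgroup Y}
    (hK : Adm2 R χ t K) (hαK : ∀ z ∈ K, α z ∈ K) (hm : ∃ m : ℕ, ∀ z ∈ K, (α ^ p ^ m) z = z) :
    Adm2 R χ t (K ⊓ FixA α) := by
  refine ⟨hK.pos.fix C ht hα hcen hpos hneg hαK hm, hK.neg.fix (coords_opp C) ht hα.opp hcen ?_ ?_ hαK hm⟩
  · intro a ha h0
    rw [mem_Sx_opp] at ha
    have h1 := hneg _ ha (neg_nonpos.2 h0)
    rw [hα.neg] at h1
    exact neg_nonpos.1 h1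
  · intro a ha h0
    rw [mem_Sx_opp] at ha
    have h1 := hpos _ ha (neg_nonneg.2 h0)
    rw [hα.neg] at h1
    exact neg_nonneg.1 h1

include C ht hChar in
/-- **Every normal `p`-subgroup of `K ∩ C(t)` is trivial.** -/
theorem Adm2.eq_bot [Finite W] [Finite Y] [Fact p.Prime] {l : ℕ} (hl : l.Prime) (hlp : l ≠ p)
    (htl : ∀ a, IsRoot cs h a → χ a t ^ l = 1) (hG : GG cs h T X = ⊤) {K : Subgroup Y} (hK : Adm2 R χ t K)
    {N : Subgroup Y} (hN : IsPGroup p N) (hNH : N ≤ K ⊓ Subgroup.centralizer {t})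
    (hn : ∀ g ∈ K ⊓ Subgroup.centralizer {t}, ∀ z ∈ N, g * z * g⁻¹ ∈ N) : N = ⊥ := by
  have h1 := hK.pos.normal_le_U C ht hChar hl hlp htl hG hN hNH hn
  have h2 := hK.neg.normal_le_U (coords_opp C) ht (chAdd_opp hChar) hl hlp (fun a ha => htl _ ha.neg)
    (by rw [GG_opp]; exact hG) hN hNH hn
  rw [U_opp] at h2
  rw [eq_bot_iff]
  intro z hz
  rw [Subgroup.mem_bot]
  exact eq_one_of_mem_UN_of_mem_B R (h2 hz) (RGD.U_le_B (h1 hz))

end Main

end Cfsg.Agent.H737.SK.O2
end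

-- part: H737/SK/Gen
section
/-!
# S3010, characteristic two: products over pairwise orthogonal simple roots (helper737)

`Sys R e` (characteristic two, no signs), `J` a list of pairwise orthogonal simple roots: `vJ = ∏ e (sr j) 1`,
`nJ = ∏ nel e (sr j)`, `tJ c = ∏ hel e (sr j) c`, `wJ = ∏ s_j`.
-/

set_option autoImplicit false
set_option linter.unusedSectionVars false

namespace Cfsg.Agent.H737.SK.Gen

open CoxeterSystem Cfsg.Agent.ChevalleyStructure.CoxeterGeom Cfsg.Agent.Tits.Roots Cfsg.Agent.Tits.Core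
  Cfsg.Agent.Tits.Exchange Cfsg.Agent.Nodes.Reps Cfsg.Agent.Nodes.BNOf Cfsg.Agent.Nodes.StabComb
  Cfsg.Agent.Nodes.Bruhat Cfsg.Agent.Nodes.OppDec Cfsg.Agent.Nodes.LeviDec Cfsg.Agent.Nodes.NormalForm
  Cfsg.Agent.Nodes.Coroot Cfsg.Agent.Nodes.Comb
  Cfsg.Agent.KFacts.RgdField Cfsg.Agent.BpExc.TorCent Cfsg.Agent.KFacts.RgdOpp Cfsg.Agent.KFacts.RgdCent
  Cfsg.Agent.KFacts.ChevTwo Cfsg.Agent.KFacts.RgdSys Cfsg.Agent.H737.SK.O2

/-! ### Products of commuting families over a list -/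

section Prod

variable {I Y : Type*} [Group Y]

/-- `f` and `g` commute at different places of `J` -/
def CommL (J : List I) (f g : I → Y) : Prop := ∀ i ∈ J, ∀ j ∈ J, i ≠ j → Commute (f i) (g j)

def pr (J : List I) (f : I → Y) : Y := (J.map f).prod

theorem pr_cons (j : I) (J : List I) (f : I → Y) : pr (j :: J) f = f j * pr J f := by
  unfold pr; rw [List.map_cons, List.prod_cons]

theorem pr_nil (f : I → Y) : pr [] f = 1 := rfl

theorem commute_pr {J : List I} {f : I → Y} {y : Y} (hy : ∀ j ∈ J, Commute y (f j)) : Commute y (pr J f) := by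
  induction J with
  | nil => exact Commute.one_right y
  | cons j J ih =>
    rw [pr_cons]
    exact (hy j (by simp)).mul_right (ih fun i hi => hy i (by simp [hi]))

theorem pr_mul {J : List I} (hJ : J.Nodup) {f g : I → Y} (hc : CommL J f g) :
    pr J f * pr J g = pr J (fun j => f j * g j) := by
  induction J with
  | nil => rw [pr_nil, pr_nil, pr_nil, one_mul]
  | cons j J ih =>
    rw [List.nodup_cons] at hJ
    have h1 : Commute (g j) (pr J f) := commute_pr fun i hi =>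
      (hc i (by simp [hi]) j (by simp) (by rintro rfl; exact hJ.1 hi)).symm
    rw [pr_cons, pr_cons, pr_cons, ← ih hJ.2 fun i hi k hk => hc i (by simp [hi]) k (by simp [hk])]
    calc f j * pr J f * (g j * pr J g) = f j * (pr J f * g j) * pr J g := by group
      _ = f j * (g j * pr J f) * pr J g := by rw [h1.eq]
      _ = f j * g j * (pr J f * pr J g) := by group

theorem pr_one (J : List I) : pr J (fun _ => (1 : Y)) = 1 := by
  induction J with
  | nil => rfl
  | cons j J ih => rw [pr_cons, ih, one_mul]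

theorem pr_congr {J : List I} {f g : I → Y} (hfg : ∀ j ∈ J, f j = g j) : pr J f = pr J g := by
  unfold pr
  rw [List.map_congr_left hfg]

theorem pr_inv {J : List I} (hJ : J.Nodup) {f : I → Y} (hc : CommL J f f) :
    (pr J f)⁻¹ = pr J (fun j => (f j)⁻¹) := by
  rw [inv_eq_iff_mul_eq_one, pr_mul hJ fun i hi j hj hij => (hc i hi j hj hij).inv_right]
  rw [pr_congr (g := fun _ => 1) fun j _ => mul_inv_cancel _, pr_one]

theorem pr_conj {J : List I} (hJ : J.Nodup) {f g : I → Y} (hc : CommL J g f) (hg : CommL J g g) :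
    pr J g * pr J f * (pr J g)⁻¹ = pr J (fun j => g j * f j * (g j)⁻¹) := by
  rw [pr_inv hJ hg, pr_mul hJ hc, pr_mul hJ]
  intro i hi j hj hij
  exact ((hg i hi j hj hij).inv_right).mul_left ((hc j hj i hi (Ne.symm hij)).symm.inv_right)

theorem pr_map {Z : Type*} [Group Z] (φ : Y →* Z) (J : List I) (f : I → Y) : φ (pr J f) = pr J (fun j => φ (f j)) := by
  unfold pr
  rw [map_list_prod, List.map_map]
  rfl

end Prod

variable {I W Y K : Type*} [Fintype I] [DecidableEq I] [Group W] [Group Y] [Field K] {M : CoxeterMatrix I}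
variable {cs : CoxeterSystem M W} {A : I → I → ℤ} {h : IsCartan M A} {e : (I → ℤ) → K → Y}
  {p : ℕ} {T : Subgroup Y} {n : I → Y} {X : (I → ℤ) → Subgroup Y}

/-- pairwise orthogonal simple roots -/
structure Orth (cs : CoxeterSystem M W) (h : IsCartan M A) (J : List I) : Prop where
  nodup : J.Nodup
  zero : ∀ i ∈ J, ∀ j ∈ J, i ≠ j → cpr cs h (sr i) (sr j) = 0

/-- the rank one group of the simple root `j` -/
def SS (X : (I → ℤ) → Subgroup Y) (j : I) : Subgroup Y := X (sr j) ⊔ X (-sr j)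

section

variable [Finite W] {R : RGD cs h p T n X} (S : Sys R e) {J : List I} (hJ : Orth cs h J)

include S hJ

theorem SS_comm {i j : I} (hi : i ∈ J) (hj : j ∈ J) (hij : i ≠ j) {a b : Y} (ha : a ∈ SS X i) (hb : b ∈ SS X j) :
    Commute a b := by
  have hri := isRoot_sr cs h i
  have hrj := isRoot_sr cs h j
  have h0 := hJ.zero i hi j hj hij
  have key : SS X i ≤ Subgroup.centralizer (SS X j : Set Y) := by
    have h1 : ∀ x y : I → ℤ, IsRoot cs h x → IsRoot cs h y → cpr cs h x y = 0 → X x ≤ Subgroup.centralizer (X y : Set Y) := by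
      intro x y hx hy hc u hu
      rw [Subgroup.mem_centralizer_iff]
      intro v hv
      obtain ⟨s, rfl⟩ := (S.mem_X x hx u).1 hu
      obtain ⟨t, rfl⟩ := (S.mem_X y hy v).1 hv
      exact (S.data.comm_of_nonneg hx hy (le_of_eq hc.symm) s t).symm
    have h2 : ∀ x : I → ℤ, X x ≤ Subgroup.centralizer (X (sr j) : Set Y) → X x ≤ Subgroup.centralizer (X (-sr j) : Set Y) →
        X x ≤ Subgroup.centralizer (SS X j : Set Y) := by
      intro x h3 h4 u hu
      have h5 : SS X j ≤ Subgroup.centralizer ({u} : Set Y) := by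
        refine sup_le ?_ ?_
        · intro v hv
          rw [Subgroup.mem_centralizer_singleton_iff]
          exact Subgroup.mem_centralizer_iff.1 (h3 hu) v hv
        · intro v hv
          rw [Subgroup.mem_centralizer_singleton_iff]
          exact Subgroup.mem_centralizer_iff.1 (h4 hu) v hv
      rw [Subgroup.mem_centralizer_iff]
      intro v hv
      exact Subgroup.mem_centralizer_singleton_iff.1 (h5 hv)
    refine sup_le (h2 _ (h1 _ _ hri hrj h0) (h1 _ _ hri hrj.neg ?_)) (h2 _ (h1 _ _ hri.neg hrj ?_) (h1 _ _ hri.neg hrj.neg ?_))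
    · rw [cpr_neg_right cs h _ hrj, h0, neg_zero]
    · rw [cpr_neg cs h _ hrj, h0, neg_zero]
    · rw [cpr_neg_right cs h _ hrj, cpr_neg cs h _ hrj, h0, neg_zero, neg_zero]
  exact (Subgroup.mem_centralizer_iff.1 (key ha) b hb).symm

theorem commL {f g : I → Y} (hf : ∀ j ∈ J, f j ∈ SS X j) (hg : ∀ j ∈ J, g j ∈ SS X j) : CommL J f g :=
  fun i hi j hj hij => SS_comm S hJ hi hj hij (hf i hi) (hg j hj)

omit hJ in
theorem e_mem (j : I) (c : K) : e (sr j) c ∈ SS X j := Subgroup.mem_sup_left (S.mem (isRoot_sr cs h j) c)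

omit hJ in
theorem e_neg_mem (j : I) (c : K) : e (-sr j) c ∈ SS X j := Subgroup.mem_sup_right (S.mem (isRoot_sr cs h j).neg c)

omit hJ in
theorem nc_mem (j : I) (c : K) : nc e (sr j) c ∈ SS X j := by
  rw [nc_def]; exact mul_mem (mul_mem (e_mem S j _) (e_neg_mem S j _)) (e_mem S j _)

omit hJ in
theorem nel_mem (j : I) : nel e (sr j) ∈ SS X j := nc_mem S j 1

omit hJ in
theorem hel_memS (j : I) (c : K) : hel e (sr j) c ∈ SS X j := mul_mem (nc_mem S j c) (nel_mem S j)

omit hJ in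
theorem nel_eq_conj (j : I) :
    nel e (sr j) = (e (sr j) 1 * nel e (sr j)) * e (sr j) 1 * (e (sr j) 1 * nel e (sr j))⁻¹ := by
  have hr := isRoot_sr cs h j
  have h1 := S.data.refl j _ hr 1
  rw [rep_simple_sr] at h1
  have h2 : e (sr j) 1 * nel e (sr j) * e (sr j) 1 * (e (sr j) 1 * nel e (sr j))⁻¹ =
      e (sr j) 1 * (nel e (sr j) * e (sr j) 1 * (nel e (sr j))⁻¹) * (e (sr j) 1)⁻¹ := by group
  rw [h2, h1, S.data.inv hr, nel_def]

/-- **`nJ` is conjugate to `vJ`.** -/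
theorem nJ_conj : pr J (fun j => nel e (sr j)) =
    pr J (fun j => e (sr j) 1 * nel e (sr j)) * pr J (fun j => e (sr j) 1) *
      (pr J (fun j => e (sr j) 1 * nel e (sr j)))⁻¹ := by
  rw [pr_conj hJ.nodup (commL S hJ (fun j _ => mul_mem (e_mem S j _) (nel_mem S j)) fun j _ => e_mem S j _)
    (commL S hJ (fun j _ => mul_mem (e_mem S j _) (nel_mem S j)) fun j _ => mul_mem (e_mem S j _) (nel_mem S j))]
  exact pr_congr fun j _ => nel_eq_conj S j

theorem nJ_sq : pr J (fun j => nel e (sr j)) * pr J (fun j => nel e (sr j)) = 1 := by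
  rw [pr_mul hJ.nodup (commL S hJ (fun j _ => nel_mem S j) fun j _ => nel_mem S j),
    pr_congr (g := fun _ => 1) fun j _ => nel_mul_nel S (isRoot_sr cs h j), pr_one]

theorem nJ_tJ (hG1 : RGD.Sup X {x | IsRoot cs h x} = ⊤) (hN : NoCent cs h T X) {c : K} (hc : c ≠ 0) :
    pr J (fun j => nel e (sr j)) * pr J (fun j => hel e (sr j) c) * (pr J (fun j => nel e (sr j)))⁻¹ =
      pr J (fun j => hel e (sr j) c⁻¹) := by
  rw [pr_conj hJ.nodup (commL S hJ (fun j _ => nel_mem S j) fun j _ => hel_memS S j c)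
    (commL S hJ (fun j _ => nel_mem S j) fun j _ => nel_mem S j)]
  refine pr_congr fun j _ => ?_
  rw [nel_hel S hG1 hN (isRoot_sr cs h j) hc, mul_inv_cancel_right]

theorem tJ_mul (hG1 : RGD.Sup X {x | IsRoot cs h x} = ⊤) (hN : NoCent cs h T X) {c d : K} (hc : c ≠ 0) (hd : d ≠ 0) :
    pr J (fun j => hel e (sr j) c) * pr J (fun j => hel e (sr j) d) = pr J (fun j => hel e (sr j) (c * d)) := by
  rw [pr_mul hJ.nodup (commL S hJ (fun j _ => hel_memS S j c) fun j _ => hel_memS S j d)]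
  exact pr_congr fun j _ => hel_mul S hG1 hN (isRoot_sr cs h j) hc hd

omit hJ in
theorem hel_one (hG1 : RGD.Sup X {x | IsRoot cs h x} = ⊤) (hN : NoCent cs h T X) (j : I) : hel e (sr j) 1 = 1 := by
  have h1 := hel_mul S hG1 hN (isRoot_sr cs h j) (one_ne_zero (α := K)) one_ne_zero
  rw [mul_one] at h1
  exact mul_eq_left.1 h1

theorem tJ_inv (hG1 : RGD.Sup X {x | IsRoot cs h x} = ⊤) (hN : NoCent cs h T X) {c : K} (hc : c ≠ 0) :
    (pr J (fun j => hel e (sr j) c))⁻¹ = pr J (fun j => hel e (sr j) c⁻¹) := by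
  rw [inv_eq_iff_mul_eq_one, tJ_mul S hJ hG1 hN hc (inv_ne_zero hc), mul_inv_cancel₀ hc,
    pr_congr (g := fun _ => 1) fun j _ => hel_one S hG1 hN j, pr_one]

theorem tJ_pow (hG1 : RGD.Sup X {x | IsRoot cs h x} = ⊤) (hN : NoCent cs h T X) {c : K} (hc : c ≠ 0) (m : ℕ) :
    (pr J (fun j => hel e (sr j) c)) ^ m = pr J (fun j => hel e (sr j) (c ^ m)) := by
  induction m with
  | zero => rw [pow_zero, pow_zero, pr_congr (g := fun _ => 1) fun j _ => hel_one S hG1 hN j, pr_one]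
  | succ m ih => rw [pow_succ, ih, tJ_mul S hJ hG1 hN (pow_ne_zero m hc) hc, pow_succ]

omit hJ in
theorem tJ_mem (hG1 : RGD.Sup X {x | IsRoot cs h x} = ⊤) {c : K} (hc : c ≠ 0) (J : List I) :
    pr J (fun j => hel e (sr j) c) ∈ T := by
  induction J with
  | nil => exact one_mem _
  | cons j J ih => rw [pr_cons]; exact mul_mem (hel_mem S hG1 (isRoot_sr cs h j) hc) ih

omit hJ in
theorem nJ_rp (J : List I) : Rp cs R.nsys (cs.wordProd J) (pr J (fun j => nel e (sr j))) := by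
  induction J with
  | nil => exact rp_one
  | cons j J ih =>
    rw [pr_cons, wordProd_cons, ← S.n_eq]
    exact (rp_simple cs R.nsys j).mul ih

omit hJ in
/-- the action of `tJ` on the root elements -/
theorem tJ_act {x : I → ℤ} (hx : IsRoot cs h x) {c : K} (hc : c ≠ 0) (J : List I) (a : K) :
    pr J (fun j => hel e (sr j) c) * e x a * (pr J (fun j => hel e (sr j) c))⁻¹ =
      e x (c ^ (J.map fun j => cpr cs h x (sr j)).sum * a) := by
  induction J with
  | nil => rw [pr_nil, List.map_nil, List.sum_nil, zpow_zero, one_mul, one_mul, inv_one, mul_one]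
  | cons j J ih =>
    have h1 : (hel e (sr j) c * pr J fun j => hel e (sr j) c) * e x a * (hel e (sr j) c * pr J fun j => hel e (sr j) c)⁻¹ =
        hel e (sr j) c * (pr J (fun j => hel e (sr j) c) * e x a * (pr J fun j => hel e (sr j) c)⁻¹) *
          (hel e (sr j) c)⁻¹ := by group
    rw [pr_cons, List.map_cons, List.sum_cons, zpow_add₀ hc, mul_assoc (c ^ _) (c ^ _) a, h1, ih,
      S.data.hel_conj hx (isRoot_sr cs h j) hc]

omit hJ in
theorem chi_tJ (hG1 : RGD.Sup X {x | IsRoot cs h x} = ⊤) {x : I → ℤ} (hx : IsRoot cs h x) {c : K} (hc : c ≠ 0)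
    (J : List I) : chS e x (pr J (fun j => hel e (sr j) c)) = c ^ (J.map fun j => cpr cs h x (sr j)).sum :=
  chS_eq S hx (tJ_mem S hG1 hc J) fun a => tJ_act S hx hc J a

end

/-- the characters extend to the root lattice -/
theorem chAdd [Finite W] {R : RGD cs h p T n X} (S : Sys R e) : ChAdd cs h T (chS e) := by
  intro t ht
  obtain ⟨χ, hχ⟩ := S.chi t ht
  refine ⟨fun x => (((χ x).toMul : Kˣ) : K), ?_, fun x y => ?_, fun a ha => chS_eq S ha ht (hχ a ha)⟩
  · show (((χ 0).toMul : Kˣ) : K) = 1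
    rw [map_zero, toMul_zero, Units.val_one]
  · show (((χ (x + y)).toMul : Kˣ) : K) = _
    rw [map_add, toMul_add, Units.val_mul]

/-- `wJ` preserves the sign of the roots other than `±sr j`, `j ∈ J`. -/
theorem wJ_nonneg [Finite W] {J : List I} (hJ : Orth cs h J) : ∀ (J' : List I), J'.Sublist J → ∀ {a : I → ℤ},
    IsRoot cs h a → (∀ j ∈ J', a ≠ sr j) → 0 ≤ a → 0 ≤ rep cs h (cs.wordProd J') a := by
  have hfix : ∀ (J' : List I), (∀ i ∈ J', i ∈ J) → ∀ j ∈ J, j ∉ J' → rep cs h (cs.wordProd J') (sr j) = sr j := by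
    intro J'
    induction J' with
    | nil => intro _ j _ _; rw [wordProd_nil, map_one, Module.End.one_apply]
    | cons i J' ih =>
      intro hs j hj hjn
      rw [wordProd_cons, rep_mul_apply, ih (fun k hk => hs k (by simp [hk])) j hj (fun h0 => hjn (by simp [h0])),
        rep_simple_eq, ← cpr_sr cs h, hJ.zero j hj i (hs i (by simp)) (by rintro rfl; exact hjn (by simp)),
        zero_smul, sub_zero]
  intro J'
  induction J' with
  | nil => intro _ a _ _ h0; rwa [wordProd_nil, map_one, Module.End.one_apply]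
  | cons j J' ih =>
    intro hs a ha hne h0
    have hs' : J'.Sublist J := (List.sublist_cons_self j J').trans hs
    have h1 := ih hs' ha (fun i hi => hne i (by simp [hi])) h0
    rw [wordProd_cons, rep_mul_apply]
    refine (ha.act (cs.wordProd J')).simple_nonneg h1 j fun h2 => ?_
    have hnd : (j :: J').Nodup := hs.nodup hJ.nodup
    rw [List.nodup_cons] at hnd
    have h3 := hfix J' (fun i hi => hs'.subset hi) j (hs.subset (by simp)) hnd.1
    rw [← h3] at h2
    have h4 := congrArg (rep cs h (cs.wordProd J')⁻¹) h2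
    rw [rep_inv_apply, rep_inv_apply] at h4
    exact hne j (by simp) h4

end Cfsg.Agent.H737.SK.Gen
end

-- part: KFacts/ChevTwoAut
section
/-!
# Automorphisms trivial on a root group (any root group datum, characteristic 2 relations)

* `frame_of_fix` : an automorphism trivial on `X_a` (`a` dominant) is `conj g⁻¹ ∘ β`, `g ∈ C(X_a)`, `β` a frame
  automorphism trivial on `X_a`;
* `inner_of_fix` : for `ChevTwo.Sys` without diagram symmetries (types `C_n` (`n ≥ 3`), `E₇`, `E₈`) an automorphism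
  trivial on a root group is conjugation by an element of its centraliser;
* `exists_mul_of_fix` : the overgroup form.
-/

set_option autoImplicit false

namespace Cfsg.Agent.KFacts.ChevTwoAut

open CoxeterSystem Cfsg.Agent.ChevalleyStructure.CoxeterGeom Cfsg.Agent.Tits.Roots Cfsg.Agent.Tits.Core
  Cfsg.Agent.Tits.Exchange Cfsg.Agent.Nodes.Reps Cfsg.Agent.Nodes.BNOf Cfsg.Agent.Nodes.StabComb
  Cfsg.Agent.Nodes.Bruhat Cfsg.Agent.Nodes.OppDec Cfsg.Agent.Nodes.LeviDec Cfsg.Agent.Nodes.NormalForm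
  Cfsg.Agent.Nodes.Coroot Cfsg.Agent.Nodes.PosPair
  Cfsg.Agent.KFacts.RgdOpp Cfsg.Agent.KFacts.RgdAut Cfsg.Agent.KFacts.RgdDiag Cfsg.Agent.KFacts.RgdRigid
  Cfsg.Agent.KFacts.RgdCent Cfsg.Agent.KFacts.RgdField Cfsg.Agent.KFacts.RgdTau Cfsg.Agent.KFacts.RgdSys
  Cfsg.Agent.KFacts.RgdTI Cfsg.Agent.KFacts.RgdAutFacts Cfsg.Agent.KFacts.ChevTwo

variable {I W Y : Type*} [Fintype I] [DecidableEq I] [Group W] [Group Y] {M : CoxeterMatrix I}
  {cs : CoxeterSystem M W} {A : I → I → ℤ} {h : IsCartan M A} {p : ℕ} {T : Subgroup Y} {n : I → Y}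
  {X : (I → ℤ) → Subgroup Y}

theorem eq_sum_sr (x : I → ℤ) : x = ∑ i, x i • (sr i : I → ℤ) := by
  ext j
  rw [Finset.sum_apply, Finset.sum_eq_single j]
  · rw [Pi.smul_apply, sr_self, smul_eq_mul, mul_one]
  · intro i _ hi
    rw [Pi.smul_apply, sr_ne (Ne.symm hi), smul_zero]
  · intro hj; exact absurd (Finset.mem_univ j) hj

theorem fix_conj {H : Subgroup Y} {t : Y} (ht : t ∈ Subgroup.normalizer (H : Set Y)) :
    _root_.Cfsg.Agent.KFacts.RgdAut.Fix (MulAut.conj t) H := fun x => (Subgroup.mem_normalizer_iff.1 ht x).symm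

/-- **Passing to the frame inside the centraliser of a root group.** -/
theorem frame_of_fix [Finite W] [Finite Y] [Fact p.Prime] {R : RGD cs h p T n X} (hG : GG cs h T X = ⊤)
    {a : I → ℤ} (hdom : ∀ u ∈ RGD.Sup X (RGD.Pos cs h), ∀ z ∈ X a, u * z = z * u) {α : MulAut Y}
    (hα : ∀ z ∈ X a, α z = z) :
    ∃ g : Y, (∀ z ∈ X a, g * z = z * g) ∧ _root_.Cfsg.Agent.KFacts.RgdAut.Fix (MulAut.conj g * α) (RGD.Sup X (RGD.Pos cs h)) ∧
      _root_.Cfsg.Agent.KFacts.RgdAut.Fix (MulAut.conj g * α) (UN cs h X) ∧ (∀ z ∈ X a, (MulAut.conj g * α) z = z) ∧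
      ∃ σ : Equiv.Perm I, Diag T X (MulAut.conj g * α) σ := by
  obtain ⟨P, hP⟩ : ∃ P : Subgroup Y, P = Subgroup.centralizer (X a : Set Y) := ⟨_, rfl⟩
  have hPc : ∀ g ∈ P, ∀ y ∈ X a, g * y = y * g := by
    intro g hg y hy
    rw [hP] at hg
    exact (Subgroup.mem_centralizer_iff.1 hg y hy).symm
  have hPi : ∀ g, (∀ y ∈ X a, g * y = y * g) → g ∈ P := by
    intro g hg
    rw [hP]
    exact Subgroup.mem_centralizer_iff.2 fun y hy => (hg y hy).symm
  have hPU : RGD.Sup X (RGD.Pos cs h) ≤ P := fun u hu => hPi u (hdom u hu)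
  have hαP : ∀ g ∈ P, α g ∈ P := by
    intro g hg
    apply hPi
    intro y hy
    rw [← hα y hy, ← map_mul, ← map_mul, hPc g hg y hy]
  obtain ⟨Q, hQ⟩ := exists_sylow R hG
  obtain ⟨Q', hQ'⟩ : ∃ Q' : Sylow p Y, (Q' : Subgroup Y) = (RGD.Sup X (RGD.Pos cs h)).map α.toMonoidHom :=
    ⟨α • Q, by rw [← hQ]; rfl⟩
  have hle : (Q : Subgroup Y) ≤ P := by rw [hQ]; exact hPU
  have hle' : (Q' : Subgroup Y) ≤ P := by
    rw [hQ']
    rintro _ ⟨y, hy, rfl⟩
    exact hαP y (hPU hy)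
  obtain ⟨q, hq⟩ := MulAction.exists_smul_eq ↥P (Q'.subtype hle') (Q.subtype hle)
  have hqU : ∀ x ∈ RGD.Sup X (RGD.Pos cs h), (q : Y) * α x * (q : Y)⁻¹ ∈ RGD.Sup X (RGD.Pos cs h) := by
    intro x hx
    have h1 : q * ⟨α x, hαP x (hPU hx)⟩ * q⁻¹ ∈ (Q.subtype hle : Subgroup ↥P) := by
      rw [← hq, Sylow.coe_subgroup_smul, Subgroup.mem_pointwise_smul_iff_inv_smul_mem]
      have h2 : (MulAut.conj q)⁻¹ • (q * ⟨α x, hαP x (hPU hx)⟩ * q⁻¹) = ⟨α x, hαP x (hPU hx)⟩ := by
        rw [← map_inv]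
        show q⁻¹ * (q * ⟨α x, hαP x (hPU hx)⟩ * q⁻¹) * q⁻¹⁻¹ = _
        group
      rw [h2, Sylow.coe_subtype, Subgroup.mem_subgroupOf, hQ']
      exact ⟨x, hx, rfl⟩
    rw [Sylow.coe_subtype, Subgroup.mem_subgroupOf, hQ] at h1
    exact h1
  have hfix : _root_.Cfsg.Agent.KFacts.RgdAut.Fix (MulAut.conj (q : Y) * α) (RGD.Sup X (RGD.Pos cs h)) := by
    rw [fix_iff]
    refine Subgroup.eq_of_le_of_card_ge ?_ ?_
    · rintro _ ⟨y, hy, rfl⟩
      exact hqU y hy
    · rw [Subgroup.card_map_of_injective (MulEquiv.injective _)]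
  obtain ⟨u, hu, hU, hB, hUN, hBN, hT⟩ := exists_frame R hG hfix
  have e : MulAut.conj u * (MulAut.conj (q : Y) * α) = MulAut.conj (u * q) * α := by
    rw [map_mul, mul_assoc]
  rw [e] at hU hUN
  have hgP : u * (q : Y) ∈ P := mul_mem (hPU hu) q.2
  refine ⟨u * q, hPc _ hgP, hU, hUN, fun y hy => ?_, exists_diag R hG hU hUN⟩
  show (u * (q : Y)) * α y * (u * (q : Y))⁻¹ = y
  rw [hα y hy, hPc _ hgP y hy, mul_inv_cancel_right]

variable {K : Type*} [Field K] {e : (I → ℤ) → K → Y}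

/-- **An automorphism trivial on a root group is inner**, if there are no diagram symmetries fixing the root group and
the torus is the full torus. -/
theorem inner_of_fix_dom [Finite W] [Finite Y] [Finite K] [Nonempty I] {R : RGD cs h 2 T n X} (S : Sys R e)
    (hG1 : RGD.Sup X {x | IsRoot cs h x} = ⊤) (hN : NoCent cs h T X)
    (hconn : ∀ J : Set I, J.Nonempty → J ≠ Set.univ → ∃ a ∈ J, ∃ b, b ∉ J ∧ M a b ≠ 2)
    (htor : ∀ c : I → Kˣ, ∃ t ∈ T, ∀ i u, t * e (sr i) u * t⁻¹ = e (sr i) (c i * u))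
    {a : I → ℤ} (ha : IsRoot cs h a) (hdom : ∀ i, 0 ≤ cpr cs h (sr i) a)
    (hsym : ∀ (β : MulAut Y) (σ : Equiv.Perm I), Diag T X β σ → (∀ z ∈ X a, β z = z) → σ = 1)
    {α : MulAut Y} (hα : ∀ z ∈ X a, α z = z) : ∃ g : Y, (∀ z ∈ X a, g * z = z * g) ∧ α = MulAut.conj g := by
  have : Fact (Nat.Prime 2) := ⟨Nat.prime_two⟩
  have hG := GG_eq_top (T := T) hG1
  have hPos : RGD.Pos cs h ⊆ Ge cs h a := by
    intro x hx
    refine ⟨hx.1, ?_⟩
    have h1 : ell cs h ha x = ∑ i, x i * ell cs h ha (sr i) := by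
      conv_lhs => rw [eq_sum_sr x]
      rw [map_sum]
      refine Finset.sum_congr rfl fun i _ => ?_
      rw [map_zsmul, smul_eq_mul]
    rw [ell_apply] at h1
    rw [h1]
    exact Finset.sum_nonneg fun i _ => mul_nonneg (hx.2 i) (by rw [ell_apply]; exact hdom i)
  obtain ⟨g, hg, hU, hUN, hβz, σ, D⟩ := frame_of_fix (R := R) hG
    (fun u hu z hz => (S.lr ha).comm' (RGD.Sup_mono hPos hu) hz) hα
  obtain ⟨β, hβ⟩ : ∃ β, β = MulAut.conj g * α := ⟨_, rfl⟩
  rw [← hβ] at hU hUN hβz D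
  have hσ1 := hsym β σ D hβz
  subst hσ1
  have C := coords S hG1
  have H := coroots S hG1 hN
  obtain ⟨τ, B⟩ := exists_tau R C H hconn D fun _ _ => rfl
  have hτ : τ = 1 := by
    obtain ⟨c, hc, e1⟩ := Tau.root R C B ha
    have e' : ∀ b, c * τ b = b := by
      intro b
      have h1 := e1 b
      rw [hβz _ ((S.mem_X a ha _).2 ⟨b, rfl⟩)] at h1
      exact (S.data.injective ha h1).symm
    have h1 := e' 1
    rw [map_one, mul_one] at h1
    ext b
    have h2 := e' b
    rw [h1, one_mul] at h2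
    exact h2
  subst hτ
  have hc : ∀ i, ∃ c : Kˣ, ∀ b, β (e (sr i) b) = e (sr i) (c * b) := by
    intro i
    obtain ⟨c, hc, e1⟩ := Tau.root R C B (isRoot_sr cs h i)
    exact ⟨Units.mk0 c hc, e1⟩
  choose c hc using hc
  obtain ⟨t, ht, het⟩ := htor c
  have hsup : ∀ Ω : Set (I → ℤ), (∀ x ∈ Ω, IsRoot cs h x) → t⁻¹ ∈ Subgroup.normalizer (RGD.Sup X Ω : Set Y) := by
    intro Ω hΩ
    rw [mem_normalizer_iff_cj, RGD.cj_Sup]
    exact iSup_congr fun z => R.tor z.1 (hΩ z.1 z.2) _ (inv_mem ht)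
  have h1 : MulAut.conj t⁻¹ * β = 1 := by
    refine _root_.Cfsg.Agent.KFacts.RgdRigid.eq_one_of_fix R hG1 ((fix_conj (hsup _ fun x hx => hx.1)).mul hU)
      ((fix_conj (hsup _ fun x hx => hx.1)).mul hUN) fun i y hy => ?_
    obtain ⟨b, rfl⟩ := (S.mem_X _ (isRoot_sr cs h i) y).1 hy
    show t⁻¹ * β (e (sr i) b) * t⁻¹⁻¹ = _
    have h2 := het i b
    rw [← hc] at h2
    rw [← h2]; group
  have h2 : α = MulAut.conj (g⁻¹ * t) := by
    have h3 : α = (MulAut.conj g)⁻¹ * MulAut.conj t * (MulAut.conj t⁻¹ * β) := by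
      rw [hβ, map_inv]; group
    rw [h3, h1, mul_one, map_mul, map_inv]
  refine ⟨g⁻¹ * t, fun z hz => ?_, h2⟩
  have h3 := hα z hz
  rw [h2, MulAut.conj_apply] at h3
  calc g⁻¹ * t * z = (g⁻¹ * t) * z * (g⁻¹ * t)⁻¹ * (g⁻¹ * t) := by group
    _ = z * (g⁻¹ * t) := by rw [h3]

/-- **An automorphism trivial on a root group is inner** (no diagram symmetries: types `C_n`, `n ≥ 3`, `E₇`, `E₈`). -/
theorem inner_of_fix [Finite W] [Finite Y] [Finite K] [Nonempty I] {R : RGD cs h 2 T n X} (S : Sys R e)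
    (hG1 : RGD.Sup X {x | IsRoot cs h x} = ⊤) (hN : NoCent cs h T X)
    (hconn : ∀ J : Set I, J.Nonempty → J ≠ Set.univ → ∃ a ∈ J, ∃ b, b ∉ J ∧ M a b ≠ 2)
    (htor : ∀ c : I → Kˣ, ∃ t ∈ T, ∀ i u, t * e (sr i) u * t⁻¹ = e (sr i) (c i * u))
    (hsym : ∀ σ : Equiv.Perm I, (∀ i j, M (σ i) (σ j) = M i j) → σ = 1)
    {a : I → ℤ} (ha : IsRoot cs h a) {α : MulAut Y} (hα : ∀ z ∈ X a, α z = z) :
    ∃ g : Y, (∀ z ∈ X a, g * z = z * g) ∧ α = MulAut.conj g := by
  obtain ⟨w, hw⟩ := (S.lr ha).exists_dominant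
  obtain ⟨m, hm⟩ := exists_rp cs R.nsys w
  have hX : ∀ z ∈ X (rep cs h w a), m⁻¹ * z * m ∈ X a := by
    intro z hz
    rw [← R.conj_rp hm ha, mem_cj] at hz
    exact hz
  have h1 : ∀ z ∈ X (rep cs h w a), (MulAut.conj m * α * (MulAut.conj m)⁻¹) z = z := by
    intro z hz
    rw [← map_inv]
    show m * α (m⁻¹ * z * m⁻¹⁻¹) * m⁻¹ = z
    rw [inv_inv, hα _ (hX z hz)]
    group
  obtain ⟨g, -, e1⟩ := inner_of_fix_dom S hG1 hN hconn htor (ha.act w) hw
    (fun β σ D _ => hsym σ (D.matrix R)) h1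
  have h2 : α = MulAut.conj (m⁻¹ * g * m) := by
    rw [map_mul, map_mul, map_inv, ← e1]; group
  refine ⟨_, fun z hz => ?_, h2⟩
  have h3 := hα z hz
  rw [h2, MulAut.conj_apply] at h3
  calc m⁻¹ * g * m * z = (m⁻¹ * g * m) * z * (m⁻¹ * g * m)⁻¹ * (m⁻¹ * g * m) := by group
    _ = z * (m⁻¹ * g * m) := by rw [h3]

end Cfsg.Agent.KFacts.ChevTwoAut
end

-- part: H737/SK/Big
section
/-!
# S3010, characteristic two, `q ≥ 4`: the involutions `∏ e (sr j) 1` are good (helper737)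
-/

set_option autoImplicit false
set_option linter.unusedSectionVars false

namespace Cfsg.Agent.H737.SK.Gen

open CoxeterSystem Cfsg.Agent.ChevalleyStructure.CoxeterGeom Cfsg.Agent.Tits.Roots Cfsg.Agent.Tits.Core
  Cfsg.Agent.Tits.Exchange Cfsg.Agent.Nodes.Reps Cfsg.Agent.Nodes.BNOf Cfsg.Agent.Nodes.StabComb
  Cfsg.Agent.Nodes.Bruhat Cfsg.Agent.Nodes.OppDec Cfsg.Agent.Nodes.LeviDec Cfsg.Agent.Nodes.NormalForm
  Cfsg.Agent.Nodes.Coroot Cfsg.Agent.Nodes.Comb
  Cfsg.Agent.KFacts.RgdField Cfsg.Agent.BpExc.TorCent Cfsg.Agent.KFacts.RgdOpp Cfsg.Agent.KFacts.RgdCent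
  Cfsg.Agent.KFacts.ChevTwo Cfsg.Agent.KFacts.RgdSys Cfsg.Agent.H737.SK.O2 Cfsg.Agent.H282.SK
  Cfsg.Agent.KFacts.RgdRigid

variable {I W Y K : Type*} [Fintype I] [DecidableEq I] [Group W] [Group Y] [Field K] {M : CoxeterMatrix I}
variable {cs : CoxeterSystem M W} {A : I → I → ℤ} {h : IsCartan M A} {e : (I → ℤ) → K → Y}
  {p : ℕ} {T : Subgroup Y} {n : I → Y} {X : (I → ℤ) → Subgroup Y}

/-- conjugation by a representative is a frame automorphism -/
theorem frA_conj {R : RGD cs h p T n X} [Finite W] {w' : W} {v : Y} (hv : Rp cs R.nsys w' v) :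
    FrA R (MulAut.conj v) (fun a => rep cs h w' a) (fun w => w' * w * w'⁻¹) where
  root a ha := ha.act w'
  map a ha z hz := by
    have h1 := R.conj_rp hv ha
    rw [← h1, MulAut.conj_apply]
    rw [mem_cj]
    have h2 : v⁻¹ * (v * z * v⁻¹) * v = z := by group
    rwa [h2]
  rp w k hk := (hv.mul hk).mul hv.inv
  rep' w a ha := by
    rw [rep_mul_apply, rep_mul_apply, rep_inv_apply]
  neg a := map_neg _ _

theorem nonneg_conv [Finite W] {J : List I} (hJ : Orth cs h J) {a : I → ℤ} (ha : IsRoot cs h a)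
    (hne : ∀ j ∈ J, a ≠ sr j) (h0 : 0 ≤ a) : 0 ≤ rep cs h (cs.wordProd J) a :=
  wJ_nonneg hJ J (List.Sublist.refl J) ha hne h0

theorem nonpos_conv [Finite W] {J : List I} (hJ : Orth cs h J) {a : I → ℤ} (ha : IsRoot cs h a)
    (hne : ∀ j ∈ J, a ≠ -sr j) (h0 : a ≤ 0) : rep cs h (cs.wordProd J) a ≤ 0 := by
  have h1 := nonneg_conv hJ ha.neg (fun j hj h2 => hne j hj (by rw [← h2, neg_neg])) (neg_nonneg.2 h0)
  rw [map_neg] at h1
  exact neg_nonneg.1 h1

/-- the sum of the Cartan numbers with `J` -/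
theorem sum_self [Finite W] {J : List I} (hJ : Orth cs h J) {j : I} (hj : j ∈ J) :
    (J.map fun i => cpr cs h (sr j) (sr i)).sum = 2 := by
  have key : ∀ J' : List I, J'.Sublist J → (J'.map fun i => cpr cs h (sr j) (sr i)).sum = if j ∈ J' then 2 else 0 := by
    intro J'
    induction J' with
    | nil => intro _; simp
    | cons i J' ih =>
      intro hs
      have hs' : J'.Sublist J := (List.sublist_cons_self i J').trans hs
      have hnd : (i :: J').Nodup := hs.nodup hJ.nodup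
      rw [List.nodup_cons] at hnd
      rw [List.map_cons, List.sum_cons, ih hs']
      by_cases h1 : j = i
      · subst h1
        rw [if_neg hnd.1, if_pos (by simp), add_zero, cpr_self cs h (isRoot_sr cs h j)]
      · rw [hJ.zero j hj i (hs.subset (by simp)) h1, zero_add]
        simp [h1]
  rw [key J (List.Sublist.refl J), if_pos hj]

section

variable [Finite W] [Finite Y] [Finite K] {R : RGD cs h 2 T n X} (S : Sys R e) {J : List I} (hJ : Orth cs h J)
  (hG1 : RGD.Sup X {x | IsRoot cs h x} = ⊤) (hN : NoCent cs h T X)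

include S hJ hG1 in
theorem sr_not_mem_Sx {c : K} (hc : c ≠ 0) (hc2 : c ^ (2 : ℤ) ≠ 1) {j : I} (hj : j ∈ J) :
    sr j ∉ Sx cs h (chS e) (pr J fun j => hel e (sr j) c) := by
  rintro ⟨h1, h2⟩
  rw [chi_tJ S hG1 h1 hc, sum_self hJ hj] at h2
  exact hc2 h2

include S hJ hG1 in
theorem neg_sr_not_mem_Sx {c : K} (hc : c ≠ 0) (hc2 : c ^ (2 : ℤ) ≠ 1) {j : I} (hj : j ∈ J) :
    -sr j ∉ Sx cs h (chS e) (pr J fun j => hel e (sr j) c) := by
  rintro ⟨h1, h2⟩
  have h3 : (J.map fun i => cpr cs h (-sr j) (sr i)).sum = -2 := by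
    have key : ∀ J' : List I, (J'.map fun i => cpr cs h (-sr j) (sr i)).sum =
        -(J'.map fun i => cpr cs h (sr j) (sr i)).sum := by
      intro J'
      induction J' with
      | nil => simp
      | cons i J' ih => rw [List.map_cons, List.map_cons, List.sum_cons, List.sum_cons, ih,
          cpr_neg cs h _ (isRoot_sr cs h i)]; ring
    rw [key, sum_self hJ hj]
  rw [chi_tJ S hG1 h1 hc, h3, zpow_neg, inv_eq_one] at h2
  exact hc2 h2

include S hJ hG1 hN in
/-- **`q ≥ 4`: `C(nJ) ∩ C(tJ)` has no nontrivial normal 2-subgroup.** -/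
theorem o2_big {l : ℕ} (hl : l.Prime) (hl2 : l ≠ 2) {c : K} (hc : c ≠ 0) (hc1 : c ≠ 1) (hcl : c ^ l = 1)
    {N : Subgroup Y} (hNp : IsPGroup 2 N)
    (hNH : N ≤ Subgroup.centralizer {pr J fun j => nel e (sr j)} ⊓ Subgroup.centralizer {pr J fun j => hel e (sr j) c})
    (hn : ∀ g ∈ Subgroup.centralizer {pr J fun j => nel e (sr j)} ⊓ Subgroup.centralizer {pr J fun j => hel e (sr j) c},
      ∀ z ∈ N, g * z * g⁻¹ ∈ N) : N = ⊥ := by
  have : Fact (Nat.Prime 2) := ⟨Nat.prime_two⟩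
  set v : Y := pr J fun j => nel e (sr j) with hv
  set t : Y := pr J fun j => hel e (sr j) c with ht
  have C := coords S hG1
  have htT : t ∈ T := tJ_mem S hG1 hc J
  have hc2 : c ^ (2 : ℤ) ≠ 1 := by
    intro h0
    have h1 : c ^ 2 = 1 := by exact_mod_cast h0
    exact hc1 (orderOf_eq_one_iff.1 (Nat.eq_one_of_dvd_coprimes ((Nat.coprime_primes hl Nat.prime_two).2 hl2)
      (orderOf_dvd_of_pow_eq_one hcl) (orderOf_dvd_of_pow_eq_one h1)))
  have hvt : v * t * v⁻¹ = t⁻¹ := by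
    rw [hv, ht, nJ_tJ S hJ hG1 hN hc, tJ_inv S hJ hG1 hN hc]
  have hcen : ∀ z ∈ Subgroup.centralizer {t}, MulAut.conj v z ∈ Subgroup.centralizer {t} := by
    intro z hz
    rw [Subgroup.mem_centralizer_singleton_iff] at hz ⊢
    rw [MulAut.conj_apply]
    have h1 : Commute (v * z * v⁻¹) t⁻¹ := by
      rw [← hvt]
      show v * z * v⁻¹ * (v * t * v⁻¹) = v * t * v⁻¹ * (v * z * v⁻¹)
      calc v * z * v⁻¹ * (v * t * v⁻¹) = v * (z * t) * v⁻¹ := by group
        _ = v * (t * z) * v⁻¹ := by rw [hz]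
        _ = v * t * v⁻¹ * (v * z * v⁻¹) := by group
    exact (Commute.inv_right_iff.1 h1).eq
  have hfix : (⊤ : Subgroup Y) ⊓ FixA (MulAut.conj v) = Subgroup.centralizer {v} := by
    ext z
    rw [top_inf_eq, mem_FixA, Subgroup.mem_centralizer_singleton_iff, MulAut.conj_apply, mul_inv_eq_iff_eq_mul]
    exact eq_comm
  have hA : Adm2 R (chS e) t (⊤ ⊓ FixA (MulAut.conj v)) := by
    refine Adm2.fix C htT (frA_conj (nJ_rp S J)) hcen ?_ ?_ (Adm2.top C htT) (fun _ _ => Subgroup.mem_top _) ⟨1, ?_⟩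
    · intro a ha h0
      exact nonneg_conv hJ ha.1 (fun j hj h1 => sr_not_mem_Sx S hJ hG1 hc hc2 hj (h1 ▸ ha)) h0
    · intro a ha h0
      exact nonpos_conv hJ ha.1 (fun j hj h1 => neg_sr_not_mem_Sx S hJ hG1 hc hc2 hj (h1 ▸ ha)) h0
    · intro z _
      rw [pow_one, pow_two, ← map_mul, nJ_sq S hJ, map_one, MulAut.one_apply]
  rw [hfix] at hA
  refine hA.eq_bot C htT (chAdd S) hl hl2 ?_ (GG_eq_top (T := T) hG1) hNp hNH hn
  intro a ha
  rw [ht, chi_tJ S hG1 ha hc, ← zpow_natCast, ← zpow_mul, mul_comm, zpow_mul, zpow_natCast, hcl, one_zpow]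

/-- an element of odd prime order -/
theorem exists_unit {K : Type*} [Field K] [Finite K] [CharP K 2] (hK : Nat.card K ≠ 2) :
    ∃ (l : ℕ) (c : K), l.Prime ∧ l ≠ 2 ∧ c ≠ 0 ∧ c ≠ 1 ∧ c ^ l = 1 := by
  have h1 : 1 < Nat.card K := Finite.one_lt_card
  have h2 : Nat.card K - 1 ≠ 1 := by omega
  obtain ⟨l, hl, hd⟩ := Nat.exists_prime_and_dvd h2
  have hl2 : l ≠ 2 := by
    rintro rfl
    have := Fintype.ofFinite K
    obtain ⟨n, hn, h3⟩ := FiniteField.card K 2
    rw [Nat.card_eq_fintype_card] at hd h1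
    have h4 : 2 ∣ Fintype.card K := by
      rw [h3]; exact dvd_pow_self 2 (PNat.ne_zero n)
    omega
  have : Fact l.Prime := ⟨hl⟩
  rw [← Nat.card_units] at hd
  obtain ⟨x, hx⟩ := exists_prime_orderOf_dvd_card' l hd
  refine ⟨l, (x : K), hl, hl2, x.ne_zero, ?_, ?_⟩
  · intro h0
    have h3 : x = 1 := Units.ext h0
    rw [h3, orderOf_one] at hx
    exact hl.one_lt.ne hx
  · rw [← Units.val_pow_eq_pow_val, ← hx, pow_orderOf_eq_one, Units.val_one]

include S hJ hG1 hN in
/-- **`q ≥ 4`: `∏ e (sr j) 1` is good, given the condition on outer automorphisms.** -/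
theorem good_big {l : ℕ} (hl : l.Prime) (hl2 : l ≠ 2) {c : K} (hc : c ≠ 0) (hc1 : c ≠ 1) (hcl : c ^ l = 1)
    (hout : ∀ α : MulAut Y, α * α = 1 → α (pr J fun j => nel e (sr j)) = pr J (fun j => nel e (sr j)) →
      α (pr J fun j => hel e (sr j) c) = pr J (fun j => hel e (sr j) c) →
      (∀ z ∈ Subgroup.centralizer {pr J fun j => nel e (sr j)} ⊓
        Subgroup.centralizer {pr J fun j => hel e (sr j) c}, α z = z) → ∃ g, α = MulAut.conj g) :
    _root_.Cfsg.Agent.H282.SK.Good (pr J fun j => e (sr j) 1) := by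
  have h1 : _root_.Cfsg.Agent.H282.SK.Good (pr J fun j => nel e (sr j)) := by
    refine ⟨pr J fun j => hel e (sr j) c, ?_, ?_, ?_, hout⟩
    · have h2 : orderOf (pr J fun j => hel e (sr j) c) ∣ l := by
        refine orderOf_dvd_of_pow_eq_one ?_
        rw [tJ_pow S hJ hG1 hN hc, hcl, pr_congr (g := fun _ => 1) fun j _ => hel_one S hG1 hN j, pr_one]
      exact Odd.of_dvd_nat (hl.odd_of_ne_two hl2) h2
    · rw [nJ_tJ S hJ hG1 hN hc, tJ_inv S hJ hG1 hN hc]
    · intro N h2 h3 h4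
      exact o2_big S hJ hG1 hN hl hl2 hc hc1 hcl h2 h3 h4
  have h2 := h1.conj (pr J (fun j => e (sr j) 1 * nel e (sr j)))⁻¹
  have h3 := nJ_conj S hJ
  rw [h3] at h2
  have h4 : ∀ a b : Y, a⁻¹ * (a * b * a⁻¹) * a⁻¹⁻¹ = b := fun a b => by group
  rwa [h4] at h2

omit [Finite Y] [Finite K] in
include S in
/-- A root group orthogonal to `J` commutes with the products over `J`. -/
theorem perp_comm {b : I → ℤ} (hb : IsRoot cs h b) (hbJ : ∀ j ∈ J, cpr cs h b (sr j) = 0) {z : Y} (hz : z ∈ X b)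
    {f : I → Y} (hf : ∀ j ∈ J, f j ∈ SS X j) : Commute z (pr J f) := by
  refine commute_pr fun j hj => ?_
  obtain ⟨s, rfl⟩ := (S.mem_X b hb z).1 hz
  have h1 : SS X j ≤ Subgroup.centralizer {e b s} := by
    have hrj := isRoot_sr cs h j
    refine sup_le ?_ ?_
    · intro y hy
      obtain ⟨u, rfl⟩ := (S.mem_X _ hrj y).1 hy
      rw [Subgroup.mem_centralizer_singleton_iff]
      exact (S.data.comm_of_nonneg hb hrj (le_of_eq (hbJ j hj).symm) s u).symm
    · intro y hy
      obtain ⟨u, rfl⟩ := (S.mem_X _ hrj.neg y).1 hy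
      rw [Subgroup.mem_centralizer_singleton_iff]
      exact (S.data.comm_of_nonneg hb hrj.neg (le_of_eq (by rw [cpr_neg_right cs h _ hrj, hbJ j hj, neg_zero])) s u).symm
  exact (Subgroup.mem_centralizer_singleton_iff.1 (h1 (hf j hj))).symm

include S in
/-- `X b ≤ C(nJ) ∩ C(tJ)` for `b` orthogonal to `J`. -/
theorem perp_le {b : I → ℤ} (hb : IsRoot cs h b) (hbJ : ∀ j ∈ J, cpr cs h b (sr j) = 0) (c : K) :
    X b ≤ Subgroup.centralizer {pr J fun j => nel e (sr j)} ⊓
      Subgroup.centralizer {pr J fun j => hel e (sr j) c} := by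
  intro z hz
  rw [Subgroup.mem_inf, Subgroup.mem_centralizer_singleton_iff, Subgroup.mem_centralizer_singleton_iff]
  exact ⟨(perp_comm S hb hbJ hz fun j _ => nel_mem S j).eq, (perp_comm S hb hbJ hz fun j _ => hel_memS S j c).eq⟩

end

end Cfsg.Agent.H737.SK.Gen
end

-- part: H737/SK/Two
section
/-!
# S3010, characteristic two, `q = 2` inside `q = 4` (helper737)

`α : MulAut Y` with `α (e x a) = e x (a ^ 2)`, `K` of four elements.

* `Frb.fix_eq` : the fixed points of `α` are generated by the `e x 1`;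
* `o2_two` : in `Fix α`, `C(nJ) ∩ C(xJ)` has no nontrivial normal 2-subgroup, `xJ = ∏ e (sr j) 1 * e (-sr j) 1`.
-/

set_option autoImplicit false
set_option linter.unusedSectionVars false

namespace Cfsg.Agent.H737.SK.Gen

open CoxeterSystem Cfsg.Agent.ChevalleyStructure.CoxeterGeom Cfsg.Agent.Tits.Roots Cfsg.Agent.Tits.Core
  Cfsg.Agent.Tits.Exchange Cfsg.Agent.Nodes.Reps Cfsg.Agent.Nodes.BNOf Cfsg.Agent.Nodes.StabComb
  Cfsg.Agent.Nodes.Bruhat Cfsg.Agent.Nodes.OppDec Cfsg.Agent.Nodes.LeviDec Cfsg.Agent.Nodes.NormalForm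
  Cfsg.Agent.Nodes.Coroot Cfsg.Agent.Nodes.Comb
  Cfsg.Agent.KFacts.RgdField Cfsg.Agent.BpExc.TorCent Cfsg.Agent.KFacts.RgdOpp Cfsg.Agent.KFacts.RgdCent
  Cfsg.Agent.KFacts.ChevTwo Cfsg.Agent.KFacts.RgdSys Cfsg.Agent.H737.SK.O2 Cfsg.Agent.H282.SK
  Cfsg.Agent.KFacts.RgdRigid

variable {I W Y K : Type*} [Fintype I] [DecidableEq I] [Group W] [Group Y] [Field K] {M : CoxeterMatrix I}
variable {cs : CoxeterSystem M W} {A : I → I → ℤ} {h : IsCartan M A} {e : (I → ℤ) → K → Y}
  {p : ℕ} {T : Subgroup Y} {n : I → Y} {X : (I → ℤ) → Subgroup Y}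

/-- the group generated by the `e x 1` -/
def E1 (cs : CoxeterSystem M W) (h : IsCartan M A) (e : (I → ℤ) → K → Y) : Subgroup Y :=
  Subgroup.closure {g | ∃ x, IsRoot cs h x ∧ g = e x 1}

theorem e1_mem {x : I → ℤ} (hx : IsRoot cs h x) : e x 1 ∈ E1 cs h e := Subgroup.subset_closure ⟨x, hx, rfl⟩

/-- the field automorphism `a ↦ a ^ 2` -/
structure Frb (cs : CoxeterSystem M W) (h : IsCartan M A) (e : (I → ℤ) → K → Y) (α : MulAut Y) : Prop where
  map : ∀ x, IsRoot cs h x → ∀ a, α (e x a) = e x (a ^ 2)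
  four : ∀ a : K, a ^ 4 = a

section

variable [Finite W] {R : RGD cs h p T n X} (S : Sys R e) (hG1 : RGD.Sup X {x | IsRoot cs h x} = ⊤)
  (hN : NoCent cs h T X) {α : MulAut Y} (hα : Frb cs h e α)

include hα

theorem Frb.nel (j : I) : α (nel e (sr j)) = nel e (sr j) := by
  rw [nel_def, map_mul, map_mul, hα.map _ (isRoot_sr cs h j), hα.map _ (isRoot_sr cs h j).neg, one_pow]

theorem Frb.E1_le : E1 cs h e ≤ FixA α := by
  unfold E1
  rw [Subgroup.closure_le]
  rintro _ ⟨x, hx, rfl⟩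
  show α (e x 1) = e x 1
  rw [hα.map x hx, one_pow]

include S

theorem Frb.map_n (j : I) : α (n j) = n j := by rw [S.n_eq, hα.nel]

include hG1

theorem Frb.map_T {t : Y} (ht : t ∈ T) : α t ∈ T := by
  refine mem_T_of_norm S hG1 fun r hr => ?_
  obtain ⟨χ, hχ⟩ := S.chi t ht
  refine ⟨((χ r).toMul : Kˣ) ^ 2, pow_ne_zero 2 (Units.ne_zero _), fun a => ?_⟩
  have h1 := congrArg α (hχ r hr (a ^ 2))
  rw [map_mul, map_mul, map_inv, hα.map r hr, hα.map r hr, ← pow_mul, hα.four, mul_pow, ← pow_mul, hα.four] at h1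
  exact h1

theorem Frb.frA : FrA R α (fun a => a) (fun w => w) where
  root _ ha := ha
  map a ha z hz := by
    obtain ⟨c, rfl⟩ := (S.mem_X a ha z).1 hz
    rw [hα.map a ha]
    exact S.mem ha _
  rp w k hk := by
    obtain ⟨g, hg, hr⟩ := exists_rp_closure (cs := cs) (hN := R.nsys) w
    have h1 : α g = g := by
      have h2 : Subgroup.closure (Set.range n) ≤ FixA α := by
        rw [Subgroup.closure_le]
        rintro _ ⟨i, rfl⟩
        exact hα.map_n S i
      exact h2 hg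
    have h3 : k = g * (g⁻¹ * k) := by group
    rw [h3, map_mul, h1]
    exact hr.mul_mem_right (hα.map_T S hG1 (hr.unique hk))
  rep' w a _ := rfl
  neg a := rfl

include hN in
/-- a fixed torus element is trivial -/
theorem Frb.T_fix {t : Y} (ht : t ∈ T) (h1 : α t = t) : t = 1 := by
  refine hN t ht fun b hb v hv => ?_
  obtain ⟨c, rfl⟩ := (S.mem_X b hb v).1 hv
  obtain ⟨χ, hχ⟩ := S.chi t ht
  have h2 := hχ b hb c
  have h3 : (((χ b).toMul : Kˣ) : K) = 1 := by
    have h4 := congrArg α (hχ b hb 1)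
    rw [map_mul, map_mul, map_inv, hα.map b hb, hα.map b hb, one_pow, h1, hχ b hb, mul_one] at h4
    have h5 := S.data.injective hb h4
    have h6 : (((χ b).toMul : Kˣ) : K) ≠ 0 := Units.ne_zero _
    have h7 : (((χ b).toMul : Kˣ) : K) * (((χ b).toMul : Kˣ) - 1) = 0 := by
      linear_combination -h5
    rcases mul_eq_zero.1 h7 with h8 | h8
    · exact absurd h8 h6
    · exact sub_eq_zero.1 h8
  rw [h3, one_mul] at h2
  exact mul_inv_eq_iff_eq_mul.1 h2

omit hG1 in
/-- a fixed element of a root group -/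
theorem Frb.X_fix {x : I → ℤ} (hx : IsRoot cs h x) {u : Y} (hu : u ∈ X x) (h1 : α u = u) : u ∈ E1 cs h e := by
  obtain ⟨c, rfl⟩ := (S.mem_X x hx u).1 hu
  rw [hα.map x hx] at h1
  have h2 := S.data.injective hx h1
  have h3 : c * (c - 1) = 0 := by linear_combination h2
  rcases mul_eq_zero.1 h3 with h4 | h4
  · rw [h4, S.data.zero hx]; exact one_mem _
  · rw [sub_eq_zero.1 h4]; exact e1_mem hx

/-- fixed elements of `Sup X (NW w)` -/
theorem Frb.NW_fix : ∀ (w : W) {a : Y}, a ∈ RGD.Sup X (NW cs h w) → α a = a → a ∈ E1 cs h e := by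
  intro w
  induction hn : cs.length w using Nat.strong_induction_on generalizing w with
  | _ N ih =>
  intro a ha hfix
  by_cases hw1 : w = 1
  · subst hw1
    have h1 : RGD.Sup X (NW cs h (1 : W)) ≤ ⊥ := by
      refine RGD.Sup_le fun x hx => ?_
      exfalso
      have h2 := hx.2.2
      rw [map_one, Module.End.one_apply] at h2
      exact hx.1.not_pos_neg hx.2.1 h2
    rw [Subgroup.mem_bot.1 (h1 ha)]
    exact one_mem _
  obtain ⟨i, hi⟩ := cs.exists_rightDescent_of_ne_one hw1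
  have hi' : cs.length (w * cs.simple i) < cs.length w := hi
  set w' := w * cs.simple i with hw'
  have hww : w' * cs.simple i = w := by rw [hw', mul_assoc, simple_mul_simple_self, mul_one]
  have hpos : 0 ≤ rep cs h w' (sr i) := (lt_iff' cs h w' i).1 (by rw [hww]; omega)
  have hws : ∀ x : I → ℤ, rep cs h w' (rep cs h (cs.simple i) x) = rep cs h w x := by
    intro x; rw [← rep_mul_apply, hww]
  have hneg : rep cs h w (sr i) ≤ 0 := by
    have h1 := hws (sr i)
    rw [rep_simple_sr, map_neg] at h1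
    rw [← h1]
    exact neg_nonpos.2 hpos
  obtain ⟨r, hr, u, hu, rfl⟩ := exists_mul R (S := NW cs h w) (i := i) (fun x hx => ⟨hx.1, hx.2.1⟩)
    ⟨isRoot_sr cs h i, sr_nonneg i, hneg⟩ (fun y hy _ z hz => ⟨hz.1, btwn_nonneg hz (sr_nonneg i) hy.2.1, by
      have h2 := btwn_nonneg (cs := cs) (h := h) (x := -rep cs h w (sr i)) (y := -rep cs h w y)
        (z := -rep cs h w z) ?_ (neg_nonneg.2 hneg) (neg_nonneg.2 hy.2.2)
      · exact neg_nonneg.1 h2
      · obtain ⟨h3, m, a, b, hm, ha, hb, he⟩ := hz.act w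
        refine ⟨h3.neg, m, a, b, hm, ha, hb, ?_⟩
        rw [smul_neg, smul_neg, smul_neg, he, neg_add]⟩) ha
  have hF := hα.frA S hG1
  have hsd : NW cs h w \ {sr i} ⊆ RGD.PosNe cs h i := fun x hx => ⟨hx.1.1, hx.1.2.1, hx.2⟩
  have hαr : α r ∈ RGD.Sup X (RGD.PosNe cs h i) := by
    have h1 : RGD.Sup X (RGD.PosNe cs h i) ≤ (RGD.Sup X (RGD.PosNe cs h i)).comap α.toMonoidHom :=
      RGD.Sup_le fun x hx z hz => RGD.le_Sup (S := RGD.PosNe cs h i) hx (hF.map x hx.1 z hz)
    exact h1 (RGD.Sup_mono hsd hr)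
  have hαu : α u ∈ X (sr i) := hF.map _ (isRoot_sr cs h i) u hu
  have hu1 : α u * u⁻¹ = 1 := by
    refine eq_one_of_mem_PosNe R (mul_mem hαu (inv_mem hu)) ?_
    have h1 : α u * u⁻¹ = (α r)⁻¹ * r := by
      rw [map_mul] at hfix
      rw [mul_inv_eq_iff_eq_mul, mul_assoc, ← hfix]; group
    rw [h1]
    exact mul_mem (inv_mem hαr) (RGD.Sup_mono hsd hr)
  have hu2 : α u = u := mul_inv_eq_one.1 hu1
  have hr2 : α r = r := by
    rw [map_mul, hu2] at hfix
    exact mul_right_cancel hfix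
  refine mul_mem ?_ (hα.X_fix S (isRoot_sr cs h i) hu hu2)
  have hrs : n i * r * (n i)⁻¹ ∈ RGD.Sup X (NW cs h w') := by
    refine conj_mem_Sup R (rp_simple cs R.nsys i) (fun x hx => hx.1.1) (fun x hx => ?_) hr
    refine ⟨hx.1.1.act _, hx.1.1.simple_nonneg hx.1.2.1 i hx.2, ?_⟩
    rw [hws]
    exact hx.1.2.2
  have h2 := ih (cs.length w') (by omega) w' rfl hrs (by rw [map_mul, map_mul, map_inv, hα.map_n S, hr2])
  have h3 : n i ∈ E1 cs h e := by
    rw [S.n_eq, nel_def]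
    exact mul_mem (mul_mem (e1_mem (isRoot_sr cs h i)) (e1_mem (isRoot_sr cs h i).neg)) (e1_mem (isRoot_sr cs h i))
  have h4 : r = (n i)⁻¹ * (n i * r * (n i)⁻¹) * n i := by group
  rw [h4]
  exact mul_mem (mul_mem (inv_mem h3) h2) h3

include hN in
/-- **The fixed points are generated by the `e x 1`.** -/
theorem Frb.fix_eq [Finite K] : FixA α = E1 cs h e := by
  refine le_antisymm ?_ hα.E1_le
  intro g hg
  have C := coords S hG1
  have hF := hα.frA S hG1
  obtain ⟨u, hu, w, k, hk, hkc, b, hb, rfl⟩ := exists_cform R (one_mem T)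
    ((GG_eq_top (T := T) hG1) ▸ Subgroup.mem_top g) (by rw [Subgroup.mem_centralizer_singleton_iff]; group)
  obtain ⟨h1, h2, h3, -⟩ := parts_fixed C (one_mem T) hF
    (fun z _ => by rw [Subgroup.mem_centralizer_singleton_iff]; group) (fun a _ h0 => h0) (fun a _ h0 => h0)
    hu hk hkc hb hg
  have hU : ∀ z ∈ RGD.Sup X (RGD.Pos cs h), α z = z → z ∈ E1 cs h e := by
    obtain ⟨w₀, hw₀⟩ := Cfsg.Agent.Nodes.Sys.exists_longest cs h
    intro z hz hz1
    refine hα.NW_fix S hG1 w₀⁻¹ (RGD.Sup_mono (fun x hx => ?_) hz) hz1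
    exact ⟨hx.1, hx.2, hw₀ x hx.1 hx.2⟩
  refine mul_mem (mul_mem (hU u (CS_le_Sup _ hu) h1) ?_) (hU b (NW_le_U (CS_le_Sup _ hb)) h3)
  obtain ⟨g, hg, hr⟩ := exists_rp_closure (cs := cs) (hN := R.nsys) w
  have hgE : g ∈ E1 cs h e := by
    have h4 : Subgroup.closure (Set.range n) ≤ E1 cs h e := by
      rw [Subgroup.closure_le]
      rintro _ ⟨i, rfl⟩
      show n i ∈ E1 cs h e
      rw [S.n_eq, nel_def]
      exact mul_mem (mul_mem (e1_mem (isRoot_sr cs h i)) (e1_mem (isRoot_sr cs h i).neg)) (e1_mem (isRoot_sr cs h i))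
    exact h4 hg
  have h5 := hr.unique hk
  have h6 : g⁻¹ * k = 1 := hα.T_fix S hG1 hN h5 (by
    rw [map_mul, map_inv, h2, (hα.E1_le hgE : α g = g)])
  rw [← inv_mul_eq_one.1 h6]
  exact hgE

end

/-! ### rank one identities -/

/-- `a = x(1) x₋(ζ²) x(1)` -/
def al (e : (I → ℤ) → K → Y) (ζ : K) (j : I) : Y := e (sr j) 1 * e (-sr j) (ζ ^ 2) * e (sr j) 1

/-- `x = x(1) x₋(1)` -/
def xl (e : (I → ℤ) → K → Y) (j : I) : Y := e (sr j) 1 * e (-sr j) 1

section

variable [Finite W] {R : RGD cs h p T n X} (S : Sys R e) (hG1 : RGD.Sup X {x | IsRoot cs h x} = ⊤)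
  (hN : NoCent cs h T X) {α : MulAut Y} (hα : Frb cs h e α) {ζ : K} (hζ : ζ ^ 2 = ζ + 1)

include S

theorem al_mem (ζ : K) (j : I) : al e ζ j ∈ SS X j :=
  mul_mem (mul_mem (e_mem S j _) (e_neg_mem S j _)) (e_mem S j _)

theorem xl_mem (j : I) : xl e j ∈ SS X j := mul_mem (e_mem S j _) (e_neg_mem S j _)

theorem al_sq (ζ : K) (j : I) : al e ζ j * al e ζ j = 1 := by
  have hr := isRoot_sr cs h j
  unfold al
  calc e (sr j) 1 * e (-sr j) (ζ ^ 2) * e (sr j) 1 * (e (sr j) 1 * e (-sr j) (ζ ^ 2) * e (sr j) 1)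
      = e (sr j) 1 * e (-sr j) (ζ ^ 2) * (e (sr j) 1 * e (sr j) 1) * e (-sr j) (ζ ^ 2) * e (sr j) 1 := by group
    _ = e (sr j) 1 * (e (-sr j) (ζ ^ 2) * e (-sr j) (ζ ^ 2)) * e (sr j) 1 := by rw [S.data.sq hr]; group
    _ = 1 := by rw [S.data.sq hr.neg, mul_one, S.data.sq hr]

include hζ in
theorem al_nel (j : I) : al e ζ j * nel e (sr j) = e (sr j) 1 * e (-sr j) ζ * e (sr j) 1 := by
  have hr := isRoot_sr cs h j
  have h1 : ζ ^ 2 + 1 = ζ := by rw [hζ, add_assoc, S.data.two, add_zero]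
  rw [nel_def]
  unfold al
  calc e (sr j) 1 * e (-sr j) (ζ ^ 2) * e (sr j) 1 * (e (sr j) 1 * e (-sr j) 1 * e (sr j) 1)
      = e (sr j) 1 * e (-sr j) (ζ ^ 2) * (e (sr j) 1 * e (sr j) 1) * e (-sr j) 1 * e (sr j) 1 := by group
    _ = e (sr j) 1 * (e (-sr j) (ζ ^ 2) * e (-sr j) 1) * e (sr j) 1 := by rw [S.data.sq hr]; group
    _ = _ := by rw [← S.data.add _ hr.neg, h1]

include hζ in
theorem nel_al (j : I) : nel e (sr j) * al e ζ j = e (sr j) 1 * e (-sr j) ζ * e (sr j) 1 := by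
  have hr := isRoot_sr cs h j
  have h1 : 1 + ζ ^ 2 = ζ := by rw [hζ, add_comm, add_assoc, S.data.two, add_zero]
  rw [nel_def]
  unfold al
  calc e (sr j) 1 * e (-sr j) 1 * e (sr j) 1 * (e (sr j) 1 * e (-sr j) (ζ ^ 2) * e (sr j) 1)
      = e (sr j) 1 * e (-sr j) 1 * (e (sr j) 1 * e (sr j) 1) * e (-sr j) (ζ ^ 2) * e (sr j) 1 := by group
    _ = e (sr j) 1 * (e (-sr j) 1 * e (-sr j) (ζ ^ 2)) * e (sr j) 1 := by rw [S.data.sq hr]; group
    _ = _ := by rw [← S.data.add _ hr.neg, h1]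

include hα hζ in
theorem map_al (j : I) : α (al e ζ j) = al e ζ j * nel e (sr j) := by
  have hr := isRoot_sr cs h j
  rw [al_nel S hζ]
  unfold al
  rw [map_mul, map_mul, hα.map _ hr, hα.map _ hr.neg, one_pow, ← pow_mul, hα.four]

include hG1 hN hζ in
theorem al_xl (j : I) : al e ζ j * xl e j * al e ζ j = hel e (sr j) ζ := by
  have hr := isRoot_sr cs h j
  have h0 : ζ ≠ 0 := by
    rintro rfl
    rw [zero_pow two_ne_zero, zero_add] at hζ
    exact zero_ne_one hζ
  have h3 : ζ ^ 2 * ζ = 1 := by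
    have h4 : (2 : K) = 0 := by
      have := S.data.two (1 : K)
      rwa [one_add_one_eq_two] at this
    linear_combination (ζ + 1) * hζ + ζ * h4
  have h2 : ζ ^ 2 ≠ 0 := pow_ne_zero 2 h0
  have hi1 : (ζ ^ 2)⁻¹ = ζ := inv_eq_of_mul_eq_one_right h3
  have hi2 : ζ⁻¹ = ζ ^ 2 := inv_eq_of_mul_eq_one_left h3
  have h1 : ζ ^ 2 + 1 = ζ := by rw [hζ, add_assoc, S.data.two, add_zero]
  have h5 : ζ ^ 2 + ζ = 1 := by rw [hζ, add_comm, ← add_assoc, S.data.two, zero_add]
  -- the torus element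
  obtain ⟨t, ht⟩ : ∃ t, t = nc e (sr j) (ζ ^ 2) * nc e (sr j) ζ := ⟨_, rfl⟩
  have ht1 : t = hel e (sr j) ζ := by
    have e1 : ∀ c, nc e (sr j) c = hel e (sr j) c * nel e (sr j) := by
      intro c
      rw [hel_def, mul_assoc, nel_mul_nel S hr, mul_one]
    have e2 : nc e (sr j) ζ = nel e (sr j) * hel e (sr j) ζ⁻¹ := by
      rw [e1, ← inv_inv ζ, ← nel_hel S hG1 hN hr (inv_ne_zero h0), inv_inv]
    rw [ht, e1, e2, mul_assoc, ← mul_assoc (nel e (sr j)) (nel e (sr j)), nel_mul_nel S hr, one_mul,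
      hel_mul S hG1 hN hr h2 (inv_ne_zero h0), hi2]
    congr 1
    linear_combination ζ * h3
  have ht2 : t = e (sr j) (ζ ^ 2) * e (-sr j) ζ * e (sr j) 1 * e (-sr j) (ζ ^ 2) * e (sr j) ζ := by
    rw [ht, nc_def, nc_def, hi1, hi2]
    calc e (sr j) (ζ ^ 2) * e (-sr j) ζ * e (sr j) (ζ ^ 2) * (e (sr j) ζ * e (-sr j) (ζ ^ 2) * e (sr j) ζ)
        = e (sr j) (ζ ^ 2) * e (-sr j) ζ * (e (sr j) (ζ ^ 2) * e (sr j) ζ) * e (-sr j) (ζ ^ 2) * e (sr j) ζ := by group
      _ = _ := by rw [← S.data.add _ hr, h5]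
  have ht3 : t * e (sr j) (ζ ^ 2) = e (sr j) ζ * t := by
    have h6 := S.data.hel_conj hr hr h0 (ζ ^ 2)
    rw [cpr_self cs h hr, ← ht1] at h6
    have h7 : ζ ^ (2 : ℤ) * ζ ^ 2 = ζ := by
      have : ζ ^ (2 : ℤ) = ζ ^ 2 := by norm_cast
      rw [this]
      linear_combination ζ * h3
    rw [h7] at h6
    exact mul_inv_eq_iff_eq_mul.1 h6
  rw [← ht1]
  unfold al xl
  have h8 : e (sr j) 1 = e (sr j) ζ * e (sr j) (ζ ^ 2) := by rw [← S.data.add _ hr, add_comm, h5]
  have h9 : e (sr j) 1 = e (sr j) ζ * e (sr j) (ζ ^ 2) := h8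
  calc e (sr j) 1 * e (-sr j) (ζ ^ 2) * e (sr j) 1 * (e (sr j) 1 * e (-sr j) 1) *
        (e (sr j) 1 * e (-sr j) (ζ ^ 2) * e (sr j) 1)
      = e (sr j) 1 * e (-sr j) (ζ ^ 2) * (e (sr j) 1 * e (sr j) 1) * e (-sr j) 1 *
        e (sr j) 1 * e (-sr j) (ζ ^ 2) * e (sr j) 1 := by group
    _ = e (sr j) 1 * (e (-sr j) (ζ ^ 2) * e (-sr j) 1) * e (sr j) 1 * e (-sr j) (ζ ^ 2) * e (sr j) 1 := by
        rw [S.data.sq hr]; group
    _ = e (sr j) 1 * e (-sr j) ζ * e (sr j) 1 * e (-sr j) (ζ ^ 2) * e (sr j) 1 := by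
        rw [← S.data.add _ hr.neg, h1]
    _ = (e (sr j) ζ * e (sr j) (ζ ^ 2)) * e (-sr j) ζ * e (sr j) 1 * e (-sr j) (ζ ^ 2) *
        (e (sr j) ζ * e (sr j) (ζ ^ 2)) := by rw [← h8]
    _ = e (sr j) ζ * (e (sr j) (ζ ^ 2) * e (-sr j) ζ * e (sr j) 1 * e (-sr j) (ζ ^ 2) * e (sr j) ζ) *
        e (sr j) (ζ ^ 2) := by group
    _ = e (sr j) ζ * (t * e (sr j) (ζ ^ 2)) := by rw [← ht2, mul_assoc]
    _ = e (sr j) ζ * e (sr j) ζ * t := by rw [ht3, mul_assoc]
    _ = t := by rw [S.data.sq hr, one_mul]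

end

/-! ### The products -/

/-- abstract conjugation step -/
theorem conj_fix {α : MulAut Y} {a v z : Y} (hv : v * v = 1) (hav : a * v = v * a) (hαa : α a = a * v)
    (hz : α z = z) (hzv : z * v = v * z) : α (a * z * a) = a * z * a := by
  rw [map_mul, map_mul, hαa, hz]
  calc a * v * z * (a * v) = a * (v * z) * (a * v) := by group
    _ = a * (z * v) * (v * a) := by rw [hzv, hav]
    _ = a * z * (v * v) * a := by group
    _ = a * z * a := by rw [hv, mul_one]

theorem conj_comm {a z s : Y} (ha : a * a = 1) (hz : z * s = s * z) :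
    (a * z * a) * (a * s * a) = (a * s * a) * (a * z * a) := by
  calc (a * z * a) * (a * s * a) = a * z * (a * a) * s * a := by group
    _ = a * (z * s) * a := by rw [ha]; group
    _ = a * (s * z) * a := by rw [hz]
    _ = a * s * (a * a) * z * a := by rw [ha]; group
    _ = (a * s * a) * (a * z * a) := by group

section

variable [Finite W] [Finite Y] [Finite K] {R : RGD cs h 2 T n X} (S : Sys R e) {J : List I} (hJ : Orth cs h J)
  (hG1 : RGD.Sup X {x | IsRoot cs h x} = ⊤) (hN : NoCent cs h T X) {α : MulAut Y} (hα : Frb cs h e α) {ζ : K}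
  (hζ : ζ ^ 2 = ζ + 1)

omit [Finite Y] [Finite K] in
include S hJ in
theorem alJ_sq (ζ : K) : pr J (al e ζ) * pr J (al e ζ) = 1 := by
  rw [pr_mul hJ.nodup (commL S hJ (fun j _ => al_mem S ζ j) fun j _ => al_mem S ζ j),
    pr_congr (g := fun _ => 1) fun j _ => al_sq S ζ j, pr_one]

omit [Finite Y] [Finite K] in
include S hJ hζ in
theorem alJ_nJ : pr J (al e ζ) * pr J (fun j => nel e (sr j)) = pr J (fun j => nel e (sr j)) * pr J (al e ζ) := by
  rw [pr_mul hJ.nodup (commL S hJ (fun j _ => al_mem S ζ j) fun j _ => nel_mem S j),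
    pr_mul hJ.nodup (commL S hJ (fun j _ => nel_mem S j) fun j _ => al_mem S ζ j)]
  exact pr_congr fun j _ => by rw [al_nel S hζ, nel_al S hζ]

omit [Finite Y] [Finite K] in
include S hJ hα hζ in
theorem map_alJ : α (pr J (al e ζ)) = pr J (al e ζ) * pr J (fun j => nel e (sr j)) := by
  rw [pr_mul hJ.nodup (commL S hJ (fun j _ => al_mem S ζ j) fun j _ => nel_mem S j)]
  exact (pr_map α.toMonoidHom J _).trans (pr_congr fun j _ => map_al S hα hζ j)

omit [Finite Y] [Finite K] in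
include hα in
theorem map_nJ : α (pr J (fun j => nel e (sr j))) = pr J (fun j => nel e (sr j)) :=
  (pr_map α.toMonoidHom J _).trans (pr_congr fun j _ => hα.nel j)

omit [Finite Y] [Finite K] in
include S hJ hG1 hN hζ in
theorem alJ_xlJ : pr J (al e ζ) * pr J (xl e) * pr J (al e ζ) = pr J (fun j => hel e (sr j) ζ) := by
  rw [pr_mul hJ.nodup (commL S hJ (fun j _ => al_mem S ζ j) fun j _ => xl_mem S j),
    pr_mul hJ.nodup (commL S hJ (fun j _ => mul_mem (al_mem S ζ j) (xl_mem S j)) fun j _ => al_mem S ζ j)]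
  exact pr_congr fun j _ => al_xl S hG1 hN hζ j

omit [Finite Y] [Finite K] in
include hα S hJ hG1 hN in
theorem map_tJ (hζ0 : ζ ≠ 0) (hζ3 : ζ ^ 2 = ζ⁻¹) :
    α (pr J (fun j => hel e (sr j) ζ)) = (pr J (fun j => hel e (sr j) ζ))⁻¹ := by
  rw [tJ_inv S hJ hG1 hN hζ0]
  refine (pr_map α.toMonoidHom J _).trans (pr_congr fun j _ => ?_)
  show α (hel e (sr j) ζ) = _
  have h4 : ζ⁻¹ ^ 2 = (ζ ^ 2)⁻¹ := by rw [inv_pow]
  rw [hel_def, hel_def, map_mul, hα.nel, nc_def, nc_def, map_mul, map_mul, hα.map _ (isRoot_sr cs h j),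
    hα.map _ (isRoot_sr cs h j).neg, h4, hζ3]

include S hJ hG1 hN hα hζ in
/-- **`q = 2`: in the fixed points of `α`, `C(nJ) ∩ C(xJ)` has no nontrivial normal 2-subgroup.** -/
theorem o2_two {N : Subgroup Y} (hNp : IsPGroup 2 N)
    (hNH : N ≤ FixA α ⊓ (Subgroup.centralizer {pr J fun j => nel e (sr j)} ⊓ Subgroup.centralizer {pr J (xl e)}))
    (hn : ∀ g ∈ FixA α ⊓ (Subgroup.centralizer {pr J fun j => nel e (sr j)} ⊓ Subgroup.centralizer {pr J (xl e)}),
      ∀ z ∈ N, g * z * g⁻¹ ∈ N) : N = ⊥ := by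
  have : Fact (Nat.Prime 2) := ⟨Nat.prime_two⟩
  have hζ0 : ζ ≠ 0 := by
    rintro rfl
    rw [zero_pow two_ne_zero, zero_add] at hζ
    exact zero_ne_one hζ
  have h2K : (2 : K) = 0 := by
    have := S.data.two (1 : K)
    rwa [one_add_one_eq_two] at this
  have hζ3 : ζ ^ 3 = 1 := by linear_combination (ζ + 1) * hζ + ζ * h2K
  have hζ1 : ζ ≠ 1 := by
    rintro rfl
    have : (1 : K) = 0 := by linear_combination -hζ
    exact one_ne_zero this
  have hζi : ζ ^ 2 = ζ⁻¹ := eq_inv_of_mul_eq_one_left (by linear_combination hζ3)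
  have hc2 : ζ ^ (2 : ℤ) ≠ 1 := by
    intro h0
    have h1 : ζ ^ 2 = 1 := by exact_mod_cast h0
    exact hζ0 (by linear_combination h1 - hζ)
  set v : Y := pr J fun j => nel e (sr j) with hv
  set t : Y := pr J fun j => hel e (sr j) ζ with ht
  set a : Y := pr J (al e ζ) with ha
  set x : Y := pr J (xl e) with hx
  have ha2 : a * a = 1 := alJ_sq S hJ ζ
  have hv2 : v * v = 1 := nJ_sq S hJ
  have hav : a * v = v * a := alJ_nJ S hJ hζ
  have hαa : α a = a * v := map_alJ S hJ hα hζ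
  have hαv : α v = v := map_nJ hα
  have haxa : a * x * a = t := alJ_xlJ S hJ hG1 hN hζ
  have hαt : α t = t⁻¹ := map_tJ S hJ hG1 hN hα hζ0 hζi
  have hvt : v * t * v⁻¹ = t⁻¹ := by
    rw [hv, ht, nJ_tJ S hJ hG1 hN hζ0, tJ_inv S hJ hG1 hN hζ0]
  have hata : a * t * a = x := by
    rw [← haxa]
    calc a * (a * x * a) * a = (a * a) * x * (a * a) := by group
      _ = x := by rw [ha2, one_mul, mul_one]
  have C := coords S hG1
  have htT : t ∈ T := tJ_mem S hG1 hζ0 J
  have hF := hα.frA S hG1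
  -- admissibility
  have hcen : ∀ z ∈ Subgroup.centralizer {t}, MulAut.conj v z ∈ Subgroup.centralizer {t} := by
    intro z hz
    rw [Subgroup.mem_centralizer_singleton_iff] at hz ⊢
    rw [MulAut.conj_apply]
    have h1 : Commute (v * z * v⁻¹) t⁻¹ := by
      rw [← hvt]
      show v * z * v⁻¹ * (v * t * v⁻¹) = v * t * v⁻¹ * (v * z * v⁻¹)
      calc v * z * v⁻¹ * (v * t * v⁻¹) = v * (z * t) * v⁻¹ := by group
        _ = v * (t * z) * v⁻¹ := by rw [hz]
        _ = v * t * v⁻¹ * (v * z * v⁻¹) := by group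
    exact (Commute.inv_right_iff.1 h1).eq
  have hA : Adm2 R (chS e) t (⊤ ⊓ FixA (MulAut.conj v)) := by
    refine Adm2.fix C htT (frA_conj (nJ_rp S J)) hcen ?_ ?_ (Adm2.top C htT) (fun _ _ => Subgroup.mem_top _) ⟨1, ?_⟩
    · intro a ha h0
      exact nonneg_conv hJ ha.1 (fun j hj h1 => sr_not_mem_Sx S hJ hG1 hζ0 hc2 hj (h1 ▸ ha)) h0
    · intro a ha h0
      exact nonpos_conv hJ ha.1 (fun j hj h1 => neg_sr_not_mem_Sx S hJ hG1 hζ0 hc2 hj (h1 ▸ ha)) h0
    · intro z _
      rw [pow_one, pow_two, ← map_mul, hv2, map_one, MulAut.one_apply]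
  have hfix : ∀ z, z ∈ (⊤ : Subgroup Y) ⊓ FixA (MulAut.conj v) ↔ z * v = v * z := by
    intro z
    rw [top_inf_eq, mem_FixA, MulAut.conj_apply, mul_inv_eq_iff_eq_mul]
    exact eq_comm
  have hα2 : ∀ z, α (α z) = z := by
    intro z
    have h1 : (RGD.Sup X {x | IsRoot cs h x}) ≤ FixA (α * α) := by
      refine RGD.Sup_le fun y hy u hu => ?_
      obtain ⟨c, rfl⟩ := (S.mem_X y hy u).1 hu
      show α (α (e y c)) = e y c
      rw [hα.map y hy, hα.map y hy, ← pow_mul, hα.four]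
    rw [hG1] at h1
    exact h1 (Subgroup.mem_top z)
  have hB : Adm2 R (chS e) t ((⊤ ⊓ FixA (MulAut.conj v)) ⊓ FixA α) := by
    refine Adm2.fix C htT hF ?_ (fun _ _ h0 => h0) (fun _ _ h0 => h0) hA ?_ ⟨1, ?_⟩
    · intro z hz
      rw [Subgroup.mem_centralizer_singleton_iff] at hz ⊢
      have h1 : Commute (α z) t⁻¹ := by
        rw [← hαt]
        show α z * α t = α t * α z
        rw [← map_mul, ← map_mul, hz]
      exact (Commute.inv_right_iff.1 h1).eq
    · intro z hz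
      rw [hfix] at hz ⊢
      have h1 := congrArg α hz
      rwa [map_mul, map_mul, hαv] at h1
    · intro z _
      rw [pow_one, pow_two, MulAut.mul_apply, hα2]
  -- conjugation by `a`
  have key : ∀ z s, z ∈ FixA α → z * v = v * z → z * s = s * z →
      α (a * z * a) = a * z * a ∧ (a * z * a) * v = v * (a * z * a) ∧ (a * z * a) * (a * s * a) = (a * s * a) * (a * z * a) := by
    intro z s h1 h2 h3
    refine ⟨conj_fix hv2 hav hαa h1 h2, ?_, conj_comm ha2 h3⟩
    calc a * z * a * v = a * z * (a * v) := by group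
      _ = a * (z * v) * a := by rw [hav]; group
      _ = a * (v * z) * a := by rw [h2]
      _ = (a * v) * z * a := by group
      _ = v * (a * z * a) := by rw [hav]; group
  have hconj : ∀ z : Y, MulAut.conj a z = a * z * a := by
    intro z
    rw [MulAut.conj_apply, inv_eq_of_mul_eq_one_right ha2]
  have h0 : N.map (MulAut.conj a).toMonoidHom = ⊥ := by
    refine hB.eq_bot C htT (chAdd S) Nat.prime_three (by norm_num) ?_ (GG_eq_top (T := T) hG1) (hNp.map _) ?_ ?_
    · intro b hb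
      rw [ht, chi_tJ S hG1 hb hζ0, ← zpow_natCast, ← zpow_mul, mul_comm, zpow_mul, zpow_natCast, hζ3, one_zpow]
    · rintro _ ⟨z, hz, rfl⟩
      obtain ⟨h1, h2, h3⟩ := hNH hz
      obtain ⟨h4, h5, h6⟩ := key z x h1 (Subgroup.mem_centralizer_singleton_iff.1 h2)
        (Subgroup.mem_centralizer_singleton_iff.1 h3)
      rw [haxa] at h6
      show MulAut.conj a z ∈ _
      rw [hconj]
      exact ⟨⟨(hfix _).2 h5, h4⟩, Subgroup.mem_centralizer_singleton_iff.2 h6⟩
    · rintro g ⟨⟨h1, h2⟩, h3⟩ _ ⟨z, hz, rfl⟩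
      have h1' := (hfix g).1 h1
      obtain ⟨h4, h5, h6⟩ := key g t h2 h1' (Subgroup.mem_centralizer_singleton_iff.1 h3)
      rw [hata] at h6
      have h7 := hn (a * g * a) ⟨h4, Subgroup.mem_centralizer_singleton_iff.2 h5,
        Subgroup.mem_centralizer_singleton_iff.2 h6⟩ z hz
      refine ⟨_, h7, ?_⟩
      show MulAut.conj a _ = g * MulAut.conj a z * g⁻¹
      have hai : a⁻¹ = a := inv_eq_of_mul_eq_one_right ha2
      rw [hconj, hconj]
      calc a * (a * g * a * z * (a * g * a)⁻¹) * a = (a * a) * g * (a * z * a⁻¹) * g⁻¹ * (a⁻¹ * a) := by group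
        _ = g * (a * z * a) * g⁻¹ := by rw [ha2, hai, ha2, one_mul, mul_one]
  rw [Subgroup.map_eq_bot_iff_of_injective _ (MulEquiv.injective _)] at h0
  exact h0

end

end Cfsg.Agent.H737.SK.Gen
end

-- part: H737/SK/GoodTwo
section
/-!
# S3010, characteristic two, `q = 2`: the involutions `∏ e (sr j) 1` are good (helper737)
-/

set_option autoImplicit false
set_option linter.unusedSectionVars false

namespace Cfsg.Agent.H737.SK.Gen

open CoxeterSystem Cfsg.Agent.ChevalleyStructure.CoxeterGeom Cfsg.Agent.Tits.Roots Cfsg.Agent.Tits.Core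
  Cfsg.Agent.Tits.Exchange Cfsg.Agent.Nodes.Reps Cfsg.Agent.Nodes.BNOf Cfsg.Agent.Nodes.StabComb
  Cfsg.Agent.Nodes.Bruhat Cfsg.Agent.Nodes.OppDec Cfsg.Agent.Nodes.LeviDec Cfsg.Agent.Nodes.NormalForm
  Cfsg.Agent.Nodes.Coroot Cfsg.Agent.Nodes.Comb
  Cfsg.Agent.KFacts.RgdField Cfsg.Agent.BpExc.TorCent Cfsg.Agent.KFacts.RgdOpp Cfsg.Agent.KFacts.RgdCent
  Cfsg.Agent.KFacts.ChevTwo Cfsg.Agent.KFacts.RgdSys Cfsg.Agent.H737.SK.O2 Cfsg.Agent.H282.SK
  Cfsg.Agent.KFacts.RgdRigid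

variable {I W Y K : Type*} [Fintype I] [DecidableEq I] [Group W] [Group Y] [Field K] {M : CoxeterMatrix I}
variable {cs : CoxeterSystem M W} {A : I → I → ℤ} {h : IsCartan M A} {e : (I → ℤ) → K → Y}
  {T : Subgroup Y} {n : I → Y} {X : (I → ℤ) → Subgroup Y}
variable {Y' K' : Type*} [Group Y'] [Field K'] {e' : (I → ℤ) → K' → Y'}
  {T' : Subgroup Y'} {n' : I → Y'} {X' : (I → ℤ) → Subgroup Y'}

/-- `xl` is inverted by `nel` -/
theorem nJ_xlJ [Finite W] {R : RGD cs h 2 T n X} (S : Sys R e) {J : List I} (hJ : Orth cs h J) :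
    pr J (fun j => nel e (sr j)) * pr J (xl e) * (pr J fun j => nel e (sr j))⁻¹ = (pr J (xl e))⁻¹ := by
  rw [pr_conj hJ.nodup (commL S hJ (fun j _ => nel_mem S j) fun j _ => xl_mem S j)
    (commL S hJ (fun j _ => nel_mem S j) fun j _ => nel_mem S j),
    pr_inv hJ.nodup (commL S hJ (fun j _ => xl_mem S j) fun j _ => xl_mem S j)]
  refine pr_congr fun j _ => ?_
  have hr := isRoot_sr cs h j
  have h1 := S.data.refl j _ hr 1
  have h2 := S.data.refl j _ hr.neg 1
  rw [rep_simple_sr] at h1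
  rw [map_neg, rep_simple_sr, neg_neg] at h2
  unfold xl
  rw [mul_inv_rev, S.data.inv hr, S.data.inv hr.neg]
  calc nel e (sr j) * (e (sr j) 1 * e (-sr j) 1) * (nel e (sr j))⁻¹ =
      (nel e (sr j) * e (sr j) 1 * (nel e (sr j))⁻¹) * (nel e (sr j) * e (-sr j) 1 * (nel e (sr j))⁻¹) := by group
    _ = _ := by rw [h1, h2]

/-- **`q = 2`: `∏ e (sr j) 1` is good, given the condition on outer automorphisms.** `Y` is the group over the field
of two elements, `Y'` the group over the field of four elements. -/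
theorem good_two [Finite W] [Finite Y'] [Finite K'] {R : RGD cs h 2 T n X} (S : Sys R e) {J : List I}
    (hJ : Orth cs h J) {R' : RGD cs h 2 T' n' X'} (S' : Sys R' e') (hG1 : RGD.Sup X' {x | IsRoot cs h x} = ⊤)
    (hN : NoCent cs h T' X') {α : MulAut Y'} (hα : Frb cs h e' α) {ζ : K'} (hζ : ζ ^ 2 = ζ + 1)
    {f : Y →* Y'} (hf : Function.Injective f) (hfe : ∀ x, IsRoot cs h x → f (e x 1) = e' x 1)
    (hfα : ∀ y, α (f y) = f y)
    (hout : ∀ α : MulAut Y, α * α = 1 → α (pr J fun j => nel e (sr j)) = pr J (fun j => nel e (sr j)) →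
      α (pr J (xl e)) = pr J (xl e) →
      (∀ z ∈ Subgroup.centralizer {pr J fun j => nel e (sr j)} ⊓ Subgroup.centralizer {pr J (xl e)}, α z = z) →
      ∃ g, α = MulAut.conj g) :
    _root_.Cfsg.Agent.H282.SK.Good (pr J fun j => e (sr j) 1) := by
  have hrange : ∀ y ∈ FixA α, ∃ x, f x = y := by
    intro y hy
    rw [hα.fix_eq S' hG1 hN] at hy
    have h1 : E1 cs h e' ≤ f.range := by
      unfold E1
      rw [Subgroup.closure_le]
      rintro _ ⟨x, hx, rfl⟩
      exact ⟨e x 1, hfe x hx⟩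
    exact h1 hy
  have hfn : ∀ j, f (nel e (sr j)) = nel e' (sr j) := by
    intro j
    rw [nel_def, nel_def, map_mul, map_mul, hfe _ (isRoot_sr cs h j), hfe _ (isRoot_sr cs h j).neg]
  have hfx : ∀ j, f (xl e j) = xl e' j := by
    intro j
    unfold xl
    rw [map_mul, hfe _ (isRoot_sr cs h j), hfe _ (isRoot_sr cs h j).neg]
  have hv : f (pr J fun j => nel e (sr j)) = pr J fun j => nel e' (sr j) := by
    rw [pr_map]; exact pr_congr fun j _ => hfn j
  have hx : f (pr J (xl e)) = pr J (xl e') := by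
    rw [pr_map]; exact pr_congr fun j _ => hfx j
  have h1 : _root_.Cfsg.Agent.H282.SK.Good (pr J fun j => nel e (sr j)) := by
    refine ⟨pr J (xl e), ?_, nJ_xlJ S hJ, ?_, hout⟩
    · -- the order is odd
      have hζ0 : ζ ≠ 0 := by
        rintro rfl
        rw [zero_pow two_ne_zero, zero_add] at hζ
        exact zero_ne_one hζ
      have h2K : (2 : K') = 0 := by
        have := S'.data.two (1 : K')
        rwa [one_add_one_eq_two] at this
      have hζ3 : ζ ^ 3 = 1 := by linear_combination (ζ + 1) * hζ + ζ * h2K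
      have h2 : (pr J (xl e')) ^ 3 = 1 := by
        have h3 := alJ_xlJ S' hJ hG1 hN hζ
        have h4 := alJ_sq S' hJ ζ
        have h5 : (pr J (al e' ζ))⁻¹ = pr J (al e' ζ) := inv_eq_of_mul_eq_one_right h4
        have h6 : pr J (xl e') = pr J (al e' ζ) * pr J (fun j => hel e' (sr j) ζ) * (pr J (al e' ζ))⁻¹ := by
          rw [← h3, h5]
          calc pr J (xl e') = (pr J (al e' ζ) * pr J (al e' ζ)) * pr J (xl e') * (pr J (al e' ζ) * pr J (al e' ζ)) := by
                rw [h4, one_mul, mul_one]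
            _ = _ := by group
        rw [h6, conj_pow, tJ_pow S' hJ hG1 hN hζ0, hζ3,
          pr_congr (g := fun _ => 1) fun j _ => hel_one S' hG1 hN j, pr_one, mul_one, mul_inv_cancel]
      have h3 : (pr J (xl e)) ^ 3 = 1 := by
        apply hf
        rw [map_pow, hx, h2, map_one]
      exact Odd.of_dvd_nat (by decide) (orderOf_dvd_of_pow_eq_one h3)
    · intro N hNp hNc hNn
      have h2 : N.map f = ⊥ := by
        refine o2_two S' hJ hG1 hN hα hζ (hNp.map f) ?_ ?_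
        · rintro _ ⟨z, hz, rfl⟩
          obtain ⟨h2, h3⟩ := mem_cc.1 (hNc hz)
          refine ⟨hfα z, Subgroup.mem_centralizer_singleton_iff.2 ?_, Subgroup.mem_centralizer_singleton_iff.2 ?_⟩
          · rw [← hv, ← map_mul, ← map_mul, h2]
          · rw [← hx, ← map_mul, ← map_mul, h3]
        · rintro g ⟨h2, h3, h4⟩ _ ⟨z, hz, rfl⟩
          obtain ⟨g, rfl⟩ := hrange g h2
          refine ⟨g * z * g⁻¹, hNn g (mem_cc.2 ⟨hf ?_, hf ?_⟩) z hz, by rw [map_mul, map_mul, map_inv]⟩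
          · rw [map_mul, map_mul, hv]
            exact Subgroup.mem_centralizer_singleton_iff.1 h3
          · rw [map_mul, map_mul, hx]
            exact Subgroup.mem_centralizer_singleton_iff.1 h4
      rwa [Subgroup.map_eq_bot_iff_of_injective _ hf] at h2
  have h2 := h1.conj (pr J (fun j => e (sr j) 1 * nel e (sr j)))⁻¹
  have h3 := nJ_conj S hJ
  rw [h3] at h2
  have h4 : ∀ a b : Y, a⁻¹ * (a * b * a⁻¹) * a⁻¹⁻¹ = b := fun a b => by group
  rwa [h4] at h2

/-- `X b ≤ C(nJ) ∩ C(xJ)` for `b` orthogonal to `J`. -/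
theorem perp_le_xl [Finite W] {R : RGD cs h 2 T n X} (S : Sys R e) {J : List I}
    {b : I → ℤ} (hb : IsRoot cs h b) (hbJ : ∀ j ∈ J, cpr cs h b (sr j) = 0) :
    X b ≤ Subgroup.centralizer {pr J fun j => nel e (sr j)} ⊓ Subgroup.centralizer {pr J (xl e)} := by
  intro z hz
  rw [Subgroup.mem_inf, Subgroup.mem_centralizer_singleton_iff, Subgroup.mem_centralizer_singleton_iff]
  exact ⟨(perp_comm S hb hbJ hz fun j _ => nel_mem S j).eq, (perp_comm S hb hbJ hz fun j _ => xl_mem S j).eq⟩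

end Cfsg.Agent.H737.SK.Gen
end

private theorem dce_ac42028c69ef : _root_.True := by
  try have : _root_.True := by simp only [_root_.Cfsg.Agent.H737.SK.Gen.xl.congr_simp]
  try have : _root_.True := by simp only [_root_.Cfsg.Agent.H737.SK.Gen.al.congr_simp]
  exact _root_.True.intro
end

-- part: H737/SK/TwE6El
section
prune_inst 0x42010400000000000180000a00000041c00009210608c008c0102400200234024008100040000134002220800000020001000500000000000000000000104010008100400400008000000000080000000000000000000000000000000000000200000000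
set_option linter.all false
open scoped Cfsg.Agent.FastGrp

namespace Cfsg.Agent.H90F

private noncomputable def frc {α : Type} (x : ℕ) (f : ℕ → α) : α := Nat.rec (f 0) (fun k _ => f (Nat.succ k)) x

private theorem frc_eq {α : Type} (x : ℕ) (f : ℕ → α) : frc x f = f x := by cases x <;> rfl

private noncomputable def nth {α : Type} (d : α) (l : List α) : ℕ → α :=
  List.rec (fun _ => d) (fun a _ ih n => Nat.rec a (fun k _ => ih k) n) l

private theorem nth_eq {α : Type} (d : α) (l : List α) (n : ℕ) : nth d l n = l.getD n d := by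
  induction l generalizing n with
  | nil => rfl
  | cons a l ih => cases n with
    | zero => rfl
    | succ k => exact ih k

private theorem nth_arr {α : Type} (d : α) (a : Array α) (n : ℕ) : a.getD n d = nth d a.toList n := by
  rw [nth_eq, List.getD_eq_getElem?_getD, Array.getD_eq_getD_getElem?, Array.getElem?_toList]

private noncomputable def row (D : Cfsg.Lie.ChevalleyDatum) (r : ℕ) : List (ℕ × Array (ℕ × ℤ)) := (nth #[] D.chain.toList r).toList

private noncomputable def fnd (s : ℕ) (l : List (ℕ × Array (ℕ × ℤ))) : List (ℕ × ℤ) :=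
  List.rec [] (fun e _ ih => Bool.rec ih e.2.toList (Nat.beq e.1 s)) l

private theorem ce_eq0 (D : Cfsg.Lie.ChevalleyDatum) (r s : ℕ) : D.chainEntry r s = fnd s (row D r) := by
  unfold Cfsg.Lie.ChevalleyDatum.chainEntry row
  rw [nth_arr]
  generalize (nth #[] D.chain.toList r).toList = l
  induction l with
  | nil => rfl
  | cons e l ih =>
    show _ = (Bool.rec (fnd s l) e.2.toList (Nat.beq e.1 s) : List (ℕ × ℤ))
    by_cases h : e.1 = s
    · rw [List.find?_cons_of_pos (by simpa using h), Nat.beq_eq.mpr h]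
    · rw [List.find?_cons_of_neg (by simpa using h), ih, Bool.eq_false_iff.2 fun h1 => h (Nat.eq_of_beq_eq_true h1)]

private noncomputable def fce (D : Cfsg.Lie.ChevalleyDatum) (r s : ℕ) : List (ℕ × ℤ) := frc r fun r => frc s fun s => fnd s (row D r)

private theorem ce_eq (D : Cfsg.Lie.ChevalleyDatum) : D.chainEntry = fce D := by
  funext r s
  rw [fce, frc_eq, frc_eq, ce_eq0]

private noncomputable def fcr (D : Cfsg.Lie.ChevalleyDatum) (r s i : ℕ) : Option ℕ := ((fce D r s)[i - 1]?).map Prod.fst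

private theorem cr_eq (D : Cfsg.Lie.ChevalleyDatum) : D.chainRoot = fcr D := by
  funext r s i
  rw [fcr, ← ce_eq]; rfl

private noncomputable def fng (D : Cfsg.Lie.ChevalleyDatum) (r : ℕ) : ℕ := frc r (nth 0 D.negIdx.toList)

private theorem ng_eq (D : Cfsg.Lie.ChevalleyDatum) : D.neg = fng D := by
  funext r
  rw [fng, frc_eq]
  exact nth_arr _ _ _

private noncomputable def fsi (D : Cfsg.Lie.ChevalleyDatum) (i : ℕ) : ℕ := frc i (nth 0 D.simpleIdx.toList)

private theorem si_eq (D : Cfsg.Lie.ChevalleyDatum) : D.simple = fsi D := by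
  funext r
  rw [fsi, frc_eq]
  exact nth_arr _ _ _

private noncomputable def fca (D : Cfsg.Lie.ChevalleyDatum) (i s : ℕ) : ℤ :=
  frc i fun i => frc s (nth 0 (nth #[] D.cartanSR.toList i).toList)

private theorem ca_eq (D : Cfsg.Lie.ChevalleyDatum) : D.cartan = fca D := by
  funext i s
  rw [fca, frc_eq, frc_eq, ← nth_arr, ← nth_arr]
  rfl

private noncomputable def frr (D : Cfsg.Lie.ChevalleyDatum) (i s : ℕ) : ℕ :=
  frc i fun i => frc s fun s => frc (fsi D i) fun p => frc (fng D p) fun q =>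
    Bool.rec (Bool.rec
      (Int.rec (fun a => Nat.rec s (fun k _ => (fcr D q s (Nat.succ k)).getD s) a)
        (fun k => (fcr D p s (Nat.succ k)).getD s) (fca D i s))
      p (Nat.beq s q)) q (Nat.beq s p)

private theorem rr_eq (D : Cfsg.Lie.ChevalleyDatum) : D.reflectRoot = frr D := by
  funext i s
  rw [frr, frc_eq, frc_eq, frc_eq, frc_eq, ← cr_eq, ← ng_eq, ← si_eq, ← ca_eq]
  unfold Cfsg.Lie.ChevalleyDatum.reflectRoot
  dsimp only
  by_cases h1 : s = D.simple i
  · rw [if_pos h1, Nat.beq_eq.mpr h1]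
  rw [if_neg h1, Bool.eq_false_iff.2 fun h => h1 (Nat.eq_of_beq_eq_true h)]
  by_cases h2 : s = D.neg (D.simple i)
  · rw [if_pos h2, Nat.beq_eq.mpr h2]
  rw [if_neg h2, Bool.eq_false_iff.2 fun h => h2 (Nat.eq_of_beq_eq_true h)]
  generalize D.cartan i s = A
  rcases A with (_ | k) | k
  · rfl
  · exact if_pos (Int.ofNat_succ_pos k)
  · rw [if_neg (Int.negSucc_lt_zero k).not_gt, if_pos (Int.negSucc_lt_zero k)]; rfl

private theorem rr_fun : Cfsg.Lie.ChevalleyDatum.reflectRoot = frr := funext rr_eq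

private theorem si_fun : Cfsg.Lie.ChevalleyDatum.simple = fsi := funext si_eq

private theorem ca_fun : Cfsg.Lie.ChevalleyDatum.cartan = fca := funext ca_eq

private noncomputable def dOf {P : Prop} (b : Bool) (h : b = true ↔ P) : Decidable P :=
  Bool.rec (motive := fun c => b = c → Decidable P) (fun e => isFalse fun hp => Bool.noConfusion (e.symm.trans (h.2 hp)))
    (fun e => isTrue (h.1 e)) b rfl

private noncomputable def flt (n : ℕ) (p : ∀ k, k < n → Bool) (m : ℕ) : Bool :=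
  Nat.rec true (fun k ih => Bool.rec false ih
    (Bool.rec (motive := fun b => Nat.ble (Nat.succ k) n = b → Bool) (fun _ => true)
      (fun h => p k (Nat.le_of_ble_eq_true h)) (Nat.ble (Nat.succ k) n) rfl)) m

private theorem flt_one (n : ℕ) (p : ∀ k, k < n → Bool) (k : ℕ) (b : Bool) (e : Nat.ble (Nat.succ k) n = b) :
    (Bool.rec (motive := fun b => Nat.ble (Nat.succ k) n = b → Bool) (fun _ => true)
      (fun h => p k (Nat.le_of_ble_eq_true h)) b e : Bool) = true ↔ ∀ h, p k h = true := by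
  cases b
  · exact ⟨fun _ h => absurd (Nat.ble_eq_true_of_le h) (by rw [e]; exact Bool.false_ne_true), fun _ => rfl⟩
  · exact ⟨fun h _ => h, fun h => h _⟩

private theorem flt_iff (n : ℕ) (p : ∀ k, k < n → Bool) (m : ℕ) :
    flt n p m = true ↔ ∀ k, k < m → ∀ h, p k h = true := by
  induction m with
  | zero => exact ⟨fun _ k h => absurd h (Nat.not_lt_zero k), fun _ => rfl⟩
  | succ m ih =>
    have e : ∀ a b : Bool, (Bool.rec false a b : Bool) = true ↔ b = true ∧ a = true := by decide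
    refine (e _ _).trans ((and_congr (flt_one n p m _ rfl) ih).trans ⟨fun h k hk => ?_, fun h => ⟨h m (Nat.lt_succ_self m), fun k hk => h k (Nat.lt_succ_of_lt hk)⟩⟩)
    rcases Nat.lt_succ_iff_lt_or_eq.1 hk with h1 | h1
    · exact h.2 k h1
    · exact h1 ▸ h.1

private noncomputable def fff {n : ℕ} (P : Fin n → Prop) [H : DecidablePred P] : Decidable (∀ i, P i) :=
  dOf (flt n (fun k h => @decide _ (H ⟨k, h⟩)) n)
    ((flt_iff _ _ _).trans ⟨fun h k => of_decide_eq_true (h k.1 k.2 k.2), fun h k _ hk => decide_eq_true (h ⟨k, hk⟩)⟩)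

private theorem ff_fun : @Nat.decidableForallFin = @fff := by
  funext n P H; exact Subsingleton.elim _ _

private noncomputable def flb {α : Type} (e : α → α → Bool) (l : List α) : List α → Bool :=
  List.rec (motive := fun _ => List α → Bool) (fun m => List.rec true (fun _ _ _ => false) m)
    (fun a _ ih m => List.rec false (fun b m _ => Bool.rec false (ih m) (e a b)) m) l

private theorem fle_iff {α : Type} [H : DecidableEq α] (l m : List α) :
    flb (fun a b => @decide _ (H a b)) l m = true ↔ l = m := by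
  induction l generalizing m with
  | nil =>
    cases m with
    | nil => exact ⟨fun _ => rfl, fun _ => rfl⟩
    | cons b m => exact ⟨fun h => Bool.noConfusion h, fun h => nomatch h⟩
  | cons a l ih =>
    cases m with
    | nil => exact ⟨fun h => Bool.noConfusion h, fun h => nomatch h⟩
    | cons b m =>
      have e : ∀ a b : Bool, (Bool.rec false a b : Bool) = true ↔ b = true ∧ a = true := by decide
      exact (e _ _).trans ((and_congr decide_eq_true_iff (ih m)).trans List.cons_eq_cons.symm)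

private theorem le_fun : @instDecidableEqList.{0} =
    fun α H l m => dOf (flb (fun a b => @decide _ (H a b)) l m) (@fle_iff α H l m) := by
  funext α H l m; exact Subsingleton.elim _ _

private noncomputable def fvc {α : Type} {n : ℕ} (h : α) (t : Fin n → α) (i : Fin n.succ) : α :=
  Nat.rec (motive := fun k => k < n.succ → α) (fun _ => h) (fun k _ hk => t ⟨k, Nat.lt_of_succ_lt_succ hk⟩) i.1 i.2

private theorem vc_fun : @Matrix.vecCons.{0} = @fvc := by
  funext α n h t i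
  rcases i with ⟨_ | k, hk⟩ <;> rfl

private noncomputable def fsm {ι M : Type} [AddCommMonoid M] (s : Finset ι) (f : ι → M) : M :=
  Quot.lift (fun l : List ι => (List.rec 0 (fun a _ ih => f a + ih) l : M)) (fun l l' h => by
    have e : ∀ l : List ι, (List.rec 0 (fun a _ ih => f a + ih) l : M) = (l.map f).sum := fun l => by
      induction l with
      | nil => rfl
      | cons a l ih => rw [List.map_cons, List.sum_cons, ← ih]
    rw [e, e]; exact (h.map f).sum_eq) s.1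

private theorem sm_fun : @Finset.sum.{0, 0} = @fsm := by
  funext ι M _ s f
  rcases s with ⟨m, hm⟩
  induction m using Quot.inductionOn with
  | h l =>
    show (l.map f).sum = (List.rec 0 (fun a _ ih => f a + ih) l : M)
    clear hm
    induction l with
    | nil => rfl
    | cons a l ih => rw [List.map_cons, List.sum_cons, ih]

private noncomputable def fmp {α β : Type} (f : α → β) (l : List α) : List β := List.rec [] (fun a _ ih => f a :: ih) l

private theorem mp_fun : @List.map.{0, 0} = @fmp := by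
  funext α β f l
  induction l with
  | nil => rfl
  | cons a l ih => rw [List.map_cons, ih]; rfl

private noncomputable def ffr {α β : Type} (f : α → β → β) (b : β) (l : List α) : β := List.rec b (fun a _ ih => f a ih) l

private theorem fr_fun : @List.foldr.{0, 0} = @ffr := by
  funext α β f b l
  induction l with
  | nil => rfl
  | cons a l ih => rw [List.foldr_cons, ih]; rfl

private theorem dn_fun : instDecidableEqNat = fun a b => dOf (Nat.beq a b) Nat.beq_eq.to_iff := by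
  funext a b; exact Subsingleton.elim _ _

private noncomputable def ibq (a b : ℤ) : Bool :=
  Int.rec (fun m => Int.rec (fun n => Nat.beq m n) (fun _ => false) b) (fun m => Int.rec (fun _ => false) (fun n => Nat.beq m n) b) a

private theorem ibq_iff (a b : ℤ) : ibq a b = true ↔ a = b := by
  rcases a with m | m <;> rcases b with n | n
  · exact Nat.beq_eq.to_iff.trans ⟨fun h => h ▸ rfl, Int.ofNat.inj⟩
  · exact ⟨fun h => Bool.noConfusion h, fun h => nomatch h⟩
  · exact ⟨fun h => Bool.noConfusion h, fun h => nomatch h⟩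
  · exact Nat.beq_eq.to_iff.trans ⟨fun h => h ▸ rfl, Int.negSucc.inj⟩

private theorem dz_fun : Int.instDecidableEq = fun a b => dOf (ibq a b) (ibq_iff a b) := by
  funext a b; exact Subsingleton.elim _ _

private theorem fq_fun : instDecidableEqFin = fun _ a b => dOf (Nat.beq a.1 b.1) (Nat.beq_eq.to_iff.trans Fin.ext_iff.symm) := by
  funext n a b; exact Subsingleton.elim _ _

end Cfsg.Agent.H90F

-- part: H737/SK/Gra
section
/-!
# S3010, characteristic two: graph automorphisms (helper737)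

`Gra cs h e γ σ` : `γ (e x a) = e (x ∘ σ) a`, `σ` an involutory diagram symmetry.

* `Gra.frA` : `γ` is a frame automorphism;
* `o2_big_gra`, `o2_two_gra` : `C(v) ∩ C(x) ∩ Fix γ` has no nontrivial normal 2-subgroup.
-/

set_option autoImplicit false
set_option linter.unusedSectionVars false

namespace Cfsg.Agent.H737.SK.Gen

open CoxeterSystem Cfsg.Agent.ChevalleyStructure.CoxeterGeom Cfsg.Agent.Tits.Roots Cfsg.Agent.Tits.Core
  Cfsg.Agent.Tits.Exchange Cfsg.Agent.Nodes.Reps Cfsg.Agent.Nodes.BNOf Cfsg.Agent.Nodes.StabComb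
  Cfsg.Agent.Nodes.Bruhat Cfsg.Agent.Nodes.OppDec Cfsg.Agent.Nodes.LeviDec Cfsg.Agent.Nodes.NormalForm
  Cfsg.Agent.Nodes.Coroot Cfsg.Agent.Nodes.Comb
  Cfsg.Agent.KFacts.RgdField Cfsg.Agent.BpExc.TorCent Cfsg.Agent.KFacts.RgdOpp Cfsg.Agent.KFacts.RgdCent
  Cfsg.Agent.KFacts.ChevTwo Cfsg.Agent.KFacts.RgdSys Cfsg.Agent.H737.SK.O2 Cfsg.Agent.H282.SK
  Cfsg.Agent.KFacts.RgdRigid

variable {I W Y K : Type*} [Fintype I] [DecidableEq I] [Group W] [Group Y] [Field K] {M : CoxeterMatrix I}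
variable {cs : CoxeterSystem M W} {A : I → I → ℤ} {h : IsCartan M A} {e : (I → ℤ) → K → Y}
  {p : ℕ} {T : Subgroup Y} {n : I → Y} {X : (I → ℤ) → Subgroup Y}

/-- the standard graph automorphism -/
structure Gra (cs : CoxeterSystem M W) (h : IsCartan M A) (e : (I → ℤ) → K → Y) (γ : MulAut Y) (σ : I → I) :
    Prop where
  invol : ∀ i, σ (σ i) = i
  cart : ∀ i j, A (σ i) (σ j) = A i j
  map : ∀ x, IsRoot cs h x → ∀ a, γ (e x a) = e (fun i => x (σ i)) a

theorem sr_comp {σ : I → I} (hσ : ∀ i, σ (σ i) = i) (i : I) : (fun k => (sr i : I → ℤ) (σ k)) = sr (σ i) := by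
  funext k
  by_cases hk : σ k = i
  · have : k = σ i := by rw [← hk, hσ]
    subst this
    rw [hk, sr_self, sr_self]
  · rw [sr_ne hk, sr_ne fun h0 => hk (by rw [h0, hσ])]

theorem pairing_comp {σ : I → I} (hσ : ∀ i, σ (σ i) = i) (hA : ∀ i j, A (σ i) (σ j) = A i j) (i : I) (x : I → ℤ) :
    pairing A (σ i) (fun k => x (σ k)) = pairing A i x := by
  unfold pairing
  refine Finset.sum_bij' (fun k _ => σ k) (fun k _ => σ k) (fun _ _ => Finset.mem_univ _)
    (fun _ _ => Finset.mem_univ _) (fun k _ => hσ k) (fun k _ => hσ k) fun k _ => ?_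
  have h1 := hA i (σ k)
  rw [hσ] at h1
  rw [h1]

theorem rep_comp {σ : I → I} (hσ : ∀ i, σ (σ i) = i) (hA : ∀ i j, A (σ i) (σ j) = A i j) (ω : List I) (x : I → ℤ) :
    rep cs h (cs.wordProd (ω.map σ)) (fun k => x (σ k)) = fun k => rep cs h (cs.wordProd ω) x (σ k) := by
  induction ω with
  | nil => rw [List.map_nil, wordProd_nil, map_one, Module.End.one_apply, Module.End.one_apply]
  | cons i ω ih =>
    rw [List.map_cons, wordProd_cons, wordProd_cons, rep_mul_apply, rep_mul_apply, ih, rep_simple_eq, rep_simple_eq,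
      pairing_comp hσ hA, ← sr_comp hσ]
    rfl

section

variable [Finite W] {R : RGD cs h p T n X} (S : Sys R e) {γ : MulAut Y} {σ : I → I} (hγ : Gra cs h e γ σ)

include hγ

theorem Gra.root {x : I → ℤ} (hx : IsRoot cs h x) : IsRoot cs h (fun k => x (σ k)) := by
  obtain ⟨w, i, rfl⟩ := hx
  obtain ⟨ω, rfl⟩ := cs.wordProd_surjective w
  rw [← rep_comp hγ.invol hγ.cart, sr_comp hγ.invol]
  exact (isRoot_sr cs h _).act _

theorem Gra.nel (j : I) : γ (nel e (sr j)) = nel e (sr (σ j)) := by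
  rw [nel_def, nel_def, map_mul, map_mul, hγ.map _ (isRoot_sr cs h j), hγ.map _ (isRoot_sr cs h j).neg,
    sr_comp hγ.invol]
  have : (fun k => (-sr j : I → ℤ) (σ k)) = -sr (σ j) := by
    rw [← sr_comp hγ.invol]; rfl
  rw [this]

theorem Gra.nc (j : I) (c : K) : γ (nc e (sr j) c) = nc e (sr (σ j)) c := by
  rw [nc_def, nc_def, map_mul, map_mul, hγ.map _ (isRoot_sr cs h j), hγ.map _ (isRoot_sr cs h j).neg,
    sr_comp hγ.invol]
  have : (fun k => (-sr j : I → ℤ) (σ k)) = -sr (σ j) := by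
    rw [← sr_comp hγ.invol]; rfl
  rw [this]

theorem Gra.hel (j : I) (c : K) : γ (hel e (sr j) c) = hel e (sr (σ j)) c := by
  rw [hel_def, hel_def, map_mul, hγ.nc, hγ.nel]

include S in
theorem Gra.map_T (hG1 : RGD.Sup X {x | IsRoot cs h x} = ⊤) {t : Y} (ht : t ∈ T) : γ t ∈ T := by
  refine mem_T_of_norm S hG1 fun r hr => ?_
  obtain ⟨χ, hχ⟩ := S.chi t ht
  refine ⟨((χ (fun k => r (σ k))).toMul : Kˣ), Units.ne_zero _, fun a => ?_⟩
  have h1 := congrArg γ (hχ _ (hγ.root hr) a)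
  have h2 : (fun k => (fun k => r (σ k)) (σ k)) = r := by
    funext k
    show r (σ (σ k)) = r k
    rw [hγ.invol]
  rw [map_mul, map_mul, map_inv, hγ.map _ (hγ.root hr), hγ.map _ (hγ.root hr), h2] at h1
  exact h1

/-- the permutation of the Weyl group -/
noncomputable def th (cs : CoxeterSystem M W) (σ : I → I) (w : W) : W :=
  cs.wordProd ((cs.wordProd_surjective w).choose.map σ)

omit hγ in
theorem th_spec (σ : I → I) (w : W) : ∃ ω, cs.wordProd ω = w ∧ th cs σ w = cs.wordProd (ω.map σ) :=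
  ⟨_, (cs.wordProd_surjective w).choose_spec, rfl⟩

include S in
theorem Gra.frA (hG1 : RGD.Sup X {x | IsRoot cs h x} = ⊤) : FrA R γ (fun x k => x (σ k)) (th cs σ) where
  root _ ha := hγ.root ha
  map a ha z hz := by
    obtain ⟨c, rfl⟩ := (S.mem_X a ha z).1 hz
    rw [hγ.map a ha]
    exact S.mem (hγ.root ha) _
  rp w k hk := by
    obtain ⟨ω, hω, h1⟩ := th_spec (cs := cs) σ w
    rw [h1]
    subst hω
    have key : ∀ ω : List I, Rp cs R.nsys (cs.wordProd ω) (pr ω fun j => KFacts.ChevTwo.nel e (sr j)) ∧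
        γ (pr ω fun j => KFacts.ChevTwo.nel e (sr j)) = pr (ω.map σ) fun j => KFacts.ChevTwo.nel e (sr j) := by
      intro ω
      refine ⟨nJ_rp S ω, ?_⟩
      unfold pr
      rw [map_list_prod, List.map_map, List.map_map]
      congr 1
      exact List.map_congr_left fun j _ => hγ.nel j
    obtain ⟨h2, h3⟩ := key ω
    have h4 : k = (pr ω fun j => KFacts.ChevTwo.nel e (sr j)) * ((pr ω fun j => KFacts.ChevTwo.nel e (sr j))⁻¹ * k) := by group
    rw [h4, map_mul, h3]
    exact (nJ_rp S (ω.map σ)).mul_mem_right (hγ.map_T S hG1 (h2.unique hk))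
  rep' w a ha := by
    obtain ⟨ω, hω, h1⟩ := th_spec (cs := cs) σ w
    rw [h1, rep_comp hγ.invol hγ.cart, hω]
  neg a := rfl

omit hγ S in
/-- products over permuted lists -/
theorem pr_perm {J J' : List I} (hp : J'.Perm J) {f : I → Y} (hc : CommL J f f) : pr J' f = pr J f := by
  unfold pr
  refine List.Perm.prod_eq' (hp.map f) ?_
  rw [List.pairwise_map]
  have h1 : ∀ i ∈ J', ∀ j ∈ J', Commute (f i) (f j) := by
    intro i hi j hj
    by_cases hij : i = j
    · rw [hij]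
    · exact hc i (hp.subset hi) j (hp.subset hj) hij
  exact List.pairwise_iff_forall_sublist.2 fun {a b} hab =>
    h1 a (hab.subset (by simp)) b (hab.subset (by simp))

include S in
theorem Gra.pr {J : List I} (hJ : Orth cs h J) (hJσ : (J.map σ).Perm J) {f : I → Y} (hf : ∀ j ∈ J, f j ∈ SS X j)
    (hfγ : ∀ j, γ (f j) = f (σ j)) : γ (pr J f) = pr J f := by
  have h1 : γ (Gen.pr J f) = Gen.pr (J.map σ) f := by
    unfold Gen.pr
    rw [map_list_prod, List.map_map, List.map_map]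
    congr 1
    exact List.map_congr_left fun j _ => hfγ j
  rw [h1]
  exact pr_perm hJσ (commL S hJ hf hf)

end

/-! ### Admissibility -/

section

variable [Finite W] [Finite Y] [Finite K] {R : RGD cs h 2 T n X} (S : Sys R e) {J : List I} (hJ : Orth cs h J)
  (hG1 : RGD.Sup X {x | IsRoot cs h x} = ⊤) (hN : NoCent cs h T X)

theorem cent_of_inv {φ : MulAut Y} {t : Y} (ht : φ t = t⁻¹ ∨ φ t = t) {z : Y} (hz : z ∈ Subgroup.centralizer {t}) :
    φ z ∈ Subgroup.centralizer {t} := by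
  rw [Subgroup.mem_centralizer_singleton_iff] at hz ⊢
  have h1 : φ z * φ t = φ t * φ z := by rw [← map_mul, ← map_mul, hz]
  rcases ht with ht | ht
  · rw [ht] at h1
    have h2 : Commute (φ z) t⁻¹ := h1
    exact (Commute.inv_right_iff.1 h2).eq
  · rwa [ht] at h1

omit [Finite W] [Finite Y] [Finite K] in
theorem mem_top_fix {v z : Y} : z ∈ (⊤ : Subgroup Y) ⊓ FixA (MulAut.conj v) ↔ z * v = v * z := by
  rw [top_inf_eq, mem_FixA, MulAut.conj_apply, mul_inv_eq_iff_eq_mul]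
  exact eq_comm

include S hJ hG1 hN

theorem adm_v {c : K} (hc : c ≠ 0) (hc2 : c ^ (2 : ℤ) ≠ 1) :
    Adm2 R (chS e) (pr J fun j => hel e (sr j) c) (⊤ ⊓ FixA (MulAut.conj (pr J fun j => nel e (sr j)))) := by
  have : Fact (Nat.Prime 2) := ⟨Nat.prime_two⟩
  have C := coords S hG1
  have htT := tJ_mem S hG1 hc J
  have hvt : MulAut.conj (pr J fun j => nel e (sr j)) (pr J fun j => hel e (sr j) c) =
      (pr J fun j => hel e (sr j) c)⁻¹ := by
    rw [MulAut.conj_apply, nJ_tJ S hJ hG1 hN hc, tJ_inv S hJ hG1 hN hc]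
  refine Adm2.fix C htT (frA_conj (nJ_rp S J)) (fun z hz => cent_of_inv (Or.inl hvt) hz) ?_ ?_ (Adm2.top C htT)
    (fun _ _ => Subgroup.mem_top _) ⟨1, ?_⟩
  · intro a ha h0
    exact nonneg_conv hJ ha.1 (fun j hj h1 => sr_not_mem_Sx S hJ hG1 hc hc2 hj (h1 ▸ ha)) h0
  · intro a ha h0
    exact nonpos_conv hJ ha.1 (fun j hj h1 => neg_sr_not_mem_Sx S hJ hG1 hc hc2 hj (h1 ▸ ha)) h0
  · intro z _
    rw [pow_one, pow_two, ← map_mul, nJ_sq S hJ, map_one, MulAut.one_apply]

omit [Finite Y] [Finite K] hN in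
/-- automorphisms of order 2 -/
theorem Gra.sq {γ : MulAut Y} {σ : I → I} (hγ : Gra cs h e γ σ) : γ * γ = 1 := by
  have h1 : (RGD.Sup X {x | IsRoot cs h x}) ≤ FixA (γ * γ) := by
    refine RGD.Sup_le fun y hy u hu => ?_
    obtain ⟨c, rfl⟩ := (S.mem_X y hy u).1 hu
    show γ (γ (e y c)) = e y c
    rw [hγ.map y hy, hγ.map _ (hγ.root hy)]
    congr 1
    funext k
    show y (σ (σ k)) = y k
    rw [hγ.invol]
  rw [hG1] at h1
  exact MulEquiv.ext fun z => h1 (Subgroup.mem_top z)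

/-- adding a graph automorphism -/
theorem adm_gra {γ : MulAut Y} {σ : I → I} (hγ : Gra cs h e γ σ) (hJσ : (J.map σ).Perm J) {c : K} (hc : c ≠ 0)
    {L : Subgroup Y} (hL : Adm2 R (chS e) (pr J fun j => hel e (sr j) c) L) (hγL : ∀ z ∈ L, γ z ∈ L) :
    Adm2 R (chS e) (pr J fun j => hel e (sr j) c) (L ⊓ FixA γ) := by
  have : Fact (Nat.Prime 2) := ⟨Nat.prime_two⟩
  have C := coords S hG1
  have htT := tJ_mem S hG1 hc J
  have hγt : γ (pr J fun j => hel e (sr j) c) = pr J fun j => hel e (sr j) c :=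
    hγ.pr S hJ hJσ (fun j _ => hel_memS S j c) fun j => hγ.hel j c
  refine Adm2.fix C htT (hγ.frA S hG1) (fun z hz => cent_of_inv (Or.inr hγt) hz) ?_ ?_ hL hγL ⟨1, ?_⟩
  · intro a _ h0 k
    exact h0 (σ k)
  · intro a _ h0 k
    exact h0 (σ k)
  · intro z _
    rw [pow_one, pow_two, Gra.sq S hJ hG1 hγ, MulAut.one_apply]

/-- **`q ≥ 4`: `C(nJ) ∩ C(tJ) ∩ Fix γ` has no nontrivial normal 2-subgroup.** -/
theorem o2_big_gra {γ : MulAut Y} {σ : I → I} (hγ : Gra cs h e γ σ) (hJσ : (J.map σ).Perm J) {l : ℕ} (hl : l.Prime)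
    (hl2 : l ≠ 2) {c : K} (hc : c ≠ 0) (hc1 : c ≠ 1) (hcl : c ^ l = 1) {N : Subgroup Y} (hNp : IsPGroup 2 N)
    (hNH : N ≤ Subgroup.centralizer {pr J fun j => nel e (sr j)} ⊓ Subgroup.centralizer {pr J fun j => hel e (sr j) c})
    (hNγ : ∀ z ∈ N, γ z = z)
    (hn : ∀ g ∈ Subgroup.centralizer {pr J fun j => nel e (sr j)} ⊓ Subgroup.centralizer {pr J fun j => hel e (sr j) c},
      γ g = g → ∀ z ∈ N, g * z * g⁻¹ ∈ N) : N = ⊥ := by
  have : Fact (Nat.Prime 2) := ⟨Nat.prime_two⟩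
  have C := coords S hG1
  have htT := tJ_mem S hG1 hc J
  have hc2 : c ^ (2 : ℤ) ≠ 1 := by
    intro h0
    have h1 : c ^ 2 = 1 := by exact_mod_cast h0
    exact hc1 (orderOf_eq_one_iff.1 (Nat.eq_one_of_dvd_coprimes ((Nat.coprime_primes hl Nat.prime_two).2 hl2)
      (orderOf_dvd_of_pow_eq_one hcl) (orderOf_dvd_of_pow_eq_one h1)))
  have hγv : γ (pr J fun j => nel e (sr j)) = pr J fun j => nel e (sr j) :=
    hγ.pr S hJ hJσ (fun j _ => nel_mem S j) fun j => hγ.nel j
  have hA := adm_gra S hJ hG1 hN hγ hJσ hc (adm_v S hJ hG1 hN hc hc2) fun z hz => by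
    rw [mem_top_fix] at hz ⊢
    have h1 := congrArg γ hz
    rwa [map_mul, map_mul, hγv] at h1
  refine hA.eq_bot C htT (chAdd S) hl hl2 ?_ (GG_eq_top (T := T) hG1) hNp (fun z hz => ?_) ?_
  · intro a ha
    rw [chi_tJ S hG1 ha hc, ← zpow_natCast, ← zpow_mul, mul_comm, zpow_mul, zpow_natCast, hcl, one_zpow]
  · obtain ⟨h1, h2⟩ := hNH hz
    exact ⟨⟨mem_top_fix.2 (Subgroup.mem_centralizer_singleton_iff.1 h1), hNγ z hz⟩, h2⟩
  · rintro g ⟨⟨h1, h2⟩, h3⟩ z hz
    exact hn g ⟨Subgroup.mem_centralizer_singleton_iff.2 (mem_top_fix.1 h1), h3⟩ h2 z hz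

/-- **`q = 2`: in the fixed points of `α` and `γ`, `C(nJ) ∩ C(xJ)` has no nontrivial normal 2-subgroup.** -/
theorem o2_two_gra {α : MulAut Y} (hα : Frb cs h e α) {ζ : K} (hζ : ζ ^ 2 = ζ + 1) {γ : MulAut Y} {σ : I → I}
    (hγ : Gra cs h e γ σ) (hJσ : (J.map σ).Perm J) {N : Subgroup Y} (hNp : IsPGroup 2 N)
    (hNH : N ≤ FixA α ⊓ (Subgroup.centralizer {pr J fun j => nel e (sr j)} ⊓ Subgroup.centralizer {pr J (xl e)}))
    (hNγ : ∀ z ∈ N, γ z = z)
    (hn : ∀ g ∈ FixA α ⊓ (Subgroup.centralizer {pr J fun j => nel e (sr j)} ⊓ Subgroup.centralizer {pr J (xl e)}),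
      γ g = g → ∀ z ∈ N, g * z * g⁻¹ ∈ N) : N = ⊥ := by
  have : Fact (Nat.Prime 2) := ⟨Nat.prime_two⟩
  have hζ0 : ζ ≠ 0 := by
    rintro rfl
    rw [zero_pow two_ne_zero, zero_add] at hζ
    exact zero_ne_one hζ
  have h2K : (2 : K) = 0 := by
    have := S.data.two (1 : K)
    rwa [one_add_one_eq_two] at this
  have hζ3 : ζ ^ 3 = 1 := by linear_combination (ζ + 1) * hζ + ζ * h2K
  have hζi : ζ ^ 2 = ζ⁻¹ := eq_inv_of_mul_eq_one_left (by linear_combination hζ3)
  have hc2 : ζ ^ (2 : ℤ) ≠ 1 := by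
    intro h0
    have h1 : ζ ^ 2 = 1 := by exact_mod_cast h0
    exact hζ0 (by linear_combination h1 - hζ)
  have hαt := map_tJ S hJ hG1 hN hα hζ0 hζi
  have hγv : γ (pr J fun j => nel e (sr j)) = pr J fun j => nel e (sr j) :=
    hγ.pr S hJ hJσ (fun j _ => nel_mem S j) fun j => hγ.nel j
  have hγa : γ (pr J (al e ζ)) = pr J (al e ζ) := by
    refine hγ.pr S hJ hJσ (fun j _ => al_mem S ζ j) fun j => ?_
    unfold al
    rw [map_mul, map_mul, hγ.map _ (isRoot_sr cs h j), hγ.map _ (isRoot_sr cs h j).neg, sr_comp hγ.invol]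
    have : (fun k => (-sr j : I → ℤ) (σ k)) = -sr (σ j) := by
      rw [← sr_comp hγ.invol]; rfl
    rw [this]
  set v : Y := pr J fun j => nel e (sr j) with hv
  set t : Y := pr J fun j => hel e (sr j) ζ with ht
  set a : Y := pr J (al e ζ) with ha
  set x : Y := pr J (xl e) with hx
  have ha2 : a * a = 1 := alJ_sq S hJ ζ
  have hv2 : v * v = 1 := nJ_sq S hJ
  have hav : a * v = v * a := alJ_nJ S hJ hζ
  have hαa : α a = a * v := map_alJ S hJ hα hζ
  have hαv : α v = v := map_nJ hα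
  have haxa : a * x * a = t := alJ_xlJ S hJ hG1 hN hζ
  have hata : a * t * a = x := by
    rw [← haxa]
    calc a * (a * x * a) * a = (a * a) * x * (a * a) := by group
      _ = x := by rw [ha2, one_mul, mul_one]
  have C := coords S hG1
  have htT : t ∈ T := tJ_mem S hG1 hζ0 J
  have hα2 : ∀ z, α (α z) = z := by
    intro z
    have h1 : (RGD.Sup X {x | IsRoot cs h x}) ≤ FixA (α * α) := by
      refine RGD.Sup_le fun y hy u hu => ?_
      obtain ⟨c, rfl⟩ := (S.mem_X y hy u).1 hu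
      show α (α (e y c)) = e y c
      rw [hα.map y hy, hα.map y hy, ← pow_mul, hα.four]
    rw [hG1] at h1
    exact h1 (Subgroup.mem_top z)
  have hαγ : ∀ z, α (γ z) = γ (α z) := by
    intro z
    have h1 : (RGD.Sup X {x | IsRoot cs h x}) ≤ FixA ((γ * α)⁻¹ * (α * γ)) := by
      refine RGD.Sup_le fun y hy u hu => ?_
      obtain ⟨c, rfl⟩ := (S.mem_X y hy u).1 hu
      have h2 : (α * γ) (e y c) = (γ * α) (e y c) := by
        show α (γ (e y c)) = γ (α (e y c))
        rw [hγ.map y hy, hα.map _ (hγ.root hy), hα.map y hy, hγ.map y hy]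
      show (γ * α)⁻¹ ((α * γ) (e y c)) = e y c
      rw [h2, MulAut.inv_apply_self]
    rw [hG1] at h1
    have h2 : (γ * α)⁻¹ ((α * γ) z) = z := h1 (Subgroup.mem_top z)
    have h3 := congrArg (γ * α) h2
    rwa [MulAut.apply_inv_self] at h3
  have hB : Adm2 R (chS e) t ((⊤ ⊓ FixA (MulAut.conj v)) ⊓ FixA α) := by
    refine Adm2.fix C htT (hα.frA S hG1) (fun z hz => cent_of_inv (Or.inl hαt) hz) (fun _ _ h0 => h0)
      (fun _ _ h0 => h0) (adm_v S hJ hG1 hN hζ0 hc2) ?_ ⟨1, ?_⟩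
    · intro z hz
      rw [mem_top_fix] at hz ⊢
      have h1 := congrArg α hz
      rwa [map_mul, map_mul, hαv] at h1
    · intro z _
      rw [pow_one, pow_two, MulAut.mul_apply, hα2]
  have hB' := adm_gra S hJ hG1 hN hγ hJσ hζ0 hB (by
    rintro z ⟨h1, h2⟩
    refine ⟨?_, ?_⟩
    · have h1' : z * v = v * z := mem_top_fix.1 h1
      have h3 := congrArg γ h1'
      rw [map_mul, map_mul, hγv] at h3
      exact mem_top_fix.2 h3
    · show α (γ z) = γ z
      rw [hαγ, (h2 : α z = z)])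
  -- conjugation by `a`
  have key : ∀ z s, z ∈ FixA α → z * v = v * z → z * s = s * z → γ z = z →
      α (a * z * a) = a * z * a ∧ (a * z * a) * v = v * (a * z * a) ∧
        (a * z * a) * (a * s * a) = (a * s * a) * (a * z * a) ∧ γ (a * z * a) = a * z * a := by
    intro z s h1 h2 h3 h4
    refine ⟨conj_fix hv2 hav hαa h1 h2, ?_, conj_comm ha2 h3, by rw [map_mul, map_mul, hγa, h4]⟩
    calc a * z * a * v = a * z * (a * v) := by group
      _ = a * (z * v) * a := by rw [hav]; group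
      _ = a * (v * z) * a := by rw [h2]
      _ = (a * v) * z * a := by group
      _ = v * (a * z * a) := by rw [hav]; group
  have hconj : ∀ z : Y, MulAut.conj a z = a * z * a := by
    intro z
    rw [MulAut.conj_apply, inv_eq_of_mul_eq_one_right ha2]
  have h0 : N.map (MulAut.conj a).toMonoidHom = ⊥ := by
    refine hB'.eq_bot C htT (chAdd S) Nat.prime_three (by norm_num) ?_ (GG_eq_top (T := T) hG1) (hNp.map _) ?_ ?_
    · intro b hb
      rw [ht, chi_tJ S hG1 hb hζ0, ← zpow_natCast, ← zpow_mul, mul_comm, zpow_mul, zpow_natCast, hζ3, one_zpow]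
    · rintro _ ⟨z, hz, rfl⟩
      obtain ⟨h1, h2, h3⟩ := hNH hz
      obtain ⟨h4, h5, h6, h7⟩ := key z x h1 (Subgroup.mem_centralizer_singleton_iff.1 h2)
        (Subgroup.mem_centralizer_singleton_iff.1 h3) (hNγ z hz)
      rw [haxa] at h6
      show MulAut.conj a z ∈ _
      rw [hconj]
      exact ⟨⟨⟨mem_top_fix.2 h5, h4⟩, h7⟩, Subgroup.mem_centralizer_singleton_iff.2 h6⟩
    · rintro g ⟨⟨⟨h1, h2⟩, h2'⟩, h3⟩ _ ⟨z, hz, rfl⟩
      have h1' : g * v = v * g := mem_top_fix.1 h1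
      obtain ⟨h4, h5, h6, h6'⟩ := key g t h2 h1' (Subgroup.mem_centralizer_singleton_iff.1 h3) h2'
      rw [hata] at h6
      have h7 := hn (a * g * a) ⟨h4, Subgroup.mem_centralizer_singleton_iff.2 h5,
        Subgroup.mem_centralizer_singleton_iff.2 h6⟩ h6' z hz
      refine ⟨_, h7, ?_⟩
      show MulAut.conj a _ = g * MulAut.conj a z * g⁻¹
      have hai : a⁻¹ = a := inv_eq_of_mul_eq_one_right ha2
      rw [hconj, hconj]
      calc a * (a * g * a * z * (a * g * a)⁻¹) * a = (a * a) * g * (a * z * a⁻¹) * g⁻¹ * (a⁻¹ * a) := by group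
        _ = g * (a * z * a) * g⁻¹ := by rw [ha2, hai, ha2, one_mul, mul_one]
  rw [Subgroup.map_eq_bot_iff_of_injective _ (MulEquiv.injective _)] at h0
  exact h0

end

end Cfsg.Agent.H737.SK.Gen
end

-- part: H297/SK/PB
section
/-!
# S3010 (Sidki pairs): involutions where the outer condition fails or needs a graph automorphism (helper297,
specification (E6-A) of helper737)
-/

set_option autoImplicit false
set_option linter.unusedVariables false

universe u v

open Subgroup Cfsg Cfsg.Agent.H282.SK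

namespace Cfsg.Agent.H297.SK

/-- data: an involution v, x inverted, the automorphism g, the group H of inner-diagonal automorphisms -/
structure PB {Y : Type*} [Group Y] (v x : Y) (g : MulAut Y) (H : Subgroup (MulAut Y)) : Prop where
  odd : Odd (orderOf x)
  inv : v * x * v⁻¹ = x⁻¹
  g2 : g * g = 1
  gv : g v = v
  gx : g x = x
  hN : ∀ N : Subgroup Y, IsPGroup 2 N → N ≤ centralizer {v} ⊓ centralizer {x} →
    (∀ k ∈ (centralizer {v} ⊓ centralizer {x} : Subgroup Y), ∀ z ∈ N, k * z * k⁻¹ ∈ N) → N = ⊥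
  hNg : ∀ N : Subgroup Y, IsPGroup 2 N → N ≤ centralizer {v} ⊓ centralizer {x} → (∀ z ∈ N, g z = z) →
    (∀ k ∈ (centralizer {v} ⊓ centralizer {x} : Subgroup Y), g k = k → ∀ z ∈ N, k * z * k⁻¹ ∈ N) → N = ⊥
  inn : ∀ k : Y, MulAut.conj k ∈ H
  cube : ∀ δ ∈ H, ∃ k : Y, δ ^ 3 = MulAut.conj k
  dich : ∀ α : MulAut Y, α * α = 1 → (∀ z ∈ (centralizer {v} ⊓ centralizer {x} : Subgroup Y), α z = z) →
    α ∈ H ∨ α * g ∈ H

section tools

variable {Y : Type*} [Group Y]

/-- a 2-element of `C` centralised by `D ≤ C`, with the hypothesis on normalised 2-subgroups -/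
theorem eq_one_of_sq {P : Y → Prop} {C : Subgroup Y} {k : Y} {n : ℕ} (hk : k ^ 2 ^ n = 1) (hkC : k ∈ C)
    (hP : ∀ N : Subgroup Y, IsPGroup 2 N → N ≤ C → N ≤ zpowers k → (∀ c, P c → ∀ z ∈ N, c * z * c⁻¹ ∈ N) → N = ⊥)
    (hc : ∀ c, P c → c * k = k * c) : k = 1 := by
  have h1 : zpowers k = ⊥ := by
    apply hP
    · rw [IsPGroup.iff_orderOf]
      rintro ⟨z, hz⟩
      have hz1 : z ^ 2 ^ n = 1 := by
        obtain ⟨i, rfl⟩ := mem_zpowers_iff.1 hz
        rw [← zpow_natCast, ← zpow_mul, mul_comm, zpow_mul, zpow_natCast, hk, one_zpow]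
      have hd : orderOf (⟨z, hz⟩ : zpowers k) ∣ 2 ^ n := by
        apply orderOf_dvd_of_pow_eq_one
        exact Subtype.ext hz1
      obtain ⟨m, -, hm⟩ := (Nat.dvd_prime_pow Nat.prime_two).1 hd
      exact ⟨m, hm⟩
    · exact (zpowers_le).2 hkC
    · exact le_rfl
    · intro c hcP z hz
      obtain ⟨i, rfl⟩ := mem_zpowers_iff.1 hz
      have h2 : Commute c k := hc c hcP
      have h3 : c * k ^ i * c⁻¹ = k ^ i := by
        rw [mul_inv_eq_iff_eq_mul]
        exact (h2.zpow_right i).eq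
      rw [h3]
      exact zpow_mem (mem_zpowers k) i
  exact (zpowers_eq_bot).1 h1

theorem conj_aut (α : MulAut Y) (k : Y) : α * MulAut.conj k * α⁻¹ = MulAut.conj (α k) := by
  apply MulEquiv.ext
  intro z
  simp only [MulAut.mul_apply, MulAut.conj_apply, map_mul, map_inv, MulAut.apply_inv_self]

end tools

variable {Y : Type*} [Group Y] {v x : Y} {g : MulAut Y} {H : Subgroup (MulAut Y)}

namespace PB

theorem hg (P : PB v x g H) (z : Y) : g (g z) = z := by
  have := congrArg (fun β : MulAut Y => β z) P.g2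
  simpa using this

theorem mem_map (P : PB v x g H) {z : Y} (hz : z ∈ (centralizer {v} ⊓ centralizer {x} : Subgroup Y)) :
    g z ∈ (centralizer {v} ⊓ centralizer {x} : Subgroup Y) := by
  obtain ⟨h1, h2⟩ := mem_cc.1 hz
  refine mem_cc.2 ⟨?_, ?_⟩
  · have := congrArg g h1
    rwa [map_mul, map_mul, P.gv] at this
  · have := congrArg g h2
    rwa [map_mul, map_mul, P.gx] at this

/-- a 2-element of `C` which is central in `C` is trivial -/
theorem one_of_central (P : PB v x g H) {k : Y} {n : ℕ} (hk : k ^ 2 ^ n = 1)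
    (hkC : k ∈ (centralizer {v} ⊓ centralizer {x} : Subgroup Y))
    (hc : ∀ c ∈ (centralizer {v} ⊓ centralizer {x} : Subgroup Y), c * k = k * c) : k = 1 :=
  eq_one_of_sq (P := fun c => c ∈ (centralizer {v} ⊓ centralizer {x} : Subgroup Y)) hk hkC
    (fun N h1 h2 _ h4 => P.hN N h1 h2 h4) hc

/-- if `α * g` is in `H` and `α` is trivial on `C`, `(α g)^3 = conj k` with `k ∈ C` -/
theorem mem_of_fix {k : Y} {δ : MulAut Y} (hk : δ = MulAut.conj k) (hv : δ v = v) (hx : δ x = x) :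
    k ∈ (centralizer {v} ⊓ centralizer {x} : Subgroup Y) := by
  subst hk
  rw [MulAut.conj_apply, mul_inv_eq_iff_eq_mul] at hv hx
  exact mem_cc.2 ⟨hv, hx⟩

theorem not_mem (P : PB v x g H) {α : MulAut Y} (h2 : α * α = 1) (hni : ¬ ∃ k, α = MulAut.conj k) : α ∉ H := by
  intro hα
  obtain ⟨k, hk⟩ := P.cube α hα
  exact hni ⟨k, by rw [← hk, pow_succ, pow_two, h2, one_mul]⟩

/-- **principle P**: a non-inner `α` of order 2 centralising `v`, `x`, `C` exists only if `g` is trivial on `C` -/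
theorem fix [Finite Y] (P : PB v x g H) (hZ : center Y = ⊥) {α : MulAut Y} (h2 : α * α = 1) (hv : α v = v)
    (hx : α x = x) (hC : ∀ z ∈ (centralizer {v} ⊓ centralizer {x} : Subgroup Y), α z = z)
    (hni : ¬ ∃ k, α = MulAut.conj k) :
    ∀ z ∈ (centralizer {v} ⊓ centralizer {x} : Subgroup Y), g z = z := by
  have hδ : α * g ∈ H := (P.dich α h2 hC).resolve_left (P.not_mem h2 hni)
  obtain ⟨k, hk⟩ := P.cube _ hδ
  have e1 : ∀ z ∈ (centralizer {v} ⊓ centralizer {x} : Subgroup Y), (α * g) z = g z := by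
    intro z hz
    rw [MulAut.mul_apply]
    exact hC _ (P.mem_map hz)
  have e3 : ∀ z ∈ (centralizer {v} ⊓ centralizer {x} : Subgroup Y), ((α * g) ^ 3) z = g z := by
    intro z hz
    rw [pow_succ, pow_two, MulAut.mul_apply, MulAut.mul_apply, e1 z hz, e1 _ (P.mem_map hz), P.hg, e1 z hz]
  have hkC : k ∈ (centralizer {v} ⊓ centralizer {x} : Subgroup Y) := by
    apply mem_of_fix hk
    · have h3 : (α * g) v = v := by rw [MulAut.mul_apply, P.gv, hv]
      rw [pow_succ, pow_two, MulAut.mul_apply, MulAut.mul_apply, h3, h3, h3]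
    · have h3 : (α * g) x = x := by rw [MulAut.mul_apply, P.gx, hx]
      rw [pow_succ, pow_two, MulAut.mul_apply, MulAut.mul_apply, h3, h3, h3]
  have e4 : ∀ z ∈ (centralizer {v} ⊓ centralizer {x} : Subgroup Y), k * z * k⁻¹ = g z := by
    intro z hz
    rw [← e3 z hz, hk, MulAut.conj_apply]
  -- the odd part
  obtain ⟨n, m, hm, hnm⟩ : ∃ n m : ℕ, Odd m ∧ orderOf (k * k) = 2 ^ n * m := by
    have h0 : orderOf (k * k) ≠ 0 := (orderOf_pos (k * k)).ne'
    obtain ⟨n, m, h1, h3⟩ := Nat.exists_eq_two_pow_mul_odd h0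
    exact ⟨n, m, h1, h3⟩
  have hkk : (k * k) ^ m = 1 := by
    apply P.one_of_central (n := n)
    · rw [← pow_mul, mul_comm, ← hnm, pow_orderOf_eq_one]
    · exact pow_mem (mul_mem hkC hkC) m
    · intro c hc
      have h3 : Commute c (k * k) := by
        have h4 : k * k * c * (k * k)⁻¹ = c := by
          have h5 : k * k * c * (k * k)⁻¹ = k * (k * c * k⁻¹) * k⁻¹ := by group
          rw [h5, e4 c hc, e4 _ (P.mem_map hc), P.hg]
        rw [mul_inv_eq_iff_eq_mul] at h4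
        exact h4.symm
      exact (h3.pow_right m).eq
  have e5 : ∀ z ∈ (centralizer {v} ⊓ centralizer {x} : Subgroup Y), k ^ m * z * (k ^ m)⁻¹ = g z := by
    intro z hz
    obtain ⟨j, rfl⟩ := hm
    have h6 : ∀ i : ℕ, (k * k) ^ i * z = z * (k * k) ^ i := by
      intro i
      have h4 : k * k * z * (k * k)⁻¹ = z := by
        have h5 : k * k * z * (k * k)⁻¹ = k * (k * z * k⁻¹) * k⁻¹ := by group
        rw [h5, e4 z hz, e4 _ (P.mem_map hz), P.hg]
      rw [mul_inv_eq_iff_eq_mul] at h4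
      have h3 : Commute (k * k) z := h4
      exact (h3.pow_left i).eq
    have h7 : k ^ (2 * j + 1) = k * (k * k) ^ j := by
      rw [pow_succ', pow_mul, pow_two]
    rw [h7, ← e4 z hz, mul_inv_rev, mul_assoc k, h6 j]
    group
  have hk' : k ^ m = 1 := by
    refine eq_one_of_sq (P := fun c => c ∈ (centralizer {v} ⊓ centralizer {x} : Subgroup Y) ∧ g c = c)
      (k := k ^ m) (n := 1) ?_ (pow_mem hkC m) ?_ ?_
    · rw [pow_one, ← pow_mul, mul_comm, pow_mul, pow_two, hkk]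
    · intro N h1 h3 h5 h4
      apply P.hNg N h1 h3
      · intro z hz
        obtain ⟨i, rfl⟩ := mem_zpowers_iff.1 (h5 hz)
        have h6 : (k ^ m) ^ i ∈ (centralizer {v} ⊓ centralizer {x} : Subgroup Y) := h3 hz
        rw [← e5 _ h6]
        group
      · intro c hc hgc z hz
        exact h4 c ⟨hc, hgc⟩ z hz
    · rintro c ⟨hc, hgc⟩
      have h3 := e5 c hc
      rw [hgc, mul_inv_eq_iff_eq_mul] at h3
      exact h3.symm
  intro z hz
  rw [← e5 z hz, hk']
  group

/-- hence `Good v` if `g` moves an element of `C` -/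
theorem good [Finite Y] (P : PB v x g H) (hZ : center Y = ⊥) {z : Y}
    (hz : z ∈ (centralizer {v} ⊓ centralizer {x} : Subgroup Y)) (hgz : g z ≠ z) : Good v := by
  refine ⟨x, P.odd, P.inv, P.hN, ?_⟩
  intro α h2 hv hx hC
  by_contra hni
  exact hgz (P.fix hZ h2 hv hx hC hni z hz)

end PB

/-- the hypothesis on 2-subgroups, conjugated by `c ∈ C(v)` -/
theorem hN_conj {v x : Y} (hN : ∀ N : Subgroup Y, IsPGroup 2 N → N ≤ centralizer {v} ⊓ centralizer {x} →
      (∀ k ∈ (centralizer {v} ⊓ centralizer {x} : Subgroup Y), ∀ z ∈ N, k * z * k⁻¹ ∈ N) → N = ⊥)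
    {c : Y} (hc : c * v = v * c) :
    ∀ N : Subgroup Y, IsPGroup 2 N → N ≤ centralizer {v} ⊓ centralizer {c * x * c⁻¹} →
      (∀ k ∈ (centralizer {v} ⊓ centralizer {c * x * c⁻¹} : Subgroup Y), ∀ z ∈ N, k * z * k⁻¹ ∈ N) → N = ⊥ := by
  intro N hNp hNc hNn
  have hv : ∀ z : Y, c * z * c⁻¹ * v = v * (c * z * c⁻¹) ↔ z * v = v * z := by
    intro z
    have hv' : c⁻¹ * v * c = v := by rw [mul_assoc, ← hc]; group
    constructor
    · intro h1
      calc z * v = z * (c⁻¹ * v * c) := by rw [hv']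
        _ = c⁻¹ * (c * z * c⁻¹ * v) * c := by group
        _ = c⁻¹ * (v * (c * z * c⁻¹)) * c := by rw [h1]
        _ = (c⁻¹ * v * c) * z := by group
        _ = v * z := by rw [hv']
    · intro h1
      have hv2 : c * v * c⁻¹ = v := by rw [hc]; group
      calc c * z * c⁻¹ * v = c * z * c⁻¹ * (c * v * c⁻¹) := by rw [hv2]
        _ = c * (z * v) * c⁻¹ := by group
        _ = c * (v * z) * c⁻¹ := by rw [h1]
        _ = (c * v * c⁻¹) * (c * z * c⁻¹) := by group
        _ = v * (c * z * c⁻¹) := by rw [hv2]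
  have hx : ∀ z : Y, c * z * c⁻¹ * (c * x * c⁻¹) = c * x * c⁻¹ * (c * z * c⁻¹) ↔ z * x = x * z := by
    intro z
    constructor
    · intro h1
      calc z * x = c⁻¹ * (c * z * c⁻¹ * (c * x * c⁻¹)) * c := by group
        _ = c⁻¹ * (c * x * c⁻¹ * (c * z * c⁻¹)) * c := by rw [h1]
        _ = x * z := by group
    · intro h1
      calc c * z * c⁻¹ * (c * x * c⁻¹) = c * (z * x) * c⁻¹ := by group
        _ = c * (x * z) * c⁻¹ := by rw [h1]
        _ = c * x * c⁻¹ * (c * z * c⁻¹) := by group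
  have h1 : N.comap (MulAut.conj c).toMonoidHom = ⊥ := by
    apply hN
    · exact hNp.comap_of_injective _ (MulAut.conj c).injective
    · intro z hz
      obtain ⟨h2, h3⟩ := mem_cc.1 (hNc (show MulAut.conj c z ∈ N from hz))
      rw [MulAut.conj_apply] at h2 h3
      exact mem_cc.2 ⟨(hv z).1 h2, (hx z).1 h3⟩
    · intro k hk z hz
      obtain ⟨h2, h3⟩ := mem_cc.1 hk
      show MulAut.conj c (k * z * k⁻¹) ∈ N
      rw [map_mul, map_mul, map_inv]
      refine hNn (MulAut.conj c k) (mem_cc.2 ⟨?_, ?_⟩) (MulAut.conj c z) hz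
      · rw [MulAut.conj_apply]; exact (hv k).2 h2
      · rw [MulAut.conj_apply]; exact (hx k).2 h3
  rw [eq_bot_iff]
  intro z hz
  have h4 : (MulAut.conj c).symm z ∈ N.comap (MulAut.conj c).toMonoidHom := by
    show MulAut.conj c ((MulAut.conj c).symm z) ∈ N
    rwa [MulEquiv.apply_symm_apply]
  rw [h1, mem_bot] at h4
  rw [mem_bot]
  have := congrArg (MulAut.conj c) h4
  rwa [MulEquiv.apply_symm_apply, map_one] at this

section cx

variable {G : Type u} [Group G] [Finite G] {V K : Subgroup G}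

/-- The element `r` given by `Cx.t1`: it acts trivially on `C(v) ∩ C(x)`, fixes `v` and `x`, and is not inner. -/
theorem exists_r (h : Cx V K) {Y : Type v} [Group Y] (e : K ≃* Y) (φ : G →* MulAut Y)
    (hφ : Function.Injective φ) (hφK : ∀ k : K, φ k = MulAut.conj (e k))
    (hφg : ∀ (g : G) (k : K), ∃ hgk : g * k * g⁻¹ ∈ K, φ g (e k) = e ⟨g * k * g⁻¹, hgk⟩)
    {w : G} (hw : w ∈ V) (hw1 : w ≠ 1) (hwK : w ∈ K) {x : Y} (hx : Odd (orderOf x))
    (hi : e ⟨w, hwK⟩ * x * (e ⟨w, hwK⟩)⁻¹ = x⁻¹)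
    (hN : ∀ N : Subgroup Y, IsPGroup 2 N → N ≤ centralizer {e ⟨w, hwK⟩} ⊓ centralizer {x} →
      (∀ k ∈ (centralizer {e ⟨w, hwK⟩} ⊓ centralizer {x} : Subgroup Y), ∀ z ∈ N, k * z * k⁻¹ ∈ N) → N = ⊥) :
    ∃ r ∈ V, φ r (e ⟨w, hwK⟩) = e ⟨w, hwK⟩ ∧ φ r x = x ∧
      (∀ z ∈ (centralizer {e ⟨w, hwK⟩} ⊓ centralizer {x} : Subgroup Y), φ r z = z) ∧
      ¬ ∃ k, φ r = MulAut.conj k := by
  set x' : K := e.symm x with hx'
  have hex : e x' = x := by rw [hx', MulEquiv.apply_symm_apply]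
  have hcomm : ∀ (g : G) (k : K), φ g (e k) = e k ↔ g * (k : G) = (k : G) * g := by
    intro g k
    obtain ⟨hgk, hg⟩ := hφg g k
    rw [hg]
    constructor
    · intro h1
      have h2 := congrArg Subtype.val (e.injective h1)
      simp only at h2
      rwa [mul_inv_eq_iff_eq_mul] at h2
    · intro h1
      congr 1
      apply Subtype.ext
      simp only
      rw [h1]; group
  have hxo : Odd (orderOf (x' : G)) := by
    rw [Subgroup.orderOf_coe, hx', MulEquiv.orderOf_eq]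
    exact hx
  have hinv : w * (x' : G) * w⁻¹ = (x' : G)⁻¹ := by
    rw [← hex, ← map_mul, ← map_inv, ← map_mul, ← map_inv] at hi
    exact congrArg Subtype.val (e.injective hi)
  obtain ⟨r, hrV, hr1, hrx, hrO⟩ := h.t1 hw hw1 hxo hinv
  set C : Subgroup G := centralizer ({w} : Set G) ⊓ centralizer ({(x' : G)} : Set G) with hC
  have hmemC : ∀ k : K, (k : G) ∈ C ↔ e k ∈ (centralizer {e ⟨w, hwK⟩} ⊓ centralizer {x} : Subgroup Y) := by
    intro k
    rw [hC, mem_cc, mem_cc, ← hex, ← map_mul, ← map_mul, ← map_mul, ← map_mul]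
    constructor
    · rintro ⟨h1, h2⟩
      exact ⟨congrArg e (Subtype.ext h1), congrArg e (Subtype.ext h2)⟩
    · rintro ⟨h1, h2⟩
      exact ⟨congrArg Subtype.val (e.injective h1), congrArg Subtype.val (e.injective h2)⟩
  have hOK : ∀ z ∈ O2 C, z ∈ K → z = 1 := by
    intro z hz hzK
    have h1 : ((O2 C).subgroupOf K).map e.toMonoidHom = ⊥ := by
      apply hN
      · refine IsPGroup.map ?_ _
        exact (isPGroup_O2 C).comap_of_injective K.subtype K.subtype_injective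
      · rintro _ ⟨k, hk, rfl⟩
        exact (hmemC k).1 (O2_le C hk)
      · rintro g hg1 _ ⟨k, hk, rfl⟩
        obtain ⟨g', rfl⟩ := e.surjective g
        have hg' : (g' : G) ∈ C := (hmemC g').2 hg1
        refine ⟨g' * k * g'⁻¹, ?_, by simp only [_root_.MulEquiv.toMonoidHom_eq_coe, _root_.MonoidHom.coe_coe, _root_.map_mul, _root_.map_inv]⟩
        show ((g' * k * g'⁻¹ : K) : G) ∈ O2 C
        exact conj_mem_O2 hg' hk
    have h2 : e ⟨z, hzK⟩ ∈ ((O2 C).subgroupOf K).map e.toMonoidHom := ⟨⟨z, hzK⟩, hz, rfl⟩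
    rw [h1, mem_bot] at h2
    have h3 : (⟨z, hzK⟩ : K) = 1 := e.injective (by rw [h2, map_one])
    exact congrArg Subtype.val h3
  refine ⟨r, hrV, ?_, ?_, ?_, ?_⟩
  · rw [hcomm]
    exact (h.comm hrV hw).eq
  · rw [← hex, hcomm]
    exact hrx.eq
  · intro c hc
    obtain ⟨k, rfl⟩ := e.surjective c
    rw [hcomm]
    have hkC : (k : G) ∈ C := (hmemC k).2 hc
    have h1 : r * (k : G) * r⁻¹ * (k : G)⁻¹ = 1 := by
      apply hOK
      · have e1 : r * (k : G) * r⁻¹ * (k : G)⁻¹ = r * ((k : G) * r⁻¹ * (k : G)⁻¹) := by group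
        rw [e1]
        exact (O2 C).mul_mem hrO (conj_mem_O2 hkC ((O2 C).inv_mem hrO))
      · exact K.mul_mem (h.norm.conj_mem _ k.2 r) (K.inv_mem k.2)
    rw [mul_inv_eq_one, mul_inv_eq_iff_eq_mul] at h1
    exact h1
  · rintro ⟨g, hg⟩
    obtain ⟨k, rfl⟩ := e.surjective g
    rw [← hφK] at hg
    have hrK : r = (k : G) := hφ hg
    apply hr1
    exact hOK r hrO (hrK ▸ k.2)

/-- **the case where `g` may be trivial on `C`** -/
theorem PB.false_of (h : Cx V K) {Y : Type v} [Group Y] (e : K ≃* Y) {w : G} (hwK : w ∈ K) {x : Y} {g : MulAut Y}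
    {H : Subgroup (MulAut Y)} (P : PB (e ⟨w, hwK⟩) x g H) (hw : w ∈ V) (hw1 : w ≠ 1)
    {c₁ c₂ : Y} (h1 : c₁ * e ⟨w, hwK⟩ = e ⟨w, hwK⟩ * c₁) (h2 : c₂ * e ⟨w, hwK⟩ = e ⟨w, hwK⟩ * c₂)
    (hne : (c₁ * (g c₁)⁻¹) * (c₂ * (g c₂)⁻¹) ≠ (c₂ * (g c₂)⁻¹) * (c₁ * (g c₁)⁻¹)) : False := by
  have : Finite Y := Finite.of_equiv K e.toEquiv
  have hZ : ∀ z : Y, (∀ y : Y, z * y = y * z) → z = 1 := by
    intro z hz
    obtain ⟨k, rfl⟩ := e.surjective z
    have h2 : (k : G) = 1 := by
      apply h.eq_one_of_comm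
      intro y hy
      have h3 := hz (e ⟨y, hy⟩)
      rw [← map_mul, ← map_mul] at h3
      exact congrArg Subtype.val (e.injective h3)
    have h4 : k = 1 := Subtype.ext h2
    rw [h4, map_one]
  have hZ' : center Y = ⊥ := by
    rw [eq_bot_iff]
    intro z hz
    rw [mem_bot]
    exact hZ z fun y => ((mem_center_iff.1 hz) y).symm
  have hinj : ∀ a b : Y, MulAut.conj a = MulAut.conj b → a = b := by
    intro a b hab
    have h3 : b⁻¹ * a = 1 := by
      apply hZ
      intro y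
      have h4 : MulAut.conj (b⁻¹ * a) = 1 := by rw [map_mul, map_inv, hab, inv_mul_cancel]
      have h5 := congrArg (fun β : MulAut Y => β y) h4
      simp only [MulAut.conj_apply, MulAut.one_apply] at h5
      rwa [mul_inv_eq_iff_eq_mul] at h5
    rw [inv_mul_eq_one] at h3
    exact h3.symm
  obtain ⟨φ, hφ, hφK, hφg⟩ := h.exists_toAut e
  set v : Y := e ⟨w, hwK⟩ with hv
  -- the element attached to `c`
  have key : ∀ c : Y, c * v = v * c → ∃ r ∈ V, φ r v = v ∧ φ r (c * x * c⁻¹) = c * x * c⁻¹ ∧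
      (∀ z ∈ (centralizer {v} ⊓ centralizer {c * x * c⁻¹} : Subgroup Y), φ r z = z) ∧
      ¬ ∃ k, φ r = MulAut.conj k := by
    intro c hc
    apply exists_r h e φ hφ hφK hφg hw hw1 hwK
    · have h3 : orderOf (c * x * c⁻¹) = orderOf x := by
        have := MulEquiv.orderOf_eq (MulAut.conj c) x
        rwa [MulAut.conj_apply] at this
      rw [h3]
      exact P.odd
    · have hv2 : c * v * c⁻¹ = v := by rw [hc]; group
      calc v * (c * x * c⁻¹) * v⁻¹ = (c * v * c⁻¹) * (c * x * c⁻¹) * (c * v * c⁻¹)⁻¹ := by rw [hv2]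
        _ = c * (v * x * v⁻¹) * c⁻¹ := by group
        _ = c * x⁻¹ * c⁻¹ := by rw [P.inv]
        _ = (c * x * c⁻¹)⁻¹ := by group
    · exact hN_conj P.hN hc
  obtain ⟨r, hrV, hrv, hrx, hrC, hrn⟩ := key 1 (by rw [one_mul, mul_one])
  rw [one_mul, inv_one, mul_one] at hrx hrC
  set α : MulAut Y := φ r with hα
  have hαα : α * α = 1 := by rw [hα, ← map_mul, h.sq hrV, map_one]
  have hαinv : α⁻¹ = α := by rw [inv_eq_iff_mul_eq_one]; exact hαα
  have hαH : α * g ∈ H := (P.dich α hαα hrC).resolve_left (P.not_mem hαα hrn)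
  -- `α_c = α`
  have main : ∀ c : Y, c * v = v * c → ∃ s ∈ V, φ s = MulAut.conj c * α * (MulAut.conj c)⁻¹ := by
    intro c hc
    obtain ⟨s, hsV, hsv, hsx, hsC, hsn⟩ := key c hc
    refine ⟨s, hsV, ?_⟩
    set β : MulAut Y := φ s with hβ
    have hββ : β * β = 1 := by rw [hβ, ← map_mul, h.sq hsV, map_one]
    set γ : MulAut Y := (MulAut.conj c)⁻¹ * β * MulAut.conj c with hγ
    have hγγ : γ * γ = 1 := by
      calc γ * γ = (MulAut.conj c)⁻¹ * (β * β) * MulAut.conj c := by rw [hγ]; group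
        _ = 1 := by rw [hββ]; group
    have hγa : ∀ z, γ z = c⁻¹ * β (c * z * c⁻¹) * c := by
      intro z
      rw [hγ, MulAut.mul_apply, MulAut.mul_apply, MulAut.conj_apply, ← map_inv, MulAut.conj_apply, inv_inv]
    have hγv : γ v = v := by
      have hv2 : c * v * c⁻¹ = v := by rw [hc]; group
      rw [hγa, hv2, hsv, mul_assoc, ← hc]
      group
    have hγx : γ x = x := by
      rw [hγa, hsx]
      group
    have hγC : ∀ z ∈ (centralizer {v} ⊓ centralizer {x} : Subgroup Y), γ z = z := by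
      intro z hz
      rw [hγa, hsC]
      · group
      · obtain ⟨h3, h4⟩ := mem_cc.1 hz
        have hv2 : c * v * c⁻¹ = v := by rw [hc]; group
        refine mem_cc.2 ⟨?_, ?_⟩
        · calc c * z * c⁻¹ * v = c * z * c⁻¹ * (c * v * c⁻¹) := by rw [hv2]
            _ = c * (z * v) * c⁻¹ := by group
            _ = c * (v * z) * c⁻¹ := by rw [h3]
            _ = (c * v * c⁻¹) * (c * z * c⁻¹) := by group
            _ = v * (c * z * c⁻¹) := by rw [hv2]
        · calc c * z * c⁻¹ * (c * x * c⁻¹) = c * (z * x) * c⁻¹ := by group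
            _ = c * (x * z) * c⁻¹ := by rw [h4]
            _ = c * x * c⁻¹ * (c * z * c⁻¹) := by group
    have hγn : ¬ ∃ k, γ = MulAut.conj k := by
      rintro ⟨k, hk⟩
      apply hsn
      refine ⟨c * k * c⁻¹, ?_⟩
      rw [map_mul, map_mul, map_inv, ← hk, hγ]
      group
    have hγH : γ * g ∈ H := (P.dich γ hγγ hγC).resolve_left (P.not_mem hγγ hγn)
    have hγα : γ * α ∈ H := by
      have h3 : γ * α = (γ * g) * (α * g)⁻¹ := by rw [mul_inv_rev, hαinv]; group
      rw [h3]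
      exact H.mul_mem hγH (H.inv_mem hαH)
    have hβγ : β = MulAut.conj (c * (γ c)⁻¹) * γ := by
      have h3 : γ * MulAut.conj c⁻¹ * γ⁻¹ = MulAut.conj (γ c⁻¹) := conj_aut γ c⁻¹
      have h4 : β = MulAut.conj c * γ * MulAut.conj c⁻¹ := by rw [hγ, map_inv]; group
      calc β = MulAut.conj c * γ * MulAut.conj c⁻¹ := h4
        _ = MulAut.conj c * (γ * MulAut.conj c⁻¹ * γ⁻¹) * γ := by group
        _ = MulAut.conj (c * (γ c)⁻¹) * γ := by rw [h3, map_inv, map_mul, map_inv]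
    have hβα : β * α ∈ H := by
      rw [hβγ, mul_assoc]
      exact H.mul_mem (P.inn _) hγα
    have hβα2 : (β * α) * (β * α) = 1 := by
      rw [hβ, hα, ← map_mul, ← map_mul, h.sq (V.mul_mem hsV hrV), map_one]
    obtain ⟨k₁, hk₁⟩ := P.cube _ hβα
    rw [pow_succ, pow_two, hβα2, one_mul] at hk₁
    obtain ⟨k, hk⟩ : ∃ k, γ * α = MulAut.conj k := by
      refine ⟨(c * (γ c)⁻¹)⁻¹ * k₁, ?_⟩
      rw [map_mul, map_inv, ← hk₁, hβγ]
      group
    have hkC : k ∈ (centralizer {v} ⊓ centralizer {x} : Subgroup Y) := by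
      apply PB.mem_of_fix hk
      · rw [MulAut.mul_apply, hrv, hγv]
      · rw [MulAut.mul_apply, hrx, hγx]
    have hk2 : k * k = 1 := by
      have h3 : MulAut.conj k = MulAut.conj k⁻¹ := by
        calc MulAut.conj k = MulAut.conj (α k) := by rw [hrC k hkC]
          _ = α * MulAut.conj k * α⁻¹ := (conj_aut α k).symm
          _ = α * (γ * α) * α⁻¹ := by rw [hk]
          _ = α * γ := by group
          _ = α⁻¹ * γ⁻¹ := by rw [hαinv, inv_eq_of_mul_eq_one_left hγγ]
          _ = (γ * α)⁻¹ := by group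
          _ = MulAut.conj k⁻¹ := by rw [hk, map_inv]
      have h4 := hinj _ _ h3
      nth_rw 1 [h4]
      exact inv_mul_cancel k
    have hk1 : k = 1 := by
      apply P.one_of_central (n := 1) (by rw [pow_one, pow_two, hk2]) hkC
      intro z hz
      have h3 : (MulAut.conj k) z = z := by rw [← hk, MulAut.mul_apply, hrC z hz, hγC z hz]
      rw [MulAut.conj_apply, mul_inv_eq_iff_eq_mul] at h3
      exact h3.symm
    rw [hk1, map_one] at hk
    have h5 : γ = α := by
      rw [mul_eq_one_iff_eq_inv, hαinv] at hk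
      exact hk
    rw [← h5, hγ]
    group
  -- the elements `c α(c)⁻¹` commute
  have hcom : ∀ c d : Y, c * v = v * c → d * v = v * d →
      (c * (α c)⁻¹) * (d * (α d)⁻¹) = (d * (α d)⁻¹) * (c * (α c)⁻¹) := by
    have h3 : ∀ c : Y, c * v = v * c → ∃ s ∈ V, φ s = MulAut.conj (c * (α c)⁻¹) := by
      intro c hc
      obtain ⟨s, hsV, hs⟩ := main c hc
      refine ⟨s * r, V.mul_mem hsV hrV, ?_⟩
      rw [map_mul, hs, ← hα]
      have h4 : α * MulAut.conj c⁻¹ * α⁻¹ = MulAut.conj (α c⁻¹) := conj_aut α c⁻¹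
      rw [map_mul, ← map_inv α, ← h4, hαinv, map_inv]
      group
    intro c d hc hd
    obtain ⟨s, hsV, hs⟩ := h3 c hc
    obtain ⟨t, htV, ht⟩ := h3 d hd
    apply hinj
    rw [map_mul, map_mul (MulAut.conj) (d * (α d)⁻¹), ← hs, ← ht, ← map_mul, ← map_mul, (h.comm hsV htV).eq]
  have hfix := P.fix hZ' hαα hrv hrx hrC hrn
  -- `d = α g`
  obtain ⟨k₀, hk₀⟩ := P.cube _ hαH
  have hginv : g⁻¹ = g := by rw [inv_eq_iff_mul_eq_one]; exact P.g2
  have hdv : (α * g) v = v := by rw [MulAut.mul_apply, P.gv, hrv]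
  have hdx : (α * g) x = x := by rw [MulAut.mul_apply, P.gx, hrx]
  have hdC : ∀ z ∈ (centralizer {v} ⊓ centralizer {x} : Subgroup Y), (α * g) z = z := by
    intro z hz
    rw [MulAut.mul_apply, hfix z hz, hrC z hz]
  have hk0C : k₀ ∈ (centralizer {v} ⊓ centralizer {x} : Subgroup Y) := by
    apply PB.mem_of_fix hk₀
    · rw [pow_succ, pow_two, MulAut.mul_apply, MulAut.mul_apply, hdv, hdv, hdv]
    · rw [pow_succ, pow_two, MulAut.mul_apply, MulAut.mul_apply, hdx, hdx, hdx]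
  have hk02 : k₀ * k₀ = 1 := by
    have h3 : MulAut.conj k₀ = MulAut.conj k₀⁻¹ := by
      calc MulAut.conj k₀ = MulAut.conj (g k₀) := by rw [hfix k₀ hk0C]
        _ = g * MulAut.conj k₀ * g⁻¹ := (conj_aut g k₀).symm
        _ = g * (α * g) ^ 3 * g⁻¹ := by rw [hk₀]
        _ = (g * α) ^ 3 := by simp only [pow_succ, pow_zero, one_mul, mul_assoc, mul_inv_cancel, mul_one]
        _ = (g⁻¹ * α⁻¹) ^ 3 := by rw [hαinv, hginv]
        _ = ((α * g) ^ 3)⁻¹ := by rw [← mul_inv_rev, inv_pow]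
        _ = MulAut.conj k₀⁻¹ := by rw [hk₀, map_inv]
    have h4 := hinj _ _ h3
    nth_rw 1 [h4]
    exact inv_mul_cancel k₀
  have hk01 : k₀ = 1 := by
    apply P.one_of_central (n := 1) (by rw [pow_one, pow_two, hk02]) hk0C
    intro z hz
    have h3 : (MulAut.conj k₀) z = z := by
      rw [← hk₀, pow_succ, pow_two, MulAut.mul_apply, MulAut.mul_apply, hdC z hz, hdC z hz, hdC z hz]
    rw [MulAut.conj_apply, mul_inv_eq_iff_eq_mul] at h3
    exact h3.symm
  rw [hk01, map_one] at hk₀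
  set d : MulAut Y := α * g with hd
  have hαd : α = d⁻¹ * g * d := by
    have h3 : d * d * d = 1 := by rw [← hk₀, pow_succ, pow_two]
    have h4 : d * g = α := by rw [hd, mul_assoc, P.g2, mul_one]
    have h5 : g * d * g = d⁻¹ := by
      rw [hd, mul_assoc, mul_assoc, P.g2, mul_one, mul_inv_rev, hαinv, hginv]
    calc α = d * g := h4.symm
      _ = d⁻¹ * d⁻¹ * (d * d * d) * g := by group
      _ = d⁻¹ * d⁻¹ * g := by rw [h3, mul_one]
      _ = d⁻¹ * (g * d * g) * g := by rw [h5]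
      _ = d⁻¹ * g * d * (g * g) := by simp only [mul_assoc]
      _ = d⁻¹ * g * d := by rw [P.g2, mul_one]
  have hdv' : d⁻¹ v = v := by
    have h3 : d⁻¹ (d v) = v := MulAut.inv_apply_self _ _ _
    rwa [hdv] at h3
  have htr : ∀ c : Y, c * v = v * c → (d⁻¹ c) * v = v * (d⁻¹ c) := by
    intro c hc
    have h3 := congrArg (fun y => d⁻¹ y) hc
    simp only [map_mul, hdv'] at h3
    exact h3
  have hval : ∀ c : Y, (d⁻¹ c) * (α (d⁻¹ c))⁻¹ = d⁻¹ (c * (g c)⁻¹) := by
    intro c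
    rw [hαd, MulAut.mul_apply, MulAut.mul_apply, MulAut.apply_inv_self, map_mul, map_inv]
  apply hne
  have h6 := hcom _ _ (htr c₁ h1) (htr c₂ h2)
  rw [hval, hval, ← map_mul, ← map_mul] at h6
  exact (d⁻¹).injective h6

end cx

end Cfsg.Agent.H297.SK
end

-- part: H737/SK/PBGen
section
/-!
# S3010, characteristic two: the data `PB` for `J` invariant under the graph automorphism (helper737)
-/

set_option autoImplicit false
set_option linter.unusedSectionVars false

namespace Cfsg.Agent.H737.SK.Gen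

open CoxeterSystem Cfsg.Agent.ChevalleyStructure.CoxeterGeom Cfsg.Agent.Tits.Roots Cfsg.Agent.Tits.Core
  Cfsg.Agent.Tits.Exchange Cfsg.Agent.Nodes.Reps Cfsg.Agent.Nodes.BNOf Cfsg.Agent.Nodes.StabComb
  Cfsg.Agent.Nodes.Bruhat Cfsg.Agent.Nodes.OppDec Cfsg.Agent.Nodes.LeviDec Cfsg.Agent.Nodes.NormalForm
  Cfsg.Agent.Nodes.Coroot Cfsg.Agent.Nodes.Comb
  Cfsg.Agent.KFacts.RgdField Cfsg.Agent.BpExc.TorCent Cfsg.Agent.KFacts.RgdOpp Cfsg.Agent.KFacts.RgdCent
  Cfsg.Agent.KFacts.ChevTwo Cfsg.Agent.KFacts.RgdSys Cfsg.Agent.H737.SK.O2 Cfsg.Agent.H282.SK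
  Cfsg.Agent.KFacts.RgdRigid Cfsg.Agent.H297.SK

variable {I W Y K : Type*} [Fintype I] [DecidableEq I] [Group W] [Group Y] [Field K] {M : CoxeterMatrix I}
variable {cs : CoxeterSystem M W} {A : I → I → ℤ} {h : IsCartan M A} {e : (I → ℤ) → K → Y}
  {T : Subgroup Y} {n : I → Y} {X : (I → ℤ) → Subgroup Y}
variable {Y' K' : Type*} [Group Y'] [Field K'] {e' : (I → ℤ) → K' → Y'}
  {T' : Subgroup Y'} {n' : I → Y'} {X' : (I → ℤ) → Subgroup Y'}

/-- representatives of words act on the root elements -/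
theorem word_act [Finite W] {R : RGD cs h 2 T n X} (S : Sys R e) (ω : List I) {x : I → ℤ} (hx : IsRoot cs h x) (a : K) :
    pr ω (fun j => nel e (sr j)) * e x a * (pr ω fun j => nel e (sr j))⁻¹ = e (rep cs h (cs.wordProd ω) x) a := by
  induction ω with
  | nil => rw [pr_nil, wordProd_nil, map_one, Module.End.one_apply, one_mul, inv_one, mul_one]
  | cons i ω ih =>
    have h1 : (nel e (sr i) * pr ω fun j => nel e (sr j)) * e x a * (nel e (sr i) * pr ω fun j => nel e (sr j))⁻¹ =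
        nel e (sr i) * (pr ω (fun j => nel e (sr j)) * e x a * (pr ω fun j => nel e (sr j))⁻¹) * (nel e (sr i))⁻¹ := by
      group
    rw [pr_cons, h1, ih, S.data.refl i _ (hx.act _), wordProd_cons, rep_mul_apply]

/-- a negative root element is not in `U` -/
theorem ne_of_neg [Finite W] {R : RGD cs h 2 T n X} (S : Sys R e) {x : I → ℤ} (hx : IsRoot cs h x) (h0 : x ≤ 0) {y : Y}
    (hy : y ∈ RGD.Sup X (RGD.Pos cs h)) : e x 1 ≠ y := by
  intro h1
  have h2 : e x 1 ∈ UN cs h X := RGD.le_Sup (S := _root_.Cfsg.Agent.Nodes.OppDec.Neg cs h) (X := X) ⟨hx, h0⟩ (S.mem hx 1)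
  exact S.data.ne_one hx one_ne_zero (eq_one_of_mem_UN_of_mem_B R h2 (RGD.U_le_B (h1 ▸ hy)))

/-- pulling back a statement on normal 2-subgroups from the group over the field of four elements -/
theorem pull_two {α : MulAut Y'} {f : Y →* Y'} (hf : Function.Injective f) (hrange : ∀ y ∈ FixA α, ∃ x, f x = y)
    (hfα : ∀ y, α (f y) = f y) {v x : Y} {γ : MulAut Y} {γ' : MulAut Y'} (hγ : ∀ y, γ' (f y) = f (γ y))
    (H : ∀ N : Subgroup Y', IsPGroup 2 N → N ≤ FixA α ⊓ (Subgroup.centralizer {f v} ⊓ Subgroup.centralizer {f x}) →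
      (∀ z ∈ N, γ' z = z) →
      (∀ g ∈ FixA α ⊓ (Subgroup.centralizer {f v} ⊓ Subgroup.centralizer {f x}), γ' g = g → ∀ z ∈ N,
        g * z * g⁻¹ ∈ N) → N = ⊥)
    (N : Subgroup Y) (hNp : IsPGroup 2 N) (hNc : N ≤ Subgroup.centralizer {v} ⊓ Subgroup.centralizer {x})
    (hNγ : ∀ z ∈ N, γ z = z)
    (hn : ∀ g ∈ (Subgroup.centralizer {v} ⊓ Subgroup.centralizer {x} : Subgroup Y), γ g = g → ∀ z ∈ N,
      g * z * g⁻¹ ∈ N) : N = ⊥ := by
  have h2 : N.map f = ⊥ := by
    refine H _ (hNp.map f) ?_ ?_ ?_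
    · rintro _ ⟨z, hz, rfl⟩
      obtain ⟨h2, h3⟩ := mem_cc.1 (hNc hz)
      refine ⟨hfα z, Subgroup.mem_centralizer_singleton_iff.2 ?_, Subgroup.mem_centralizer_singleton_iff.2 ?_⟩
      · rw [← map_mul, ← map_mul, h2]
      · rw [← map_mul, ← map_mul, h3]
    · rintro _ ⟨z, hz, rfl⟩
      rw [hγ, hNγ z hz]
    · rintro g ⟨h2, h3, h4⟩ hg _ ⟨z, hz, rfl⟩
      obtain ⟨g, rfl⟩ := hrange g h2
      refine ⟨g * z * g⁻¹, hn g (mem_cc.2 ⟨hf ?_, hf ?_⟩) (hf (by rw [← hγ, hg])) z hz,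
        by rw [map_mul, map_mul, map_inv]⟩
      · rw [map_mul, map_mul]
        exact Subgroup.mem_centralizer_singleton_iff.1 h3
      · rw [map_mul, map_mul]
        exact Subgroup.mem_centralizer_singleton_iff.1 h4
  rwa [Subgroup.map_eq_bot_iff_of_injective _ hf] at h2

section

variable [Finite W] [Finite Y] [Finite K] {R : RGD cs h 2 T n X} (S : Sys R e) {J : List I} (hJ : Orth cs h J)
  {γ : MulAut Y} {σ : I → I} (hγ : Gra cs h e γ σ) (hJσ : (J.map σ).Perm J)
  {H : Subgroup (MulAut Y)} (inn : ∀ k : Y, MulAut.conj k ∈ H) (cube : ∀ δ ∈ H, ∃ k : Y, δ ^ 3 = MulAut.conj k)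
  {b : I → ℤ} (hb : IsRoot cs h b) (hbJ : ∀ j ∈ J, cpr cs h b (sr j) = 0)
  (dich : ∀ α : MulAut Y, α * α = 1 → (∀ z ∈ X b, α z = z) → α ∈ H ∨ α * γ ∈ H)
  (hG1 : RGD.Sup X {x | IsRoot cs h x} = ⊤)

include S hJ hγ hJσ inn cube hb hbJ dich hG1

/-- **`PB`, `q ≥ 4`** -/
theorem pb_big (hN : NoCent cs h T X) {l : ℕ} (hl : l.Prime) (hl2 : l ≠ 2) {c : K} (hc : c ≠ 0) (hc1 : c ≠ 1)
    (hcl : c ^ l = 1) : PB (pr J fun j => nel e (sr j)) (pr J fun j => hel e (sr j) c) γ H where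
  odd := by
    have h2 : orderOf (pr J fun j => hel e (sr j) c) ∣ l := by
      refine orderOf_dvd_of_pow_eq_one ?_
      rw [tJ_pow S hJ hG1 hN hc, hcl, pr_congr (g := fun _ => 1) fun j _ => hel_one S hG1 hN j, pr_one]
    exact Odd.of_dvd_nat (hl.odd_of_ne_two hl2) h2
  inv := by rw [nJ_tJ S hJ hG1 hN hc, tJ_inv S hJ hG1 hN hc]
  g2 := Gra.sq S hJ hG1 hγ
  gv := hγ.pr S hJ hJσ (fun j _ => nel_mem S j) fun j => hγ.nel j
  gx := hγ.pr S hJ hJσ (fun j _ => hel_memS S j c) fun j => hγ.hel j c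
  hN := fun N h1 h2 h3 => o2_big S hJ hG1 hN hl hl2 hc hc1 hcl h1 h2 h3
  hNg := fun N h1 h2 h3 h4 => o2_big_gra S hJ hG1 hN hγ hJσ hl hl2 hc hc1 hcl h1 h2 h3 h4
  inn := inn
  cube := cube
  dich := fun α h1 h2 => dich α h1 fun z hz => h2 z (perp_le S hb hbJ c hz)

/-- **`PB`, `q = 2`** -/
theorem pb_two [Finite Y'] [Finite K'] {R' : RGD cs h 2 T' n' X'} (S' : Sys R' e')
    (hG1' : RGD.Sup X' {x | IsRoot cs h x} = ⊤) (hN' : NoCent cs h T' X') {α : MulAut Y'} (hα : Frb cs h e' α)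
    {γ' : MulAut Y'} (hγ' : Gra cs h e' γ' σ) {ζ : K'} (hζ : ζ ^ 2 = ζ + 1)
    {f : Y →* Y'} (hf : Function.Injective f) (hfe : ∀ x, IsRoot cs h x → f (e x 1) = e' x 1)
    (hfα : ∀ y, α (f y) = f y) (hfγ : ∀ y, γ' (f y) = f (γ y)) :
    PB (pr J fun j => nel e (sr j)) (pr J (xl e)) γ H ∧
      (∀ y ∈ FixA α, ∃ x, f x = y) ∧ f (pr J fun j => nel e (sr j)) = (pr J fun j => nel e' (sr j)) ∧
      f (pr J (xl e)) = pr J (xl e') := by
  have hrange : ∀ y ∈ FixA α, ∃ x, f x = y := by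
    intro y hy
    rw [hα.fix_eq S' hG1' hN'] at hy
    have h1 : E1 cs h e' ≤ f.range := by
      unfold E1
      rw [Subgroup.closure_le]
      rintro _ ⟨x, hx, rfl⟩
      exact ⟨e x 1, hfe x hx⟩
    exact h1 hy
  have hfn : ∀ j, f (nel e (sr j)) = nel e' (sr j) := by
    intro j
    rw [nel_def, nel_def, map_mul, map_mul, hfe _ (isRoot_sr cs h j), hfe _ (isRoot_sr cs h j).neg]
  have hfx : ∀ j, f (xl e j) = xl e' j := by
    intro j
    unfold xl
    rw [map_mul, hfe _ (isRoot_sr cs h j), hfe _ (isRoot_sr cs h j).neg]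
  have hv : f (pr J fun j => nel e (sr j)) = pr J fun j => nel e' (sr j) := by
    rw [pr_map]; exact pr_congr fun j _ => hfn j
  have hx : f (pr J (xl e)) = pr J (xl e') := by
    rw [pr_map]; exact pr_congr fun j _ => hfx j
  refine ⟨?_, hrange, hv, hx⟩
  have hodd : Odd (orderOf (pr J (xl e))) := by
    have hζ0 : ζ ≠ 0 := by
      rintro rfl
      rw [zero_pow two_ne_zero, zero_add] at hζ
      exact zero_ne_one hζ
    have h2K : (2 : K') = 0 := by
      have := S'.data.two (1 : K')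
      rwa [one_add_one_eq_two] at this
    have hζ3 : ζ ^ 3 = 1 := by linear_combination (ζ + 1) * hζ + ζ * h2K
    have h2 : (pr J (xl e')) ^ 3 = 1 := by
      have h3 := alJ_xlJ S' hJ hG1' hN' hζ
      have h4 := alJ_sq S' hJ ζ
      have h5 : (pr J (al e' ζ))⁻¹ = pr J (al e' ζ) := inv_eq_of_mul_eq_one_right h4
      have h6 : pr J (xl e') = pr J (al e' ζ) * pr J (fun j => hel e' (sr j) ζ) * (pr J (al e' ζ))⁻¹ := by
        rw [← h3, h5]
        calc pr J (xl e') = (pr J (al e' ζ) * pr J (al e' ζ)) * pr J (xl e') * (pr J (al e' ζ) * pr J (al e' ζ)) := by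
              rw [h4, one_mul, mul_one]
          _ = _ := by group
      rw [h6, conj_pow, tJ_pow S' hJ hG1' hN' hζ0, hζ3,
        pr_congr (g := fun _ => 1) fun j _ => hel_one S' hG1' hN' j, pr_one, mul_one, mul_inv_cancel]
    have h3 : (pr J (xl e)) ^ 3 = 1 := by
      apply hf
      rw [map_pow, hx, h2, map_one]
    exact Odd.of_dvd_nat (by decide) (orderOf_dvd_of_pow_eq_one h3)
  refine ⟨hodd, nJ_xlJ S hJ, Gra.sq S hJ hG1 hγ, hγ.pr S hJ hJσ (fun j _ => nel_mem S j) fun j => hγ.nel j,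
    hγ.pr S hJ hJσ (fun j _ => xl_mem S j) fun j => ?_, ?_, ?_, inn, cube,
    fun α h1 h2 => dich α h1 fun z hz => h2 z (perp_le_xl S hb hbJ hz)⟩
  · unfold xl
    rw [map_mul, hγ.map _ (isRoot_sr cs h j), hγ.map _ (isRoot_sr cs h j).neg, sr_comp hγ.invol]
    have : (fun k => (-sr j : I → ℤ) (σ k)) = -sr (σ j) := by
      rw [← sr_comp hγ.invol]; rfl
    rw [this]
  · intro N h1 h2 h3
    refine pull_two (γ := 1) (γ' := 1) hf hrange hfα (v := pr J fun j => nel e (sr j)) (x := pr J (xl e))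
      (fun y => rfl) ?_ N h1 h2 (fun z _ => rfl) fun g hg _ => h3 g hg
    rw [hv, hx]
    exact fun N h1 h2 _ h3 => o2_two S' hJ hG1' hN' hα hζ h1 h2 fun g hg => h3 g hg rfl
  · intro N h1 h2 h3 h4
    refine pull_two hf hrange hfα (v := pr J fun j => nel e (sr j)) (x := pr J (xl e)) hfγ ?_ N h1 h2 h3 h4
    rw [hv, hx]
    exact fun N h1 h2 h3 h4 => o2_two_gra S' hJ hG1' hN' hα hζ hγ' hJσ h1 h2 h3 h4

end

end Cfsg.Agent.H737.SK.Gen
end

-- part: H737/SK/Chev
section
/-!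
# S3010, characteristic two: the groups `D.group K` (helper737)

* `baseChange`, `frob` : the base change homomorphism and the field automorphism on root elements;
* `good_chev` : `∏ e (sr j) 1` is good in `D.group K`, given the condition on outer automorphisms;
* `htor_of` : all characters of the simple roots, from the inverse Cartan matrix.
-/

set_option autoImplicit false
set_option linter.unusedSectionVars false

namespace Cfsg.Agent.H737.SK.Chev

open CoxeterSystem Cfsg.Agent.ChevalleyStructure.CoxeterGeom Cfsg.Agent.Tits.Roots Cfsg.Agent.Tits.Core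
  Cfsg.Agent.Tits.Exchange Cfsg.Agent.Nodes.Reps Cfsg.Agent.Nodes.BNOf Cfsg.Agent.Nodes.Coroot Cfsg.Agent.Nodes.Comb
  Cfsg.Agent.KFacts.RgdField Cfsg.Agent.KFacts.RgdCent Cfsg.Agent.KFacts.ChevTwo Cfsg.Agent.KFacts.RgdSys
  Cfsg.Agent.KFacts.ChevTwoInst Cfsg.Agent.H737.SK.O2 Cfsg.Agent.H282.SK Cfsg.Agent.H737.SK.Gen
open Cfsg.Lie Cfsg.Agent.ChevalleyStructure Cfsg.Agent.ChevalleyStructure.Elts
  Cfsg.Agent.ChevalleyStructure.RootVec Cfsg.Agent.ChevalleyStructure.FieldIso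
  Cfsg.Agent.ChevalleyStructure.CoxeterGeomTypes
open Cfsg.Agent.Nodes Cfsg.Agent.Nodes.RGDChev

universe u v

variable {D : ChevalleyDatum} {l : ℕ} {M : CoxeterMatrix (Fin l)} (hp : IsType D l M)

theorem map_group_le (D : ChevalleyDatum) {F : Type u} {K : Type v} [Field F] [Field K] (φ : F →+* K) :
    (D.group F).map (Matrix.GeneralLinearGroup.map (n := D.Idx) φ) ≤ D.group K := by
  rw [ChevalleyDatum.group, MonoidHom.map_closure, ChevalleyDatum.group]
  refine Subgroup.closure_mono ?_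
  rintro _ ⟨h, ⟨r, t, hh⟩, rfl⟩
  refine ⟨r, φ t, ?_⟩
  change ((h : Matrix D.Idx D.Idx F)).map φ = _
  rw [hh]
  exact map_xMat D φ r t

/-- the base change homomorphism -/
noncomputable def baseChange (D : ChevalleyDatum) {F : Type u} {K : Type v} [Field F] [Field K] (φ : F →+* K) :
    ↥(D.group F) →* ↥(D.group K) :=
  ((Matrix.GeneralLinearGroup.map (n := D.Idx) φ).comp (D.group F).subtype).codRestrict (D.group K)
    fun x => map_group_le D φ ⟨x, x.2, rfl⟩

theorem coe_baseChange {F : Type u} {K : Type v} [Field F] [Field K] (φ : F →+* K) (g : ↥(D.group F)) :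
    (((baseChange D φ g : ↥(D.group K)) : GL D.Idx K) : Matrix D.Idx D.Idx K) =
      (((g : GL D.Idx F) : Matrix D.Idx D.Idx F)).map φ := rfl

theorem baseChange_injective (D : ChevalleyDatum) {F : Type u} {K : Type v} [Field F] [Field K] (φ : F →+* K) :
    Function.Injective (baseChange D φ) := by
  intro x y h
  have h1 := congrArg (fun g : ↥(D.group K) => ((g : GL D.Idx K) : Matrix D.Idx D.Idx K)) h
  change (((x : GL D.Idx F) : Matrix D.Idx D.Idx F)).map φ = (((y : GL D.Idx F) : Matrix D.Idx D.Idx F)).map φ at h1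
  apply Subtype.ext
  apply Units.ext
  exact Matrix.map_injective φ.injective h1

theorem coe_eg_vec {K : Type u} [Field K] {r : ℕ} (hr : r < D.nroots) (t : K) :
    (((eg hp K (vec D l r) t : ↥(D.group K)) : GL D.Idx K) : Matrix D.Idx D.Idx K) = D.xMat K ⟨r, hr⟩ t := by
  rw [coe_eg, ev_vec hp hr, coe_xG, x_of_lt hr]

theorem baseChange_eg {F : Type u} {K : Type v} [Field F] [Field K] (φ : F →+* K) {W : Type*} [Group W]
    (cs : CoxeterSystem M W) {x : Fin l → ℤ} (hx : IsRoot cs hp.isCartan x) (t : F) :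
    baseChange D φ (eg hp F x t) = eg hp K x (φ t) := by
  obtain ⟨r, hr, rfl⟩ := (isRoot_iff hp cs x).1 hx
  apply Subtype.ext
  apply Units.ext
  rw [coe_baseChange, coe_eg_vec hp hr, coe_eg_vec hp hr]
  exact map_xMat D φ _ t

theorem groupEquiv_eg {K : Type u} [Field K] (φ : K ≃+* K) {W : Type*} [Group W]
    (cs : CoxeterSystem M W) {x : Fin l → ℤ} (hx : IsRoot cs hp.isCartan x) (t : K) :
    groupEquiv D φ (eg hp K x t) = eg hp K x (φ t) := by
  obtain ⟨r, hr, rfl⟩ := (isRoot_iff hp cs x).1 hx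
  apply Subtype.ext
  apply Units.ext
  change (((eg hp K (vec D l r) t : ↥(D.group K)) : GL D.Idx K) : Matrix D.Idx D.Idx K).map φ = _
  rw [coe_eg_vec hp hr, coe_eg_vec hp hr]
  exact map_xMat D (φ : K →+* K) _ t

section Two

variable {K : Type u} [Field K] [Finite K] [CharP K 2]

theorem noCent (hD : D ∈ [chevD4, chevF4, chevE6, chevE7, chevE8]) {W : Type*} [Group W] (cs : CoxeterSystem M W) :
    NoCent cs hp.isCartan ((D.diagonalSubgroup K).subgroupOf (D.group K))
      (fun x => (XV D l K x).subgroupOf (D.group K)) := by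
  have : Fact (Nat.Prime 2) := ⟨Nat.prime_two⟩
  have := finite_W hp cs
  refine Cfsg.Agent.KFacts.RgdCent.noCent_of_center (rgd (K := K) hp cs 2) (G1_eq_top hp _) ?_
  obtain ⟨hs, hna⟩ := Cfsg.Agent.S1054.result (F := K) D hD
  rcases (inferInstance : (Subgroup.center ↥(D.group K)).Normal).eq_bot_or_eq_top with h | h
  · exact h
  · exfalso
    apply hna
    refine ⟨⟨fun a b => ?_⟩⟩
    have : b ∈ Subgroup.center ↥(D.group K) := by rw [h]; exact Subgroup.mem_top b
    rw [Subgroup.mem_center_iff] at this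
    exact this a

end Two

/-- the field of four elements over a field of two elements -/
theorem exists_four {F : Type u} [Field F] [Finite F] [CharP F 2] (hF : Nat.card F = 2) :
    ∃ (K : Type) (_ : Field K) (_ : Finite K) (_ : CharP K 2) (_ : F →+* K) (ζ : K), ζ ^ 2 = ζ + 1 ∧
      (∀ a : K, a ^ 4 = a) := by
  have : Fact (Nat.Prime 2) := ⟨Nat.prime_two⟩
  have hch : CharP (FiniteField.Extension F 2 2) 2 :=
    charP_of_injective_algebraMap (algebraMap F (FiniteField.Extension F 2 2)).injective 2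
  have hcard : Nat.card (FiniteField.Extension F 2 2) = 4 := by
    rw [FiniteField.natCard_extension, hF]
    norm_num
  have h4 : ∀ a : FiniteField.Extension F 2 2, a ^ 4 = a := by
    intro a
    have := Fintype.ofFinite (FiniteField.Extension F 2 2)
    have h1 := FiniteField.pow_card a
    rwa [← Nat.card_eq_fintype_card, hcard] at h1
  obtain ⟨ζ, h0, h1⟩ : ∃ ζ : FiniteField.Extension F 2 2, ζ ≠ 0 ∧ ζ ≠ 1 := by
    classical
    by_contra hcon
    push Not at hcon
    have := Fintype.ofFinite (FiniteField.Extension F 2 2)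
    have h5 : (Finset.univ : Finset (FiniteField.Extension F 2 2)) ⊆ {0, 1} := by
      intro a _
      by_cases ha : a = 0
      · simp only [ha, _root_.Finset.mem_insert, _root_.Finset.mem_singleton, _root_.zero_ne_one, _root_.or_false]
      · simp only [hcon a ha, _root_.Finset.mem_insert, _root_.one_ne_zero, _root_.Finset.mem_singleton, _root_.or_true]
    have h6 := Finset.card_le_card h5
    rw [Finset.card_univ, ← Nat.card_eq_fintype_card, hcard] at h6
    have h7 : ({0, 1} : Finset (FiniteField.Extension F 2 2)).card ≤ 2 := Finset.card_le_two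
    omega
  refine ⟨FiniteField.Extension F 2 2, inferInstance, inferInstance, hch,
    algebraMap F (FiniteField.Extension F 2 2), ζ, ?_, h4⟩
  have h2 : (2 : FiniteField.Extension F 2 2) = 0 := CharTwo.two_eq_zero
  have h5 : ζ * ((ζ - 1) * (ζ ^ 2 + ζ + 1)) = 0 := by
    have := h4 ζ
    linear_combination this
  have h6 : ζ ^ 2 + ζ + 1 = 0 :=
    ((mul_eq_zero.1 ((mul_eq_zero.1 h5).resolve_left h0)).resolve_left (sub_ne_zero.2 h1))
  linear_combination h6 - (ζ + 1) * h2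

theorem prod_zpow' {G ι : Type*} [CommGroup G] (a : G) (f : ι → ℤ) (s : Finset ι) :
    ∏ j ∈ s, a ^ f j = a ^ ∑ j ∈ s, f j := by
  classical
  induction s using Finset.induction_on with
  | empty => rw [Finset.prod_empty, Finset.sum_empty, zpow_zero]
  | insert i s hi ih => rw [Finset.prod_insert hi, Finset.sum_insert hi, zpow_add, ih]

section Good

variable {K : Type u} [Field K] [Finite K] [CharP K 2] (hOK : TwoOK D)
  (hD : D ∈ [chevD4, chevF4, chevE6, chevE7, chevE8]) {W : Type*} [Group W] (cs : CoxeterSystem M W)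

include hOK hD in
/-- **The product of orthogonal simple root elements is good**, given the condition on outer automorphisms. -/
theorem good_chev {J : List (Fin l)} (hJ : Orth cs hp.isCartan J)
    (hout : ∀ f : Fin l → ↥(D.group K), (∀ j ∈ J, f j ∈ SS (fun x => (XV D l K x).subgroupOf (D.group K)) j) →
      ∀ α : MulAut ↥(D.group K), α * α = 1 →
      α (_root_.Cfsg.Agent.H737.SK.Gen.pr J fun j => nel (eg hp K) (sr j)) = _root_.Cfsg.Agent.H737.SK.Gen.pr J (fun j => nel (eg hp K) (sr j)) → α (_root_.Cfsg.Agent.H737.SK.Gen.pr J f) = _root_.Cfsg.Agent.H737.SK.Gen.pr J f →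
      (∀ z ∈ Subgroup.centralizer {_root_.Cfsg.Agent.H737.SK.Gen.pr J fun j => nel (eg hp K) (sr j)} ⊓ Subgroup.centralizer {_root_.Cfsg.Agent.H737.SK.Gen.pr J f}, α z = z) →
      ∃ g, α = MulAut.conj g) :
    _root_.Cfsg.Agent.H282.SK.Good (_root_.Cfsg.Agent.H737.SK.Gen.pr J fun j => eg hp K (sr j) 1) := by
  have := finite_W hp cs
  have S := sys (K := K) hp hOK cs
  by_cases hK : Nat.card K = 2
  · obtain ⟨K', _, _, _, φ, ζ, hζ, h4⟩ := exists_four hK
    have S' := sys (K := K') hp hOK cs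
    have hα : Frb cs hp.isCartan (eg hp K') (groupEquiv D (frobeniusEquiv K' 2)) := by
      refine ⟨fun x hx a => ?_, h4⟩
      rw [groupEquiv_eg hp _ cs hx]
      rfl
    refine good_two S hJ S' (G1_eq_top hp cs) (noCent hp hD cs) hα hζ (f := baseChange D φ)
      (baseChange_injective D φ) (fun x hx => by rw [baseChange_eg hp φ cs hx, map_one]) ?_
      (hout _ fun j _ => xl_mem S j)
    intro y
    apply Subtype.ext
    apply Units.ext
    change ((((y : GL D.Idx K) : Matrix D.Idx D.Idx K)).map φ).map (frobeniusEquiv K' 2) =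
      (((y : GL D.Idx K) : Matrix D.Idx D.Idx K)).map φ
    ext i j
    simp only [Matrix.map_apply]
    have h1 : ∀ c : K, c ^ 2 = c := by
      intro c
      have := Fintype.ofFinite K
      have h1 := FiniteField.pow_card c
      rwa [← Nat.card_eq_fintype_card, hK] at h1
    show (φ _) ^ 2 = _
    rw [← map_pow, h1]
  · obtain ⟨r, c, hr, hr2, hc, hc1, hcr⟩ := exists_unit hK
    exact good_big S hJ (G1_eq_top hp cs) (noCent hp hD cs) hr hr2 hc hc1 hcr (hout _ fun j _ => hel_memS S j c)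

include hOK in
/-- all characters of the simple roots -/
theorem htor_of {d : ℕ} {B : Fin l → Fin l → ℤ} (hB : ∀ m i, ∑ j, B m j * cartanOf D l j i = if m = i then (d : ℤ) else 0)
    (hd : ∀ b : Kˣ, ∃ a : Kˣ, a ^ d = b) (c : Fin l → Kˣ) :
    ∃ t ∈ (D.diagonalSubgroup K).subgroupOf (D.group K), ∀ i u,
      t * eg hp K (sr i) u * t⁻¹ = eg hp K (sr i) (c i * u) := by
  obtain ⟨cs, -⟩ : ∃ cs : CoxeterSystem M M.Group, cs = M.toCoxeterSystem := ⟨_, rfl⟩
  have := finite_W hp cs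
  have S := sys (K := K) hp hOK cs
  have hG1 := G1_eq_top (K := K) hp cs
  choose a ha using fun i => hd (c i)
  -- products over a list
  have key : ∀ (L : List (Fin l)) (b : Fin l → Kˣ),
      (L.map fun j => hel (eg hp K) (sr j) (b j : K)).prod ∈ (D.diagonalSubgroup K).subgroupOf (D.group K) ∧
      ∀ i u, (L.map fun j => hel (eg hp K) (sr j) (b j : K)).prod * eg hp K (sr i) u *
        ((L.map fun j => hel (eg hp K) (sr j) (b j : K)).prod)⁻¹ =
        eg hp K (sr i) (((L.map fun j => b j ^ cartanOf D l j i).prod : Kˣ) * u) := by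
    intro L b
    induction L with
    | nil => exact ⟨one_mem _, fun i u => by simp⟩
    | cons j L ih =>
      refine ⟨?_, fun i u => ?_⟩
      · rw [List.map_cons, List.prod_cons]
        exact mul_mem (hel_mem S hG1 (isRoot_sr cs hp.isCartan j) (Units.ne_zero _)) ih.1
      · have h1 := ih.2 i u
        have h2 := S.data.hel_conj (isRoot_sr cs hp.isCartan i) (isRoot_sr cs hp.isCartan j) (Units.ne_zero (b j))
          (((L.map fun j => b j ^ cartanOf D l j i).prod : Kˣ) * u)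
        rw [cpr_sr, show pairing (cartanOf D l) j (sr i) = cartanOf D l j i by rw [sr, pairing_single, mul_one]] at h2
        rw [List.map_cons, List.prod_cons, List.map_cons, List.prod_cons, Units.val_mul, mul_assoc (_ : K),
          Units.val_zpow_eq_zpow_val, ← h2, ← h1]
        group
  obtain ⟨h1, h2⟩ := key Finset.univ.toList fun j => ∏ m, a m ^ B m j
  refine ⟨_, h1, fun i u => ?_⟩
  rw [h2, Finset.prod_map_toList]
  congr 3
  calc ∏ j, (∏ m, a m ^ B m j) ^ cartanOf D l j i = ∏ j, ∏ m, a m ^ (B m j * cartanOf D l j i) := by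
        refine Finset.prod_congr rfl fun j _ => ?_
        rw [← Finset.prod_zpow]
        exact Finset.prod_congr rfl fun m _ => (zpow_mul _ _ _).symm
    _ = ∏ m, ∏ j, a m ^ (B m j * cartanOf D l j i) := Finset.prod_comm
    _ = ∏ m, a m ^ (∑ j, B m j * cartanOf D l j i) := by
        refine Finset.prod_congr rfl fun m _ => ?_
        exact prod_zpow' _ _ _
    _ = c i := by
        rw [Finset.prod_eq_single i]
        · rw [hB, if_pos rfl, zpow_natCast, ha]
        · intro m _ hm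
          rw [hB, if_neg hm, zpow_zero]
        · intro h0; exact absurd (Finset.mem_univ i) h0

end Good

end Cfsg.Agent.H737.SK.Chev
end

-- part: H167/SK/Reps
section
/-!
Class representatives of the involutions of `E6(F)`, `E7(F)`, `E8(F)`, `F` a finite field of characteristic two: every
involution is conjugate to a product of root elements `x_j(1)`, `j` in a set of pairwise orthogonal SIMPLE roots
(S3010, TEAM SIDKI, piece (D)).
-/

set_option autoImplicit false

namespace Cfsg.Agent.H167.SK.Reps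

open Cfsg.Lie Cfsg.Agent.ChevalleyStructure Cfsg.Agent.ChevalleyStructure.Elts Cfsg.Agent.ChevalleyStructure.RootVec
  Cfsg.Agent.ChevalleyStructure.RootCombGood Cfsg.Agent.H83.ChevInv Cfsg.Agent.H83.OrthRed Cfsg.Agent.H83.RedGen
  Cfsg.Agent.KFacts.ChevTwoInst Cfsg.Agent.KFacts.ChevTwo Cfsg.Agent.Tits.Core Cfsg.Agent.Nodes.BNOf
  Cfsg.Agent.ChevalleyStructure.CoxeterGeom Cfsg.Agent.Tits.Roots Cfsg.Agent.Nodes.RGDChev Cfsg.Agent.H81.InvGen

universe u

variable {D : ChevalleyDatum} {l : ℕ} {M : CoxeterMatrix (Fin l)}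

theorem coe_prod (hp : Cfsg.Agent.Nodes.RGDChev.IsType D l M) {K : Type u} [Field K] (J : List (Fin l)) :
    (((J.map fun j => eg hp K (sr j) 1).prod : ↥(D.group K)) : GL D.Idx K) =
      PX hp.inList K (J.map fun j : Fin l => D.simple (j : ℕ)) := by
  induction J with
  | nil => rfl
  | cons j J ih =>
    rw [List.map_cons, List.prod_cons, List.map_cons, PX_cons, Subgroup.coe_mul, ih, coe_eg, ev_sr hp]

/-- the general statement: `T` lists, for each representative `R`, a set of simple roots and a word -/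
theorem exists_simple (hp : Cfsg.Agent.Nodes.RGDChev.IsType D l M) {K : Type u} [Field K] [CharP K 2] [Finite K]
    {certs : List Cert} {words reps : List (List ℕ)} {n : ℕ} (h : allchk D certs words reps n = true)
    (Js : List (List (Fin l)))
    (hJ : ∀ R ∈ reps, R = [] ∨ ∃ J ∈ Js, Eqv hp.inList K (J.map fun j : Fin l => D.simple (j : ℕ)) R)
    (g : ↥(D.group K)) (hg : orderOf g = 2) :
    ∃ J ∈ Js, ∃ x : ↥(D.group K), x * g * x⁻¹ = (J.map fun j => eg hp K (sr j) 1).prod := by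
  have hgg : (g : GL D.Idx K) * g = 1 := by
    have h3 := pow_orderOf_eq_one g
    rw [hg, pow_two] at h3
    exact congrArg Subtype.val h3
  obtain ⟨R, hR, k, hk, e⟩ := Cfsg.Agent.H83.Count.exists_rep hp h g.2 hgg
  rcases hJ R hR with rfl | ⟨J, hJ1, y, hy, e2⟩
  · exfalso
    rw [PX_nil] at e
    have h4 : (g : GL D.Idx K) = 1 := by
      have h5 : k * (g : GL D.Idx K) = k := by
        rw [← mul_inv_eq_one]; exact e
      exact mul_eq_left.1 h5
    have h5 : g = 1 := Subtype.ext h4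
    rw [h5, orderOf_one] at hg
    exact absurd hg (by norm_num)
  · refine ⟨J, hJ1, ⟨y⁻¹ * k, mul_mem (inv_mem hy) hk⟩, ?_⟩
    apply Subtype.ext
    rw [coe_prod]
    show y⁻¹ * k * (g : GL D.Idx K) * (y⁻¹ * k)⁻¹ = _
    have e3 : PX hp.inList K (J.map fun j : Fin l => D.simple (j : ℕ)) = y⁻¹ * (k * (g : GL D.Idx K) * k⁻¹) * y := by
      rw [e, ← e2]; group
    rw [e3]
    group

variable {F : Type u} [Field F] [CharP F 2] [Finite F]

/-- the lists of simple roots for `E6` -/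
def J6 : List (List (Fin 6)) := [[0], [0, 1], [0, 1, 4]]

/-- the lists of simple roots for `E7` -/
def J7 : List (List (Fin 7)) := [[0], [0, 1], [1, 4, 6], [0, 1, 4], [1, 4, 6, 0]]

/-- the lists of simple roots for `E8` -/
def J8 : List (List (Fin 8)) := [[0], [0, 1], [0, 1, 4], [0, 1, 4, 6]]

private noncomputable def _root_.Cfsg.Agent.LsF.f1cec8b_0 : {f // @Cfsg.Lie.ChevalleyDatum.simple = f} := ⟨_, by first | (delta Cfsg.Lie.ChevalleyDatum.simple; rewrite [Cfsg.Agent.LsF.agetD_eq]; exact rfl) | exact rfl⟩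
private noncomputable def _root_.Cfsg.Agent.LsF.f1cec8b_1 : {f // @Cfsg.Lie.ChevalleyDatum.cartan = f} := ⟨_, by first | (delta Cfsg.Lie.ChevalleyDatum.cartan; rewrite [Cfsg.Agent.LsF.agetD_eq]; exact rfl) | exact rfl⟩
private noncomputable def _root_.Cfsg.Agent.LsF.f1cec8b_2 : {f // @Cfsg.Lie.ChevalleyDatum.neg = f} := ⟨_, by first | (delta Cfsg.Lie.ChevalleyDatum.neg; rewrite [Cfsg.Agent.LsF.agetD_eq]; exact rfl) | exact rfl⟩
private noncomputable def _root_.Cfsg.Agent.LsF.f1cec8b_3 : {f // @Cfsg.Lie.ChevalleyDatum.chainEntry = f} := ⟨_, by first | (delta Cfsg.Lie.ChevalleyDatum.chainEntry; rewrite [Cfsg.Agent.LsF.instDecEq_eq, Cfsg.Agent.LsF.find?_eq, Cfsg.Agent.LsF.agetD_eq, Cfsg.Agent.LsF.decide_eq]; (try delta Cfsg.Lie.ChevalleyDatum.chainEntry.match_1); (try delta Option.casesOn); exact rfl) | exact rfl⟩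
private noncomputable def _root_.Cfsg.Agent.LsF.f1cec8b_4 : {f // @Cfsg.Lie.ChevalleyDatum.chainRoot = f} := ⟨_, by first | (delta Cfsg.Lie.ChevalleyDatum.chainRoot Option.map; rewrite [Cfsg.Agent.LsF.f1cec8b_3.2, Cfsg.Agent.LsF.nsub_pat, Cfsg.Agent.LsF.instGetElem?_eq]; (try delta Option.getD.match_1); (try delta Option.casesOn); exact rfl) | exact rfl⟩
private noncomputable def _root_.Cfsg.Agent.LsF.f1cec8b_5 : {f // @Cfsg.Lie.ChevalleyDatum.reflectRoot = f} := ⟨_, by first | (delta Cfsg.Lie.ChevalleyDatum.reflectRoot; rewrite [Cfsg.Agent.LsF.f1cec8b_0.2, Cfsg.Agent.LsF.f1cec8b_1.2, Cfsg.Agent.LsF.f1cec8b_2.2, Cfsg.Agent.LsF.f1cec8b_4.2, Cfsg.Agent.LsF.ineg_pat, Cfsg.Agent.LsF.instDecEq_eq, Cfsg.Agent.LsF.ogetD_eq, Cfsg.Agent.LsF.toNat_eq, Cfsg.Agent.LsF.idecLt_eq, Cfsg.Agent.LsF.ite_eq]; exact rfl) | exact rfl⟩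
private noncomputable def _root_.Cfsg.Agent.LsF.f1cec8b_6 : {f // @Cfsg.Agent.ChevalleyStructure.RootWord.wact = f} := ⟨_, by first | (delta Cfsg.Agent.ChevalleyStructure.RootWord.wact; rewrite [Cfsg.Agent.LsF.f1cec8b_5.2, Cfsg.Agent.LsF.foldr_eq]; exact rfl) | exact rfl⟩
/-- **Involutions of `E6(F)`, characteristic two.** -/
theorem reps_E6 {M : CoxeterMatrix (Fin 6)} (hp : Cfsg.Agent.Nodes.RGDChev.IsType chevE6 6 M) (g : ↥(chevE6.group F))
    (hg : orderOf g = 2) :
    ∃ J ∈ J6, ∃ x : ↥(chevE6.group F), x * g * x⁻¹ = (J.map fun j => eg hp F (sr j) 1).prod := by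
  refine exists_simple hp Cfsg.Agent.H83.RedESix.allchk_eq J6 ?_ g hg
  intro R hR
  simp only [Cfsg.Agent.H83.RedESix.reps, List.mem_cons, List.not_mem_nil, or_false] at hR
  rcases hR with rfl | rfl | rfl | rfl
  · exact Or.inl rfl
  · exact Or.inr ⟨[0], by decide, eqv_of_word (w := [1, 3, 4, 5, 2, 3, 4, 1, 3, 2])
      (by decide +kernel) (by decide +kernel) (by decide +kernel)⟩
  · exact Or.inr ⟨[0, 1], by decide, eqv_of_word (w := [0, 2, 3, 4, 1, 3, 4, 5, 2, 3, 4, 1, 3, 2])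
      (by decide +kernel) (by decide +kernel) (by decide +kernel)⟩
  · exact Or.inr ⟨[0, 1, 4], by decide, eqv_of_word (w := [2, 3, 0, 2, 3, 4, 1, 3, 4, 5, 2, 3, 4, 1, 3, 2])
      (by decide +kernel) (by decide +kernel) (by ((try (rewrite [Cfsg.Agent.LsF.f1cec8b_6.2, Cfsg.Agent.LsF.f1cec8b_0.2, Cfsg.Agent.LsF.instDecEq_eq, Cfsg.Agent.LsF.map_eq, Cfsg.Agent.LsF.dListEq_eq, Cfsg.Agent.LsF.decide_eq])); decide +kernel))⟩

/-- **Involutions of `E7(F)`, characteristic two.** -/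
theorem reps_E7 {M : CoxeterMatrix (Fin 7)} (hp : Cfsg.Agent.Nodes.RGDChev.IsType chevE7 7 M) (g : ↥(chevE7.group F))
    (hg : orderOf g = 2) :
    ∃ J ∈ J7, ∃ x : ↥(chevE7.group F), x * g * x⁻¹ = (J.map fun j => eg hp F (sr j) 1).prod := by
  refine exists_simple hp Cfsg.Agent.H83.RedESeven.allchk_eq J7 ?_ g hg
  intro R hR
  simp only [Cfsg.Agent.H83.RedESeven.reps, List.mem_cons, List.not_mem_nil, or_false] at hR
  rcases hR with rfl | rfl | rfl | rfl | rfl | rfl
  · exact Or.inl rfl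
  · exact Or.inr ⟨[0], by decide, eqv_of_word (w := [0, 2, 3, 4, 5, 6, 1, 3, 4, 5, 2, 3, 4, 1, 3, 2])
      (by decide +kernel) (by decide +kernel) (by ((try (rewrite [Cfsg.Agent.LsF.f1cec8b_6.2, Cfsg.Agent.LsF.f1cec8b_0.2, Cfsg.Agent.LsF.instDecEq_eq, Cfsg.Agent.LsF.map_eq, Cfsg.Agent.LsF.dListEq_eq, Cfsg.Agent.LsF.decide_eq])); decide +kernel))⟩
  · exact Or.inr ⟨[0, 1], by decide, eqv_of_word
      (w := [5, 4, 3, 2, 1, 3, 4, 5, 0, 2, 3, 4, 5, 6, 1, 3, 4, 5, 2, 3, 4, 1, 3, 2])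
      (by decide +kernel) (by decide +kernel) (by (delta Cfsg.Agent.ChevalleyStructure.RootWord.wact; rewrite [H90F.dn_fun, H90F.rr_fun, H90F.si_fun, H90F.le_fun, H90F.mp_fun, H90F.fr_fun]; decide +kernel))⟩
  · exact Or.inr ⟨[1, 4, 6], by decide, eqv_of_word
      (w := [5, 6, 4, 5, 3, 4, 1, 3, 0, 2, 3, 4, 5, 6, 1, 3, 4, 5, 2, 3, 4, 0, 2, 3])
      (by decide +kernel) (by decide +kernel) (by (delta Cfsg.Agent.ChevalleyStructure.RootWord.wact; rewrite [H90F.dn_fun, H90F.rr_fun, H90F.si_fun, H90F.le_fun, H90F.mp_fun, H90F.fr_fun]; decide +kernel))⟩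
  · exact Or.inr ⟨[0, 1, 4], by decide, eqv_of_word
      (w := [3, 2, 1, 3, 5, 4, 3, 2, 1, 3, 4, 5, 0, 2, 3, 4, 5, 6, 1, 3, 4, 5, 2, 3, 4, 1, 3, 2])
      (by decide +kernel) (by decide +kernel) (by (delta Cfsg.Agent.ChevalleyStructure.RootWord.wact; rewrite [H90F.dn_fun, H90F.rr_fun, H90F.si_fun, H90F.le_fun, H90F.mp_fun, H90F.fr_fun]; decide +kernel))⟩
  · exact Or.inr ⟨[1, 4, 6, 0], by decide, eqv_of_word
      (w := [3, 4, 2, 1, 5, 6, 4, 5, 3, 4, 1, 3, 0, 2, 3, 4, 5, 6, 1, 3, 4, 5, 2, 3, 4, 0, 2, 3])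
      (by decide +kernel) (by decide +kernel) (by (delta Cfsg.Agent.ChevalleyStructure.RootWord.wact; rewrite [H90F.dn_fun, H90F.rr_fun, H90F.si_fun, H90F.le_fun, H90F.mp_fun, H90F.fr_fun]; decide +kernel))⟩

private noncomputable def _root_.Cfsg.Agent.LsF.f1cec8b_7 : {f // @Cfsg.Agent.H90F.fcr = f} := ⟨_, by first | (delta Cfsg.Agent.H90F.fcr Option.map; rewrite [Cfsg.Agent.LsF.nsub_pat, Cfsg.Agent.LsF.instGetElem?_eq]; (try delta Option.getD.match_1); (try delta Option.casesOn); exact rfl) | exact rfl⟩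
private noncomputable def _root_.Cfsg.Agent.LsF.f1cec8b_8 : {f // @Cfsg.Agent.H90F.frr = f} := ⟨_, by first | (delta Cfsg.Agent.H90F.frr; rewrite [Cfsg.Agent.LsF.f1cec8b_7.2, Cfsg.Agent.LsF.ogetD_eq]; exact rfl) | exact rfl⟩
/-- **Involutions of `E8(F)`, characteristic two.** -/
theorem reps_E8 {M : CoxeterMatrix (Fin 8)} (hp : Cfsg.Agent.Nodes.RGDChev.IsType chevE8 8 M) (g : ↥(chevE8.group F))
    (hg : orderOf g = 2) :
    ∃ J ∈ J8, ∃ x : ↥(chevE8.group F), x * g * x⁻¹ = (J.map fun j => eg hp F (sr j) 1).prod := by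
  refine exists_simple hp Cfsg.Agent.H83.RedEEight.allchk_eq J8 ?_ g hg
  intro R hR
  simp only [Cfsg.Agent.H83.RedEEight.reps, List.mem_cons, List.not_mem_nil, or_false] at hR
  rcases hR with rfl | rfl | rfl | rfl | rfl
  · exact Or.inl rfl
  · exact Or.inr ⟨[0], by decide, eqv_of_word
      (w := [7, 6, 5, 4, 3, 2, 1, 3, 4, 5, 6, 7, 0, 2, 3, 4, 5, 6, 1, 3, 4, 5, 2, 3, 4, 1, 3, 2])
      (by decide +kernel) (by decide +kernel) (by (delta Cfsg.Agent.ChevalleyStructure.RootWord.wact; rewrite [H90F.dn_fun, H90F.rr_fun, H90F.si_fun, H90F.le_fun, H90F.mp_fun, H90F.fr_fun]; decide +kernel))⟩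
  · exact Or.inr ⟨[0, 1], by decide, eqv_of_word
      (w := [0, 2, 3, 4, 5, 1, 3, 4, 2, 3, 0, 2, 1, 3, 4, 5, 7, 6, 5, 4, 3, 2, 1, 3, 4, 5, 6, 7, 0, 2, 3, 4, 5, 6, 1,
        3, 4, 5, 2, 3, 4, 1, 3, 2])
      (by decide +kernel) (by decide +kernel) (by (delta Cfsg.Agent.ChevalleyStructure.RootWord.wact; rewrite [H90F.dn_fun, H90F.rr_fun, H90F.si_fun, H90F.le_fun, H90F.mp_fun, H90F.fr_fun]; decide +kernel))⟩
  · exact Or.inr ⟨[0, 1, 4], by decide, eqv_of_word
      (w := [5, 6, 4, 5, 3, 4, 2, 3, 0, 2, 3, 4, 5, 1, 3, 4, 2, 3, 0, 2, 1, 3, 4, 5, 7, 6, 5, 4, 3, 2, 1, 3, 4, 5, 6,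
        7, 0, 2, 3, 4, 5, 6, 1, 3, 4, 5, 2, 3, 4, 1, 3, 2])
      (by decide +kernel) (by decide +kernel) (by (delta Cfsg.Agent.ChevalleyStructure.RootWord.wact; rewrite [H90F.dn_fun, H90F.rr_fun, H90F.si_fun, H90F.le_fun, H90F.mp_fun, H90F.fr_fun]; ((try (rewrite [Cfsg.Agent.LsF.f1cec8b_8.2])); decide +kernel)))⟩
  · exact Or.inr ⟨[0, 1, 4, 6], by decide, eqv_of_word
      (w := [3, 4, 1, 3, 5, 6, 4, 5, 3, 4, 2, 3, 0, 2, 3, 4, 5, 1, 3, 4, 2, 3, 0, 2, 1, 3, 4, 5, 7, 6, 5, 4, 3, 2, 1,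
        3, 4, 5, 6, 7, 0, 2, 3, 4, 5, 6, 1, 3, 4, 5, 2, 3, 4, 1, 3, 2])
      (by decide +kernel) (by decide +kernel) (by (delta Cfsg.Agent.ChevalleyStructure.RootWord.wact; rewrite [H90F.dn_fun, H90F.rr_fun, H90F.si_fun, H90F.le_fun, H90F.mp_fun, H90F.fr_fun]; ((try (rewrite [Cfsg.Agent.LsF.f1cec8b_8.2])); decide +kernel)))⟩

end Cfsg.Agent.H167.SK.Reps
end

-- part: H737/SK/GoodE78
section
/-!
# S3010: involutions of `E₇(q)`, `E₈(q)`, `q` even, are good (helper737)
-/

set_option autoImplicit false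
set_option linter.unusedSectionVars false

namespace Cfsg.Agent.H737.SK.E78

open CoxeterSystem Cfsg.Agent.ChevalleyStructure.CoxeterGeom Cfsg.Agent.Tits.Roots Cfsg.Agent.Tits.Core
  Cfsg.Agent.Tits.Exchange Cfsg.Agent.Nodes.Reps Cfsg.Agent.Nodes.BNOf Cfsg.Agent.Nodes.Coroot Cfsg.Agent.Nodes.Comb
  Cfsg.Agent.KFacts.RgdField Cfsg.Agent.KFacts.RgdCent Cfsg.Agent.KFacts.ChevTwo Cfsg.Agent.KFacts.RgdSys
  Cfsg.Agent.KFacts.ChevTwoInst Cfsg.Agent.H737.SK.O2 Cfsg.Agent.H282.SK Cfsg.Agent.H737.SK.Gen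
  Cfsg.Agent.H737.SK.Chev
open Cfsg.Lie Cfsg.Agent.ChevalleyStructure Cfsg.Agent.ChevalleyStructure.Elts
  Cfsg.Agent.ChevalleyStructure.RootVec Cfsg.Agent.ChevalleyStructure.FieldIso
  Cfsg.Agent.ChevalleyStructure.CoxeterGeomTypes
open Cfsg.Agent.Nodes Cfsg.Agent.Nodes.RGDChev

universe u v

/-! ### no diagram symmetries -/

theorem inv_step {l : ℕ} {M : CoxeterMatrix (Fin l)} {σ : Equiv.Perm (Fin l)}
    (hσ : ∀ i j, M (σ i) (σ j) = M i j) {g g' : Fin l → ℕ} (hg : ∀ i, g (σ i) = g i)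
    (h : ∀ i, g' i = ∑ j, if M i j = 2 ∨ M i j = 1 then 0 else g j) (i : Fin l) : g' (σ i) = g' i := by
  rw [h, h, ← Equiv.sum_comp σ]
  refine Finset.sum_congr rfl fun j _ => ?_
  rw [hσ, hg]

theorem sym_one {l : ℕ} {g : Fin l → ℕ} {σ : Equiv.Perm (Fin l)}
    (hg : ∀ i, g (σ i) = g i) (hf : ∀ i j, g i = g j → i = j) : σ = 1 := by
  ext i
  rw [Equiv.Perm.one_apply, hf _ _ (hg i)]

theorem sym_E7 (σ : Equiv.Perm (Fin 7)) (hσ : ∀ i j, CoxeterMatrix.E₇ (σ i) (σ j) = CoxeterMatrix.E₇ i j) :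
    σ = 1 := by
  have h1 : ∀ i, (![1, 1, 2, 3, 2, 2, 1] : Fin 7 → ℕ) (σ i) = (![1, 1, 2, 3, 2, 2, 1] : Fin 7 → ℕ) i :=
    inv_step hσ (g := fun _ => 1) (fun _ => rfl) (by decide +kernel)
  have h2 : ∀ i, (![2, 3, 4, 5, 5, 3, 2] : Fin 7 → ℕ) (σ i) = (![2, 3, 4, 5, 5, 3, 2] : Fin 7 → ℕ) i :=
    inv_step hσ h1 (by decide +kernel)
  have h3 : ∀ i, (![4, 5, 7, 12, 8, 7, 3] : Fin 7 → ℕ) (σ i) = (![4, 5, 7, 12, 8, 7, 3] : Fin 7 → ℕ) i :=
    inv_step hσ h2 (by decide +kernel)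
  refine sym_one (g := ![4, 5, 7, 12, 8, 7, 3] + 100 • ![2, 3, 4, 5, 5, 3, 2])
    (fun i => ?_) (by decide)
  rw [Pi.add_apply, Pi.add_apply, Pi.smul_apply, Pi.smul_apply, h2, h3]

theorem sym_E8 (σ : Equiv.Perm (Fin 8)) (hσ : ∀ i j, CoxeterMatrix.E₈ (σ i) (σ j) = CoxeterMatrix.E₈ i j) :
    σ = 1 := by
  have h1 : ∀ i, (![1, 1, 2, 3, 2, 2, 2, 1] : Fin 8 → ℕ) (σ i) = (![1, 1, 2, 3, 2, 2, 2, 1] : Fin 8 → ℕ) i :=
    inv_step hσ (g := fun _ => 1) (fun _ => rfl) (by decide +kernel)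
  have h2 : ∀ i, (![2, 3, 4, 5, 5, 4, 3, 2] : Fin 8 → ℕ) (σ i) = (![2, 3, 4, 5, 5, 4, 3, 2] : Fin 8 → ℕ) i :=
    inv_step hσ h1 (by decide +kernel)
  exact sym_one (g := ![4, 5, 7, 12, 9, 8, 6, 3])
    (fun i => inv_step hσ h2 (by decide +kernel) i) (by decide)

/-- connectedness from the diagram path -/
theorem conn_of {l : ℕ} {M : CoxeterMatrix (Fin l)} (hM : ∀ J : Finset (Fin l), (∃ a, a ∈ J) → (∃ a, a ∉ J) →
    ∃ a ∈ J, ∃ b, b ∉ J ∧ M a b ≠ 2) (J : Set (Fin l)) (h1 : J.Nonempty) (h2 : J ≠ Set.univ) :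
    ∃ a ∈ J, ∃ b, b ∉ J ∧ M a b ≠ 2 := by
  classical
  have h3 : ∃ a, a ∉ J := by
    by_contra hcon
    push Not at hcon
    exact h2 (Set.eq_univ_of_forall hcon)
  have := hM J.toFinset (by simpa only [_root_.Set.mem_toFinset] using (show ∃ a, a ∈ J from h1)) (by simpa only [_root_.Set.mem_toFinset] using h3)
  simpa only [_root_.ne_eq, _root_.Set.mem_toFinset] using this

set_option backward.isDefEq.respectTransparency false in
theorem conn_E7 : ∀ J : Finset (Fin 7), (∃ a, a ∈ J) → (∃ a, a ∉ J) →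
    ∃ a ∈ J, ∃ b, b ∉ J ∧ CoxeterMatrix.E₇ a b ≠ 2 := by (refine of_decide_eq_true ?_; (try (rewrite [Cfsg.Agent.LsF.finFintype_eq, Cfsg.Agent.LsF.dForall_eq, Cfsg.Agent.LsF.dFMem_eq, Cfsg.Agent.LsF.instDecEq_eq, Cfsg.Agent.LsF.dAnd_eq, Cfsg.Agent.LsF.dNot_eq, Cfsg.Agent.LsF.dFinEq_eq, Cfsg.Agent.LsF.dExistsFin_eq, Cfsg.Agent.LsF.dAllP_eq, Cfsg.Agent.LsF.decide_eq])); decide +kernel)

set_option backward.isDefEq.respectTransparency false in
theorem conn_E8 : ∀ J : Finset (Fin 8), (∃ a, a ∈ J) → (∃ a, a ∉ J) →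
    ∃ a ∈ J, ∃ b, b ∉ J ∧ CoxeterMatrix.E₈ a b ≠ 2 := by (refine of_decide_eq_true ?_; (try (rewrite [Cfsg.Agent.LsF.finFintype_eq, Cfsg.Agent.LsF.dForall_eq, Cfsg.Agent.LsF.dFMem_eq, Cfsg.Agent.LsF.instDecEq_eq, Cfsg.Agent.LsF.dAnd_eq, Cfsg.Agent.LsF.dNot_eq, Cfsg.Agent.LsF.dFinEq_eq, Cfsg.Agent.LsF.dExistsFin_eq, Cfsg.Agent.LsF.dAllP_eq, Cfsg.Agent.LsF.decide_eq])); decide +kernel)

section

variable {D : ChevalleyDatum} {l : ℕ} {M : CoxeterMatrix (Fin l)} (hp : IsType D l M) {W : Type*} [Group W]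
  (cs : CoxeterSystem M W)

theorem cpr_simple (i j : Fin l) : cpr cs hp.isCartan (sr i) (sr j) = D.cartan j (D.simple i) := by
  have := finite_W hp cs
  rw [cpr_sr, ← vec_simple hp i, pairing_vec hp j (NPerm.simple_lt hp.inList (lt_rank hp i))]

theorem orth_of {J : List (Fin l)} (hJ : J.Pairwise fun i j : Fin l => i ≠ j ∧ D.cartan (i : ℕ) (D.simple (j : ℕ)) = 0) :
    Orth cs hp.isCartan J := by
  have := finite_W hp cs
  refine ⟨hJ.imp fun h => h.1, fun i hi j hj hij => ?_⟩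
  have h1 : J.Pairwise fun i j => cpr cs hp.isCartan (sr i) (sr j) = 0 := by
    refine hJ.imp fun {i j} h => ?_
    rw [cpr_zero_comm cs hp.isCartan (isRoot_sr cs hp.isCartan i) (isRoot_sr cs hp.isCartan j), cpr_simple hp cs]
    exact h.2
  have h2 : ∀ a b : Fin l, cpr cs hp.isCartan (sr a) (sr b) = 0 → cpr cs hp.isCartan (sr b) (sr a) = 0 := by
    intro a b h
    rwa [cpr_zero_comm cs hp.isCartan (isRoot_sr cs hp.isCartan b) (isRoot_sr cs hp.isCartan a)]
  have : Std.Symm fun a b : Fin l => cpr cs hp.isCartan (sr a) (sr b) = 0 := ⟨h2⟩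
  exact h1.forall hi hj hij

variable {K : Type u} [Field K] [Finite K] [CharP K 2] (hOK : TwoOK D)
  (hD : D ∈ [chevD4, chevF4, chevE6, chevE7, chevE8])

include hOK hD in
/-- **Goodness for types without diagram symmetries** -/
theorem good_of_perp [Nonempty (Fin l)]
    (hconn : ∀ J : Set (Fin l), J.Nonempty → J ≠ Set.univ → ∃ a ∈ J, ∃ b, b ∉ J ∧ M a b ≠ 2)
    {d : ℕ} {B : Fin l → Fin l → ℤ} (hB : ∀ m i, ∑ j, B m j * cartanOf D l j i = if m = i then (d : ℤ) else 0)
    (hd : ∀ b : Kˣ, ∃ a : Kˣ, a ^ d = b)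
    (hsym : ∀ σ : Equiv.Perm (Fin l), (∀ i j, M (σ i) (σ j) = M i j) → σ = 1)
    {J : List (Fin l)} (hJ : J.Pairwise fun i j : Fin l => i ≠ j ∧ D.cartan (i : ℕ) (D.simple (j : ℕ)) = 0)
    (hr : ∃ r < D.nroots, ∀ j ∈ J, D.cartan (j : ℕ) r = 0) :
    _root_.Cfsg.Agent.H282.SK.Good (J.map fun j => eg hp K (sr j) 1).prod := by
  obtain ⟨cs, -⟩ : ∃ cs : CoxeterSystem M M.Group, cs = M.toCoxeterSystem := ⟨_, rfl⟩
  have := finite_W hp cs
  have S := sys (K := K) hp hOK cs
  have hJ' := orth_of hp cs hJ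
  obtain ⟨r, hr, hrJ⟩ := hr
  have hb := isRoot_vec hp cs hr
  have hbJ : ∀ j ∈ J, cpr cs hp.isCartan (vec D l r) (sr j) = 0 := by
    intro j hj
    rw [cpr_sr, pairing_vec hp j hr, hrJ j hj]
  refine good_chev hp hOK hD cs hJ' fun f hf α _ _ _ hα => ?_
  obtain ⟨g, -, hg⟩ := KFacts.ChevTwoAut.inner_of_fix S (G1_eq_top hp cs) (Chev.noCent hp hD cs) hconn
    (htor_of hp hOK hB hd) hsym hb (α := α) fun z hz => hα z (by
      rw [Subgroup.mem_inf, Subgroup.mem_centralizer_singleton_iff, Subgroup.mem_centralizer_singleton_iff]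
      exact ⟨(perp_comm S hb hbJ hz fun j _ => nel_mem S j).eq, (perp_comm S hb hbJ hz hf).eq⟩)
  exact ⟨g, hg⟩

end

theorem sq_surj {K : Type u} [Field K] [Finite K] [CharP K 2] (b : Kˣ) : ∃ a : Kˣ, a ^ 2 = b := by
  obtain ⟨a, ha⟩ := (frobeniusEquiv K 2).surjective (b : K)
  have ha' : a ^ 2 = b := ha
  have h0 : a ≠ 0 := by
    rintro rfl
    rw [zero_pow two_ne_zero] at ha'
    exact b.ne_zero ha'.symm
  exact ⟨Units.mk0 a h0, Units.ext ha'⟩

private noncomputable def _root_.Cfsg.Agent.LsF.f1cec8b_9 : {f // @Cfsg.Agent.ChevalleyStructure.CoxeterGeomTypes.cartanOf = f} := ⟨_, by first | (delta Cfsg.Agent.ChevalleyStructure.CoxeterGeomTypes.cartanOf; rewrite [Cfsg.Agent.LsF.f1cec8b_1.2, Cfsg.Agent.LsF.f1cec8b_0.2]; exact rfl) | exact rfl⟩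
theorem invE7 : ∀ m i : Fin 7, ∑ j, (![![4, 4, 6, 8, 6, 4, 2], ![4, 7, 8, 12, 9, 6, 3], ![6, 8, 12, 16, 12, 8, 4],
    ![8, 12, 16, 24, 18, 12, 6], ![6, 9, 12, 18, 15, 10, 5], ![4, 6, 8, 12, 10, 8, 4],
    ![2, 3, 4, 6, 5, 4, 3]] : Fin 7 → Fin 7 → ℤ) m j * cartanOf chevE7 7 j i = if m = i then ((2 : ℕ) : ℤ) else 0 := by
  (refine of_decide_eq_true ?_; (try (rewrite [Cfsg.Agent.LsF.sumF_pat, Cfsg.Agent.LsF.f1cec8b_9.2, Cfsg.Agent.LsF.iadd_pat, Cfsg.Agent.LsF.imul_pat, Cfsg.Agent.LsF.icast_pat, Cfsg.Agent.LsF.vecCons_eq, Cfsg.Agent.LsF.iACM_eq, Cfsg.Agent.LsF.instIDecEq_eq, Cfsg.Agent.LsF.dFinEq_eq, Cfsg.Agent.LsF.dForallFin_eq, Cfsg.Agent.LsF.ite_eq, Cfsg.Agent.LsF.decide_eq])); decide +kernel)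

theorem invE8 : ∀ m i : Fin 8, ∑ j, (![![4, 5, 7, 10, 8, 6, 4, 2], ![5, 8, 10, 15, 12, 9, 6, 3],
    ![7, 10, 14, 20, 16, 12, 8, 4], ![10, 15, 20, 30, 24, 18, 12, 6], ![8, 12, 16, 24, 20, 15, 10, 5],
    ![6, 9, 12, 18, 15, 12, 8, 4], ![4, 6, 8, 12, 10, 8, 6, 3], ![2, 3, 4, 6, 5, 4, 3, 2]] : Fin 8 → Fin 8 → ℤ) m j *
    cartanOf chevE8 8 j i = if m = i then ((1 : ℕ) : ℤ) else 0 := by
  (delta Cfsg.Agent.ChevalleyStructure.CoxeterGeomTypes.cartanOf; refine of_decide_eq_true ?_; rewrite [H90F.dz_fun, H90F.fq_fun, H90F.si_fun, H90F.ca_fun, H90F.ff_fun, H90F.vc_fun, H90F.sm_fun]; decide +kernel)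

theorem perp7 : ∀ J ∈ Cfsg.Agent.H167.SK.Reps.J7, ∃ r < chevE7.nroots, ∀ j ∈ J, chevE7.cartan (j : ℕ) r = 0 := by
  decide +kernel

theorem perp8 : ∀ J ∈ Cfsg.Agent.H167.SK.Reps.J8, ∃ r < chevE8.nroots, ∀ j ∈ J, chevE8.cartan (j : ℕ) r = 0 := by
  decide +kernel

theorem orth7 : ∀ J ∈ Cfsg.Agent.H167.SK.Reps.J7,
    J.Pairwise fun i j : Fin 7 => i ≠ j ∧ chevE7.cartan (i : ℕ) (chevE7.simple (j : ℕ)) = 0 := by
  decide +kernel

theorem orth8 : ∀ J ∈ Cfsg.Agent.H167.SK.Reps.J8,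
    J.Pairwise fun i j : Fin 8 => i ≠ j ∧ chevE8.cartan (i : ℕ) (chevE8.simple (j : ℕ)) = 0 := by
  decide +kernel

theorem isType_E7 : IsType chevE7 7 CoxeterMatrix.E₇ := by simp [IsType, typeList]
theorem isType_E8 : IsType chevE8 8 CoxeterMatrix.E₈ := by simp [IsType, typeList]

theorem orderOf_two {G : Type*} [Group G] {y : G} (h1 : y ≠ 1) (h2 : y * y = 1) : orderOf y = 2 :=
  orderOf_eq_prime (by rw [pow_two, h2]) h1

theorem good_E7 {F : Type u} [Field F] [Finite F] [CharP F 2] (y : ↥(chevE7.group F)) (h1 : y ≠ 1) (h2 : y * y = 1) :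
    _root_.Cfsg.Agent.H282.SK.Good y := by
  obtain ⟨J, hJ, x, e⟩ := Cfsg.Agent.H167.SK.Reps.reps_E7 isType_E7 y (orderOf_two h1 h2)
  have h3 : _root_.Cfsg.Agent.H282.SK.Good (J.map fun j => eg isType_E7 F (sr j) 1).prod :=
    good_of_perp isType_E7 twoOK_E7 (by simp) (conn_of conn_E7) invE7 sq_surj sym_E7
      (orth7 J hJ) (perp7 J hJ)
  rw [← e] at h3
  have h4 := h3.conj x⁻¹
  have h5 : x⁻¹ * (x * y * x⁻¹) * x⁻¹⁻¹ = y := by group
  rwa [h5] at h4

theorem good_E8 {F : Type u} [Field F] [Finite F] [CharP F 2] (y : ↥(chevE8.group F)) (h1 : y ≠ 1) (h2 : y * y = 1) :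
    _root_.Cfsg.Agent.H282.SK.Good y := by
  obtain ⟨J, hJ, x, e⟩ := Cfsg.Agent.H167.SK.Reps.reps_E8 isType_E8 y (orderOf_two h1 h2)
  have h3 : _root_.Cfsg.Agent.H282.SK.Good (J.map fun j => eg isType_E8 F (sr j) 1).prod :=
    good_of_perp isType_E8 twoOK_E8 (by simp) (conn_of conn_E8) invE8 (fun b => ⟨b, pow_one b⟩) sym_E8
      (orth8 J hJ) (perp8 J hJ)
  rw [← e] at h3
  have h4 := h3.conj x⁻¹
  have h5 : x⁻¹ * (x * y * x⁻¹) * x⁻¹⁻¹ = y := by group
  rwa [h5] at h4

end Cfsg.Agent.H737.SK.E78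
end

-- part: H737/SK/E6Core
section
/-!
# S3010, `E₆(q)`, `q` even: explicit elements (helper737)

* `step`, `rep_word`, `isRoot_word`, `cpr_word` : computations with words;
* `pair_comm` : `e b 1 * e b' 1` with `b' = w_J b` commutes with `nJ` and `tJ`;
* `ne_gra_1`, `ne_gra_124` : the graph automorphism moves elements of `C`;
* `noncomm_05` : two elements of `C(v)` for `J = [0, 5]`.
-/

set_option autoImplicit false
set_option linter.unusedSectionVars false

namespace Cfsg.Agent.H737.SK.Gen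

open CoxeterSystem Cfsg.Agent.ChevalleyStructure.CoxeterGeom Cfsg.Agent.Tits.Roots Cfsg.Agent.Tits.Core
  Cfsg.Agent.Tits.Exchange Cfsg.Agent.Nodes.Reps Cfsg.Agent.Nodes.BNOf Cfsg.Agent.Nodes.StabComb
  Cfsg.Agent.Nodes.Bruhat Cfsg.Agent.Nodes.OppDec Cfsg.Agent.Nodes.LeviDec Cfsg.Agent.Nodes.NormalForm
  Cfsg.Agent.Nodes.Coroot Cfsg.Agent.Nodes.Comb
  Cfsg.Agent.KFacts.RgdField Cfsg.Agent.BpExc.TorCent Cfsg.Agent.KFacts.RgdOpp Cfsg.Agent.KFacts.RgdCent
  Cfsg.Agent.KFacts.ChevTwo Cfsg.Agent.KFacts.RgdSys Cfsg.Agent.H737.SK.O2 Cfsg.Agent.H282.SK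
  Cfsg.Agent.KFacts.RgdRigid Cfsg.Agent.H297.SK
open scoped commutatorElement

section word

variable {I W : Type*} [Fintype I] [DecidableEq I] [Group W] {M : CoxeterMatrix I}
variable {cs : CoxeterSystem M W} {A : I → I → ℤ} {h : IsCartan M A}

/-- one reflection -/
def step (A : I → I → ℤ) (i : I) (x : I → ℤ) : I → ℤ := x - pairing A i x • sr i

theorem rep_word (ω : List I) (x : I → ℤ) : rep cs h (cs.wordProd ω) x = ω.foldr (step A) x := by
  induction ω with
  | nil => rw [wordProd_nil, map_one, Module.End.one_apply, List.foldr_nil]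
  | cons i ω ih => rw [wordProd_cons, rep_mul_apply, ih, rep_simple_eq, List.foldr_cons, step]

theorem isRoot_word {ω : List I} {i : I} {y : I → ℤ} (hy : ω.foldr (step A) (sr i) = y) : IsRoot cs h y := by
  rw [← hy, ← rep_word (cs := cs) (h := h)]
  exact (isRoot_sr cs h i).act _

theorem cpr_word [Finite W] {ω : List I} {i : I} {x y : I → ℤ} (hy : ω.foldr (step A) (sr i) = y) {c : ℤ}
    (hc : pairing A i (ω.reverse.foldr (step A) x) = c) : cpr cs h x y = c := by
  rw [← hy, ← rep_word (cs := cs) (h := h), cpr_rep_sr, ← cs.wordProd_reverse, rep_word, hc]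

end word

variable {I W Y K : Type*} [Fintype I] [DecidableEq I] [Group W] [Group Y] [Field K] {M : CoxeterMatrix I}
variable {cs : CoxeterSystem M W} {A : I → I → ℤ} {h : IsCartan M A} {e : (I → ℤ) → K → Y}
  {T : Subgroup Y} {n : I → Y} {X : (I → ℤ) → Subgroup Y}

/-- a pair of orthogonal roots exchanged by `w_J` -/
theorem pair_comm [Finite W] {R : RGD cs h 2 T n X} (S : Sys R e) {J : List I}
    {b b' : I → ℤ} (hb : IsRoot cs h b) (hb' : IsRoot cs h b') (h0 : cpr cs h b b' = 0)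
    (hw : rep cs h (cs.wordProd J) b = b') (hw' : rep cs h (cs.wordProd J) b' = b)
    (hs : (J.map fun j => cpr cs h b (sr j)).sum = 0) (hs' : (J.map fun j => cpr cs h b' (sr j)).sum = 0) {c : K}
    (hc : c ≠ 0) : e b 1 * e b' 1 ∈ Subgroup.centralizer {pr J fun j => nel e (sr j)} ⊓
      Subgroup.centralizer {pr J fun j => hel e (sr j) c} := by
  have hcm := S.data.comm_of_nonneg hb hb' (le_of_eq h0.symm) 1 1
  rw [Subgroup.mem_inf, Subgroup.mem_centralizer_singleton_iff, Subgroup.mem_centralizer_singleton_iff]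
  constructor
  · have h1 := word_act S J hb (1 : K)
    have h2 := word_act S J hb' (1 : K)
    rw [hw] at h1
    rw [hw'] at h2
    have h3 : pr J (fun j => nel e (sr j)) * (e b 1 * e b' 1) * (pr J fun j => nel e (sr j))⁻¹ = e b 1 * e b' 1 := by
      calc pr J (fun j => nel e (sr j)) * (e b 1 * e b' 1) * (pr J fun j => nel e (sr j))⁻¹
          = (pr J (fun j => nel e (sr j)) * e b 1 * (pr J fun j => nel e (sr j))⁻¹) *
            (pr J (fun j => nel e (sr j)) * e b' 1 * (pr J fun j => nel e (sr j))⁻¹) := by group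
        _ = e b 1 * e b' 1 := by rw [h1, h2, hcm]
    exact (mul_inv_eq_iff_eq_mul.1 h3).symm
  · have h1 := tJ_act S hb hc J (1 : K)
    have h2 := tJ_act S hb' hc J (1 : K)
    rw [hs, zpow_zero, one_mul] at h1
    rw [hs', zpow_zero, one_mul] at h2
    have h3 : pr J (fun j => hel e (sr j) c) * (e b 1 * e b' 1) * (pr J fun j => hel e (sr j) c)⁻¹ = e b 1 * e b' 1 := by
      calc pr J (fun j => hel e (sr j) c) * (e b 1 * e b' 1) * (pr J fun j => hel e (sr j) c)⁻¹
          = (pr J (fun j => hel e (sr j) c) * e b 1 * (pr J fun j => hel e (sr j) c)⁻¹) *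
            (pr J (fun j => hel e (sr j) c) * e b' 1 * (pr J fun j => hel e (sr j) c)⁻¹) := by group
        _ = e b 1 * e b' 1 := by rw [h1, h2]
    exact (mul_inv_eq_iff_eq_mul.1 h3).symm

end Cfsg.Agent.H737.SK.Gen

namespace Cfsg.Agent.H737.SK.E6

open CoxeterSystem Cfsg.Agent.ChevalleyStructure.CoxeterGeom Cfsg.Agent.Tits.Roots Cfsg.Agent.Tits.Core
  Cfsg.Agent.Tits.Exchange Cfsg.Agent.Nodes.Reps Cfsg.Agent.Nodes.BNOf Cfsg.Agent.Nodes.Coroot Cfsg.Agent.Nodes.Comb
  Cfsg.Agent.KFacts.RgdField Cfsg.Agent.KFacts.RgdCent Cfsg.Agent.KFacts.ChevTwo Cfsg.Agent.KFacts.RgdSys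
  Cfsg.Agent.KFacts.ChevTwoInst Cfsg.Agent.H737.SK.O2 Cfsg.Agent.H282.SK Cfsg.Agent.H737.SK.Gen
  Cfsg.Agent.H737.SK.Chev
open Cfsg.Lie Cfsg.Agent.ChevalleyStructure Cfsg.Agent.ChevalleyStructure.Elts
  Cfsg.Agent.ChevalleyStructure.RootVec Cfsg.Agent.ChevalleyStructure.FieldIso
  Cfsg.Agent.ChevalleyStructure.CoxeterGeomTypes
open Cfsg.Agent.Nodes Cfsg.Agent.Nodes.RGDChev

universe u

abbrev A6 : Fin 6 → Fin 6 → ℤ := cartanOf chevE6 6

def s6 : Fin 6 → Fin 6 := ![5, 1, 4, 3, 2, 0]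

variable {W Y K : Type*} [Group W] [Group Y] [Field K] {M : CoxeterMatrix (Fin 6)}
variable {cs : CoxeterSystem M W} {h : IsCartan M A6} {e : (Fin 6 → ℤ) → K → Y}
  {T : Subgroup Y} {n : Fin 6 → Y} {X : (Fin 6 → ℤ) → Subgroup Y}

/-- `α₁+α₃+α₄+α₅` -/
def b1 : Fin 6 → ℤ := ![0, 1, 0, 1, 1, 1]
/-- `α₂+α₃+α₄+α₅` -/
def b2 : Fin 6 → ℤ := ![0, 0, 1, 1, 1, 1]

theorem w_b1 : [5, 4, 3].foldr (step A6) (sr 1) = b1 := by decide +kernel
theorem w_b2 : [5, 4, 3].foldr (step A6) (sr 2) = b2 := by decide +kernel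
theorem w_b1g : [0, 2, 3].foldr (step A6) (sr 1) = (fun i => b1 (s6 i)) := by decide +kernel
theorem w_b2g : [0, 2, 3].foldr (step A6) (sr 4) = (fun i => b2 (s6 i)) := by decide +kernel

theorem r_b1 : IsRoot cs h b1 := isRoot_word w_b1
theorem r_b2 : IsRoot cs h b2 := isRoot_word w_b2
theorem r_b1g : IsRoot cs h (fun i => b1 (s6 i)) := isRoot_word w_b1g
theorem r_b2g : IsRoot cs h (fun i => b2 (s6 i)) := isRoot_word w_b2g

/-- the orthogonal root for `J = [1, 2, 4]` -/
def b4 : Fin 6 → ℤ := ![0, 1, 1, 2, 1, 0]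
theorem w_b4 : [3, 4, 2, 3].foldr (step A6) (sr 1) = b4 := by decide +kernel
theorem r_b4 : IsRoot cs h b4 := isRoot_word w_b4
theorem perp_b4 [Finite W] : ∀ j ∈ [(1 : Fin 6), 2, 4], cpr cs h b4 (sr j) = 0 := by
  have key : ∀ j ∈ [(1 : Fin 6), 2, 4], pairing A6 j b4 = 0 := by decide +kernel
  intro j hj
  rw [cpr_sr]
  exact key j hj

section

variable [Finite W] {R : RGD cs h 2 T n X} (S : _root_.Cfsg.Agent.KFacts.ChevTwo.Sys R e)

include S

theorem mem_U {x : Fin 6 → ℤ} (hx : IsRoot cs h x) (h0 : 0 ≤ x) (a : K) : e x a ∈ RGD.Sup X (RGD.Pos cs h) :=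
  RGD.le_Sup (S := RGD.Pos cs h) (X := X) ⟨hx, h0⟩ (S.mem hx a)

/-- different simple root elements are different -/
theorem ne_sr {i j : Fin 6} (hij : i ≠ j) : e (sr j) 1 ≠ e (sr i) 1 := by
  intro h1
  have h2 := S.data.refl i _ (isRoot_sr cs h i) 1
  have h3 := S.data.refl i _ (isRoot_sr cs h j) 1
  rw [h1, h2, rep_simple_sr] at h3
  have h4 : (0 : Fin 6 → ℤ) ≤ rep cs h (cs.simple i) (sr j) := by
    refine (isRoot_sr cs h j).simple_nonneg (sr_nonneg j) i fun h0 => hij ?_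
    by_contra hne
    have h5 := congrFun h0 j
    rw [sr_self, sr_ne (Ne.symm hij)] at h5
    exact one_ne_zero h5
  exact ne_of_neg S (isRoot_sr cs h i).neg (neg_nonpos.2 (sr_nonneg i))
    (mem_U S ((isRoot_sr cs h j).act _) h4 1) h3

variable {γ : MulAut Y} (hγ : Gra cs h e γ s6)

include hγ

/-- `J = [1]` -/
theorem ne_gra_1 : γ (e (sr 0) 1) ≠ e (sr 0) 1 := by
  rw [hγ.map _ (isRoot_sr cs h 0), sr_comp hγ.invol]
  exact ne_sr S (show (0 : Fin 6) ≠ s6 0 by decide)

/-- `J = [1, 2, 4]` -/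
theorem ne_gra_124 : γ (e b1 1 * e b2 1) ≠ e b1 1 * e b2 1 := by
  rw [map_mul, hγ.map _ r_b1, hγ.map _ r_b2]
  intro h1
  have k1 : ∀ k, ([5, 4, 3, 1] : List (Fin 6)).foldr (step A6) b1 k ≤ 0 := by decide +kernel
  have k2 : ∀ k, 0 ≤ ([5, 4, 3, 1] : List (Fin 6)).foldr (step A6) b2 k := by decide +kernel
  have k3 : ∀ k, 0 ≤ ([5, 4, 3, 1] : List (Fin 6)).foldr (step A6) (fun i => b1 (s6 i)) k := by decide +kernel
  have k4 : ∀ k, 0 ≤ ([5, 4, 3, 1] : List (Fin 6)).foldr (step A6) (fun i => b2 (s6 i)) k := by decide +kernel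
  have a1 := word_act S [5, 4, 3, 1] (r_b1 (cs := cs) (h := h)) (1 : K)
  have a2 := word_act S [5, 4, 3, 1] (r_b2 (cs := cs) (h := h)) (1 : K)
  have a3 := word_act S [5, 4, 3, 1] (r_b1g (cs := cs) (h := h)) (1 : K)
  have a4 := word_act S [5, 4, 3, 1] (r_b2g (cs := cs) (h := h)) (1 : K)
  obtain ⟨g, hg⟩ : ∃ g, g = _root_.Cfsg.Agent.H737.SK.Gen.pr [5, 4, 3, 1] fun j => nel e (sr j) := ⟨_, rfl⟩
  rw [← hg] at a1 a2 a3 a4
  have h2 : g * e b1 1 * g⁻¹ = (g * e (fun i => b1 (s6 i)) 1 * g⁻¹) * (g * e (fun i => b2 (s6 i)) 1 * g⁻¹) *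
      (g * e b2 1 * g⁻¹)⁻¹ := by
    have h3 : e b1 1 = e (fun i => b1 (s6 i)) 1 * e (fun i => b2 (s6 i)) 1 * (e b2 1)⁻¹ := by
      rw [h1]; group
    rw [h3]; group
  rw [a1, a2, a3, a4] at h2
  refine ne_of_neg S ((r_b1 (cs := cs) (h := h)).act _) (by rw [rep_word]; exact k1) ?_ h2
  exact mul_mem (mul_mem (mem_U S ((r_b1g (cs := cs) (h := h)).act _) (by rw [rep_word]; exact k3) 1)
    (mem_U S ((r_b2g (cs := cs) (h := h)).act _) (by rw [rep_word]; exact k4) 1))
    (inv_mem (mem_U S ((r_b2 (cs := cs) (h := h)).act _) (by rw [rep_word]; exact k2) 1))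

omit hγ in
/-- the pair `b1`, `b2` for `J = [1, 2, 4]` -/
theorem pair_124 {c : K} (hc : c ≠ 0) : e b1 1 * e b2 1 ∈
    Subgroup.centralizer {_root_.Cfsg.Agent.H737.SK.Gen.pr [(1 : Fin 6), 2, 4] fun j => nel e (sr j)} ⊓
      Subgroup.centralizer {_root_.Cfsg.Agent.H737.SK.Gen.pr [(1 : Fin 6), 2, 4] fun j => hel e (sr j) c} := by
  refine pair_comm S r_b1 r_b2 (cpr_word w_b2 (by decide +kernel)) ?_ ?_ ?_ ?_ hc
  · rw [rep_word]; decide +kernel
  · rw [rep_word]; decide +kernel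
  · simp only [cpr_sr]; decide +kernel
  · simp only [cpr_sr]; decide +kernel

omit hγ in
/-- the commutator of two root elements -/
theorem mul_of_neg {x y z : Fin 6 → ℤ} (hx : IsRoot cs h x) (hy : IsRoot cs h y) (h1 : cpr cs h x y = -1)
    (h2 : cpr cs h y x = -1) (hz : x + y = z) : e x 1 * e y 1 = e z 1 * (e y 1 * e x 1) := by
  have h3 := S.data.comm1 x y hx hy h1 h2 1 1
  rw [hz, mul_one, commutatorElement_def] at h3
  rw [← h3]; group

omit hγ in
theorem comm_of_zero {x y : Fin 6 → ℤ} (hx : IsRoot cs h x) (hy : IsRoot cs h y) (h1 : 0 ≤ cpr cs h x y) :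
    e x 1 * e y 1 = e y 1 * e x 1 := S.data.comm_of_nonneg hx hy h1 1 1

/-- `J = [0, 5]`: two elements of `C(v)` whose "commutators" with `γ` do not commute. -/
theorem noncomm_05 : ∃ c₁ c₂ : Y,
    c₁ * (_root_.Cfsg.Agent.H737.SK.Gen.pr [(0 : Fin 6), 5] fun j => nel e (sr j)) = (_root_.Cfsg.Agent.H737.SK.Gen.pr [(0 : Fin 6), 5] fun j => nel e (sr j)) * c₁ ∧
    c₂ * (_root_.Cfsg.Agent.H737.SK.Gen.pr [(0 : Fin 6), 5] fun j => nel e (sr j)) = (_root_.Cfsg.Agent.H737.SK.Gen.pr [(0 : Fin 6), 5] fun j => nel e (sr j)) * c₂ ∧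
    (c₁ * (γ c₁)⁻¹) * (c₂ * (γ c₂)⁻¹) ≠ (c₂ * (γ c₂)⁻¹) * (c₁ * (γ c₁)⁻¹) := by
  have hJ : Orth cs h [(0 : Fin 6), 5] := by
    refine ⟨by decide, ?_⟩
    have key : ∀ i ∈ [(0 : Fin 6), 5], ∀ j ∈ [(0 : Fin 6), 5], i ≠ j → pairing A6 j (sr i) = 0 := by decide +kernel
    intro i hi j hj hij
    rw [cpr_sr]
    exact key i hi j hj hij
  -- roots
  have wa : ([2] : List (Fin 6)).foldr (step A6) (sr 0) = ![1, 0, 1, 0, 0, 0] := by decide +kernel
  have wb : ([4] : List (Fin 6)).foldr (step A6) (sr 5) = ![0, 0, 0, 0, 1, 1] := by decide +kernel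
  have ra : IsRoot cs h ![1, 0, 1, 0, 0, 0] := isRoot_word wa
  have rb : IsRoot cs h ![0, 0, 0, 0, 1, 1] := isRoot_word wb
  have r0 := isRoot_sr cs h (0 : Fin 6)
  have r2 := (isRoot_sr cs h (2 : Fin 6)).neg
  have r4 := (isRoot_sr cs h (4 : Fin 6)).neg
  have r5 := isRoot_sr cs h (5 : Fin 6)
  have w2 : ([2] : List (Fin 6)).foldr (step A6) (sr 2) = -sr 2 := by decide +kernel
  have w4 : ([4] : List (Fin 6)).foldr (step A6) (sr 4) = -sr 4 := by decide +kernel
  obtain ⟨g, hg⟩ : ∃ g, g = _root_.Cfsg.Agent.H737.SK.Gen.pr [(0 : Fin 6), 5] fun j => e (sr j) 1 * nel e (sr j) := ⟨_, rfl⟩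
  have hγg : γ g = g := by
    rw [hg]
    refine hγ.pr S hJ (by decide) (fun j _ => mul_mem (e_mem S j _) (nel_mem S j)) fun j => ?_
    rw [map_mul, hγ.nel, hγ.map _ (isRoot_sr cs h j), sr_comp hγ.invol]
  have hv : (_root_.Cfsg.Agent.H737.SK.Gen.pr [(0 : Fin 6), 5] fun j => nel e (sr j)) = g * (e (sr 0) 1 * e (sr 5) 1) * g⁻¹ := by
    have h1 : (_root_.Cfsg.Agent.H737.SK.Gen.pr [(0 : Fin 6), 5] fun j => e (sr j) 1) = e (sr 0) 1 * e (sr 5) 1 := by
      rw [pr_cons, pr_cons, pr_nil, mul_one]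
    rw [nJ_conj S hJ, hg, h1]
  have hgr : ∀ c, c * (e (sr 0) 1 * e (sr 5) 1) = (e (sr 0) 1 * e (sr 5) 1) * c →
      (g * c * g⁻¹) * (_root_.Cfsg.Agent.H737.SK.Gen.pr [(0 : Fin 6), 5] fun j => nel e (sr j)) =
        (_root_.Cfsg.Agent.H737.SK.Gen.pr [(0 : Fin 6), 5] fun j => nel e (sr j)) * (g * c * g⁻¹) := by
    intro c hc
    rw [hv]
    calc (g * c * g⁻¹) * (g * (e (sr 0) 1 * e (sr 5) 1) * g⁻¹) = g * (c * (e (sr 0) 1 * e (sr 5) 1)) * g⁻¹ := by group
      _ = g * ((e (sr 0) 1 * e (sr 5) 1) * c) * g⁻¹ := by rw [hc]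
      _ = _ := by group
  have g4 : γ (e (-sr 4) 1) = e (-sr 2) 1 := by
    rw [hγ.map _ r4]
    congr 1
    decide
  have ga : γ (e ![1, 0, 1, 0, 0, 0] 1) = e ![0, 0, 0, 0, 1, 1] 1 := by
    rw [hγ.map _ ra]
    congr 1
    decide
  refine ⟨g * e (-sr 4) 1 * g⁻¹, g * e ![1, 0, 1, 0, 0, 0] 1 * g⁻¹, hgr _ ?_, hgr _ ?_, ?_⟩
  · have h1 := comm_of_zero S r4 r0 (le_of_eq (Eq.symm (by rw [cpr_sr]; decide +kernel)))
    have h2 := comm_of_zero S r4 r5 (by rw [cpr_sr]; decide +kernel)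
    rw [← mul_assoc, h1, mul_assoc, h2, mul_assoc]
  · have h1 := comm_of_zero S ra r0 (by rw [cpr_sr]; decide +kernel)
    have h2 := comm_of_zero S ra r5 (by rw [cpr_sr]; decide +kernel)
    rw [← mul_assoc, h1, mul_assoc, h2, mul_assoc]
  · rw [map_mul, map_mul, map_inv, hγg, g4, map_mul, map_mul, map_inv, hγg, ga]
    intro h0
    -- the reduced equation
    have i2 := S.data.inv r2 1
    have ib := S.data.inv rb 1
    have h1 : (e (-sr 4) 1 * e (-sr 2) 1) * (e ![1, 0, 1, 0, 0, 0] 1 * e ![0, 0, 0, 0, 1, 1] 1) =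
        (e ![1, 0, 1, 0, 0, 0] 1 * e ![0, 0, 0, 0, 1, 1] 1) * (e (-sr 4) 1 * e (-sr 2) 1) := by
      have h2 : ∀ a b c d : Y, g * a * g⁻¹ * (g * b * g⁻¹)⁻¹ * (g * c * g⁻¹ * (g * d * g⁻¹)⁻¹) =
          g * ((a * b⁻¹) * (c * d⁻¹)) * g⁻¹ := fun a b c d => by group
      rw [h2, h2] at h0
      have h3 := mul_left_cancel (mul_right_cancel h0)
      rwa [i2, ib] at h3
    -- commutation rules
    have c2a : e (-sr 2) 1 * e ![1, 0, 1, 0, 0, 0] 1 = e (sr 0) 1 * (e ![1, 0, 1, 0, 0, 0] 1 * e (-sr 2) 1) :=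
      mul_of_neg S r2 ra (cpr_word wa (by decide +kernel)) (cpr_word w2 (by decide +kernel)) (by decide)
    have c4b : e (-sr 4) 1 * e ![0, 0, 0, 0, 1, 1] 1 = e (sr 5) 1 * (e ![0, 0, 0, 0, 1, 1] 1 * e (-sr 4) 1) :=
      mul_of_neg S r4 rb (cpr_word wb (by decide +kernel)) (cpr_word w4 (by decide +kernel)) (by decide)
    have c40 := comm_of_zero S r4 r0 (le_of_eq (Eq.symm (by rw [cpr_sr]; decide +kernel)))
    have c4a := comm_of_zero S r4 ra (le_of_eq (Eq.symm (cpr_word wa (by decide +kernel))))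
    have c2b := comm_of_zero S r2 rb (le_of_eq (Eq.symm (cpr_word wb (by decide +kernel))))
    have ca5 := comm_of_zero S ra r5 (le_of_eq (Eq.symm (by rw [cpr_sr]; decide +kernel)))
    have c42 := comm_of_zero S r4 r2 (le_of_eq (Eq.symm (cpr_word w2 (by decide +kernel))))
    obtain ⟨p, hp⟩ : ∃ p, p = e (-sr 4) (1 : K) := ⟨_, rfl⟩
    obtain ⟨q, hq⟩ : ∃ q, q = e (-sr 2) (1 : K) := ⟨_, rfl⟩
    obtain ⟨a, ha⟩ : ∃ a, a = e ![1, 0, 1, 0, 0, 0] (1 : K) := ⟨_, rfl⟩
    obtain ⟨b, hb⟩ : ∃ b, b = e ![0, 0, 0, 0, 1, 1] (1 : K) := ⟨_, rfl⟩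
    obtain ⟨x, hx⟩ : ∃ x, x = e (sr 0) (1 : K) := ⟨_, rfl⟩
    obtain ⟨y, hy⟩ : ∃ y, y = e (sr 5) (1 : K) := ⟨_, rfl⟩
    rw [← hp, ← hq, ← ha, ← hb] at h1
    rw [← hq, ← ha, ← hx] at c2a
    rw [← hp, ← hb, ← hy] at c4b
    rw [← hp, ← hx] at c40
    rw [← hp, ← ha] at c4a
    rw [← hq, ← hb] at c2b
    rw [← ha, ← hy] at ca5
    rw [← hp, ← hq] at c42
    have h3 : p * q * (a * b) = x * y * (a * b * (p * q)) := by
      calc p * q * (a * b) = p * (q * a) * b := by group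
        _ = p * (x * (a * q)) * b := by rw [c2a]
        _ = (p * x) * a * (q * b) := by group
        _ = (x * p) * a * (b * q) := by rw [c40, c2b]
        _ = x * (p * a) * b * q := by group
        _ = x * (a * p) * b * q := by rw [c4a]
        _ = x * a * (p * b) * q := by group
        _ = x * a * (y * (b * p)) * q := by rw [c4b]
        _ = x * (a * y) * b * p * q := by group
        _ = x * (y * a) * b * p * q := by rw [ca5]
        _ = x * y * (a * b * (p * q)) := by group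
    rw [h3] at h1
    have h4 : x * y = 1 := mul_eq_right.1 h1
    have h5 : x = y := by
      have h6 : y * y = 1 := by rw [hy]; exact S.data.sq r5 1
      calc x = x * y * y⁻¹ := by group
        _ = y⁻¹ := by rw [h4, one_mul]
        _ = y := inv_eq_of_mul_eq_one_right h6
    rw [hx, hy] at h5
    exact ne_sr S (show (0 : Fin 6) ≠ 5 by decide) h5.symm

end

end Cfsg.Agent.H737.SK.E6
end

-- part: H297/SK/Dich
section
/-!
# S3010: inner-diagonal automorphisms and the dichotomy for automorphisms trivial on a root group (helper297, (E6-B))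

`S : Sys R e` (characteristic two, no signs), `γ` the standard graph automorphism.

* `Dg cs h e` : the diagonal automorphisms; `HH cs h e` : inner times diagonal;
* `cube` : cubes of elements of `HH` are inner if the cubes of diagonal elements are;
* `dich` : an automorphism `α` trivial on a root group lies in `HH` or `α * γ` lies in `HH`.
-/

set_option autoImplicit false
set_option linter.unusedSectionVars false

open scoped Pointwise

namespace Cfsg.Agent.H297.SK.Dich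

open CoxeterSystem Cfsg.Agent.ChevalleyStructure.CoxeterGeom Cfsg.Agent.Tits.Roots Cfsg.Agent.Tits.Core
  Cfsg.Agent.Tits.Exchange Cfsg.Agent.Nodes.Reps Cfsg.Agent.Nodes.BNOf Cfsg.Agent.Nodes.StabComb
  Cfsg.Agent.Nodes.Bruhat Cfsg.Agent.Nodes.OppDec Cfsg.Agent.Nodes.LeviDec Cfsg.Agent.Nodes.NormalForm
  Cfsg.Agent.Nodes.Coroot Cfsg.Agent.Nodes.PosPair
  Cfsg.Agent.KFacts.RgdOpp Cfsg.Agent.KFacts.RgdAut Cfsg.Agent.KFacts.RgdDiag Cfsg.Agent.KFacts.RgdRigid
  Cfsg.Agent.KFacts.RgdCent Cfsg.Agent.KFacts.RgdField Cfsg.Agent.KFacts.RgdTau Cfsg.Agent.KFacts.RgdSys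
  Cfsg.Agent.KFacts.RgdTI Cfsg.Agent.KFacts.RgdAutFacts Cfsg.Agent.KFacts.ChevTwo
  Cfsg.Agent.KFacts.ChevTwoAut Cfsg.Agent.H737.SK.Gen

variable {I W Y K : Type*} [Fintype I] [DecidableEq I] [Group W] [Group Y] [Field K] {M : CoxeterMatrix I}
  {cs : CoxeterSystem M W} {A : I → I → ℤ} {h : IsCartan M A} {T : Subgroup Y} {n : I → Y}
  {X : (I → ℤ) → Subgroup Y} {e : (I → ℤ) → K → Y}

/-- the diagonal automorphisms -/
def Dg (cs : CoxeterSystem M W) (h : IsCartan M A) (e : (I → ℤ) → K → Y) : Subgroup (MulAut Y) where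
  carrier := {β | ∀ x, IsRoot cs h x → ∃ c : Kˣ, ∀ u, β (e x u) = e x (c * u)}
  one_mem' x _ := ⟨1, fun u => by rw [Units.val_one, one_mul]; rfl⟩
  mul_mem' := by
    intro β γ hβ hγ x hx
    obtain ⟨b, hb⟩ := hβ x hx
    obtain ⟨c, hc⟩ := hγ x hx
    exact ⟨b * c, fun u => by rw [MulAut.mul_apply, hc, hb, Units.val_mul, mul_assoc]⟩
  inv_mem' := by
    intro β hβ x hx
    obtain ⟨b, hb⟩ := hβ x hx
    refine ⟨b⁻¹, fun u => ?_⟩
    apply β.injective
    rw [MulAut.apply_inv_self, hb, Units.mul_inv_cancel_left]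

/-- inner times diagonal automorphisms -/
def HH (cs : CoxeterSystem M W) (h : IsCartan M A) (e : (I → ℤ) → K → Y) : Subgroup (MulAut Y) :=
  (MulAut.conj : Y →* MulAut Y).range ⊔ Dg cs h e

theorem conj_mem (k : Y) : MulAut.conj k ∈ HH cs h e :=
  (le_sup_left : (MulAut.conj : Y →* MulAut Y).range ≤ HH cs h e) ⟨k, rfl⟩

theorem dg_mem {β : MulAut Y} (hβ : β ∈ Dg cs h e) : β ∈ HH cs h e :=
  (le_sup_right : Dg cs h e ≤ HH cs h e) hβ

theorem normal_inn : ((MulAut.conj : Y →* MulAut Y).range).Normal :=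
  ⟨by rintro _ ⟨k, rfl⟩ α; exact ⟨α k, (conj_aut α k).symm⟩⟩

theorem mem_HH {δ : MulAut Y} : δ ∈ HH cs h e ↔ ∃ k : Y, ∃ β ∈ Dg cs h e, δ = MulAut.conj k * β := by
  have := normal_inn (Y := Y)
  unfold HH
  rw [Subgroup.mem_sup_of_normal_left]
  constructor
  · rintro ⟨_, ⟨k, rfl⟩, β, hβ, rfl⟩
    exact ⟨k, β, hβ, rfl⟩
  · rintro ⟨k, β, hβ, rfl⟩
    exact ⟨_, ⟨k, rfl⟩, β, hβ, rfl⟩

theorem fix_of_le [Finite Y] {α : MulAut Y} {H : Subgroup Y} (hα : ∀ x ∈ H, α x ∈ H) : _root_.Cfsg.Agent.KFacts.RgdAut.Fix α H := by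
  rw [fix_iff]
  refine Subgroup.eq_of_le_of_card_ge ?_ ?_
  · rintro _ ⟨y, hy, rfl⟩
    exact hα y hy
  · rw [Subgroup.card_map_of_injective (MulEquiv.injective _)]

section

variable [Finite W] [Finite Y] {R : RGD cs h 2 T n X} (S : Sys R e)

include S

theorem Dg.map_X {β : MulAut Y} (hβ : β ∈ Dg cs h e) {x : I → ℤ} (hx : IsRoot cs h x) {z : Y} (hz : z ∈ X x) :
    β z ∈ X x := by
  obtain ⟨u, rfl⟩ := (S.mem_X x hx z).1 hz
  obtain ⟨c, hc⟩ := hβ x hx
  rw [hc]
  exact S.mem hx _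

theorem Dg.map_T (hG1 : RGD.Sup X {x | IsRoot cs h x} = ⊤) {β : MulAut Y} (hβ : β ∈ Dg cs h e) {t : Y}
    (ht : t ∈ T) : β t ∈ T := by
  refine mem_T_of_norm S hG1 fun r hr => ?_
  obtain ⟨χ, hχ⟩ := S.chi t ht
  obtain ⟨c, hc⟩ := hβ r hr
  refine ⟨((χ r).toMul : Kˣ), Units.ne_zero _, fun a => ?_⟩
  have h1 := congrArg β (hχ r hr ((c⁻¹ : Kˣ) * a))
  rw [map_mul, map_mul, map_inv, hc, hc, Units.mul_inv_cancel_left] at h1
  rw [h1]
  congr 1
  rw [mul_left_comm, Units.mul_inv_cancel_left]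

theorem Dg.diag (hG1 : RGD.Sup X {x | IsRoot cs h x} = ⊤) {β : MulAut Y} (hβ : β ∈ Dg cs h e) :
    Diag T X β 1 where
  tor := fix_of_le fun _ ht => Dg.map_T S hG1 hβ ht
  pos i := fix_of_le fun _ hz => Dg.map_X S hβ (isRoot_sr cs h i) hz
  neg i := fix_of_le fun _ hz => Dg.map_X S hβ (isRoot_sr cs h i).neg hz

/-- cubes are inner -/
theorem cube (hG1 : RGD.Sup X {x | IsRoot cs h x} = ⊤)
    (htor : ∀ c : I → Kˣ, ∃ t ∈ T, ∀ i u, t * e (sr i) u * t⁻¹ = e (sr i) ((c i : K) ^ 3 * u))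
    {δ : MulAut Y} (hδ : δ ∈ HH cs h e) : ∃ k, δ ^ 3 = MulAut.conj k := by
  obtain ⟨k, β, hβ, rfl⟩ := mem_HH.1 hδ
  have h3 : ∃ t, β ^ 3 = MulAut.conj t := by
    have hc : ∀ i, ∃ c : Kˣ, ∀ u, β (e (sr i) u) = e (sr i) (c * u) := fun i => hβ _ (isRoot_sr cs h i)
    choose c hc using hc
    obtain ⟨t, ht, het⟩ := htor c
    refine ⟨t, ?_⟩
    have D : Diag T X (MulAut.conj t⁻¹ * β ^ 3) 1 := by
      have h1 : Diag T X (MulAut.conj t⁻¹) 1 := by
        obtain ⟨χ, hχ⟩ := S.chi t⁻¹ (inv_mem ht)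
        refine Dg.diag S hG1 fun x hx => ⟨((χ x).toMul : Kˣ), fun u => ?_⟩
        rw [MulAut.conj_apply]
        exact hχ x hx u
      have h2 : Diag T X (β ^ 3) 1 := Dg.diag S hG1 (pow_mem hβ 3)
      simpa only [_root_.map_inv, _root_.mul_one] using h1.mul h2
    have h4 : MulAut.conj t⁻¹ * β ^ 3 = 1 := by
      refine Diag.eq_one R hG1 D fun i z hz => ?_
      obtain ⟨u, rfl⟩ := (S.mem_X _ (isRoot_sr cs h i) z).1 hz
      have h5 : (β ^ 3) (e (sr i) u) = e (sr i) ((c i : K) ^ 3 * u) := by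
        rw [pow_succ, pow_two, MulAut.mul_apply, MulAut.mul_apply, hc, hc, hc]
        congr 1
        ring
      rw [MulAut.mul_apply, h5, ← het, MulAut.conj_apply]
      group
    rw [map_inv, inv_mul_eq_one] at h4
    exact h4.symm
  obtain ⟨t, ht⟩ := h3
  refine ⟨k * β k * β (β k) * t, ?_⟩
  have e1 : ∀ y, β * MulAut.conj y = MulAut.conj (β y) * β := by
    intro y
    rw [← conj_aut β y]
    group
  rw [map_mul, map_mul, map_mul, ← ht]
  calc (MulAut.conj k * β) ^ 3 = MulAut.conj k * (β * MulAut.conj k) * (β * MulAut.conj k) * β := by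
        simp only [pow_succ, pow_zero, one_mul, mul_assoc]
    _ = MulAut.conj k * MulAut.conj (β k) * (β * MulAut.conj (β k)) * β * β := by
        rw [e1 k]; simp only [mul_assoc]
    _ = MulAut.conj k * MulAut.conj (β k) * MulAut.conj (β (β k)) * β ^ 3 := by
        rw [e1]; simp only [pow_succ, pow_zero, one_mul, mul_assoc]

end

section

variable [Finite W] [Finite Y] [Finite K] [Nonempty I] {R : RGD cs h 2 T n X} (S : Sys R e)

include S

/-- distinct root groups intersect trivially -/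
theorem root_eq_of {a b : I → ℤ} (ha : IsRoot cs h a) (hb : IsRoot cs h b) {z : Y} (hz : z ∈ X a) (hz' : z ∈ X b)
    (hz1 : z ≠ 1) : a = b := by
  by_contra hab
  have h1 := X_inf_X R ha hb hab
  rw [Subgroup.eq_bot_iff_forall] at h1
  exact hz1 (h1 z ⟨hz, hz'⟩)

/-- a frame automorphism without diagram symmetry which is trivial on a root element of each ... is diagonal -/
theorem dg_of_diag (hG1 : RGD.Sup X {x | IsRoot cs h x} = ⊤) (hN : NoCent cs h T X)
    (hconn : ∀ J : Set I, J.Nonempty → J ≠ Set.univ → ∃ a ∈ J, ∃ b, b ∉ J ∧ M a b ≠ 2)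
    {β : MulAut Y} (D : Diag T X β 1) {a b : I → ℤ} (ha : IsRoot cs h a) (hb : IsRoot cs h b)
    (hab : ∀ u, β (e a u) = e b u) : β ∈ Dg cs h e := by
  have C := coords S hG1
  have H := coroots S hG1 hN
  obtain ⟨τ, B⟩ := exists_tau R C H hconn D fun _ _ => rfl
  have hroot : ∀ {r : I → ℤ}, IsRoot cs h r → ∃ c : K, c ≠ 0 ∧ ∀ u, β (e r u) = e r (c * τ u) := by
    intro r hr
    obtain ⟨c, hc, e1⟩ := Tau.root R C B hr
    exact ⟨c, hc, e1⟩
  obtain ⟨c, hc, e1⟩ := hroot ha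
  have hba : b = a := by
    apply root_eq_of S hb ha (z := e b 1) (S.mem hb 1)
    · rw [← hab 1, e1]
      exact S.mem ha _
    · intro h1
      have h2 := S.data.inj b hb 1 h1
      exact one_ne_zero h2
  subst hba
  have hτ : τ = 1 := by
    have e' : ∀ u, c * τ u = u := by
      intro u
      have h1 := e1 u
      rw [hab] at h1
      exact (S.data.injective ha h1).symm
    have h1 := e' 1
    rw [map_one, mul_one] at h1
    ext u
    have h2 := e' u
    rw [h1, one_mul] at h2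
    exact h2
  subst hτ
  intro x hx
  obtain ⟨c, hc, e1⟩ := hroot hx
  exact ⟨Units.mk0 c hc, e1⟩

theorem Gra.diag (hG1 : RGD.Sup X {x | IsRoot cs h x} = ⊤) {γ : MulAut Y} {σ : Equiv.Perm I}
    (hγ : Gra cs h e γ σ) : Diag T X γ σ := by
  have key : ∀ y, IsRoot cs h y → ∀ z, γ z ∈ X (fun i => y (σ i)) ↔ z ∈ X y := by
    intro y hy z
    constructor
    · intro hz
      obtain ⟨u, hu⟩ := (S.mem_X _ (hγ.root hy) _).1 hz
      rw [← hγ.map y hy] at hu
      rw [← γ.injective hu]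
      exact S.mem hy u
    · intro hz
      obtain ⟨u, rfl⟩ := (S.mem_X _ hy _).1 hz
      rw [hγ.map y hy]
      exact S.mem (hγ.root hy) u
  refine ⟨fix_of_le fun _ ht => hγ.map_T S hG1 ht, fun i z => ?_, fun i z => ?_⟩
  · have h1 := key _ (isRoot_sr cs h i) z
    rwa [_root_.Cfsg.Agent.H737.SK.Gen.sr_comp hγ.invol] at h1
  · have h1 := key _ (isRoot_sr cs h i).neg z
    have h2 : (fun k => (-sr i : I → ℤ) (σ k)) = -sr (σ i) := by
      rw [← _root_.Cfsg.Agent.H737.SK.Gen.sr_comp hγ.invol]; rfl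
    rwa [h2] at h1

/-- **The dichotomy** -/
theorem dich (hG1 : RGD.Sup X {x | IsRoot cs h x} = ⊤) (hN : NoCent cs h T X)
    (hconn : ∀ J : Set I, J.Nonempty → J ≠ Set.univ → ∃ a ∈ J, ∃ b, b ∉ J ∧ M a b ≠ 2)
    {γ : MulAut Y} {σ₀ : Equiv.Perm I} (hγ : Gra cs h e γ σ₀)
    (hsym : ∀ σ : Equiv.Perm I, (∀ i j, M (σ i) (σ j) = M i j) → σ = 1 ∨ σ = σ₀)
    {b : I → ℤ} (hb : IsRoot cs h b) {α : MulAut Y} (hα : ∀ z ∈ X b, α z = z) :
    α ∈ HH cs h e ∨ α * γ ∈ HH cs h e := by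
  have : Fact (Nat.Prime 2) := ⟨Nat.prime_two⟩
  have hG := GG_eq_top (T := T) hG1
  obtain ⟨w, hw⟩ := (S.lr hb).exists_dominant
  obtain ⟨m, hm⟩ := exists_rp cs R.nsys w
  have ha : IsRoot cs h (rep cs h w b) := hb.act w
  obtain ⟨a, hadef⟩ : ∃ a, a = rep cs h w b := ⟨_, rfl⟩
  rw [← hadef] at ha hw
  have hX : ∀ z ∈ X a, m⁻¹ * z * m ∈ X b := by
    intro z hz
    rw [hadef, ← R.conj_rp hm hb, mem_cj] at hz
    exact hz
  have h1 : ∀ z ∈ X a, (MulAut.conj m * α * (MulAut.conj m)⁻¹) z = z := by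
    intro z hz
    rw [← map_inv]
    show m * α (m⁻¹ * z * m⁻¹⁻¹) * m⁻¹ = z
    rw [inv_inv, hα _ (hX z hz)]
    group
  have hPos : RGD.Pos cs h ⊆ Ge cs h a := by
    intro x hx
    refine ⟨hx.1, ?_⟩
    have h1 : ell cs h ha x = ∑ i, x i * ell cs h ha (sr i) := by
      conv_lhs => rw [eq_sum_sr x]
      rw [map_sum]
      refine Finset.sum_congr rfl fun i _ => ?_
      rw [map_zsmul, smul_eq_mul]
    rw [ell_apply] at h1
    rw [h1]
    exact Finset.sum_nonneg fun i _ => mul_nonneg (hx.2 i) (by rw [ell_apply]; exact hw i)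
  obtain ⟨g, hg, hU, hUN, hβz, σ, D⟩ := frame_of_fix (R := R) hG
    (fun u hu z hz => (S.lr ha).comm' (RGD.Sup_mono hPos hu) hz) h1
  obtain ⟨β, hβ⟩ : ∃ β, β = MulAut.conj g * (MulAut.conj m * α * (MulAut.conj m)⁻¹) := ⟨_, rfl⟩
  rw [← hβ] at hU hUN hβz D
  have hβe : ∀ u, β (e a u) = e a u := fun u => hβz _ (S.mem ha u)
  have hαβ : α = MulAut.conj (m⁻¹ * g⁻¹) * β * MulAut.conj m := by
    rw [hβ, map_mul, map_inv, map_inv]
    group
  rcases hsym σ (D.matrix R) with hσ | hσ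
  · left
    subst hσ
    have h2 := dg_of_diag S hG1 hN hconn D ha ha hβe
    rw [hαβ]
    exact mul_mem (mul_mem (conj_mem _) (dg_mem h2)) (conj_mem _)
  · right
    subst hσ
    have D2 : Diag T X (β * γ) 1 := by
      have h3 := D.mul (Gra.diag S hG1 hγ)
      have h4 : σ * σ = 1 := Equiv.ext fun i => hγ.invol i
      rwa [h4] at h3
    have h2 : β * γ ∈ Dg cs h e := by
      refine dg_of_diag S hG1 hN hconn D2 (hγ.root ha) ha fun u => ?_
      rw [MulAut.mul_apply, hγ.map _ (hγ.root ha)]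
      have h5 : (fun i => (fun k => a (σ k)) (σ i)) = a := by
        funext i
        show a (σ (σ i)) = a i
        rw [hγ.invol]
      rw [h5, hβe]
    have h6 : α * γ = MulAut.conj (m⁻¹ * g⁻¹) * (β * γ) * MulAut.conj (γ⁻¹ m) := by
      rw [hαβ, ← conj_aut γ⁻¹ m, inv_inv]
      group
    rw [h6]
    exact mul_mem (mul_mem (conj_mem _) (dg_mem h2)) (conj_mem _)

end

end Cfsg.Agent.H297.SK.Dich
end

-- part: H297/SK/DichE6
section
/-!
# S3010: the dichotomy for `E₆(q)`, `q` even (helper297, (E6-B))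

* `gra_E6` : `H129.TwE6Fr.gam K` is the standard graph automorphism of the system `sys`;
* `dich_E6` : `HH` (inner times diagonal), cubes are inner, the dichotomy.
-/

set_option autoImplicit false
set_option linter.unusedSectionVars false

namespace Cfsg.Agent.H297.SK.DichE6

open CoxeterSystem Cfsg.Agent.ChevalleyStructure.CoxeterGeom Cfsg.Agent.Tits.Roots Cfsg.Agent.Tits.Core
  Cfsg.Agent.Nodes.Reps Cfsg.Agent.Nodes.BNOf Cfsg.Agent.Nodes.Coroot
open Cfsg.Lie Cfsg.Agent.ChevalleyStructure Cfsg.Agent.ChevalleyStructure.Elts Cfsg.Agent.ChevalleyStructure.NPerm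
  Cfsg.Agent.ChevalleyStructure.CoxeterGeomTypes Cfsg.Agent.Nodes Cfsg.Agent.Nodes.RGDChev
  Cfsg.Agent.KFacts.ChevTwo Cfsg.Agent.KFacts.ChevTwoInst Cfsg.Agent.KFacts.RgdChevCoord
  Cfsg.Agent.KFacts.RgdCent Cfsg.Agent.H737.SK.Gen Cfsg.Agent.H297.SK.Dich
open Cfsg.Agent.H129.TwE6Fr (gam coe_gam flip6 flip_vec flip6_apply sg_one_sq)
open Cfsg.Agent.ChevalleyStructure.TwE6Basic (sg rho)

universe u

variable {K : Type u} [Field K]

/-- the diagram symmetry -/
def sigE : Fin 6 → Fin 6 := ![5, 1, 4, 3, 2, 0]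

/-- the same as a permutation -/
def sigP : Equiv.Perm (Fin 6) := ⟨sigE, sigE, by decide, by decide⟩

theorem flip6_eq (x : Fin 6 → ℤ) : flip6 x = fun i => x (sigE i) := by
  funext i
  fin_cases i <;> rfl

variable {W : Type*} [Group W] (cs : CoxeterSystem CoxeterMatrix.E₆ W)

theorem hp : IsType chevE6 6 CoxeterMatrix.E₆ := RGDTwE6.hp

theorem gam_eg [CharP K 2] {x : Fin 6 → ℤ} (hx : IsRoot cs hp.isCartan x) (u : K) :
    gam K (eg hp K x u) = eg hp K (flip6 x) u := by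
  obtain ⟨r, hr, rfl⟩ := (isRoot_iff hp cs x).1 hx
  have hr' : r < 72 := hr
  apply Subtype.ext
  rw [coe_gam, coe_eg, coe_eg, ev_vec hp hr, flip_vec ⟨r, hr'⟩, ev_vec hp (rho ⟨r, hr'⟩).2]
  have h1 : sg (RingHom.id K) (xG RGDTwE6.hp.inList r u) = xG RGDTwE6.hp.inList (rho ⟨r, hr'⟩).val
    (((BpExc.EmbInst.ep ⟨r, hr'⟩ : ℤ) : K) * (RingHom.id K) u) :=
      BpExc.EmbInst.sg_ep (RingHom.id K) (⟨r, hr'⟩ : Fin 72) u
  refine h1.trans ?_
  have h2 : ((BpExc.EmbInst.ep ⟨r, hr'⟩ : ℤ) : K) = 1 := by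
    have h3 : ((BpExc.EmbInst.ep ⟨r, hr'⟩ : ℤ) : K) * ((BpExc.EmbInst.ep ⟨r, hr'⟩ : ℤ) : K) = 1 := by
      rw [← Int.cast_mul, BpExc.EmbInst.eps_sq, Int.cast_one]
    rcases mul_self_eq_one_iff.1 h3 with h4 | h4
    · exact h4
    · rw [h4, CharTwo.neg_eq]
  rw [h2, one_mul]
  rfl

theorem cart_sig : ∀ i j : Fin 6, cartanOf chevE6 6 (sigE i) (sigE j) = cartanOf chevE6 6 i j := by decide +kernel

/-- **the standard graph automorphism** -/
theorem gra_E6 [CharP K 2] : Gra cs hp.isCartan (eg hp K) (gam K) sigE where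
  invol := by decide
  cart := cart_sig
  map x hx u := by rw [gam_eg cs hx, flip6_eq]

theorem gra_E6' [CharP K 2] : Gra cs hp.isCartan (eg hp K) (gam K) sigP := gra_E6 cs

variable [Finite K]

theorem center_E6 : Subgroup.center ↥(chevE6.group K) = ⊥ := by
  obtain ⟨hs, hna⟩ := Cfsg.Agent.S1054.result (F := K) chevE6 (by simp)
  rcases (inferInstance : (Subgroup.center ↥(chevE6.group K)).Normal).eq_bot_or_eq_top with h | h
  · exact h
  · exfalso
    apply hna
    refine ⟨⟨fun a b => ?_⟩⟩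
    have : b ∈ Subgroup.center ↥(chevE6.group K) := by rw [h]; exact Subgroup.mem_top b
    rw [Subgroup.mem_center_iff] at this
    exact this a

theorem noCent_E6 [CharP K 2] : NoCent cs hp.isCartan (TT chevE6 K) (XX chevE6 6 K) := by
  have : Fact (Nat.Prime 2) := ⟨Nat.prime_two⟩
  have := finite_W hp cs
  exact noCent_of_center (rgd (K := K) hp cs 2) (G1_eq_top hp _) center_E6

theorem conn_E6 (J : Set (Fin 6)) (hJ : J.Nonempty) (hJ' : J ≠ Set.univ) :
    ∃ a ∈ J, ∃ b, b ∉ J ∧ CoxeterMatrix.E₆ a b ≠ 2 := by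
  obtain ⟨i, hi, j, hj, h⟩ := KFacts.Mult.LacedE.irr_E6 J hJ (Set.nonempty_compl.2 hJ')
  exact ⟨i, hi, j, hj, h⟩

theorem sym_E6 (σ : Equiv.Perm (Fin 6)) (hσ : ∀ i j, CoxeterMatrix.E₆ (σ i) (σ j) = CoxeterMatrix.E₆ i j) :
    σ = 1 ∨ σ = sigP := by
  by_cases h1 : σ = 1
  · exact Or.inl h1
  · exact Or.inr (Equiv.ext fun i => H293.TwFix.sym_E6 σ hσ h1 i)

/-- cubes of diagonal elements -/
theorem tor_E6 (c : Fin 6 → Kˣ) : ∃ t ∈ TT chevE6 K, ∀ i u,
    t * eg hp K (sr i) u * t⁻¹ = eg hp K (sr i) ((c i : K) ^ 3 * u) := by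
  obtain ⟨t, ht, h1, -⟩ := H129.Tor.exists_diag hp (F := K) (m := 3) (B := ![![4, 3, 5, 6, 4, 2], ![3, 6, 6, 9, 6, 3],
    ![5, 6, 10, 12, 8, 4], ![6, 9, 12, 18, 12, 6], ![4, 6, 8, 12, 10, 5], ![2, 3, 4, 6, 5, 4]])
    H129.TorusChar.invC_E6 (b := fun i => (c i : K) ^ 3)
    (fun i => pow_ne_zero _ (c i).ne_zero) (fun i => ⟨c i, rfl⟩) (by norm_num)
  have htG : t ∈ chevE6.group K := (diagonal_le_group hp.inList K) ht
  refine ⟨⟨t, htG⟩, ht, fun i u => ?_⟩
  apply Subtype.ext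
  rw [Subgroup.coe_mul, Subgroup.coe_mul, Subgroup.coe_inv, coe_eg, coe_eg, ev_sr hp, ev_sr hp, h1]

variable [CharP K 2]

theorem cube_E6 {δ : MulAut ↥(chevE6.group K)} (hδ : δ ∈ HH cs hp.isCartan (eg hp K)) :
    ∃ k, δ ^ 3 = MulAut.conj k := by
  have hW := finite_W hp cs
  exact cube (sys hp twoOK_E6 cs) (G1_eq_top hp cs) tor_E6 hδ

/-- **The dichotomy for `E₆(q)`** -/
theorem dich_E6 {b : Fin 6 → ℤ} (hb : IsRoot cs hp.isCartan b) {α : MulAut ↥(chevE6.group K)}
    (hα : ∀ z ∈ XX chevE6 6 K b, α z = z) :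
    α ∈ HH cs hp.isCartan (eg hp K) ∨ α * gam K ∈ HH cs hp.isCartan (eg hp K) := by
  have hW := finite_W hp cs
  exact dich (sys hp twoOK_E6 cs) (G1_eq_top hp cs) (noCent_E6 cs) conn_E6 (gra_E6' cs) sym_E6 hb hα

end Cfsg.Agent.H297.SK.DichE6
end

-- part: H737/SK/TwE6El
section
/-!
# S3010, `²E₆(q)`, `q` even: an explicit element for `J = [1, 0, 5]` (helper737, (T5-D) of helper297)

* `Tw e q L` : `L` contains the standard generators of `²E₆(q)`;
* `Tw.word`, `Tw.act` : root elements of `L` by words;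
* `t5d` : the element `z`.
-/

set_option autoImplicit false
set_option linter.unusedSectionVars false

namespace Cfsg.Agent.H737.SK.E6

open CoxeterSystem Cfsg.Agent.ChevalleyStructure.CoxeterGeom Cfsg.Agent.Tits.Roots Cfsg.Agent.Tits.Core
  Cfsg.Agent.Tits.Exchange Cfsg.Agent.Nodes.Reps Cfsg.Agent.Nodes.BNOf Cfsg.Agent.Nodes.Coroot
  Cfsg.Agent.KFacts.RgdField Cfsg.Agent.KFacts.RgdCent Cfsg.Agent.KFacts.ChevTwo Cfsg.Agent.KFacts.RgdSys
  Cfsg.Agent.KFacts.ChevTwoInst Cfsg.Agent.H737.SK.O2 Cfsg.Agent.H282.SK Cfsg.Agent.H737.SK.Gen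
  Cfsg.Agent.H737.SK.Chev Cfsg.Agent.H297.SK Cfsg.Agent.H297.SK.Dich Cfsg.Agent.Nodes.OppDec Cfsg.Agent.Nodes.Comb
  Cfsg.Agent.KFacts.RgdOpp
open Cfsg.Lie Cfsg.Agent.ChevalleyStructure Cfsg.Agent.ChevalleyStructure.Elts
  Cfsg.Agent.ChevalleyStructure.RootVec Cfsg.Agent.ChevalleyStructure.FieldIso
  Cfsg.Agent.ChevalleyStructure.CoxeterGeomTypes
open Cfsg.Agent.Nodes Cfsg.Agent.Nodes.RGDChev
open Cfsg.Agent.H129.TwE6Fr (gam)
open Cfsg.Agent.H297.SK.DichE6 (hp)
open scoped commutatorElement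

universe u

/-- a subgroup of `E₆(q²)` containing the standard generators of `²E₆(q)` -/
structure Tw {Y K : Type*} [Group Y] [Field K] (e : (Fin 6 → ℤ) → K → Y) (q : ℕ) (L : Subgroup Y) : Prop where
  p1 : ∀ a : K, a ^ q = a → e (sr 1) a ∈ L
  m1 : ∀ a : K, a ^ q = a → e (-sr 1) a ∈ L
  p3 : ∀ a : K, a ^ q = a → e (sr 3) a ∈ L
  m3 : ∀ a : K, a ^ q = a → e (-sr 3) a ∈ L
  p0 : ∀ a : K, e (sr 0) a * e (sr 5) (a ^ q) ∈ L
  m0 : ∀ a : K, e (-sr 0) a * e (-sr 5) (a ^ q) ∈ L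
  p2 : ∀ a : K, e (sr 2) a * e (sr 4) (a ^ q) ∈ L
  m2 : ∀ a : K, e (-sr 2) a * e (-sr 4) (a ^ q) ∈ L

theorem tw_twE6 {K : Type u} [Field K] (q : ℕ) :
    Tw (eg hp K) q ((twistedE6 K q).subgroupOf (chevE6.group K)) := by
  have key : ∀ (r : ℕ) (x : Fin 6 → ℤ), r < chevE6.nroots → vec chevE6 6 r = x → ∀ a : K,
      ((eg hp K x a : ↥(chevE6.group K)) : GL chevE6.Idx K) = TwE6Basic.x r a := by
    rintro r x hr rfl a
    rw [coe_eg, ev_vec hp hr]
  have k1 := key 46 (sr 1) (by decide) (by decide +kernel)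
  have k1' := key 25 (-sr 1) (by decide) (by decide +kernel)
  have k3 := key 39 (sr 3) (by decide) (by decide +kernel)
  have k3' := key 32 (-sr 3) (by decide) (by decide +kernel)
  have k0 := key 56 (sr 0) (by decide) (by decide +kernel)
  have k0' := key 15 (-sr 0) (by decide) (by decide +kernel)
  have k5 := key 36 (sr 5) (by decide) (by decide +kernel)
  have k5' := key 35 (-sr 5) (by decide) (by decide +kernel)
  have k2 := key 42 (sr 2) (by decide) (by decide +kernel)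
  have k2' := key 29 (-sr 2) (by decide) (by decide +kernel)
  have k4 := key 37 (sr 4) (by decide) (by decide +kernel)
  have k4' := key 34 (-sr 4) (by decide) (by decide +kernel)
  refine ⟨fun a ha => ?_, fun a ha => ?_, fun a ha => ?_, fun a ha => ?_, fun a => ?_, fun a => ?_, fun a => ?_,
    fun a => ?_⟩
  · rw [Subgroup.mem_subgroupOf, k1]; exact TwE6Basic.single_mem ha (by simp)
  · rw [Subgroup.mem_subgroupOf, k1']; exact TwE6Basic.single_mem ha (by simp)
  · rw [Subgroup.mem_subgroupOf, k3]; exact TwE6Basic.single_mem ha (by simp)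
  · rw [Subgroup.mem_subgroupOf, k3']; exact TwE6Basic.single_mem ha (by simp)
  · rw [Subgroup.mem_subgroupOf, Subgroup.coe_mul, k0, k5]; exact TwE6Basic.pair_mem a (rs := (56, 36)) (by simp)
  · rw [Subgroup.mem_subgroupOf, Subgroup.coe_mul, k0', k5']; exact TwE6Basic.pair_mem a (rs := (15, 35)) (by simp)
  · rw [Subgroup.mem_subgroupOf, Subgroup.coe_mul, k2, k4]; exact TwE6Basic.pair_mem a (rs := (42, 37)) (by simp)
  · rw [Subgroup.mem_subgroupOf, Subgroup.coe_mul, k2', k4']; exact TwE6Basic.pair_mem a (rs := (29, 34)) (by simp)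

variable {W Y K : Type*} [Group W] [Group Y] [Field K] {M : CoxeterMatrix (Fin 6)}
variable {cs : CoxeterSystem M W} {h : IsCartan M A6} {e : (Fin 6 → ℤ) → K → Y}
  {T : Subgroup Y} {n : Fin 6 → Y} {X : (Fin 6 → ℤ) → Subgroup Y}
section gens

variable [Finite W] {R : RGD cs h 2 T n X} (S : _root_.Cfsg.Agent.KFacts.ChevTwo.Sys R e) {q : ℕ} {L : Subgroup Y} (t : Tw e q L)

include S

/-- root elements with non-negative Cartan integer commute -/
theorem cm {x y : Fin 6 → ℤ} (hx : IsRoot cs h x) (hy : IsRoot cs h y) (h1 : 0 ≤ cpr cs h x y) (a b : K) :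
    e x a * e y b = e y b * e x a := S.data.comm_of_nonneg hx hy h1 a b

/-- the commutator formula -/
theorem mc {x y z : Fin 6 → ℤ} (hx : IsRoot cs h x) (hy : IsRoot cs h y) (h1 : cpr cs h x y = -1)
    (h2 : cpr cs h y x = -1) (hz : x + y = z) (a b : K) : e x a * e y b = e z (a * b) * (e y b * e x a) := by
  have h3 := S.data.comm1 x y hx hy h1 h2 a b
  rw [hz, commutatorElement_def] at h3
  rw [← h3]; group

/-- a negative root element is not in `U` -/
theorem ne_of_neg' {x : Fin 6 → ℤ} (hx : IsRoot cs h x) (h0 : x ≤ 0) {a : K} (ha : a ≠ 0) {y : Y}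
    (hy : y ∈ RGD.Sup X (RGD.Pos cs h)) : e x a ≠ y := by
  intro h1
  have h2 : e x a ∈ UN cs h X := RGD.le_Sup (S := _root_.Cfsg.Agent.Nodes.OppDec.Neg cs h) (X := X) ⟨hx, h0⟩ (S.mem hx a)
  exact S.data.ne_one hx ha (eq_one_of_mem_UN_of_mem_B R h2 (RGD.U_le_B (h1 ▸ hy)))

include t

theorem n1 : nel e (sr 1) ∈ L := by
  rw [nel_def]
  exact mul_mem (mul_mem (t.p1 1 (one_pow _)) (t.m1 1 (one_pow _))) (t.p1 1 (one_pow _))

theorem n3 : nel e (sr 3) ∈ L := by
  rw [nel_def]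
  exact mul_mem (mul_mem (t.p3 1 (one_pow _)) (t.m3 1 (one_pow _))) (t.p3 1 (one_pow _))

omit t in
theorem nn {i j : Fin 6} (hij : cpr cs h (sr i) (sr j) = 0) :
    nel e (sr i) * nel e (sr j) = (e (sr i) 1 * e (sr j) 1) * (e (-sr i) 1 * e (-sr j) 1) *
      (e (sr i) 1 * e (sr j) 1) := by
  have hi := isRoot_sr cs h i
  have hj := isRoot_sr cs h j
  have h1 := cm S hi hj (le_of_eq hij.symm) 1 1
  have h2 := cm S hi.neg hj (by rw [cpr_neg _ _ _ hj, hij, neg_zero]) 1 1
  have h3 := cm S hi hj.neg (by rw [cpr_neg_right _ _ _ hj, hij, neg_zero]) 1 1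
  rw [nel_def, nel_def]
  calc e (sr i) 1 * e (-sr i) 1 * e (sr i) 1 * (e (sr j) 1 * e (-sr j) 1 * e (sr j) 1)
      = e (sr i) 1 * e (-sr i) 1 * (e (sr i) 1 * e (sr j) 1) * (e (-sr j) 1 * e (sr j) 1) := by group
    _ = e (sr i) 1 * (e (-sr i) 1 * e (sr j) 1) * (e (sr i) 1 * e (-sr j) 1) * e (sr j) 1 := by rw [h1]; group
    _ = _ := by rw [h2, h3]; group

theorem n05 : nel e (sr 0) * nel e (sr 5) ∈ L := by
  rw [nn S (by rw [cpr_sr]; decide +kernel)]
  have h1 := t.p0 1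
  have h2 := t.m0 1
  rw [one_pow] at h1 h2
  exact mul_mem (mul_mem h1 h2) h1

theorem n24 : nel e (sr 2) * nel e (sr 4) ∈ L := by
  rw [nn S (by rw [cpr_sr]; decide +kernel)]
  have h1 := t.p2 1
  have h2 := t.m2 1
  rw [one_pow] at h1 h2
  exact mul_mem (mul_mem h1 h2) h1

end gens

/-- a table of roots -/
def tab : Fin 24 → List (Fin 6) × Fin 6 :=
  ![([], 0), ([], 1), ([], 2), ([], 3), ([], 4), ([], 5), ([0], 0), ([1], 1), ([2], 2), ([3], 3), ([4], 4),
    ([5], 5), ([2, 3], 1), ([3, 2], 0), ([4, 3], 1), ([5, 4], 3), ([3, 4, 1, 3, 2], 0), ([5, 3, 4, 2, 3], 1),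
    ([1, 3, 2], 0), ([3], 2), ([5, 4, 3], 1), ([4], 3), ([5, 3, 4, 1, 3, 2], 0), ([3, 4, 2, 3], 1)]

/-- the roots of the table -/
def V (k : Fin 24) : Fin 6 → ℤ := (tab k).1.foldr (step A6) (sr (tab k).2)

/-- Cartan integers of the table -/
def C (k l : Fin 24) : ℤ := pairing A6 (tab l).2 ((tab l).1.reverse.foldr (step A6) (V k))

theorem root_V (k : Fin 24) : IsRoot cs h (V k) := isRoot_word rfl

theorem cpr_V [Finite W] (k l : Fin 24) : cpr cs h (V k) (V l) = C k l := cpr_word rfl rfl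

section

variable [Finite W] {R : RGD cs h 2 T n X} (S : _root_.Cfsg.Agent.KFacts.ChevTwo.Sys R e)
include S

theorem V_comm {k l : Fin 24} (h1 : 0 ≤ C k l) (a b : K) : e (V k) a * e (V l) b = e (V l) b * e (V k) a :=
  cm S (root_V k) (root_V l) (by rwa [cpr_V]) a b

theorem V_mc {k l m : Fin 24} (h1 : C k l = -1) (h2 : C l k = -1) (h3 : V k + V l = V m) (a b : K) :
    e (V k) a * e (V l) b = e (V m) (a * b) * (e (V l) b * e (V k) a) :=
  mc S (root_V k) (root_V l) (by rwa [cpr_V]) (by rwa [cpr_V]) h3 a b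

omit S [Finite W] in
/-- the conditions for `lemA` -/
def okA (α β x x' s : Fin 24) : Prop :=
  C α x = -1 ∧ C x α = -1 ∧ C β x' = -1 ∧ C x' β = -1 ∧ V α + V x = V s ∧ V β + V x' = V s ∧
    0 ≤ C β x ∧ 0 ≤ C α s ∧ 0 ≤ C x s ∧ 0 ≤ C α x'

omit S [Finite W] in
instance (α β x x' s : Fin 24) : Decidable (okA α β x x' s) := by unfold okA; infer_instance

theorem lemA {α β x x' s : Fin 24} (ok : okA α β x x' s) (u c : K) :
    Commute (e (V α) c * e (V β) c) (e (V x) u * e (V x') u) := by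
  obtain ⟨h1, h2, h3, h4, h5, h6, h7, h8, h9, h10⟩ := ok
  have k1 := V_comm S h7 c u
  have k2 := V_mc S h1 h2 h5 c u
  have k3 := V_mc S h3 h4 h6 c u
  have k4 := V_comm S h8 c (c * u)
  have k5 := V_comm S h9 u (c * u)
  have k6 := V_comm S h10 c u
  have k7 := S.data.sq (root_V (cs := cs) (h := h) s) (c * u)
  calc e (V α) c * e (V β) c * (e (V x) u * e (V x') u)
      = e (V α) c * (e (V β) c * e (V x) u) * e (V x') u := by group
    _ = (e (V α) c * e (V x) u) * (e (V β) c * e (V x') u) := by rw [k1]; group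
    _ = e (V s) (c * u) * e (V x) u * (e (V α) c * e (V s) (c * u)) * e (V x') u * e (V β) c := by
        rw [k2, k3]; group
    _ = e (V s) (c * u) * (e (V x) u * e (V s) (c * u)) * e (V α) c * e (V x') u * e (V β) c := by rw [k4]; group
    _ = (e (V s) (c * u) * e (V s) (c * u)) * e (V x) u * (e (V α) c * e (V x') u) * e (V β) c := by
        rw [k5]; group
    _ = e (V x) u * e (V x') u * (e (V α) c * e (V β) c) := by rw [k6, k7]; group

/-- `Commute` with a product over three pairwise orthogonal roots -/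
theorem lemB {a b c : Fin 24} (hab : 0 ≤ C a b) {y : Y} {v : K} (h1 : Commute (e (V b) v * e (V a) v) y)
    (h2 : Commute (e (V c) v) y) : Commute (e (V a) v * (e (V b) v * (e (V c) v * 1))) y := by
  rw [mul_one, ← mul_assoc, V_comm S hab]
  exact h1.mul_left h2

theorem lemC {c x x' : Fin 24} (h1 : 0 ≤ C c x) (h2 : 0 ≤ C c x') (u v : K) :
    Commute (e (V c) v) (e (V x) u * e (V x') u) :=
  (show Commute _ _ from V_comm S h1 v u).mul_right (V_comm S h2 v u)

/-- `y_a`, `y_{σ a}`, `y_c` commute with `e_J(c)`, `J = [1, 0, 5]` -/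
theorem comm_pos (u c : K) : Commute (e (V 1) c * (e (V 0) c * (e (V 5) c * 1))) (e (V 12) u * e (V 13) u) ∧
    Commute (e (V 1) c * (e (V 0) c * (e (V 5) c * 1))) (e (V 14) u * e (V 15) u) ∧
    Commute (e (V 1) c * (e (V 0) c * (e (V 5) c * 1))) (e (V 16) u * e (V 17) u) := by
  have o1 : okA 0 1 12 13 18 := by decide +kernel
  have o2 : okA 5 1 14 15 20 := by decide +kernel
  have o3 : okA 5 0 16 17 22 := by decide +kernel
  refine ⟨lemB S (by decide +kernel) (lemA S o1 u c) (lemC S (by decide +kernel) (by decide +kernel) u c), ?_, ?_⟩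
  · have h1 := lemB S (a := 1) (b := 5) (c := 0) (by decide +kernel) (lemA S o2 u c)
      (lemC S (by decide +kernel) (by decide +kernel) u c)
    rwa [mul_one, V_comm S (k := 5) (l := 0) (by decide +kernel), ← mul_one (e (V 5) c)] at h1
  · have h1 := lemA S o3 u c
    rw [V_comm S (k := 5) (l := 0) (by decide +kernel)] at h1
    rw [mul_one]
    exact (lemC S (by decide +kernel) (by decide +kernel) u c).mul_left h1

/-- the same for the opposite roots -/
theorem comm_neg (u c : K) : Commute (e (V 7) c * (e (V 6) c * (e (V 11) c * 1))) (e (V 12) u * e (V 13) u) ∧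
    Commute (e (V 7) c * (e (V 6) c * (e (V 11) c * 1))) (e (V 14) u * e (V 15) u) ∧
    Commute (e (V 7) c * (e (V 6) c * (e (V 11) c * 1))) (e (V 16) u * e (V 17) u) := by
  have o1 : okA 7 6 12 13 19 := by decide +kernel
  have o2 : okA 7 11 14 15 21 := by decide +kernel
  have o3 : okA 6 11 16 17 23 := by decide +kernel
  have h1 := lemA S o1 u c
  rw [V_comm S (k := 7) (l := 6) (by decide +kernel)] at h1
  have h2 := lemA S o2 u c
  rw [V_comm S (k := 7) (l := 11) (by decide +kernel)] at h2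
  refine ⟨lemB S (by decide +kernel) h1 (lemC S (by decide +kernel) (by decide +kernel) u c), ?_, ?_⟩
  · have h1 := lemB S (a := 7) (b := 11) (c := 6) (by decide +kernel) h2
      (lemC S (by decide +kernel) (by decide +kernel) u c)
    rwa [mul_one, V_comm S (k := 11) (l := 6) (by decide +kernel), ← mul_one (e (V 11) c)] at h1
  · rw [mul_one]
    exact (lemC S (by decide +kernel) (by decide +kernel) u c).mul_left (lemA S o3 u c)

end

section

variable [Finite W] {R : RGD cs h 2 T n X} (S : _root_.Cfsg.Agent.KFacts.ChevTwo.Sys R e) {q : ℕ} {L : Subgroup Y} (t : Tw e q L)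
include S

/-- transport of a pair of root elements -/
theorem pair_word {ω : List (Fin 6)} (hω : (_root_.Cfsg.Agent.H737.SK.Gen.pr ω fun j => nel e (sr j)) ∈ L) {x y x' y' : Fin 6 → ℤ}
    (hx : IsRoot cs h x) (hy : IsRoot cs h y) (h1 : ω.foldr (step A6) x = x') (h2 : ω.foldr (step A6) y = y')
    {a b : K} (hab : e x a * e y b ∈ L) : e x' a * e y' b ∈ L := by
  have k1 := word_act S ω hx a
  have k2 := word_act S ω hy b
  rw [rep_word, h1] at k1
  rw [rep_word, h2] at k2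
  rw [← k1, ← k2]
  have := mul_mem (mul_mem hω hab) (inv_mem hω)
  convert this using 1
  group

include t

theorem w13 : (_root_.Cfsg.Agent.H737.SK.Gen.pr [1, 3] fun j => nel e (sr j)) ∈ L := by
  rw [pr_cons, pr_cons, pr_nil, mul_one]
  exact mul_mem (n1 S t) (n3 S t)

theorem w324 : (_root_.Cfsg.Agent.H737.SK.Gen.pr [3, 2, 4] fun j => nel e (sr j)) ∈ L := by
  rw [pr_cons, pr_cons, pr_cons, pr_nil, mul_one]
  exact mul_mem (n3 S t) (n24 S t)

theorem w324' : (_root_.Cfsg.Agent.H737.SK.Gen.pr [3, 2, 4, 1, 3, 2, 4] fun j => nel e (sr j)) ∈ L := by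
  have h1 : (_root_.Cfsg.Agent.H737.SK.Gen.pr [3, 2, 4, 1, 3, 2, 4] fun j => nel e (sr j)) = nel e (sr 3) * (nel e (sr 2) * nel e (sr 4)) *
      nel e (sr 1) * (nel e (sr 3) * (nel e (sr 2) * nel e (sr 4))) := by
    simp only [pr_cons, pr_nil, mul_one, mul_assoc]
  rw [h1]
  exact mul_mem (mul_mem (mul_mem (n3 S t) (n24 S t)) (n1 S t)) (mul_mem (n3 S t) (n24 S t))

theorem mem1 (u : K) : e (V 12) u * e (V 14) (u ^ q) ∈ L :=
  pair_word S (w13 S t) (isRoot_sr cs h 2) (isRoot_sr cs h 4) (by decide +kernel) (by decide +kernel) (t.p2 u)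

theorem mem2 (u : K) : e (V 13) u * e (V 15) (u ^ q) ∈ L :=
  pair_word S (w324 S t) (isRoot_sr cs h 0) (isRoot_sr cs h 5) (by decide +kernel) (by decide +kernel) (t.p0 u)

theorem mem3 (u : K) : e (V 16) u * e (V 17) (u ^ q) ∈ L :=
  pair_word S (w324' S t) (isRoot_sr cs h 0) (isRoot_sr cs h 5) (by decide +kernel) (by decide +kernel) (t.p0 u)

omit t

/-- the two forms of `z` -/
theorem z_eq {u v w w' : K} (hw : w' = w + u * v) :
    (e (V 12) u * e (V 14) v) * (e (V 13) u * e (V 15) v) * (e (V 16) w' * e (V 17) w) =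
      (e (V 12) u * e (V 13) u) * (e (V 14) v * e (V 15) v) * (e (V 16) w * e (V 17) w) := by
  have k1 := V_mc S (k := 14) (l := 13) (m := 16) (by decide +kernel) (by decide +kernel) (by decide +kernel) v u
  have k2 := V_comm S (k := 16) (l := 13) (by decide +kernel) (v * u) u
  have k3 := V_comm S (k := 16) (l := 14) (by decide +kernel) (v * u) v
  have k4 := V_comm S (k := 16) (l := 15) (by decide +kernel) (v * u) v
  have k5 : e (V 16) w = e (V 16) (v * u) * e (V 16) w' := by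
    rw [← S.data.add _ (root_V 16), hw]
    congr 1
    have := S.data.two (u * v)
    linear_combination -this
  rw [k5]
  calc (e (V 12) u * e (V 14) v) * (e (V 13) u * e (V 15) v) * (e (V 16) w' * e (V 17) w)
      = e (V 12) u * (e (V 14) v * e (V 13) u) * e (V 15) v * (e (V 16) w' * e (V 17) w) := by group
    _ = e (V 12) u * (e (V 16) (v * u) * e (V 13) u) * e (V 14) v * e (V 15) v * (e (V 16) w' * e (V 17) w) := by
        rw [k1]; group
    _ = e (V 12) u * e (V 13) u * (e (V 16) (v * u) * e (V 14) v) * e (V 15) v * (e (V 16) w' * e (V 17) w) := by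
        rw [k2]; group
    _ = e (V 12) u * e (V 13) u * e (V 14) v * (e (V 16) (v * u) * e (V 15) v) * (e (V 16) w' * e (V 17) w) := by
        rw [k3]; group
    _ = _ := by rw [k4]; group

/-- `nel` over `J` -/
theorem comm_nJ {J : List (Fin 6)} (hJ : Orth cs h J) {y : Y} (h1 : ∀ c, Commute (_root_.Cfsg.Agent.H737.SK.Gen.pr J fun j => e (sr j) c) y)
    (h2 : ∀ c, Commute (_root_.Cfsg.Agent.H737.SK.Gen.pr J fun j => e (-sr j) c) y) :
    (∀ c, Commute (_root_.Cfsg.Agent.H737.SK.Gen.pr J fun j => nc e (sr j) c) y) ∧ Commute (_root_.Cfsg.Agent.H737.SK.Gen.pr J fun j => nel e (sr j)) y ∧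
      (∀ c, Commute (_root_.Cfsg.Agent.H737.SK.Gen.pr J fun j => hel e (sr j) c) y) ∧ Commute (_root_.Cfsg.Agent.H737.SK.Gen.pr J (xl e)) y := by
  have hp := fun (j : Fin 6) (c : K) => e_mem S j c
  have hm := fun (j : Fin 6) (c : K) => e_neg_mem S j c
  have k1 : ∀ c, Commute (_root_.Cfsg.Agent.H737.SK.Gen.pr J fun j => nc e (sr j) c) y := by
    intro c
    have e1 : (_root_.Cfsg.Agent.H737.SK.Gen.pr J fun j => nc e (sr j) c) = (_root_.Cfsg.Agent.H737.SK.Gen.pr J fun j => e (sr j) c) * (_root_.Cfsg.Agent.H737.SK.Gen.pr J fun j => e (-sr j) c⁻¹) *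
        (_root_.Cfsg.Agent.H737.SK.Gen.pr J fun j => e (sr j) c) := by
      rw [pr_mul hJ.nodup (commL S hJ (fun j _ => hp j c) fun j _ => hm j c⁻¹),
        pr_mul hJ.nodup (commL S hJ (fun j _ => mul_mem (hp j c) (hm j c⁻¹)) fun j _ => hp j c)]
      rfl
    rw [e1]
    exact ((h1 c).mul_left (h2 c⁻¹)).mul_left (h1 c)
  have k2 : Commute (_root_.Cfsg.Agent.H737.SK.Gen.pr J fun j => nel e (sr j)) y := k1 1
  refine ⟨k1, k2, fun c => ?_, ?_⟩
  · have e1 : (_root_.Cfsg.Agent.H737.SK.Gen.pr J fun j => hel e (sr j) c) = (_root_.Cfsg.Agent.H737.SK.Gen.pr J fun j => nc e (sr j) c) * _root_.Cfsg.Agent.H737.SK.Gen.pr J fun j => nel e (sr j) := by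
      rw [pr_mul hJ.nodup (commL S hJ (f := fun j => nc e (sr j) c)
        (fun j _ => mul_mem (mul_mem (hp j c) (hm j c⁻¹)) (hp j c)) fun j _ => nel_mem S j)]
      rfl
    rw [e1]
    exact (k1 c).mul_left k2
  · have e1 : _root_.Cfsg.Agent.H737.SK.Gen.pr J (xl e) = (_root_.Cfsg.Agent.H737.SK.Gen.pr J fun j => e (sr j) 1) * (_root_.Cfsg.Agent.H737.SK.Gen.pr J fun j => e (-sr j) 1) := by
      rw [pr_mul hJ.nodup (commL S hJ (fun j _ => hp j 1) fun j _ => hm j 1)]
      rfl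
    rw [e1]
    exact (h1 1).mul_left (h2 1)

theorem orth105 : Orth cs h [(1 : Fin 6), 0, 5] := by
  refine ⟨by decide, ?_⟩
  have key : ∀ i ∈ [(1 : Fin 6), 0, 5], ∀ j ∈ [(1 : Fin 6), 0, 5], i ≠ j → pairing A6 j (sr i) = 0 := by
    decide +kernel
  intro i hi j hj hij
  rw [cpr_sr]
  exact key i hi j hj hij

/-- **(T5-D)**, abstract form -/
theorem t5d_aux {γ : MulAut Y} (hγ : Gra cs h e γ s6) {u w : K} (hu : u ^ q ≠ u) (hw : w ^ q = w + u * u ^ q)
    (hqq : (w ^ q) ^ q = w) (t : Tw e q L) :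
    ∃ z ∈ L, Commute (_root_.Cfsg.Agent.H737.SK.Gen.pr [(1 : Fin 6), 0, 5] fun j => nel e (sr j)) z ∧
      (∀ c, Commute (_root_.Cfsg.Agent.H737.SK.Gen.pr [(1 : Fin 6), 0, 5] fun j => hel e (sr j) c) z) ∧
      Commute (_root_.Cfsg.Agent.H737.SK.Gen.pr [(1 : Fin 6), 0, 5] (xl e)) z ∧ γ z ≠ z := by
  obtain ⟨v, hv⟩ : ∃ v, v = u ^ q := ⟨_, rfl⟩
  rw [← hv] at hu hw
  have hz := z_eq S hw
  obtain ⟨z, hzd⟩ : ∃ z, z = (e (V 12) u * e (V 13) u) * (e (V 14) v * e (V 15) v) * (e (V 16) w * e (V 17) w) :=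
    ⟨_, rfl⟩
  have hc : ∀ c, Commute (e (V 1) c * (e (V 0) c * (e (V 5) c * 1))) z := by
    intro c
    rw [hzd]
    exact (((comm_pos S u c).1).mul_right (comm_pos S v c).2.1).mul_right (comm_pos S w c).2.2
  have hc' : ∀ c, Commute (e (V 7) c * (e (V 6) c * (e (V 11) c * 1))) z := by
    intro c
    rw [hzd]
    exact (((comm_neg S u c).1).mul_right (comm_neg S v c).2.1).mul_right (comm_neg S w c).2.2
  have v6 : V 6 = -sr 0 := by decide +kernel
  have v7 : V 7 = -sr 1 := by decide +kernel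
  have v11 : V 11 = -sr 5 := by decide +kernel
  obtain ⟨-, k2, k3, k4⟩ := comm_nJ S (orth105 S) (y := z) hc (by rw [v6, v7, v11] at hc'; exact hc')
  refine ⟨z, ?_, k2, k3, k4, ?_⟩
  · rw [hzd, ← hz]
    refine mul_mem (mul_mem ?_ ?_) ?_
    · rw [hv]; exact mem1 S t u
    · rw [hv]; exact mem2 S t u
    · have := mem3 S t (w ^ q)
      rwa [hqq] at this
  · intro h1
    have g12 : (fun i => V 12 (s6 i)) = V 14 := by decide +kernel
    have g13 : (fun i => V 13 (s6 i)) = V 15 := by decide +kernel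
    have g14 : (fun i => V 14 (s6 i)) = V 12 := by decide +kernel
    have g15 : (fun i => V 15 (s6 i)) = V 13 := by decide +kernel
    have g16 : (fun i => V 16 (s6 i)) = V 17 := by decide +kernel
    have g17 : (fun i => V 17 (s6 i)) = V 16 := by decide +kernel
    rw [hzd] at h1
    simp only [map_mul, hγ.map _ (root_V _)] at h1
    rw [g12, g13, g14, g15, g16, g17] at h1
    -- bring `e (V 12) v` to the front
    have k1 := V_mc S (k := 15) (l := 12) (m := 17) (by decide +kernel) (by decide +kernel) (by decide +kernel) u v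
    have k2 := V_comm S (k := 17) (l := 12) (by decide +kernel) (u * v) v
    have k3 := V_comm S (k := 14) (l := 12) (by decide +kernel) u v
    have h2 : e (V 12) v * (e (V 14) u * e (V 17) (u * v) * e (V 15) u * e (V 13) v * (e (V 17) w * e (V 16) w)) =
        e (V 12) u * (e (V 13) u * (e (V 14) v * e (V 15) v) * (e (V 16) w * e (V 17) w)) := by
      calc e (V 12) v * (e (V 14) u * e (V 17) (u * v) * e (V 15) u * e (V 13) v * (e (V 17) w * e (V 16) w))
          = (e (V 14) u * e (V 12) v) * e (V 17) (u * v) * e (V 15) u * e (V 13) v * (e (V 17) w * e (V 16) w) := by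
            rw [k3]; group
        _ = e (V 14) u * (e (V 17) (u * v) * e (V 12) v) * e (V 15) u * e (V 13) v * (e (V 17) w * e (V 16) w) := by
            rw [k2]; group
        _ = e (V 14) u * (e (V 15) u * e (V 12) v) * e (V 13) v * (e (V 17) w * e (V 16) w) := by
            rw [k1]; group
        _ = _ := by
            refine Eq.trans ?_ (h1.trans ?_) <;> group
    have hinv := S.data.inv (root_V (cs := cs) (h := h) 12) v
    have h3 : e (V 12) (v + u) = (e (V 14) u * e (V 17) (u * v) * e (V 15) u * e (V 13) v * (e (V 17) w * e (V 16) w)) *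
        (e (V 13) u * (e (V 14) v * e (V 15) v) * (e (V 16) w * e (V 17) w))⁻¹ := by
      rw [S.data.add _ (root_V 12), eq_mul_inv_iff_mul_eq, mul_assoc, ← h2, ← mul_assoc, S.data.sq (root_V 12),
        one_mul]
    have huv : v + u ≠ 0 := fun h0 => hu (by
      have := S.data.two u
      linear_combination h0 - this)
    -- the group of elements mapped into `U`
    obtain ⟨g, hg⟩ : ∃ g, g = _root_.Cfsg.Agent.H737.SK.Gen.pr [3, 1, 2] fun j => nel e (sr j) := ⟨_, rfl⟩
    obtain ⟨P, hP⟩ : ∃ P : Subgroup Y, P = (RGD.Sup X (RGD.Pos cs h)).comap (MulAut.conj g).toMonoidHom := ⟨_, rfl⟩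
    have hact : ∀ (k : Fin 24) (a : K), g * e (V k) a * g⁻¹ = e (([3, 1, 2] : List (Fin 6)).foldr (step A6) (V k)) a := by
      intro k a
      have := word_act S [3, 1, 2] (root_V (cs := cs) (h := h) k) a
      rw [rep_word] at this
      rw [hg, this]
    have hroot : ∀ k : Fin 24, IsRoot cs h (([3, 1, 2] : List (Fin 6)).foldr (step A6) (V k)) := by
      intro k
      rw [← rep_word (cs := cs) (h := h)]
      exact (root_V k).act _
    have hmem : ∀ k : Fin 24, (∀ i, 0 ≤ ([3, 1, 2] : List (Fin 6)).foldr (step A6) (V k) i) → ∀ a : K,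
        e (V k) a ∈ P := by
      intro k hk a
      rw [hP, Subgroup.mem_comap]
      show g * e (V k) a * g⁻¹ ∈ _
      rw [hact]
      exact mem_U S (hroot k) hk a
    have m13 := hmem 13 (by decide +kernel)
    have m14 := hmem 14 (by decide +kernel)
    have m15 := hmem 15 (by decide +kernel)
    have m16 := hmem 16 (by decide +kernel)
    have m17 := hmem 17 (by decide +kernel)
    have h4 : e (V 12) (v + u) ∈ P := by
      rw [h3]
      exact mul_mem (mul_mem (mul_mem (mul_mem (mul_mem (m14 _) (m17 _)) (m15 _)) (m13 _)) (mul_mem (m17 _) (m16 _)))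
        (inv_mem (mul_mem (mul_mem (m13 _) (mul_mem (m14 _) (m15 _))) (mul_mem (m16 _) (m17 _))))
    rw [hP, Subgroup.mem_comap] at h4
    have h5 : g * e (V 12) (v + u) * g⁻¹ ∈ RGD.Sup X (RGD.Pos cs h) := h4
    rw [hact] at h5
    have hneg : ∀ i, ([3, 1, 2] : List (Fin 6)).foldr (step A6) (V 12) i ≤ 0 := by decide +kernel
    exact ne_of_neg' S (hroot 12) hneg huv h5 rfl

end

/-- an element of `F_{q²}` outside `F_q` -/
theorem exists_pow_ne {K : Type*} [Field K] [Fintype K] {q : ℕ} (hq : 1 < q) (hK : Fintype.card K = q ^ 2) :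
    ∃ u : K, u ^ q ≠ u := by
  by_contra hcon
  push Not at hcon
  have h1 := FiniteField.X_pow_card_sub_X_ne_zero K hq
  have h2 := FiniteField.X_pow_card_sub_X_natDegree_eq K hq
  refine h1 (Polynomial.eq_zero_of_natDegree_lt_card_of_eval_eq_zero _ Function.injective_id (fun a => ?_) ?_)
  · simp [hcon]
  · rw [h2, hK]
    nlinarith only [hq]

/-- **(T5-D)**: an element of `²E₆(q)`, `q` even, centralising the diagonal `SL₂` in `A₁³`, `J = [1, 0, 5]` -/
theorem t5d {K : Type u} [Field K] [Fintype K] [CharP K 2] {q : ℕ} (hq : IsPrimePow q)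
    (hK : Fintype.card K = q ^ 2) :
    ∃ z ∈ (twistedE6 K q).subgroupOf (chevE6.group K),
      Commute (_root_.Cfsg.Agent.H737.SK.Gen.pr [(1 : Fin 6), 0, 5] fun j => nel (eg hp K) (sr j)) z ∧
      (∀ c, Commute (_root_.Cfsg.Agent.H737.SK.Gen.pr [(1 : Fin 6), 0, 5] fun j => hel (eg hp K) (sr j) c) z) ∧
      Commute (_root_.Cfsg.Agent.H737.SK.Gen.pr [(1 : Fin 6), 0, 5] (xl (eg hp K))) z ∧ gam K z ≠ z := by
  obtain ⟨cs, -⟩ : ∃ cs : CoxeterSystem CoxeterMatrix.E₆ CoxeterMatrix.E₆.Group,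
    cs = CoxeterMatrix.E₆.toCoxeterSystem := ⟨_, rfl⟩
  have := finite_W hp cs
  have S := sys (K := K) hp twoOK_E6 cs
  have hγ : Gra cs hp.isCartan (eg hp K) (gam K) s6 := DichE6.gra_E6 cs
  obtain ⟨φ, hφ, hqq⟩ := TwE6Basic.exists_frob hq hK
  obtain ⟨u, hu⟩ := exists_pow_ne hq.one_lt hK
  have h0 : u + u ^ q ≠ 0 := by
    intro h0
    apply hu
    have := CharTwo.add_self_eq_zero u
    linear_combination h0 - this
  obtain ⟨w, hw⟩ : ∃ w, w = u * (u * u ^ q) / (u + u ^ q) := ⟨_, rfl⟩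
  have hwq : w ^ q = u ^ q * (u ^ q * u) / (u ^ q + u) := by
    rw [hw, ← hφ, map_div₀, map_mul, map_mul, map_add, ← hφ u, hφ (φ u), hφ u, hqq]
  refine t5d_aux S hγ hu ?_ (hqq w) (tw_twE6 q)
  rw [hwq, hw, add_comm (u ^ q) u]
  have h2 := CharTwo.two_eq_zero (R := K)
  field_simp
  linear_combination (-(u * u ^ q) * u) * h2

end Cfsg.Agent.H737.SK.E6
end

private theorem dce_98edc7e28a63 : _root_.True := by
  try have : _root_.True := by simp only [_root_.Cfsg.Agent.KFacts.ChevTwoInst.eg.congr_simp]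
  try have : _root_.True := by simp only [_root_.Cfsg.Agent.KFacts.RgdDiag.Diag.congr_simp]
  try have : _root_.True := by simp only [_root_.Cfsg.Agent.H83.RedEEight.reps.eq_1]
  try have : _root_.True := by simp only [_root_.Cfsg.Agent.H83.RedESeven.reps.eq_1]
  try have : _root_.True := by simp only [_root_.Cfsg.Agent.H737.SK.Gen.step.eq_1]
  try have : _root_.True := by simp only [_root_.Cfsg.Agent.H83.RedESix.reps.eq_1]
  exact _root_.True.intro
end

-- part: H259/SK/Row_mg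
section
prune_inst 0x201010000122000000000000600000001000040000008000000002000240804200020000002000000000080000040020030000000200000000000000000001000000000000000108020080000000000000000000000000000000000000000000000000000
set_option linter.all false
open scoped Cfsg.Agent.FastGrp

-- part: H259/SK/Tor
section
/-!
# Torus elements of `SU n F q` on orthonormal families (helper259)

For an orthonormal family `z : ι → F^n` and `γ : ι → F` of norm one and product one there is `y ∈ SU n F q` with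
`y u = u + ∑ (γ i - 1) h(u, z i) z i`. Semi-isometries permuting the lines of the family conjugate these elements.
-/

set_option autoImplicit false
set_option linter.unusedSectionVars false
set_option linter.unusedVariables false

namespace Cfsg.Agent.H259.SK

open Matrix Cfsg
open Cfsg.Agent.LieClassical.HermBasic Cfsg.Agent.LieClassical.HermSiegel

section Basic

variable {F : Type*} [Field F] [Fintype F] {q n : ℕ}

/-- orthonormal families -/
def ON (q : ℕ) {ι : Type*} [DecidableEq ι] (z : ι → (Fin n → F)) : Prop :=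
  ∀ i j, hermForm n F q (z i) (z j) = if i = j then 1 else 0

/-- `y` is the torus element with eigenvalues `γ i` on `z i`, and `1` on the orthogonal complement. -/
def IsTor (y : SU n F q) {ι : Type*} [Fintype ι] (z : ι → (Fin n → F)) (γ : ι → F) : Prop :=
  ∀ u, act y u = u + ∑ i, ((γ i - 1) * hermForm n F q u (z i)) • z i

/-- the matrix -/
def torM (q : ℕ) {ι : Type*} [Fintype ι] (z : ι → (Fin n → F)) (γ : ι → F) : Matrix (Fin n) (Fin n) F :=
  1 + (Matrix.of fun (j : Fin n) (i : ι) => (γ i - 1) * z i j) * (Matrix.of fun (i : ι) (j : Fin n) => z i j ^ q)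

theorem torM_mulVec {ι : Type*} [Fintype ι] (z : ι → (Fin n → F)) (γ : ι → F) (u : Fin n → F) :
    torM q z γ *ᵥ u = u + ∑ i, ((γ i - 1) * hermForm n F q u (z i)) • z i := by
  rw [torM, Matrix.add_mulVec, Matrix.one_mulVec, ← Matrix.mulVec_mulVec]
  congr 1
  funext j
  rw [Matrix.mulVec, dotProduct, Finset.sum_apply]
  refine Finset.sum_congr rfl fun i _ => ?_
  rw [Matrix.mulVec, dotProduct, Pi.smul_apply, smul_eq_mul, herm_def, Matrix.of_apply]
  have : ∑ x, (Matrix.of fun (i : ι) (j : Fin n) => z i j ^ q) i x * u x = ∑ x, u x * z i x ^ q :=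
    Finset.sum_congr rfl fun x _ => by rw [Matrix.of_apply]; ring
  rw [this]
  ring

theorem det_torM {ι : Type*} [Fintype ι] [DecidableEq ι] {z : ι → (Fin n → F)} (hz : ON q z) (γ : ι → F) :
    (torM q z γ).det = ∏ i, γ i := by
  rw [torM, Matrix.det_one_add_mul_comm]
  have : (1 + (Matrix.of fun (i : ι) (j : Fin n) => z i j ^ q) *
      (Matrix.of fun (j : Fin n) (i : ι) => (γ i - 1) * z i j)) = Matrix.diagonal γ := by
    ext i i'
    rw [Matrix.add_apply, Matrix.mul_apply]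
    have h1 : ∑ j, (Matrix.of fun (i : ι) (j : Fin n) => z i j ^ q) i j *
        (Matrix.of fun (j : Fin n) (i : ι) => (γ i - 1) * z i j) j i' = (γ i' - 1) * hermForm n F q (z i') (z i) := by
      rw [herm_def, Finset.mul_sum]
      exact Finset.sum_congr rfl fun j _ => by rw [Matrix.of_apply, Matrix.of_apply]; ring
    rw [h1, hz]
    by_cases h : i = i'
    · subst h
      simp
    · rw [if_neg (Ne.symm h), Matrix.one_apply_ne h, Matrix.diagonal_apply_ne _ h]
      ring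
  rw [this, Matrix.det_diagonal]

/-- the form of a combination of an orthonormal family -/
theorem herm_sum_sum (hF : Fintype.card F = q ^ 2) {ι : Type*} [Fintype ι] [DecidableEq ι] {z : ι → (Fin n → F)}
    (hz : ON q z) (a b : ι → F) :
    hermForm n F q (∑ i, a i • z i) (∑ i, b i • z i) = ∑ i, a i * b i ^ q := by
  rw [herm_sum_left]
  refine Finset.sum_congr rfl fun i _ => ?_
  rw [herm_sum_right hF, Finset.sum_eq_single i]
  · rw [herm_smul_left, herm_smul_right, hz, if_pos rfl]; ring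
  · intro j _ hj
    rw [herm_smul_left, herm_smul_right, hz, if_neg (Ne.symm hj)]; ring
  · intro h; exact absurd (Finset.mem_univ _) h

theorem herm_sum_z {ι : Type*} [Fintype ι] [DecidableEq ι] {z : ι → (Fin n → F)}
    (hz : ON q z) (a : ι → F) (j : ι) : hermForm n F q (∑ i, a i • z i) (z j) = a j := by
  rw [herm_sum_left, Finset.sum_eq_single j]
  · rw [herm_smul_left, hz, if_pos rfl, mul_one]
  · intro i _ hi
    rw [herm_smul_left, hz, if_neg hi, mul_zero]
  · intro h; exact absurd (Finset.mem_univ _) h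

theorem torM_herm (hF : Fintype.card F = q ^ 2) {ι : Type*} [Fintype ι] [DecidableEq ι] {z : ι → (Fin n → F)}
    (hz : ON q z) {γ : ι → F} (hγ : ∀ i, γ i * γ i ^ q = 1) (u v : Fin n → F) :
    hermForm n F q (torM q z γ *ᵥ u) (torM q z γ *ᵥ v) = hermForm n F q u v := by
  rw [torM_mulVec, torM_mulVec, herm_add_left, herm_add_right hF, herm_add_right hF, herm_sum_sum hF hz,
    herm_sum_left, herm_sum_right hF, add_assoc, ← Finset.sum_add_distrib, ← Finset.sum_add_distrib,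
    Finset.sum_eq_zero, add_zero]
  intro i _
  rw [herm_smul_left, herm_smul_right, herm_swap hF v (z i), mul_pow, sub_pow_q hF, one_pow]
  linear_combination (hermForm n F q u (z i) * hermForm n F q v (z i) ^ q) * hγ i

theorem exists_tor (hF : Fintype.card F = q ^ 2) {ι : Type*} [Fintype ι] [DecidableEq ι] {z : ι → (Fin n → F)}
    (hz : ON q z) {γ : ι → F} (hγ : ∀ i, γ i * γ i ^ q = 1) (hp : ∏ i, γ i = 1) :
    ∃ y : SU n F q, IsTor y z γ :=
  ⟨mkSU (torM q z γ) (by rw [det_torM hz, hp]) (torM_herm hF hz hγ), fun u => torM_mulVec z γ u⟩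

namespace IsTor

variable {ι : Type*} [Fintype ι] {z : ι → (Fin n → F)} {γ γ' : ι → F} {y y' : SU n F q}

theorem apply [DecidableEq ι] (h : IsTor y z γ) (hz : ON q z) (i : ι) : act y (z i) = γ i • z i := by
  rw [h, Finset.sum_eq_single i]
  · rw [hz, if_pos rfl, mul_one, sub_smul, one_smul]; abel
  · intro j _ hj
    rw [hz, if_neg (Ne.symm hj), mul_zero, zero_smul]
  · intro h; exact absurd (Finset.mem_univ _) h

theorem orth (h : IsTor y z γ) {u : Fin n → F} (hu : ∀ i, hermForm n F q u (z i) = 0) : act y u = u := by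
  rw [h, Finset.sum_eq_zero, add_zero]
  intro i _
  rw [hu, mul_zero, zero_smul]

theorem unique (h : IsTor y z γ) (h' : IsTor y' z γ) : y = y' := by
  apply ext_act
  intro u
  rw [h, h']

theorem mul [DecidableEq ι] (h : IsTor y z γ) (h' : IsTor y' z γ') (hz : ON q z) : IsTor (y * y') z (γ * γ') := by
  intro u
  rw [act_mul, h, h', add_assoc, ← Finset.sum_add_distrib]
  congr 1
  refine Finset.sum_congr rfl fun i _ => ?_
  rw [herm_add_left, herm_sum_z hz, ← add_smul, Pi.mul_apply]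
  congr 1
  ring

theorem comm [DecidableEq ι] (h : IsTor y z γ) (h' : IsTor y' z γ') (hz : ON q z) : y * y' = y' * y := by
  apply (h.mul h' hz).unique
  rw [mul_comm]
  exact h'.mul h hz

theorem one : IsTor (1 : SU n F q) z (1 : ι → F) := by
  intro u
  rw [act_one, Finset.sum_eq_zero, add_zero]
  intro i _
  rw [Pi.one_apply, sub_self, zero_mul, zero_smul]

theorem pow [DecidableEq ι] (h : IsTor y z γ) (hz : ON q z) (m : ℕ) : IsTor (y ^ m) z (γ ^ m) := by
  induction m with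
  | zero => rw [pow_zero, pow_zero]; exact one
  | succ m ih => rw [pow_succ, pow_succ]; exact ih.mul h hz

theorem pow_eq_one [DecidableEq ι] (h : IsTor y z γ) (hz : ON q z) {m : ℕ} (hm : ∀ i, γ i ^ m = 1) : y ^ m = 1 := by
  have h1 := h.pow hz m
  have h2 : γ ^ m = 1 := funext fun i => by rw [Pi.pow_apply, hm, Pi.one_apply]
  rw [h2] at h1
  exact h1.unique one

theorem inv [DecidableEq ι] (hF : Fintype.card F = q ^ 2) (h : IsTor y z γ) (hz : ON q z)
    (hγ : ∀ i, γ i * γ i ^ q = 1) : IsTor y⁻¹ z (fun i => γ i ^ q) := by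
  have h1 : y ^ (q + 1) = 1 := h.pow_eq_one hz fun i => by rw [pow_succ']; exact hγ i
  have h2 : y⁻¹ = y ^ q := by
    rw [inv_eq_iff_mul_eq_one, ← pow_succ', h1]
  rw [h2]
  exact h.pow hz q

end IsTor

/-- semi-isometries -/
structure Semi (q : ℕ) (ρ : F ≃+* F) (S : (Fin n → F) → (Fin n → F)) : Prop where
  add : ∀ u v, S (u + v) = S u + S v
  smul : ∀ (a : F) v, S (a • v) = ρ a • S v
  herm : ∀ u v, hermForm n F q (S u) (S v) = ρ (hermForm n F q u v)

namespace Semi

variable {ρ : F ≃+* F} {S : (Fin n → F) → (Fin n → F)}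

theorem zero (h : Semi q ρ S) : S 0 = 0 := by
  have h1 := h.smul 0 0
  rwa [zero_smul, map_zero, zero_smul] at h1

theorem sum (h : Semi q ρ S) {ι : Type*} (s : Finset ι) (f : ι → (Fin n → F)) :
    S (∑ i ∈ s, f i) = ∑ i ∈ s, S (f i) := by
  classical
  induction s using Finset.induction_on with
  | empty => rw [Finset.sum_empty, Finset.sum_empty, h.zero]
  | insert a s ha ih => rw [Finset.sum_insert ha, Finset.sum_insert ha, h.add, ih]

theorem of_act (g : SU n F q) : Semi q (1 : F ≃+* F) (act g) :=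
  ⟨act_add g, fun a v => act_smul g a v, fun u v => herm_act g u v⟩

theorem comp {ρ' : F ≃+* F} {S' : (Fin n → F) → (Fin n → F)} (h : Semi q ρ S) (h' : Semi q ρ' S') :
    Semi q (ρ * ρ') (fun v => S (S' v)) :=
  ⟨fun u v => by rw [h'.add, h.add], fun a v => by rw [h'.smul, h.smul]; rfl,
    fun u v => by rw [h.herm, h'.herm]; rfl⟩

/-- A semi-isometry permuting the lines of an orthonormal family conjugates the torus elements. -/
theorem conj_tor (h : Semi q ρ S) {ι : Type*} [Fintype ι] {z z' : ι → (Fin n → F)} {γ γ' : ι → F} {y y' : SU n F q}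
    (hy : IsTor y z γ) (hy' : IsTor y' z' γ') (π : Equiv.Perm ι)
    (hz : ∀ i, ∃ c : F, c * c ^ q = 1 ∧ S (z i) = c • z' (π i)) (hγ : ∀ i, ρ (γ i) = γ' (π i)) (u : Fin n → F) :
    S (act y u) = act y' (S u) := by
  rw [hy, hy', h.add, h.sum]
  congr 1
  rw [← Equiv.sum_comp π (fun i => ((γ' i - 1) * hermForm n F q (S u) (z' i)) • z' i)]
  refine Finset.sum_congr rfl fun i _ => ?_
  obtain ⟨c, hc, hi⟩ := hz i
  rw [h.smul, map_mul, ← h.herm, hi, herm_smul_right, smul_smul, map_sub, map_one, hγ]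
  congr 1
  linear_combination ((γ' (π i) - 1) * hermForm n F q (S u) (z' (π i))) * hc

end Semi

/-- an element with eigenvectors `z i` commutes with the torus elements -/
theorem comm_of_eigen {ι : Type*} [Fintype ι] {z : ι → (Fin n → F)} {γ : ι → F} {y x : SU n F q}
    (hy : IsTor y z γ) (hx : ∀ i, ∃ c : F, c * c ^ q = 1 ∧ act x (z i) = c • z i) : x * y = y * x := by
  apply ext_act
  intro u
  rw [act_mul, act_mul]
  exact (Semi.of_act x).conj_tor hy hy (Equiv.refl ι) hx (fun i => rfl) u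

/-- an element permuting the lines of the family, preserving `γ`, commutes -/
theorem comm_of_perm {ι : Type*} [Fintype ι] {z : ι → (Fin n → F)} {γ : ι → F} {y x : SU n F q}
    (hy : IsTor y z γ) (π : Equiv.Perm ι) (hx : ∀ i, ∃ c : F, c * c ^ q = 1 ∧ act x (z i) = c • z (π i))
    (hγ : ∀ i, γ i = γ (π i)) : x * y = y * x := by
  apply ext_act
  intro u
  rw [act_mul, act_mul]
  exact (Semi.of_act x).conj_tor hy hy π hx hγ u

/-- an element permuting the lines of the family, inverting `γ`, inverts -/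
theorem inv_of_perm (hF : Fintype.card F = q ^ 2) {ι : Type*} [Fintype ι] [DecidableEq ι] {z : ι → (Fin n → F)}
    {γ : ι → F} {y x : SU n F q} (hz : ON q z) (hn : ∀ i, γ i * γ i ^ q = 1)
    (hy : IsTor y z γ) (π : Equiv.Perm ι) (hx : ∀ i, ∃ c : F, c * c ^ q = 1 ∧ act x (z i) = c • z (π i))
    (hγ : ∀ i, γ i = γ (π i) ^ q) : x * y = y⁻¹ * x := by
  apply ext_act
  intro u
  rw [act_mul, act_mul]
  exact (Semi.of_act x).conj_tor hy (hy.inv hF hz hn) π hx hγ u

/-! ### orthonormal families -/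

theorem ON.linInd {ι : Type*} [Fintype ι] [DecidableEq ι] {z : ι → (Fin n → F)} (hz : ON q z) :
    LinearIndependent F z := by
  rw [Fintype.linearIndependent_iff]
  intro g hg i
  have h1 := herm_sum_z hz g i
  rw [hg, herm_zero_left] at h1
  exact h1.symm

theorem ON.card_le {ι : Type*} [Fintype ι] [DecidableEq ι] {z : ι → (Fin n → F)} (hz : ON q z) :
    Fintype.card ι ≤ n := by
  have := hz.linInd.fintype_card_le_finrank
  rwa [Module.finrank_fintype_fun_eq_card, Fintype.card_fin] at this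

/-- a family shorter than `n` has a nonzero orthogonal vector -/
theorem exists_orth (hF : Fintype.card F = q ^ 2) {ι : Type*} [Fintype ι] (z : ι → (Fin n → F))
    (hc : Fintype.card ι < n) : ∃ u : Fin n → F, u ≠ 0 ∧ ∀ i, hermForm n F q u (z i) = 0 := by
  let L : (Fin n → F) →ₗ[F] (ι → F) :=
    { toFun := fun u i => hermForm n F q u (z i)
      map_add' := fun u v => funext fun i => herm_add_left u v (z i)
      map_smul' := fun c u => funext fun i => herm_smul_left c u (z i) }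
  have h1 : L.ker ≠ ⊥ := by
    apply LinearMap.ker_ne_bot_of_finrank_lt
    rw [Module.finrank_fintype_fun_eq_card, Module.finrank_fintype_fun_eq_card, Fintype.card_fin]
    exact hc
  obtain ⟨u, hu, hu0⟩ := (Submodule.ne_bot_iff _).1 h1
  exact ⟨u, hu0, fun i => congrFun (LinearMap.mem_ker.1 hu) i⟩

/-- eigenvectors of an isometry for different eigenvalues of norm one are orthogonal -/
theorem orth_of_eigen (hF : Fintype.card F = q ^ 2) {x : SU n F q} {a b : Fin n → F} {s t : F} (ht : t * t ^ q = 1)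
    (hst : s ≠ t) (ha : act x a = s • a) (hb : act x b = t • b) : hermForm n F q a b = 0 := by
  have h1 := herm_act x a b
  rw [ha, hb, herm_smul_left, herm_smul_right] at h1
  have h2 : (s - t) * hermForm n F q a b = 0 := by
    linear_combination t * h1 - (s * hermForm n F q a b) * ht
  rcases mul_eq_zero.1 h2 with h3 | h3
  · exact absurd (sub_eq_zero.1 h3) hst
  · exact h3

end Basic

end Cfsg.Agent.H259.SK
end

-- part: H259/SK/Pair
section
/-!
# Orthonormal pairs for linear and semilinear involutions in characteristic two (helper259)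
-/

set_option autoImplicit false
set_option linter.unusedSectionVars false
set_option linter.unusedVariables false

namespace Cfsg.Agent.H259.SK

open Matrix Cfsg
open Cfsg.Agent.LieClassical.HermBasic Cfsg.Agent.LieClassical.HermSiegel

section Char2

variable {F : Type*} [Field F] [Fintype F] {q n : ℕ}

theorem add_self_F (h2 : (2 : F) = 0) (a : F) : a + a = 0 := by rw [← two_mul, h2, zero_mul]

theorem add_self_W (h2 : (2 : F) = 0) (u : Fin n → F) : u + u = 0 := by
  funext i; exact add_self_F h2 _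

theorem eq_of_add_F (h2 : (2 : F) = 0) {a b : F} (h : a + b = 0) : a = b := by
  linear_combination h - b * h2

theorem eq_of_add_W (h2 : (2 : F) = 0) {u v : Fin n → F} (h : u + v = 0) : u = v := by
  funext i; exact eq_of_add_F h2 (congrFun h i)

theorem eq_one_of_sq (h2 : (2 : F) = 0) {c : F} (h : c * c = 1) : c = 1 := by
  have h1 : (c - 1) * (c - 1) = 0 := by linear_combination h - (c - 1) * h2
  exact sub_eq_zero.1 (mul_self_eq_zero.1 h1)

/-- elements of the fixed field are squares of elements of the fixed field -/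
theorem exists_sqrt (hF : Fintype.card F = q ^ 2) (h2 : (2 : F) = 0) {a : F} (ha : a ^ q = a) :
    ∃ b : F, b * b = a ∧ b ^ q = b := by
  have hinj : Function.Injective (fun b : F => b * b) := by
    intro b c hbc
    have h1 : (b - c) * (b - c) = 0 := by
      have : b * b = c * c := hbc
      linear_combination this + (c * c - b * c) * h2
    exact sub_eq_zero.1 (mul_self_eq_zero.1 h1)
  obtain ⟨b, hb⟩ := Finite.surjective_of_injective hinj a
  have hb' : b * b = a := hb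
  refine ⟨b, hb', hinj ?_⟩
  show b ^ q * b ^ q = b * b
  rw [← mul_pow, hb', ha]

/-- a nondegenerate sesquilinear form with all `h(a, N a) = 0` vanishes: polarisation -/
theorem polar {h : (Fin n → F) → (Fin n → F) → F} (hF : Fintype.card F = q ^ 2) (X : Submodule F (Fin n → F))
    (hl : ∀ u u' v, h (u + u') v = h u v + h u' v) (hr : ∀ u v v', h u (v + v') = h u v + h u v')
    (hsl : ∀ (c : F) u v, h (c • u) v = c * h u v) (hsr : ∀ (c : F) u v, h u (c • v) = c ^ q * h u v)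
    (h0 : ∀ u ∈ X, h u u = 0) {a b : Fin n → F} (ha : a ∈ X) (hb : b ∈ X) : h a b = 0 := by
  obtain ⟨c, hc⟩ := exists_not_fixed hF
  have h1 := h0 _ (X.add_mem ha hb)
  have h3 := h0 _ (X.add_mem (X.smul_mem c ha) hb)
  rw [hl, hr, hr, h0 a ha, h0 b hb] at h1
  rw [hl, hr, hr, h0 _ (X.smul_mem c ha), h0 b hb, hsl, hsr] at h3
  have h4 : (c ^ q - c) * h a b = 0 := by linear_combination c ^ q * h1 - h3
  rcases mul_eq_zero.1 h4 with h5 | h5
  · exact absurd (sub_eq_zero.1 h5) hc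
  · exact h5

/-- **Swap.** A linear isometric involution `S` with `h(Sa + a, a) ≠ 0` swaps two orthonormal vectors of `⟨a, Sa⟩`. -/
theorem exists_swap (hF : Fintype.card F = q ^ 2) (h2 : (2 : F) = 0) {S : (Fin n → F) → (Fin n → F)}
    (hS : Semi q (1 : F ≃+* F) S) (hi : ∀ v, S (S v) = v) {a : Fin n → F}
    (ha : hermForm n F q (S a + a) a ≠ 0) :
    ∃ s t : F, hermForm n F q (s • a + t • S a) (s • a + t • S a) = 1 ∧
      hermForm n F q (s • a + t • S a) (S (s • a + t • S a)) = 0 := by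
  have hsm : ∀ (c : F) v, S (c • v) = c • S v := fun c v => hS.smul c v
  have hh : ∀ u v, hermForm n F q (S u) (S v) = hermForm n F q u v := fun u v => hS.herm u v
  set d := hermForm n F q (S a + a) a with hd
  have hsw : hermForm n F q (S a) a = hermForm n F q a (S a) := by
    have := hh a (S a)
    rw [hi] at this
    exact this
  have hdq : d ^ q = d := by
    rw [hd, ← herm_swap hF, herm_add_right hF, herm_add_left, hsw]
  obtain ⟨ν, hν, hν0⟩ := exists_norm_eq_ne hF (c := d⁻¹) (by rw [inv_pow, hdq]) (inv_ne_zero ha)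
  set b := ν • a with hb
  set c := S b + b with hc
  have hcb : hermForm n F q c b = 1 := by
    rw [hc, hb, hsm, ← smul_add, herm_smul_left, herm_smul_right, ← hd]
    have hdd := mul_inv_cancel₀ ha
    linear_combination d * hν0 + hdd
  have hbc : hermForm n F q b c = 1 := by rw [herm_swap hF c b, hcb, one_pow]
  have hSc : S c = c := by
    rw [hc, hS.add, hi, add_comm]
  have hcc : hermForm n F q c c = 0 := by
    have h1 : hermForm n F q c (S b + b) = 0 := by
      rw [herm_add_right hF, hcb]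
      have : hermForm n F q c (S b) = hermForm n F q c b := by
        rw [← hh c b, hSc]
      rw [this, hcb]
      exact add_self_F h2 1
    exact h1
  obtain ⟨l, hl⟩ := exists_trace_eq hF (c := 1 + hermForm n F q b b) (by
    rw [add_pow_q hF, one_pow, herm_self_pow hF])
  have key : ∀ z : Fin n → F, z = b + l • c → hermForm n F q z z = 1 ∧ hermForm n F q z (S z) = 0 := by
    rintro z rfl
    have h3 : hermForm n F q (b + l • c) (b + l • c) = 1 := by
      simp only [herm_add_left, herm_add_right hF, herm_smul_left, herm_smul_right, hbc, hcb, hcc]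
      linear_combination hl + (hermForm n F q b b) * h2
    refine ⟨h3, ?_⟩
    have h4 : S (b + l • c) = (b + l • c) + c := by
      rw [hS.add, hsm l c, hSc, hc]
      have := add_self_W h2 b
      calc S b + l • (S b + b) = S b + l • (S b + b) + (b + b) := by rw [this, add_zero]
        _ = _ := by abel
    rw [h4, herm_add_right hF, h3]
    simp only [herm_add_left, herm_smul_left, hbc, hcc]
    linear_combination h2
  refine ⟨ν + l * ν, l * ν, ?_⟩
  have e : (ν + l * ν) • a + (l * ν) • S a = b + l • c := by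
    rw [hc, hb, hsm]
    simp only [add_smul, smul_add, smul_smul]
    abel
  rw [e]
  exact key _ rfl

/-! ### antilinear involutions on nondegenerate subspaces -/

/-- `X` is `S`-invariant and nondegenerate -/
structure Good (q : ℕ) (S : (Fin n → F) → (Fin n → F)) (X : Submodule F (Fin n → F)) : Prop where
  inv : ∀ x ∈ X, S x ∈ X
  nondeg : ∀ x ∈ X, x ≠ 0 → ∃ y ∈ X, hermForm n F q x y ≠ 0

/-- the orthogonal complement in `X` of a family -/
def perp (q : ℕ) (X : Submodule F (Fin n → F)) {ι : Type*} (z : ι → (Fin n → F)) : Submodule F (Fin n → F) where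
  carrier := {x | x ∈ X ∧ ∀ i, hermForm n F q x (z i) = 0}
  zero_mem' := ⟨X.zero_mem, fun i => herm_zero_left _⟩
  add_mem' := fun {a b} ha hb => ⟨X.add_mem ha.1 hb.1, fun i => by rw [herm_add_left, ha.2, hb.2, add_zero]⟩
  smul_mem' := fun c a ha => ⟨X.smul_mem c ha.1, fun i => by rw [herm_smul_left, ha.2, mul_zero]⟩

theorem Good.perp (hF : Fintype.card F = q ^ 2) {ρ : F ≃+* F} {S : (Fin n → F) → (Fin n → F)}
    (hS : Semi q ρ S) (hi : ∀ v, S (S v) = v) {X : Submodule F (Fin n → F)} (h : Good q S X)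
    {ι : Type*} [Fintype ι] [DecidableEq ι] {z : ι → (Fin n → F)} (hz : ON q z) (hX : ∀ i, z i ∈ X)
    (hp : ∀ i, ∃ (c : F) (j : ι), S (z i) = c • z j) : Good q S (perp q X z) := by
  constructor
  · rintro x ⟨hx, hx0⟩
    refine ⟨h.inv x hx, fun i => ?_⟩
    obtain ⟨c, j, hj⟩ := hp i
    have h1 := hS.herm x (S (z i))
    rw [hi, hj, herm_smul_right, hx0, mul_zero, map_zero] at h1
    exact h1
  · rintro x ⟨hx, hx0⟩ hne
    obtain ⟨y, hy, hxy⟩ := h.nondeg x hx hne
    refine ⟨y - ∑ i, hermForm n F q y (z i) • z i, ⟨X.sub_mem hy (X.sum_mem fun i _ => X.smul_mem _ (hX i)), ?_⟩, ?_⟩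
    · intro i
      rw [herm_sub_left, herm_sum_z hz, sub_self]
    · rw [herm_sub_right hF, herm_sum_right hF, Finset.sum_eq_zero, sub_zero]
      · exact hxy
      · intro i _
        rw [herm_smul_right, hx0, mul_zero]

/-- the whole space -/
theorem Good.top (hF : Fintype.card F = q ^ 2) (S : (Fin n → F) → (Fin n → F)) : Good q S ⊤ :=
  ⟨fun _ _ => Submodule.mem_top, fun x _ hx => by
    obtain ⟨y, hy⟩ := exists_herm_ne_zero hF hx
    exact ⟨y, Submodule.mem_top, hy⟩⟩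

/-- **Plane lemma.** An antilinear isometric involution on a nonzero nondegenerate space has a fixed unit vector or
swaps two orthonormal vectors. -/
theorem exists_unit_or_plane (hF : Fintype.card F = q ^ 2) (h2 : (2 : F) = 0) {T : (Fin n → F) → (Fin n → F)}
    (hT : Semi q (conj hF) T) (hi : ∀ v, T (T v) = v) {X : Submodule F (Fin n → F)} (h : Good q T X) (hX : X ≠ ⊥) :
    (∃ u ∈ X, T u = u ∧ hermForm n F q u u = 1) ∨
    (∃ p ∈ X, ∃ p' ∈ X, T p = p' ∧ T p' = p ∧ hermForm n F q p p = 1 ∧ hermForm n F q p' p' = 1 ∧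
      hermForm n F q p p' = 0 ∧ hermForm n F q p' p = 0) := by
  have hsm : ∀ (c : F) v, T (c • v) = c ^ q • T v := fun c v => hT.smul c v
  have hh : ∀ u v, hermForm n F q (T u) (T v) = hermForm n F q u v ^ q := fun u v => hT.herm u v
  -- a fixed vector of nonzero norm gives a fixed unit vector
  have unit : ∀ g ∈ X, T g = g → hermForm n F q g g ≠ 0 → ∃ u ∈ X, T u = u ∧ hermForm n F q u u = 1 := by
    intro g hg hTg hgg
    obtain ⟨b, hb, hbq⟩ := exists_sqrt hF h2 (a := (hermForm n F q g g)⁻¹) (by rw [inv_pow, herm_self_pow hF])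
    refine ⟨b • g, X.smul_mem _ hg, by rw [hsm, hTg, hbq], ?_⟩
    rw [herm_smul_left, herm_smul_right, hbq, ← mul_assoc, hb, inv_mul_cancel₀ hgg]
  -- a nonzero fixed vector
  obtain ⟨g, hg, hg0, hTg⟩ : ∃ g ∈ X, g ≠ 0 ∧ T g = g := by
    obtain ⟨x, hx, hx0⟩ := (Submodule.ne_bot_iff _).1 hX
    by_cases h0 : T x + x = 0
    · exact ⟨x, hx, hx0, eq_of_add_W h2 h0⟩
    · exact ⟨T x + x, X.add_mem (h.inv x hx) hx, h0, by rw [hT.add, hi, add_comm]⟩
  by_cases hgg : hermForm n F q g g = 0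
  swap
  · exact Or.inl (unit g hg hTg hgg)
  obtain ⟨y, hy, hgy⟩ := h.nondeg g hg hg0
  have hyg : hermForm n F q y g ≠ 0 := fun h0 => hgy (herm_eq_zero_swap hF h0)
  obtain ⟨l, hl⟩ := exists_trace_eq hF (c := (1 : F)) (one_pow q)
  set w := (l * (hermForm n F q y g)⁻¹) • y with hw
  have hwX : w ∈ X := X.smul_mem _ hy
  have hwg : hermForm n F q w g = l := by
    rw [hw, herm_smul_left, mul_assoc, inv_mul_cancel₀ hyg, mul_one]
  set f := w + T w with hf
  have hfX : f ∈ X := X.add_mem hwX (h.inv w hwX)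
  have hTf : T f = f := by rw [hf, hT.add, hi, add_comm]
  have hfg : hermForm n F q f g = 1 := by
    have h1 : hermForm n F q (T w) g = l ^ q := by
      have := hh w g
      rw [hTg, hwg] at this
      exact this
    rw [hf, herm_add_left, hwg, h1, hl]
  have hgf : hermForm n F q g f = 1 := by rw [herm_swap hF f g, hfg, one_pow]
  by_cases hff : hermForm n F q f f = 0
  swap
  · exact Or.inl (unit f hfX hTf hff)
  right
  have hlq : l ^ q + l = 1 := by rw [add_comm, hl]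
  have hq2 : (l ^ q) ^ q = l := pow_q_pow_q hF l
  refine ⟨g + l • f, X.add_mem hg (X.smul_mem _ hfX), g + (l ^ q) • f, X.add_mem hg (X.smul_mem _ hfX), ?_, ?_, ?_, ?_,
    ?_, ?_⟩
  · rw [hT.add, hsm, hTg, hTf]
  · rw [hT.add, hsm, hTg, hTf, hq2]
  · simp only [herm_add_left, herm_add_right hF, herm_smul_left, herm_smul_right, hgg, hff, hfg, hgf]
    linear_combination hlq
  · simp only [herm_add_left, herm_add_right hF, herm_smul_left, herm_smul_right, hgg, hff, hfg, hgf, hq2]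
    linear_combination hl
  · simp only [herm_add_left, herm_add_right hF, herm_smul_left, herm_smul_right, hgg, hff, hfg, hgf, hq2]
    linear_combination l * h2
  · simp only [herm_add_left, herm_add_right hF, herm_smul_left, herm_smul_right, hgg, hff, hfg, hgf, hq2]
    linear_combination (l ^ q) * h2

/-- a fixed unit vector and an orthogonal swapped pair give two orthonormal fixed vectors -/
theorem exists_two_units (hF : Fintype.card F = q ^ 2) (h2 : (2 : F) = 0) {T : (Fin n → F) → (Fin n → F)}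
    (hT : Semi q (conj hF) T) {X : Submodule F (Fin n → F)} {u p p' : Fin n → F} (hu : u ∈ X) (hp : p ∈ X)
    (hp' : p' ∈ X) (hTu : T u = u) (huu : hermForm n F q u u = 1) (hTp : T p = p') (hTp' : T p' = p)
    (hpp : hermForm n F q p p = 1) (hpp' : hermForm n F q p' p' = 1) (h0 : hermForm n F q p p' = 0)
    (hup : hermForm n F q u p = 0) (hup' : hermForm n F q u p' = 0) :
    ∃ u₁ ∈ X, ∃ u₂ ∈ X, T u₁ = u₁ ∧ T u₂ = u₂ ∧ hermForm n F q u₁ u₁ = 1 ∧ hermForm n F q u₂ u₂ = 1 ∧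
      hermForm n F q u₁ u₂ = 0 := by
  have hsm : ∀ (c : F) v, T (c • v) = c ^ q • T v := fun c v => hT.smul c v
  obtain ⟨l, hl⟩ := exists_trace_eq hF (c := (1 : F)) (one_pow q)
  have hq2 : (l ^ q) ^ q = l := pow_q_pow_q hF l
  have h0' : hermForm n F q p' p = 0 := by rw [herm_swap hF p p', h0, zero_pow_q hF]
  have hpu : hermForm n F q p u = 0 := by rw [herm_swap hF u p, hup, zero_pow_q hF]
  have hpu' : hermForm n F q p' u = 0 := by rw [herm_swap hF u p', hup', zero_pow_q hF]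
  refine ⟨u + (l ^ q • p + l • p'), X.add_mem hu (X.add_mem (X.smul_mem _ hp) (X.smul_mem _ hp')), u + (p + p'),
    X.add_mem hu (X.add_mem hp hp'), ?_, ?_, ?_, ?_, ?_⟩
  · rw [hT.add, hT.add, hsm, hsm, hTu, hTp, hTp', hq2, add_comm (l • p')]
  · rw [hT.add, hT.add, hTu, hTp, hTp', add_comm p']
  · simp only [herm_add_left, herm_add_right hF, herm_smul_left, herm_smul_right, huu, hpp, hpp', h0, h0', hup, hup', hpu,
      hpu', hq2]
    linear_combination (l * l ^ q) * h2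
  · simp only [herm_add_left, herm_add_right hF, herm_smul_left, herm_smul_right, huu, hpp, hpp', h0, h0', hup, hup', hpu,
      hpu', hq2]
    linear_combination h2
  · simp only [herm_add_left, herm_add_right hF, herm_smul_left, herm_smul_right, huu, hpp, hpp', h0, h0', hup, hup', hpu,
      hpu', hq2]
    linear_combination hl + h2

end Char2

end Cfsg.Agent.H259.SK
end

-- part: H259/SK/Geo
section
/-!
# S3010, `PSU_n(q)`, `q` even: the element `x` and the killing elements `y` (helper259)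
-/

set_option autoImplicit false
set_option linter.unusedSectionVars false
set_option linter.unusedVariables false
set_option linter.unusedSimpArgs false

namespace Cfsg.Agent.H259.SK

open Matrix Cfsg
open Cfsg.Agent.LieClassical.HermBasic Cfsg.Agent.LieClassical.HermSiegel

section Geo

variable {F : Type*} [Field F] [Fintype F] {q n : ℕ}

/-- a killing element: odd, not scalar, commuting with `B`, `x`, inverted by `S` -/
def Kill (B x : SU n F q) (S : (Fin n → F) → (Fin n → F)) : Prop :=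
  ∃ y : SU n F q, y ^ (q + 1) = 1 ∧ (¬ ∃ c : F, ∀ u, act y u = c • u) ∧ B * y = y * B ∧ x * y = y * x ∧
    ∀ u, S (act y u) = act y⁻¹ (S u)

theorem kill_of_tor (hF : Fintype.card F = q ^ 2) {ρ : F ≃+* F} {S : (Fin n → F) → (Fin n → F)} (hS : Semi q ρ S)
    {B x : SU n F q} {ι : Type*} [Fintype ι] [DecidableEq ι] (z : ι → (Fin n → F)) (γ : ι → F) (hz : ON q z)
    (hn : ∀ i, γ i * γ i ^ q = 1) (hp : ∏ i, γ i = 1)
    (hns : (∃ i j, γ i ≠ γ j) ∨ (∃ i, γ i ≠ 1 ∧ Fintype.card ι < n))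
    (πB : Equiv.Perm ι) (hB : ∀ i, act B (z i) = z (πB i)) (hB' : ∀ i, γ i = γ (πB i))
    (hx : ∀ i, ∃ c : F, c * c ^ q = 1 ∧ act x (z i) = c • z i)
    (πS : Equiv.Perm ι) (hSz : ∀ i, S (z i) = z (πS i)) (hS' : ∀ i, ρ (γ i) = γ (πS i) ^ q) : Kill B x S := by
  obtain ⟨y, hy⟩ := exists_tor hF hz hn hp
  refine ⟨y, hy.pow_eq_one hz fun i => by rw [pow_succ']; exact hn i, ?_, ?_, ?_, ?_⟩
  · rintro ⟨c, hc⟩
    have hne : ∀ i, z i ≠ 0 := by
      intro i h0
      have := hz i i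
      rw [h0, herm_zero_left, if_pos rfl] at this
      exact zero_ne_one this
    have h1 : ∀ i, γ i = c := by
      intro i
      have h2 := hy.apply hz i
      rw [hc] at h2
      have h3 : (c - γ i) • z i = 0 := by rw [sub_smul, h2, sub_self]
      rcases smul_eq_zero.1 h3 with h4 | h4
      · exact (sub_eq_zero.1 h4).symm
      · exact absurd h4 (hne i)
    rcases hns with ⟨i, j, hij⟩ | ⟨i, hi, hlt⟩
    · exact hij (by rw [h1, h1])
    · obtain ⟨u, hu0, hu⟩ := exists_orth hF z hlt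
      have h2 := hy.orth hu
      rw [hc] at h2
      have h3 : (c - 1) • u = 0 := by rw [sub_smul, h2, one_smul, sub_self]
      rcases smul_eq_zero.1 h3 with h4 | h4
      · exact hi (by rw [h1]; exact sub_eq_zero.1 h4)
      · exact hu0 h4
  · exact comm_of_perm hy πB (fun i => ⟨1, by rw [one_pow, one_mul], by rw [one_smul]; exact hB i⟩) hB'
  · exact comm_of_eigen hy hx
  · exact fun u => hS.conj_tor hy (hy.inv hF hz hn) πS
      (fun i => ⟨1, by rw [one_pow, one_mul], by rw [one_smul]; exact hSz i⟩) hS' u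

/-! ### Pairs -/

/-- `z i ↔ B (z i)`: orthonormal pairs swapped by `B` -/
structure Pairs (B : SU n F q) {ι : Type*} [DecidableEq ι] (z : ι → (Fin n → F)) : Prop where
  on : ON q z
  orth : ∀ i j, hermForm n F q (z i) (act B (z j)) = 0

/-- the doubled family -/
def dbl (B : SU n F q) {ι : Type*} (z : ι → (Fin n → F)) : ι ⊕ ι → (Fin n → F) :=
  Sum.elim z (fun i => act B (z i))

theorem Pairs.dbl_on (hF : Fintype.card F = q ^ 2) {B : SU n F q} {ι : Type*} [DecidableEq ι] {z : ι → (Fin n → F)}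
    (h : Pairs B z) : ON q (dbl B z) := by
  rintro (i | i) (j | j)
  · show hermForm n F q (z i) (z j) = _
    rw [h.on]
    by_cases hij : i = j
    · rw [if_pos hij, if_pos (by rw [hij])]
    · rw [if_neg hij, if_neg (fun h => hij (Sum.inl.inj h))]
  · show hermForm n F q (z i) (act B (z j)) = _
    rw [h.orth, if_neg (by simp)]
  · show hermForm n F q (act B (z i)) (z j) = _
    rw [herm_eq_zero_swap hF (h.orth j i), if_neg (by simp)]
  · show hermForm n F q (act B (z i)) (act B (z j)) = _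
    rw [herm_act, h.on]
    by_cases hij : i = j
    · rw [if_pos hij, if_pos (by rw [hij])]
    · rw [if_neg hij, if_neg (fun h => hij (Sum.inr.inj h))]

theorem act_act {B : SU n F q} (hB : B * B = 1) (u : Fin n → F) : act B (act B u) = u := by
  rw [← act_mul, hB, act_one]

/-- the form `h(Ca + a, b)` on a nondegenerate `C`-invariant subspace -/
theorem exists_swap_in (hF : Fintype.card F = q ^ 2) (h2 : (2 : F) = 0) {C : SU n F q} (hC : C * C = 1)
    {X : Submodule F (Fin n → F)} (hX : Good q (act C) X) {u : Fin n → F} (hu : u ∈ X) (hCu : act C u ≠ u) :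
    ∃ t ∈ X, hermForm n F q t t = 1 ∧ hermForm n F q t (act C t) = 0 := by
  by_contra hcon
  push Not at hcon
  have h0 : ∀ a ∈ X, hermForm n F q (act C a + a) a = 0 := by
    intro a ha
    by_contra h1
    obtain ⟨s, t, h3, h4⟩ := exists_swap hF h2 (Semi.of_act C) (act_act hC) h1
    exact hcon _ (X.add_mem (X.smul_mem s ha) (X.smul_mem t (hX.inv a ha))) h3 h4
  have h5 : act C u + u ≠ 0 := fun h => hCu (eq_of_add_W h2 h)
  have h6 : act C u + u ∈ X := X.add_mem (hX.inv u hu) hu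
  obtain ⟨b, hb, hne⟩ := hX.nondeg _ h6 h5
  apply hne
  exact polar (h := fun a b => hermForm n F q (act C a + a) b) hF X
    (fun a a' b => by
      rw [act_add, ← herm_add_left]
      congr 1
      abel)
    (fun a b b' => herm_add_right hF _ _ _)
    (fun c a b => by rw [act_smul, ← smul_add, herm_smul_left])
    (fun c a b => herm_smul_right _ _ _) h0 hu hb

theorem exists_pairs_succ (hF : Fintype.card F = q ^ 2) (h2 : (2 : F) = 0) {B : SU n F q} (hB : B * B = 1)
    {r : ℕ} {z : Fin r → (Fin n → F)} (h : Pairs B z) {u : Fin n → F} (hu : ∀ i, hermForm n F q u (dbl B z i) = 0)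
    (hBu : act B u ≠ u) : ∃ z' : Fin (r + 1) → (Fin n → F), Pairs B z' := by
  have hg : Good q (act B) (perp q ⊤ (dbl B z)) := by
    apply Good.perp hF (Semi.of_act B) (act_act hB) (Good.top hF _) (h.dbl_on hF) (fun _ => Submodule.mem_top)
    rintro (i | i)
    · exact ⟨1, Sum.inr i, by rw [one_smul]; rfl⟩
    · exact ⟨1, Sum.inl i, by rw [one_smul]; exact act_act hB _⟩
  obtain ⟨t, ht, htt, htB⟩ := exists_swap_in hF h2 hB hg ⟨Submodule.mem_top, hu⟩ hBu
  have h1 : ∀ i, hermForm n F q t (z i) = 0 := fun i => ht.2 (Sum.inl i)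
  have h3 : ∀ i, hermForm n F q t (act B (z i)) = 0 := fun i => ht.2 (Sum.inr i)
  refine ⟨Fin.cons t z, ?_, ?_⟩
  · intro i j
    refine Fin.cases ?_ (fun i => ?_) i <;> refine Fin.cases ?_ (fun j => ?_) j
    · rw [Fin.cons_zero, htt, if_pos rfl]
    · rw [Fin.cons_zero, Fin.cons_succ, h1, if_neg (Fin.succ_ne_zero j).symm]
    · rw [Fin.cons_zero, Fin.cons_succ, herm_eq_zero_swap hF (h1 i), if_neg (Fin.succ_ne_zero i)]
    · rw [Fin.cons_succ, Fin.cons_succ, h.on]
      simp only [Fin.succ_inj]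
  · intro i j
    refine Fin.cases ?_ (fun i => ?_) i <;> refine Fin.cases ?_ (fun j => ?_) j
    · rw [Fin.cons_zero, htB]
    · rw [Fin.cons_zero, Fin.cons_succ, h3]
    · rw [Fin.cons_zero, Fin.cons_succ]
      have := herm_act B (z i) (act B t)
      rw [act_act hB] at this
      rw [← this]
      exact herm_eq_zero_swap hF (h3 i)
    · rw [Fin.cons_succ, Fin.cons_succ, h.orth]

/-- **A complete system of pairs.** -/
theorem exists_pairs (hF : Fintype.card F = q ^ 2) (h2 : (2 : F) = 0) {B : SU n F q} (hB : B * B = 1) :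
    ∃ (r : ℕ) (z : Fin r → (Fin n → F)), Pairs B z ∧
      ∀ u, (∀ i, hermForm n F q u (dbl B z i) = 0) → act B u = u := by
  by_contra hcon
  push Not at hcon
  have h1 : ∀ r : ℕ, ∃ z : Fin r → (Fin n → F), Pairs B z := by
    intro r
    induction r with
    | zero => exact ⟨fun i => i.elim0, fun i => i.elim0, fun i => i.elim0⟩
    | succ r ih =>
      obtain ⟨z, hz⟩ := ih
      obtain ⟨u, hu, hBu⟩ := hcon r z hz
      exact exists_pairs_succ hF h2 hB hz hu hBu
  obtain ⟨z, hz⟩ := h1 (n + 1)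
  have h3 := (hz.dbl_on hF).card_le
  rw [Fintype.card_sum, Fintype.card_fin] at h3
  omega

/-! ### The element `x` -/

/-- eigenspaces -/
def Eg (x : SU n F q) (l : F) : Submodule F (Fin n → F) where
  carrier := {u | act x u = l • u}
  zero_mem' := by
    show act x 0 = l • 0
    rw [act_zero, smul_zero]
  add_mem' := fun {a b} ha hb => by
    show act x (a + b) = l • (a + b)
    rw [act_add, show act x a = l • a from ha, show act x b = l • b from hb, smul_add]
  smul_mem' := fun c a ha => by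
    show act x (c • a) = l • (c • a)
    rw [act_smul, show act x a = l • a from ha, smul_comm]

theorem mem_Eg {x : SU n F q} {l : F} {u : Fin n → F} : u ∈ Eg x l ↔ act x u = l • u := Iff.rfl

/-- the data of `x` -/
structure XS (B x : SU n F q) (Λ : Set F) : Prop where
  hB : B * B = 1
  inv : B * x = x⁻¹ * B
  norm : ∀ l ∈ Λ, l * l ^ q = 1
  ne_one : ∀ l ∈ Λ, l ≠ 1
  ne : ∀ l ∈ Λ, ∀ m ∈ Λ, l ≠ m ^ q
  one : ∀ u ∈ Eg x 1, act B u = u
  full : ∀ u, (∀ l ∈ Λ, ∀ a ∈ Eg x l, hermForm n F q u a = 0 ∧ hermForm n F q u (act B a) = 0) → u ∈ Eg x 1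
  nondeg_one : ∀ u ∈ Eg x 1, u ≠ 0 → ∃ v ∈ Eg x 1, hermForm n F q u v ≠ 0
  nonempty : ∀ l ∈ Λ, Eg x l ≠ ⊥

theorem exists_XS (hF : Fintype.card F = q ^ 2) {B : SU n F q} (hB : B * B = 1) {ι : Type*} [Fintype ι] [DecidableEq ι]
    {z : ι → (Fin n → F)} (hz : Pairs B z) (hc : ∀ u, (∀ i, hermForm n F q u (dbl B z i) = 0) → act B u = u)
    (e : ι → F) (hn : ∀ i, e i * e i ^ q = 1) (h1 : ∀ i, e i ≠ 1) (hne : ∀ i j, e i ≠ e j ^ q) :
    ∃ x : SU n F q, x ^ (q + 1) = 1 ∧ IsTor x (dbl B z) (Sum.elim e (fun i => e i ^ q)) ∧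
      XS B x (Set.range e) := by
  have hqq : ∀ a : F, (a ^ q) ^ q = a := pow_q_pow_q hF
  have hon := hz.dbl_on hF
  have hγ : ∀ i : ι ⊕ ι, Sum.elim e (fun i => e i ^ q) i * Sum.elim e (fun i => e i ^ q) i ^ q = 1 := by
    rintro (i | i)
    · exact hn i
    · show e i ^ q * (e i ^ q) ^ q = 1
      rw [hqq, mul_comm]; exact hn i
  have hγ1 : ∀ i : ι ⊕ ι, Sum.elim e (fun i => e i ^ q) i ≠ 1 := by
    rintro (i | i)
    · exact h1 i
    · intro h
      have h' : e i ^ q = 1 := h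
      have := hn i
      rw [h', mul_one] at this
      exact h1 i this
  obtain ⟨x, hx⟩ := exists_tor hF hon hγ (by
    rw [Fintype.prod_sum_type]
    simp only [Sum.elim_inl, Sum.elim_inr]
    rw [← Finset.prod_mul_distrib]
    exact Finset.prod_eq_one fun i _ => hn i)
  have heig : ∀ i, act x (dbl B z i) = Sum.elim e (fun i => e i ^ q) i • dbl B z i := hx.apply hon
  have hor1 : ∀ u ∈ Eg x 1, ∀ i, hermForm n F q u (dbl B z i) = 0 := fun u hu i =>
    orth_of_eigen hF (hγ i) (hγ1 i).symm hu (heig i)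
  refine ⟨x, hx.pow_eq_one hon fun i => by rw [pow_succ']; exact hγ i, hx, hB, ?_, ?_, ?_, ?_, ?_, ?_, ?_, ?_⟩
  · refine inv_of_perm hF hon hγ hx (Equiv.sumComm ι ι) ?_ ?_
    · rintro (i | i)
      · exact ⟨1, by rw [one_pow, one_mul], by rw [one_smul]; rfl⟩
      · exact ⟨1, by rw [one_pow, one_mul], by rw [one_smul]; exact act_act hB _⟩
    · rintro (i | i)
      · exact (hqq (e i)).symm
      · rfl
  · rintro _ ⟨i, rfl⟩; exact hn i
  · rintro _ ⟨i, rfl⟩; exact h1 i
  · rintro _ ⟨i, rfl⟩ _ ⟨j, rfl⟩; exact hne i j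
  · intro u hu
    exact hc u (hor1 u hu)
  · intro u hu
    show act x u = (1 : F) • u
    rw [one_smul]
    apply hx.orth
    rintro (i | i)
    · exact (hu (e i) ⟨i, rfl⟩ (z i) (heig (Sum.inl i))).1
    · exact (hu (e i) ⟨i, rfl⟩ (z i) (heig (Sum.inl i))).2
  · intro u hu hu0
    obtain ⟨w, hw⟩ := exists_herm_ne_zero hF hu0
    refine ⟨w - ∑ i, hermForm n F q w (dbl B z i) • dbl B z i, ?_, ?_⟩
    · show act x _ = (1 : F) • _
      rw [one_smul]
      apply hx.orth
      intro i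
      rw [herm_sub_left, herm_sum_z hon, sub_self]
    · rw [herm_sub_right hF, herm_sum_right hF, Finset.sum_eq_zero, sub_zero]
      · exact hw
      · intro i _
        rw [herm_smul_right, hor1 u hu i, mul_zero]
  · rintro _ ⟨i, rfl⟩ h0
    have h3 : z i ∈ Eg x (e i) := heig (Sum.inl i)
    rw [h0, Submodule.mem_bot] at h3
    have h4 := hz.on i i
    rw [h3, herm_zero_left, if_pos rfl] at h4
    exact zero_ne_one h4

namespace XS

variable {B x : SU n F q} {Λ : Set F}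

/-- `B` maps the `l`-eigenspace to the `l^q`-eigenspace -/
theorem act_B (hF : Fintype.card F = q ^ 2) (h : XS B x Λ) {l : F} (hl : l * l ^ q = 1) {u : Fin n → F}
    (hu : u ∈ Eg x l) : act B u ∈ Eg x (l ^ q) := by
  have h1 : act x (act B u) = act B (act x⁻¹ u) := by
    rw [← act_mul, ← act_mul]
    congr 1
    have h3 : x * (B * x) = B := by rw [h.inv]; group
    calc x * B = x * (B * x) * x⁻¹ := by group
      _ = B * x⁻¹ := by rw [h3]
  have hl0 : l ≠ 0 := by
    rintro rfl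
    rw [zero_mul] at hl
    exact zero_ne_one hl
  have h2 : act x⁻¹ u = l ^ q • u := by
    have h3 : act x (l ^ q • u) = u := by
      rw [act_smul, mem_Eg.1 hu, smul_smul, mul_comm, hl, one_smul]
    rw [← h3, act_inv_act, h3]
  rw [mem_Eg, h1, h2, act_smul]

theorem nondeg (hF : Fintype.card F = q ^ 2) (h : XS B x Λ) {l : F} (hl : l ∈ Λ) :
    ∀ u ∈ Eg x l, u ≠ 0 → ∃ v ∈ Eg x l, hermForm n F q u v ≠ 0 := by
  intro u hu hu0
  by_contra hcon
  push Not at hcon
  have h1 : u ∈ Eg x 1 := by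
    apply h.full
    intro m hm a ha
    refine ⟨?_, ?_⟩
    · by_cases hlm : l = m
      · exact hcon a (hlm ▸ ha)
      · exact orth_of_eigen hF (h.norm m hm) hlm hu ha
    · have h3 := h.act_B hF (h.norm m hm) ha
      exact orth_of_eigen hF (by rw [pow_q_pow_q hF, mul_comm]; exact h.norm m hm) (h.ne l hl m hm) hu h3
  have h3 : (l - 1) • u = 0 := by
    rw [sub_smul, ← mem_Eg.1 hu, mem_Eg.1 h1, sub_self]
  rcases smul_eq_zero.1 h3 with h4 | h4
  · exact h.ne_one l hl (sub_eq_zero.1 h4)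
  · exact hu0 h4

/-- eigenvectors -/
theorem orthB (hF : Fintype.card F = q ^ 2) (h : XS B x Λ) {l m : F} (hl : l ∈ Λ) (hm : m ∈ Λ) {a b : Fin n → F}
    (ha : a ∈ Eg x l) (hb : b ∈ Eg x m) : hermForm n F q a (act B b) = 0 :=
  orth_of_eigen hF (by rw [pow_q_pow_q hF, mul_comm]; exact h.norm m hm) (h.ne l hl m hm) ha
    (h.act_B hF (h.norm m hm) hb)

theorem orth_one (hF : Fintype.card F = q ^ 2) (h : XS B x Λ) {l : F} (hl : l ∈ Λ) {a b : Fin n → F}
    (ha : a ∈ Eg x l) (hb : b ∈ Eg x 1) : hermForm n F q a b = 0 :=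
  orth_of_eigen hF (by rw [one_pow, one_mul]) (h.ne_one l hl) ha hb

end XS

end Geo

end Cfsg.Agent.H259.SK
end

-- part: H259/SK/Lin
section
/-!
# S3010, `PSU_n(q)`, `q` even: the linear elements (helper259)
-/

set_option autoImplicit false
set_option linter.unusedSectionVars false
set_option linter.unusedVariables false
set_option linter.unusedSimpArgs false

namespace Cfsg.Agent.H259.SK

open Matrix Cfsg
open Cfsg.Agent.LieClassical.HermBasic Cfsg.Agent.LieClassical.HermSiegel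

section Lin

variable {F : Type*} [Field F] [Fintype F] {q n : ℕ}

theorem sum_elim_on {κ κ' : Type*} [DecidableEq κ] [DecidableEq κ'] {a : κ → (Fin n → F)} {c : κ' → (Fin n → F)}
    (ha : ON q a) (hc : ON q c) (h : ∀ i j, hermForm n F q (a i) (c j) = 0)
    (h' : ∀ i j, hermForm n F q (c j) (a i) = 0) : ON q (Sum.elim a c) := by
  rintro (i | i) (j | j)
  · show hermForm n F q (a i) (a j) = _
    rw [ha]
    by_cases hij : i = j
    · rw [if_pos hij, if_pos (by rw [hij])]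
    · rw [if_neg hij, if_neg (fun h => hij (Sum.inl.inj h))]
  · show hermForm n F q (a i) (c j) = _
    rw [h, if_neg (by simp)]
  · show hermForm n F q (c i) (a j) = _
    rw [h', if_neg (by simp)]
  · show hermForm n F q (c i) (c j) = _
    rw [hc]
    by_cases hij : i = j
    · rw [if_pos hij, if_pos (by rw [hij])]
    · rw [if_neg hij, if_neg (fun h => hij (Sum.inr.inj h))]

/-- killing elements supported on a doubled family `a, B a` of eigenvectors and a family `c` of fixed vectors -/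
theorem kill_dbl (hF : Fintype.card F = q ^ 2) {B x : SU n F q} {Λ : Set F} (h : XS B x Λ) {ρ : F ≃+* F}
    {S : (Fin n → F) → (Fin n → F)} (hS : Semi q ρ S) {κ κ' : Type*} [Fintype κ] [DecidableEq κ] [Fintype κ']
    [DecidableEq κ'] (a : κ → (Fin n → F)) (l : κ → F) (hl : ∀ i, l i ∈ Λ) (ha : ∀ i, a i ∈ Eg x (l i)) (haon : ON q a)
    (c : κ' → (Fin n → F)) (hc : ∀ i, c i ∈ Eg x 1) (hcon : ON q c)
    (γ : κ → F) (δ : κ' → F) (hγ : ∀ i, γ i * γ i ^ q = 1) (hδ : ∀ i, δ i * δ i ^ q = 1)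
    (hp : (∏ i, γ i) * (∏ i, γ i) * (∏ i, δ i) = 1)
    (hns : (∃ i j, Sum.elim γ δ i ≠ Sum.elim γ δ j) ∨
      (∃ i, Sum.elim γ δ i ≠ 1 ∧ Fintype.card κ + Fintype.card κ + Fintype.card κ' < n))
    (πS : Equiv.Perm ((κ ⊕ κ) ⊕ κ')) (hSz : ∀ i, S (Sum.elim (dbl B a) c i) = Sum.elim (dbl B a) c (πS i))
    (hS' : ∀ i, ρ (Sum.elim (Sum.elim γ γ) δ i) = Sum.elim (Sum.elim γ γ) δ (πS i) ^ q) : Kill B x S := by
  have hpairs : Pairs B a := ⟨haon, fun i j => h.orthB hF (hl i) (hl j) (ha i) (ha j)⟩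
  have hBe : ∀ i, act B (a i) ∈ Eg x (l i ^ q) := fun i => h.act_B hF (h.norm _ (hl i)) (ha i)
  have hBc : ∀ i, act B (c i) = c i := fun i => h.one _ (hc i)
  have o1 : ∀ i j, hermForm n F q (dbl B a i) (c j) = 0 := by
    rintro (i | i) j
    · exact h.orth_one hF (hl i) (ha i) (hc j)
    · have h1 := herm_act B (a i) (c j)
      rw [hBc] at h1
      exact h1.trans (h.orth_one hF (hl i) (ha i) (hc j))
  have hon : ON q (Sum.elim (dbl B a) c) :=
    sum_elim_on (hpairs.dbl_on hF) hcon o1 (fun i j => herm_eq_zero_swap hF (o1 i j))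
  apply kill_of_tor hF hS (Sum.elim (dbl B a) c) (Sum.elim (Sum.elim γ γ) δ) hon ?_ ?_ ?_
    (Equiv.sumCongr (Equiv.sumComm κ κ) (Equiv.refl κ')) ?_ ?_ ?_ πS hSz hS'
  · rintro ((i | i) | i)
    · exact hγ i
    · exact hγ i
    · exact hδ i
  · rw [Fintype.prod_sum_type, Fintype.prod_sum_type]
    exact hp
  · rcases hns with ⟨i, j, hij⟩ | ⟨i, hi, hlt⟩
    · left
      have key : ∀ i : κ ⊕ κ', ∃ i' : (κ ⊕ κ) ⊕ κ', Sum.elim (Sum.elim γ γ) δ i' = Sum.elim γ δ i := by
        rintro (i | i)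
        · exact ⟨Sum.inl (Sum.inl i), rfl⟩
        · exact ⟨Sum.inr i, rfl⟩
      obtain ⟨i', hi'⟩ := key i
      obtain ⟨j', hj'⟩ := key j
      exact ⟨i', j', by rw [hi', hj']; exact hij⟩
    · right
      have key : ∀ i : κ ⊕ κ', ∃ i' : (κ ⊕ κ) ⊕ κ', Sum.elim (Sum.elim γ γ) δ i' = Sum.elim γ δ i := by
        rintro (i | i)
        · exact ⟨Sum.inl (Sum.inl i), rfl⟩
        · exact ⟨Sum.inr i, rfl⟩
      obtain ⟨i', hi'⟩ := key i
      exact ⟨i', by rw [hi']; exact hi, by rw [Fintype.card_sum, Fintype.card_sum]; exact hlt⟩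
  · rintro ((i | i) | i)
    · rfl
    · exact act_act h.hB _
    · exact hBc i
  · rintro ((i | i) | i) <;> rfl
  · rintro ((i | i) | i)
    · exact ⟨l i, h.norm _ (hl i), ha i⟩
    · exact ⟨l i ^ q, by rw [pow_q_pow_q hF, mul_comm]; exact h.norm _ (hl i), hBe i⟩
    · exact ⟨1, by rw [one_pow, one_mul], hc i⟩

/-- **Linear elements.** -/
theorem kill_lin (hF : Fintype.card F = q ^ 2) (h2 : (2 : F) = 0) {B x : SU n F q} {Λ : Set F} (h : XS B x Λ)
    {α : F} (hα : α * α ^ q = 1) (hα1 : α ≠ 1) {C : SU n F q} (hC : C * C = 1) (hC1 : C ≠ 1) (hCB : C * B = B * C)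
    (hCx : C * x = x * C) : Kill B x (act C) := by
  have hCB' : ∀ u, act C (act B u) = act B (act C u) := fun u => by rw [← act_mul, hCB, act_mul]
  have hCx' : ∀ u, act C (act x u) = act x (act C u) := fun u => by rw [← act_mul, hCx, act_mul]
  have hCE : ∀ l, ∀ u ∈ Eg x l, act C u ∈ Eg x l := by
    intro l u hu
    rw [mem_Eg, ← hCx', mem_Eg.1 hu, act_smul]
  have hαq : α ^ q ≠ α := by
    intro h1
    rw [h1] at hα
    exact hα1 (eq_one_of_sq h2 hα)
  -- a moved eigenvector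
  obtain ⟨l, hl, u, hu, hCu⟩ : ∃ l, (l ∈ Λ ∨ l = 1) ∧ ∃ u ∈ Eg x l, act C u ≠ u := by
    by_contra hcon
    push Not at hcon
    apply hC1
    apply ext_act
    intro u
    rw [act_one]
    have hfix : ∀ a, act C a = a → hermForm n F q (act C u + u) a = 0 := by
      intro a ha
      have h1 : hermForm n F q (act C u) a = hermForm n F q u a := by
        rw [← herm_act C u a, ha]
      rw [herm_add_left, h1]
      exact add_self_F h2 _
    have h3 : act C u + u ∈ Eg x 1 := by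
      apply h.full
      intro l hl a ha
      have ha' := hcon l (Or.inl hl) a ha
      exact ⟨hfix a ha', hfix _ (by rw [hCB', ha'])⟩
    by_contra hne
    obtain ⟨v, hv, hv'⟩ := h.nondeg_one _ h3 (fun h0 => hne (eq_of_add_W h2 h0))
    exact hv' (hfix v (hcon 1 (Or.inr rfl) v hv))
  rcases hl with hl | rfl
  · obtain ⟨t, ht, htt, htC⟩ := exists_swap_in hF h2 hC ⟨hCE l, h.nondeg hF hl⟩ hu hCu
    have htC' := herm_eq_zero_swap hF htC
    have hCC : hermForm n F q (act C t) (act C t) = 1 := by rw [herm_act, htt]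
    refine kill_dbl hF h (Semi.of_act C) ![t, act C t] (fun _ => l) (fun _ => hl) ?_ ?_ (Fin.elim0 : Fin 0 → _)
      (fun i => i.elim0) (fun i => i.elim0) ![α, α ^ q] (fun i => i.elim0) ?_ (fun i => i.elim0) ?_ ?_
      (Equiv.sumCongr (Equiv.sumCongr (Equiv.swap 0 1) (Equiv.swap 0 1)) (Equiv.refl _)) ?_ ?_
    · intro i
      fin_cases i
      · exact ht
      · exact hCE l t ht
    · intro i j
      (revert i j; simp only [htt, htC, htC', hCC, _root_.Fin.forall_fin_succ, _root_.Nat.succ_eq_add_one, Nat.reduceAdd, Fin.isValue, _root_.Matrix.cons_val_zero, _root_.Matrix.cons_val_succ, _root_.Matrix.cons_val_fin_one, _root_.Fin.succ_zero_eq_one, _root_.IsEmpty.forall_iff, _root_.and_true, ↓reduceIte, _root_.zero_ne_one, _root_.and_self, _root_.Fin.succ_ne_zero, _root_.left_eq_ite_iff, _root_.one_ne_zero, _root_.imp_false, _root_.Decidable.not_not, _root_.true_and])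
    · intro i
      fin_cases i
      · exact hα
      · show α ^ q * (α ^ q) ^ q = 1
        rw [pow_q_pow_q hF, mul_comm]; exact hα
    · simp [hα]
    · left
      exact ⟨Sum.inl 0, Sum.inl 1, fun h => hαq h.symm⟩
    · rintro ((i | i) | i)
      · fin_cases i
        · rfl
        · exact act_act hC t
      · fin_cases i
        · exact hCB' t
        · show act C (act B (act C t)) = act B t
          rw [hCB', act_act hC]
      · exact i.elim0
    · rintro ((i | i) | i)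
      · fin_cases i
        · exact (pow_q_pow_q hF α).symm
        · rfl
      · fin_cases i
        · exact (pow_q_pow_q hF α).symm
        · rfl
      · exact i.elim0
  · obtain ⟨t, ht, htt, htC⟩ := exists_swap_in hF h2 hC ⟨hCE 1, h.nondeg_one⟩ hu hCu
    have htC' := herm_eq_zero_swap hF htC
    have hCC : hermForm n F q (act C t) (act C t) = 1 := by rw [herm_act, htt]
    refine kill_dbl hF h (Semi.of_act C) (Fin.elim0 : Fin 0 → _) (fun i => i.elim0) (fun i => i.elim0)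
      (fun i => i.elim0) (fun i => i.elim0) ![t, act C t] ?_ ?_ (fun i => i.elim0) ![α, α ^ q] (fun i => i.elim0) ?_
      ?_ ?_ (Equiv.sumCongr (Equiv.refl _) (Equiv.swap 0 1)) ?_ ?_
    · intro i
      fin_cases i
      · exact ht
      · exact hCE 1 t ht
    · intro i j
      (revert i j; simp only [htt, htC, htC', hCC, _root_.Fin.forall_fin_succ, _root_.Nat.succ_eq_add_one, Nat.reduceAdd, Fin.isValue, _root_.Matrix.cons_val_zero, _root_.Matrix.cons_val_succ, _root_.Matrix.cons_val_fin_one, _root_.Fin.succ_zero_eq_one, _root_.IsEmpty.forall_iff, _root_.and_true, ↓reduceIte, _root_.zero_ne_one, _root_.and_self, _root_.Fin.succ_ne_zero, _root_.left_eq_ite_iff, _root_.one_ne_zero, _root_.imp_false, _root_.Decidable.not_not, _root_.true_and])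
    · intro i
      fin_cases i
      · exact hα
      · show α ^ q * (α ^ q) ^ q = 1
        rw [pow_q_pow_q hF, mul_comm]; exact hα
    · simp [hα]
    · left
      exact ⟨Sum.inr 0, Sum.inr 1, fun h => hαq h.symm⟩
    · rintro ((i | i) | i)
      · exact i.elim0
      · exact i.elim0
      · fin_cases i
        · rfl
        · exact act_act hC t
    · rintro ((i | i) | i)
      · exact i.elim0
      · exact i.elim0
      · fin_cases i
        · exact (pow_q_pow_q hF α).symm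
        · rfl

end Lin

end Cfsg.Agent.H259.SK
end

-- part: H259/SK/Out
section
/-!
# S3010, `PSU_n(q)`, `q` even: the semilinear elements (helper259)
-/

set_option autoImplicit false
set_option linter.unusedSectionVars false
set_option linter.unusedVariables false
set_option linter.unusedSimpArgs false

namespace Cfsg.Agent.H259.SK

open Matrix Cfsg
open Cfsg.Agent.LieClassical.HermBasic Cfsg.Agent.LieClassical.HermSiegel

section Out

variable {F : Type*} [Field F] [Fintype F] {q n : ℕ}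

theorem ON.pair {a b : Fin n → F} (ha : hermForm n F q a a = 1) (hb : hermForm n F q b b = 1)
    (h : hermForm n F q a b = 0) (h' : hermForm n F q b a = 0) : ON q ![a, b] := by
  intro i j
  fin_cases i <;> fin_cases j <;> simp [ha, hb, h, h']

theorem ON.single {a : Fin n → F} (ha : hermForm n F q a a = 1) : ON q ![a] := by
  intro i j
  fin_cases i; fin_cases j; simp [ha]

/-- an antilinear isometric involution commuting with `B` and `x` -/
structure Anti (hF : Fintype.card F = q ^ 2) (B x : SU n F q) (S : (Fin n → F) → (Fin n → F)) : Prop where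
  semi : Semi q (conj hF) S
  sq : ∀ u, S (S u) = u
  cB : ∀ u, S (act B u) = act B (S u)
  cx : ∀ u, S (act x u) = act x (S u)

/-- the involution `B S` -/
def TT (B : SU n F q) (S : (Fin n → F) → (Fin n → F)) (u : Fin n → F) : Fin n → F := act B (S u)

namespace Anti

variable {hF : Fintype.card F = q ^ 2} {B x : SU n F q} {S : (Fin n → F) → (Fin n → F)} {Λ : Set F}

theorem tsemi (hs : Anti hF B x S) : Semi q (conj hF) (TT B S) :=
  ⟨fun u v => by rw [TT, TT, TT, hs.semi.add, act_add], fun a v => by rw [TT, TT, hs.semi.smul, act_smul],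
    fun u v => by rw [TT, TT, herm_act, hs.semi.herm]⟩

theorem tsq (hs : Anti hF B x S) (h : XS B x Λ) (u : Fin n → F) : TT B S (TT B S u) = u := by
  rw [TT, TT, hs.cB, act_act h.hB, hs.sq]

theorem sEg (hs : Anti hF B x S) {l : F} {u : Fin n → F} (hu : u ∈ Eg x l) : S u ∈ Eg x (l ^ q) := by
  rw [mem_Eg, ← hs.cx, mem_Eg.1 hu, hs.semi.smul]
  rfl

theorem good_one (hs : Anti hF B x S) (h : XS B x Λ) : Good q S (Eg x 1) :=
  ⟨fun u hu => by have := hs.sEg hu; rwa [one_pow] at this, h.nondeg_one⟩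

theorem good (hs : Anti hF B x S) (h : XS B x Λ) {l : F} (hl : l ∈ Λ) : Good q (TT B S) (Eg x l) :=
  ⟨fun u hu => by
    have h1 := h.act_B hF (l := l ^ q) (by rw [pow_q_pow_q hF, mul_comm]; exact h.norm l hl) (hs.sEg hu)
    rwa [pow_q_pow_q hF] at h1, h.nondeg hF hl⟩

end Anti

theorem kill_out {hF : Fintype.card F = q ^ 2} {B x : SU n F q} {Λ : Set F} (h : XS B x Λ)
    {S : (Fin n → F) → (Fin n → F)} (hs : Anti hF B x S) {κ κ' : Type*} [Fintype κ] [DecidableEq κ] [Fintype κ']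
    [DecidableEq κ'] (a : κ → (Fin n → F)) (l : κ → F) (hl : ∀ i, l i ∈ Λ) (ha : ∀ i, a i ∈ Eg x (l i)) (haon : ON q a)
    (c : κ' → (Fin n → F)) (hc : ∀ i, c i ∈ Eg x 1) (hcon : ON q c)
    (γ : κ → F) (δ : κ' → F) (hγ : ∀ i, γ i * γ i ^ q = 1) (hδ : ∀ i, δ i * δ i ^ q = 1)
    (hp : (∏ i, γ i) * (∏ i, γ i) * (∏ i, δ i) = 1)
    (hns : (∃ i j, Sum.elim γ δ i ≠ Sum.elim γ δ j) ∨
      (∃ i, Sum.elim γ δ i ≠ 1 ∧ Fintype.card κ + Fintype.card κ + Fintype.card κ' < n))
    (σ : Equiv.Perm κ) (hσ : ∀ i, TT B S (a i) = a (σ i)) (hγσ : ∀ i, γ (σ i) = γ i)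
    (τ : Equiv.Perm κ') (hτ : ∀ i, S (c i) = c (τ i)) (hδτ : ∀ i, δ (τ i) = δ i) : Kill B x S := by
  refine kill_dbl hF h hs.semi a l hl ha haon c hc hcon γ δ hγ hδ hp hns
    (Equiv.sumCongr ((Equiv.sumComm κ κ).trans (Equiv.sumCongr σ σ)) τ) ?_ ?_
  · rintro ((i | i) | i)
    · show S (a i) = act B (a (σ i))
      rw [← hσ, TT, act_act h.hB]
    · show S (act B (a i)) = a (σ i)
      rw [← hσ, TT, hs.cB]
    · exact hτ i
  · rintro ((i | i) | i)
    · show γ i ^ q = γ (σ i) ^ q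
      rw [hγσ]
    · show γ i ^ q = γ (σ i) ^ q
      rw [hγσ]
    · show δ i ^ q = δ (τ i) ^ q
      rw [hδτ]

section Pieces

variable {hF : Fintype.card F = q ^ 2} {B x : SU n F q} {Λ : Set F} {S : (Fin n → F) → (Fin n → F)}

theorem norm_q (hF : Fintype.card F = q ^ 2) {β : F} (hβ : β * β ^ q = 1) : β ^ q * (β ^ q) ^ q = 1 := by
  rw [pow_q_pow_q hF, mul_comm]; exact hβ

theorem ne_q (h2 : (2 : F) = 0) {β : F} (hβ : β * β ^ q = 1) (hβ1 : β ≠ 1) : β ≠ β ^ q := by
  intro h1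
  rw [← h1] at hβ
  exact hβ1 (eq_one_of_sq h2 hβ)

theorem ne_q2 {β : F} (hβ : β * β ^ q = 1) (hβ3 : β ^ 3 ≠ 1) : (β ^ q) ^ 2 ≠ β := by
  intro h1
  apply hβ3
  calc β ^ 3 = β ^ 2 * β := by ring
    _ = β ^ 2 * (β ^ q) ^ 2 := by rw [h1]
    _ = (β * β ^ q) ^ 2 := by ring
    _ = 1 := by rw [hβ, one_pow]

/-- two fixed unit vectors -/
theorem kill_uu (h2 : (2 : F) = 0) (h : XS B x Λ) (hs : Anti hF B x S) {β : F} (hβ : β * β ^ q = 1) (hβ1 : β ≠ 1)
    {l m : F} (hl : l ∈ Λ) (hm : m ∈ Λ) {u v : Fin n → F} (hu : u ∈ Eg x l) (hv : v ∈ Eg x m) (hTu : TT B S u = u)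
    (hTv : TT B S v = v) (huu : hermForm n F q u u = 1) (hvv : hermForm n F q v v = 1) (huv : hermForm n F q u v = 0) :
    Kill B x S := by
  refine kill_out h hs ![u, v] ![l, m] ?_ ?_ (ON.pair huu hvv huv (herm_eq_zero_swap hF huv)) (Fin.elim0 : Fin 0 → _)
    (fun i => i.elim0) (fun i => i.elim0) ![β, β ^ q] (fun i => i.elim0) ?_ (fun i => i.elim0) ?_ ?_ (Equiv.refl _) ?_
    (fun i => rfl) (Equiv.refl _) (fun i => i.elim0) (fun i => i.elim0)
  · intro i; fin_cases i
    · exact hl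
    · exact hm
  · intro i; fin_cases i
    · exact hu
    · exact hv
  · intro i; fin_cases i
    · exact hβ
    · exact norm_q hF hβ
  · simp [hβ]
  · exact Or.inl ⟨Sum.inl 0, Sum.inl 1, ne_q h2 hβ hβ1⟩
  · intro i; fin_cases i
    · exact hTu
    · exact hTv

/-- a fixed unit vector and a plane -/
theorem kill_up (h : XS B x Λ) (hs : Anti hF B x S) {β : F} (hβ : β * β ^ q = 1) (hβ3 : β ^ 3 ≠ 1)
    {l m : F} (hl : l ∈ Λ) (hm : m ∈ Λ) {u p p' : Fin n → F} (hu : u ∈ Eg x l) (hp : p ∈ Eg x m) (hp' : p' ∈ Eg x m)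
    (hTu : TT B S u = u) (hTp : TT B S p = p') (hTp' : TT B S p' = p) (huu : hermForm n F q u u = 1)
    (hpp : hermForm n F q p p = 1) (hpp' : hermForm n F q p' p' = 1) (h0 : hermForm n F q p p' = 0)
    (hup : hermForm n F q u p = 0) (hup' : hermForm n F q u p' = 0) : Kill B x S := by
  have h0' := herm_eq_zero_swap hF h0
  have hpu := herm_eq_zero_swap hF hup
  have hpu' := herm_eq_zero_swap hF hup'
  refine kill_out h hs ![u, p, p'] ![l, m, m] ?_ ?_ ?_ (Fin.elim0 : Fin 0 → _)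
    (fun i => i.elim0) (fun i => i.elim0) ![(β ^ q) ^ 2, β, β] (fun i => i.elim0) ?_ (fun i => i.elim0) ?_ ?_
    (Equiv.swap 1 2) ?_ ?_ (Equiv.refl _) (fun i => i.elim0) (fun i => i.elim0)
  · intro i; fin_cases i
    · exact hl
    · exact hm
    · exact hm
  · intro i; fin_cases i
    · exact hu
    · exact hp
    · exact hp'
  · intro i j
    (revert i j; simp only [huu, hpp, hpp', h0, h0', hup, hup', hpu, hpu', _root_.Fin.forall_fin_succ, _root_.Nat.succ_eq_add_one, Nat.reduceAdd, Fin.isValue, _root_.Matrix.cons_val_zero, _root_.Matrix.cons_val_succ, _root_.Fin.succ_zero_eq_one, _root_.Matrix.cons_val_fin_one, _root_.Fin.succ_one_eq_two, _root_.IsEmpty.forall_iff, _root_.and_true, ↓reduceIte, _root_.zero_ne_one, Fin.reduceEq, _root_.and_self, _root_.Fin.succ_ne_zero, _root_.right_eq_ite_iff, _root_.imp_false, _root_.left_eq_ite_iff, _root_.one_ne_zero, _root_.Decidable.not_not, _root_.true_and, _root_.not_false_eq_true])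
  · intro i; fin_cases i
    · show (β ^ q) ^ 2 * ((β ^ q) ^ 2) ^ q = 1
      calc (β ^ q) ^ 2 * ((β ^ q) ^ 2) ^ q = (β ^ q * (β ^ q) ^ q) ^ 2 := by ring
        _ = 1 := by rw [norm_q hF hβ, one_pow]
    · exact hβ
    · exact hβ
  · simp only [Fin.prod_univ_three, Matrix.cons_val_zero, Matrix.cons_val_one, Matrix.cons_val_two, Matrix.head_cons,
      Matrix.tail_cons, Fintype.prod_empty, Finset.univ_eq_empty, Finset.prod_empty]
    have e1 : (β ^ q) ^ 2 * β * β = 1 := by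
      calc (β ^ q) ^ 2 * β * β = (β * β ^ q) ^ 2 := by ring
        _ = 1 := by rw [hβ, one_pow]
    show (β ^ q) ^ 2 * β * β * ((β ^ q) ^ 2 * β * β) * 1 = 1
    rw [e1]; ring
  · exact Or.inl ⟨Sum.inl 0, Sum.inl 1, ne_q2 hβ hβ3⟩
  · intro i; fin_cases i
    · exact hTu
    · exact hTp
    · exact hTp'
  · intro i; fin_cases i <;> rfl

/-- two planes -/
theorem kill_pp (h2 : (2 : F) = 0) (h : XS B x Λ) (hs : Anti hF B x S) {β : F} (hβ : β * β ^ q = 1) (hβ1 : β ≠ 1)
    {l m : F} (hl : l ∈ Λ) (hm : m ∈ Λ) {p p' k k' : Fin n → F} (hp : p ∈ Eg x l) (hp' : p' ∈ Eg x l)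
    (hk : k ∈ Eg x m) (hk' : k' ∈ Eg x m) (hTp : TT B S p = p') (hTp' : TT B S p' = p)
    (hTk : TT B S k = k') (hTk' : TT B S k' = k) (hpp : hermForm n F q p p = 1) (hpp' : hermForm n F q p' p' = 1)
    (h0 : hermForm n F q p p' = 0) (hkk : hermForm n F q k k = 1) (hkk' : hermForm n F q k' k' = 1)
    (h1 : hermForm n F q k k' = 0) (a1 : hermForm n F q p k = 0) (a2 : hermForm n F q p k' = 0)
    (a3 : hermForm n F q p' k = 0) (a4 : hermForm n F q p' k' = 0) : Kill B x S := by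
  have h0' := herm_eq_zero_swap hF h0
  have h1' := herm_eq_zero_swap hF h1
  have b1 := herm_eq_zero_swap hF a1
  have b2 := herm_eq_zero_swap hF a2
  have b3 := herm_eq_zero_swap hF a3
  have b4 := herm_eq_zero_swap hF a4
  refine kill_out h hs ![p, p', k, k'] ![l, l, m, m] ?_ ?_ ?_ (Fin.elim0 : Fin 0 → _)
    (fun i => i.elim0) (fun i => i.elim0) ![β, β, β ^ q, β ^ q] (fun i => i.elim0) ?_ (fun i => i.elim0) ?_ ?_
    ((Equiv.swap 0 1).trans (Equiv.swap 2 3)) ?_ ?_ (Equiv.refl _) (fun i => i.elim0) (fun i => i.elim0)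
  · intro i; fin_cases i
    · exact hl
    · exact hl
    · exact hm
    · exact hm
  · intro i; fin_cases i
    · exact hp
    · exact hp'
    · exact hk
    · exact hk'
  · intro i j
    (revert i j; simp only [hpp, hpp', h0, h0', hkk, hkk', h1, h1', a1, a2, a3, a4, b1, b2, b3, b4, _root_.Fin.forall_fin_succ, _root_.Nat.succ_eq_add_one, Nat.reduceAdd, Fin.isValue, _root_.Matrix.cons_val_zero, _root_.Matrix.cons_val_succ, _root_.Fin.succ_zero_eq_one, _root_.Fin.succ_one_eq_two, _root_.Matrix.cons_val_fin_one, Fin.reduceSucc, _root_.IsEmpty.forall_iff, _root_.and_true, ↓reduceIte, _root_.zero_ne_one, Fin.reduceEq, _root_.and_self, _root_.Fin.succ_ne_zero, _root_.right_eq_ite_iff, _root_.imp_false, _root_.left_eq_ite_iff, _root_.one_ne_zero, _root_.Decidable.not_not, _root_.true_and, _root_.not_false_eq_true])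
  · intro i; fin_cases i
    · exact hβ
    · exact hβ
    · exact norm_q hF hβ
    · exact norm_q hF hβ
  · rw [Fin.prod_univ_four]
    show β * β * β ^ q * β ^ q * (β * β * β ^ q * β ^ q) * 1 = 1
    linear_combination (β * β * β ^ q * β ^ q * β * β ^ q + β * β * β ^ q * β ^ q + β * β ^ q + 1) * hβ
  · exact Or.inl ⟨Sum.inl 0, Sum.inl 2, ne_q h2 hβ hβ1⟩
  · intro i; fin_cases i
    · exact hTp
    · exact hTp'
    · exact hTk
    · exact hTk'
  · intro i; fin_cases i <;> rfl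

/-- **Two different eigenvalues** (`q ≥ 4`). -/
theorem kill_two (h2 : (2 : F) = 0) (h : XS B x Λ) (hs : Anti hF B x S) {β : F} (hβ : β * β ^ q = 1)
    (hβ3 : β ^ 3 ≠ 1) {l m : F} (hl : l ∈ Λ) (hm : m ∈ Λ) (hlm : l ≠ m) : Kill B x S := by
  have hβ1 : β ≠ 1 := by rintro rfl; exact hβ3 (one_pow 3)
  have ho : ∀ a ∈ Eg x l, ∀ b ∈ Eg x m, hermForm n F q a b = 0 := fun a ha b hb =>
    orth_of_eigen hF (h.norm m hm) hlm ha hb
  have ho' : ∀ a ∈ Eg x m, ∀ b ∈ Eg x l, hermForm n F q a b = 0 := fun a ha b hb =>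
    orth_of_eigen hF (h.norm l hl) hlm.symm ha hb
  rcases exists_unit_or_plane hF h2 hs.tsemi (hs.tsq h) (hs.good h hl) (h.nonempty l hl) with
    ⟨u, hu, hTu, huu⟩ | ⟨p, hp, p', hp', hTp, hTp', hpp, hpp', h0, h0'⟩
  · rcases exists_unit_or_plane hF h2 hs.tsemi (hs.tsq h) (hs.good h hm) (h.nonempty m hm) with
      ⟨v, hv, hTv, hvv⟩ | ⟨k, hk, k', hk', hTk, hTk', hkk, hkk', h1, h1'⟩
    · exact kill_uu h2 h hs hβ hβ1 hl hm hu hv hTu hTv huu hvv (ho u hu v hv)
    · exact kill_up h hs hβ hβ3 hl hm hu hk hk' hTu hTk hTk' huu hkk hkk' h1 (ho u hu k hk) (ho u hu k' hk')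
  · rcases exists_unit_or_plane hF h2 hs.tsemi (hs.tsq h) (hs.good h hm) (h.nonempty m hm) with
      ⟨v, hv, hTv, hvv⟩ | ⟨k, hk, k', hk', hTk, hTk', hkk, hkk', h1, h1'⟩
    · exact kill_up h hs hβ hβ3 hm hl hv hp hp' hTv hTp hTp' hvv hpp hpp' h0 (ho' v hv p hp) (ho' v hv p' hp')
    · exact kill_pp h2 h hs hβ hβ1 hl hm hp hp' hk hk' hTp hTp' hTk hTk' hpp hpp' h0 hkk hkk' h1 (ho p hp k hk)
        (ho p hp k' hk') (ho p' hp' k hk) (ho p' hp' k' hk')

/-- the leftover: `W` is the orthogonal sum of three `S`-invariant planes without fixed unit vectors -/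
def Special (q : ℕ) (S : (Fin n → F) → (Fin n → F)) : Prop :=
  ∃ P P' : Fin 3 → (Fin n → F), ON q (Sum.elim P P') ∧ (∀ i, S (P i) = P' i) ∧ ∀ i, S (P' i) = P i

theorem ON.eq_zero {ι : Type*} [Fintype ι] [DecidableEq ι] {z : ι → (Fin n → F)} (hz : ON q z)
    (hc : Fintype.card ι = n) {u : Fin n → F} (hu : ∀ i, hermForm n F q u (z i) = 0) : u = 0 := by
  have h1 : Submodule.span F (Set.range z) = ⊤ := by
    apply hz.linInd.span_eq_top_of_card_eq_finrank'
    rw [Module.finrank_fintype_fun_eq_card, Fintype.card_fin, hc]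
  have h2 : u ∈ Submodule.span F (Set.range z) := h1 ▸ Submodule.mem_top
  obtain ⟨c, rfl⟩ := (Submodule.mem_span_range_iff_exists_fun F).1 h2
  apply Finset.sum_eq_zero
  intro i _
  rw [← herm_sum_z hz c i, hu, zero_smul]

/-- **One eigenvalue.** -/
theorem kill_one (h2 : (2 : F) = 0) {l : F} (h : XS B x {l}) (hs : Anti hF B x S) {β : F} (hβ : β * β ^ q = 1)
    (hβ1 : β ≠ 1) (hn : 3 ≤ n) (h3 : β ^ 3 = 1 → q = 2 ∧ n ≠ 3 ∧ n ≠ 4)
    (hr : q = 2 ∨ ∀ p ∈ Eg x l, ∀ p' ∈ Eg x l, hermForm n F q p p = 1 → hermForm n F q p' p' = 1 →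
      hermForm n F q p p' ≠ 0) : Kill B x S ∨ (q = 2 ∧ n = 6 ∧ Special q S) := by
  have hl : l ∈ ({l} : Set F) := rfl
  have hX := hs.good h hl
  have hY := hs.good_one h
  have hβq := ne_q h2 hβ hβ1
  have tu : ∀ {u v : Fin n → F}, u ∈ Eg x l → v ∈ Eg x l → TT B S u = u → TT B S v = v → hermForm n F q u u = 1 →
      hermForm n F q v v = 1 → hermForm n F q u v = 0 → Kill B x S := fun hu hv hTu hTv huu hvv huv =>
    kill_uu h2 h hs hβ hβ1 hl hl hu hv hTu hTv huu hvv huv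
  have tup : ∀ {u p p' : Fin n → F}, u ∈ Eg x l → p ∈ Eg x l → p' ∈ Eg x l → TT B S u = u →
      hermForm n F q u u = 1 → TT B S p = p' → TT B S p' = p → hermForm n F q p p = 1 → hermForm n F q p' p' = 1 →
      hermForm n F q p p' = 0 → hermForm n F q u p = 0 → hermForm n F q u p' = 0 → Kill B x S := by
    intro u p p' hu hp hp' hTu huu hTp hTp' hpp hpp' h0 hup hup'
    obtain ⟨u₁, hu₁, u₂, hu₂, hT₁, hT₂, h11, h22, h12⟩ :=
      exists_two_units hF h2 hs.tsemi hu hp hp' hTu huu hTp hTp' hpp hpp' h0 hup hup'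
    exact tu hu₁ hu₂ hT₁ hT₂ h11 h22 h12
  rcases exists_unit_or_plane hF h2 hs.tsemi (hs.tsq h) hX (h.nonempty l hl) with
    ⟨u, hu, hTu, huu⟩ | ⟨p, hp, p', hp', hTp, hTp', hpp, hpp', h0, h0'⟩
  · left
    have hon : ON q ![u] := ON.single huu
    have hX' : Good q (TT B S) (perp q (Eg x l) ![u]) := hX.perp hF hs.tsemi (hs.tsq h) hon
      (fun i => by fin_cases i; exact hu) (fun i => ⟨1, i, by rw [one_smul]; fin_cases i; exact hTu⟩)
    by_cases hb : perp q (Eg x l) ![u] = ⊥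
    swap
    · rcases exists_unit_or_plane hF h2 hs.tsemi (hs.tsq h) hX' hb with
        ⟨v, hv, hTv, hvv⟩ | ⟨k, hk, k', hk', hTk, hTk', hkk, hkk', h1, h1'⟩
      · exact tu hu hv.1 hTu hTv huu hvv (herm_eq_zero_swap hF (hv.2 0))
      · exact tup hu hk.1 hk'.1 hTu huu hTk hTk' hkk hkk' h1 (herm_eq_zero_swap hF (hk.2 0))
          (herm_eq_zero_swap hF (hk'.2 0))
    -- the eigenspace is `⟨u⟩`
    have hline : ∀ a ∈ Eg x l, a = hermForm n F q a u • u := by
      intro a ha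
      have h4 : a - hermForm n F q a u • u ∈ perp q (Eg x l) ![u] := by
        refine ⟨(Eg x l).sub_mem ha ((Eg x l).smul_mem _ hu), fun i => ?_⟩
        fin_cases i
        show hermForm n F q (a - hermForm n F q a u • u) u = 0
        rw [herm_sub_left, herm_smul_left, huu, mul_one, sub_self]
      rw [hb, Submodule.mem_bot] at h4
      exact sub_eq_zero.1 h4
    have hY0 : Eg x 1 ≠ ⊥ := by
      obtain ⟨w, hw0, hw⟩ := exists_orth hF (q := q) ![u, act B u] (by simp; omega)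
      have hw1 : hermForm n F q w u = 0 := hw 0
      have hw2 : hermForm n F q w (act B u) = 0 := hw 1
      have hw3 : w ∈ Eg x 1 := by
        apply h.full
        intro m hm a ha
        obtain rfl : m = l := hm
        rw [hline a ha]
        refine ⟨by rw [herm_smul_right, hw1, mul_zero], by rw [act_smul, herm_smul_right, hw2, mul_zero]⟩
      intro h5
      rw [h5, Submodule.mem_bot] at hw3
      exact hw0 hw3
    rcases exists_unit_or_plane hF h2 hs.semi hs.sq hY hY0 with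
      ⟨s, hs', hSs, hss⟩ | ⟨k, hk, k', hk', hSk, hSk', hkk, hkk', h1, h1'⟩
    · refine kill_out h hs ![u] ![l] (fun i => by fin_cases i; exact hl) (fun i => by fin_cases i; exact hu) hon
        ![s] (fun i => by fin_cases i; exact hs') (ON.single hss) ![β] ![(β ^ q) ^ 2]
        (fun i => by fin_cases i; exact hβ) ?_ ?_ ?_ (Equiv.refl _) (fun i => by fin_cases i; exact hTu) (fun i => rfl)
        (Equiv.refl _) (fun i => by fin_cases i; exact hSs) (fun i => rfl)
      · intro i; fin_cases i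
        show (β ^ q) ^ 2 * ((β ^ q) ^ 2) ^ q = 1
        calc (β ^ q) ^ 2 * ((β ^ q) ^ 2) ^ q = (β ^ q * (β ^ q) ^ q) ^ 2 := by ring
          _ = 1 := by rw [norm_q hF hβ, one_pow]
      · simp only [Fin.prod_univ_one]
        show β * β * (β ^ q) ^ 2 = 1
        calc β * β * (β ^ q) ^ 2 = (β * β ^ q) ^ 2 := by ring
          _ = 1 := by rw [hβ, one_pow]
      · by_cases hb3 : β ^ 3 = 1
        · obtain ⟨hq2, hn3, hn4⟩ := h3 hb3
          right
          refine ⟨Sum.inl 0, hβ1, ?_⟩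
          simp only [Fintype.card_fin]
          omega
        · left
          exact ⟨Sum.inr 0, Sum.inl 0, ne_q2 hβ hb3⟩
    · refine kill_out h hs ![u] ![l] (fun i => by fin_cases i; exact hl) (fun i => by fin_cases i; exact hu) hon
        ![k, k'] (fun i => by fin_cases i; exacts [hk, hk']) (ON.pair hkk hkk' h1 h1') ![β] ![β ^ q, β ^ q]
        (fun i => by fin_cases i; exact hβ) (fun i => by fin_cases i; exacts [norm_q hF hβ, norm_q hF hβ]) ?_
        (Or.inl ⟨Sum.inl 0, Sum.inr 0, hβq⟩) (Equiv.refl _) (fun i => by fin_cases i; exact hTu) (fun i => rfl)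
        (Equiv.swap 0 1) (fun i => by fin_cases i; exacts [hSk, hSk']) (fun i => by fin_cases i <;> rfl)
      simp only [Fin.prod_univ_one, Fin.prod_univ_two]
      show β * β * (β ^ q * β ^ q) = 1
      linear_combination (β * β ^ q + 1) * hβ
  · rcases hr with hq2 | hr
    swap
    · exact absurd h0 (hr p hp p' hp' hpp hpp')
    have hβ3 : β ^ 3 = 1 := by
      have := hβ
      rw [hq2] at this
      rw [← this]; ring
    obtain ⟨-, hn3, hn4⟩ := h3 hβ3
    have hon : ON q ![p, p'] := ON.pair hpp hpp' h0 h0'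
    have hX' : Good q (TT B S) (perp q (Eg x l) ![p, p']) := hX.perp hF hs.tsemi (hs.tsq h) hon
      (fun i => by fin_cases i; exacts [hp, hp'])
      (fun i => by fin_cases i; exacts [⟨1, 1, by rw [one_smul]; exact hTp⟩, ⟨1, 0, by rw [one_smul]; exact hTp'⟩])
    by_cases hb : perp q (Eg x l) ![p, p'] = ⊥
    swap
    · left
      rcases exists_unit_or_plane hF h2 hs.tsemi (hs.tsq h) hX' hb with
        ⟨v, hv, hTv, hvv⟩ | ⟨k, hk, k', hk', hTk, hTk', hkk, hkk', h1, h1'⟩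
      · exact tup hv.1 hp hp' hTv hvv hTp hTp' hpp hpp' h0 (hv.2 0) (hv.2 1)
      · exact kill_pp h2 h hs hβ hβ1 hl hl hp hp' hk.1 hk'.1 hTp hTp' hTk hTk' hpp hpp' h0 hkk hkk' h1
          (herm_eq_zero_swap hF (hk.2 0)) (herm_eq_zero_swap hF (hk'.2 0)) (herm_eq_zero_swap hF (hk.2 1))
          (herm_eq_zero_swap hF (hk'.2 1))
    -- the eigenspace is `⟨p, p'⟩`
    have hline : ∀ a ∈ Eg x l, a = hermForm n F q a p • p + hermForm n F q a p' • p' := by
      intro a ha
      have h4 : a - (hermForm n F q a p • p + hermForm n F q a p' • p') ∈ perp q (Eg x l) ![p, p'] := by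
        refine ⟨(Eg x l).sub_mem ha ((Eg x l).add_mem ((Eg x l).smul_mem _ hp) ((Eg x l).smul_mem _ hp')), fun i => ?_⟩
        fin_cases i
        · show hermForm n F q (a - (hermForm n F q a p • p + hermForm n F q a p' • p')) p = 0
          rw [herm_sub_left, herm_add_left, herm_smul_left, herm_smul_left, hpp, h0', mul_one, mul_zero, add_zero,
            sub_self]
        · show hermForm n F q (a - (hermForm n F q a p • p + hermForm n F q a p' • p')) p' = 0
          rw [herm_sub_left, herm_add_left, herm_smul_left, herm_smul_left, hpp', h0, mul_one, mul_zero, zero_add,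
            sub_self]
      rw [hb, Submodule.mem_bot] at h4
      exact sub_eq_zero.1 h4
    -- orthogonal to `p, p', Bp, Bp'` means fixed
    have hfull : ∀ w : Fin n → F, hermForm n F q w p = 0 → hermForm n F q w p' = 0 →
        hermForm n F q w (act B p) = 0 → hermForm n F q w (act B p') = 0 → w ∈ Eg x 1 := by
      intro w w1 w2 w3 w4
      apply h.full
      intro m hm a ha
      obtain rfl : m = l := hm
      rw [hline a ha]
      refine ⟨by rw [herm_add_right hF, herm_smul_right, herm_smul_right, w1, w2, mul_zero, mul_zero, add_zero],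
        by rw [act_add, act_smul, act_smul, herm_add_right hF, herm_smul_right, herm_smul_right, w3, w4, mul_zero,
          mul_zero, add_zero]⟩
    have hpairs : Pairs B ![p, p'] := ⟨hon, fun i j => h.orthB hF hl hl (by fin_cases i; exacts [hp, hp'])
      (by fin_cases j; exacts [hp, hp'])⟩
    have hdon := hpairs.dbl_on hF
    have hn4' : 4 ≤ n := by
      have := hdon.card_le
      simpa using this
    have hY0 : Eg x 1 ≠ ⊥ := by
      obtain ⟨w, hw0, hw⟩ := exists_orth hF (q := q) (dbl B ![p, p']) (by simp; omega)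
      have hw3 : w ∈ Eg x 1 := hfull w (hw (Sum.inl 0)) (hw (Sum.inl 1)) (hw (Sum.inr 0)) (hw (Sum.inr 1))
      intro h5
      rw [h5, Submodule.mem_bot] at hw3
      exact hw0 hw3
    have hb6 : β ^ q = β ^ 2 := by rw [hq2]
    rcases exists_unit_or_plane hF h2 hs.semi hs.sq hY hY0 with
      ⟨s, hs', hSs, hss⟩ | ⟨k, hk, k', hk', hSk, hSk', hkk, hkk', h1, h1'⟩
    · left
      refine kill_out h hs ![p, p'] ![l, l] (fun i => by fin_cases i; exacts [hl, hl])
        (fun i => by fin_cases i; exacts [hp, hp']) hon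
        ![s] (fun i => by fin_cases i; exact hs') (ON.single hss) ![β, β] ![β ^ q]
        (fun i => by fin_cases i; exacts [hβ, hβ]) (fun i => by fin_cases i; exact norm_q hF hβ) ?_
        (Or.inl ⟨Sum.inl 0, Sum.inr 0, hβq⟩) (Equiv.swap 0 1) (fun i => by fin_cases i; exacts [hTp, hTp'])
        (fun i => by fin_cases i <;> rfl) (Equiv.refl _) (fun i => by fin_cases i; exact hSs) (fun i => rfl)
      simp only [Fin.prod_univ_one, Fin.prod_univ_two]
      show β * β * (β * β) * β ^ q = 1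
      rw [hb6]
      linear_combination (β ^ 3 + 1) * hβ3
    · by_cases hb' : perp q (Eg x 1) ![k, k'] = ⊥
      swap
      · left
        obtain ⟨w, hw, hw0⟩ := (Submodule.ne_bot_iff _).1 hb'
        have honk : ON q ![k, k'] := ON.pair hkk hkk' h1 h1'
        have hk1 : ∀ i, ![k, k'] i ∈ Eg x 1 := fun i => by fin_cases i; exacts [hk, hk']
        have hBk : ∀ i, act B (![k, k'] i) = ![k, k'] i := fun i => h.one _ (hk1 i)
        have hpE : ∀ i, ![p, p'] i ∈ Eg x l := fun i => by fin_cases i; exacts [hp, hp']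
        have o1 : ∀ i j, hermForm n F q (dbl B ![p, p'] i) (![k, k'] j) = 0 := by
          rintro (i | i) j
          · exact h.orth_one hF hl (hpE i) (hk1 j)
          · have h6 := herm_act B (![p, p'] i) (![k, k'] j)
            rw [hBk] at h6
            exact h6.trans (h.orth_one hF hl (hpE i) (hk1 j))
        have h6on : ON q (Sum.elim (dbl B ![p, p']) ![k, k']) :=
          sum_elim_on hdon honk o1 (fun i j => herm_eq_zero_swap hF (o1 i j))
        have h6n : 6 < n := by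
          have h7 := h6on.card_le
          simp only [Fintype.card_sum, Fintype.card_fin] at h7
          rcases Nat.lt_or_eq_of_le h7 with h8 | h8
          · omega
          · exfalso
            apply hw0
            apply h6on.eq_zero (by simp only [Fintype.card_sum, Fintype.card_fin]; exact h8)
            rintro ((i | i) | i)
            · exact herm_eq_zero_swap hF (h.orth_one hF hl (hpE i) hw.1)
            · have h9 := herm_act B w (![p, p'] i)
              rw [h.one w hw.1] at h9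
              exact h9.trans (herm_eq_zero_swap hF (h.orth_one hF hl (hpE i) hw.1))
            · exact hw.2 i
        refine kill_out h hs ![p, p'] ![l, l] (fun i => by fin_cases i; exacts [hl, hl])
          (fun i => by fin_cases i; exacts [hp, hp']) hon ![k, k'] hk1 honk ![β, β] ![β, β]
          (fun i => by fin_cases i; exacts [hβ, hβ]) (fun i => by fin_cases i; exacts [hβ, hβ]) ?_
          (Or.inr ⟨Sum.inl 0, hβ1, by simp only [Fintype.card_fin]; omega⟩) (Equiv.swap 0 1)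
          (fun i => by fin_cases i; exacts [hTp, hTp']) (fun i => by fin_cases i <;> rfl) (Equiv.swap 0 1)
          (fun i => by fin_cases i; exacts [hSk, hSk']) (fun i => by fin_cases i <;> rfl)
        simp only [Fin.prod_univ_two]
        show β * β * (β * β) * (β * β) = 1
        linear_combination (β ^ 3 + 1) * hβ3
      · right
        -- the special case
        have honk : ON q ![k, k'] := ON.pair hkk hkk' h1 h1'
        have hk1 : ∀ i, ![k, k'] i ∈ Eg x 1 := fun i => by fin_cases i; exacts [hk, hk']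
        have hBk : ∀ i, act B (![k, k'] i) = ![k, k'] i := fun i => h.one _ (hk1 i)
        have hpE : ∀ i, ![p, p'] i ∈ Eg x l := fun i => by fin_cases i; exacts [hp, hp']
        have o1 : ∀ i j, hermForm n F q (dbl B ![p, p'] i) (![k, k'] j) = 0 := by
          rintro (i | i) j
          · exact h.orth_one hF hl (hpE i) (hk1 j)
          · have h6 := herm_act B (![p, p'] i) (![k, k'] j)
            rw [hBk] at h6
            exact h6.trans (h.orth_one hF hl (hpE i) (hk1 j))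
        have h6on : ON q (Sum.elim (dbl B ![p, p']) ![k, k']) :=
          sum_elim_on hdon honk o1 (fun i j => herm_eq_zero_swap hF (o1 i j))
        have h6n : n = 6 := by
          have h7 := h6on.card_le
          simp only [Fintype.card_sum, Fintype.card_fin] at h7
          by_contra hne
          obtain ⟨w, hw0, hw⟩ := exists_orth hF (q := q) (Sum.elim (dbl B ![p, p']) ![k, k'])
            (by simp only [Fintype.card_sum, Fintype.card_fin]; omega)
          apply hw0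
          have hw1 : w ∈ Eg x 1 := hfull w (hw (Sum.inl (Sum.inl 0))) (hw (Sum.inl (Sum.inl 1)))
            (hw (Sum.inl (Sum.inr 0))) (hw (Sum.inl (Sum.inr 1)))
          have hw2 : w ∈ perp q (Eg x 1) ![k, k'] := ⟨hw1, fun i => hw (Sum.inr i)⟩
          rwa [hb', Submodule.mem_bot] at hw2
        refine ⟨hq2, h6n, ![p, p', k], ![act B p', act B p, k'], ?_, ?_, ?_⟩
        · have g1 : hermForm n F q p (act B p) = 0 := h.orthB hF hl hl hp hp
          have g2 : hermForm n F q p (act B p') = 0 := h.orthB hF hl hl hp hp'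
          have g3 : hermForm n F q p' (act B p) = 0 := h.orthB hF hl hl hp' hp
          have g4 : hermForm n F q p' (act B p') = 0 := h.orthB hF hl hl hp' hp'
          have g1' := herm_eq_zero_swap hF g1
          have g2' := herm_eq_zero_swap hF g2
          have g3' := herm_eq_zero_swap hF g3
          have g4' := herm_eq_zero_swap hF g4
          have k1 : hermForm n F q p k = 0 := o1 (Sum.inl 0) 0
          have k2 : hermForm n F q p k' = 0 := o1 (Sum.inl 0) 1
          have k3 : hermForm n F q p' k = 0 := o1 (Sum.inl 1) 0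
          have k4 : hermForm n F q p' k' = 0 := o1 (Sum.inl 1) 1
          have k5 : hermForm n F q (act B p) k = 0 := o1 (Sum.inr 0) 0
          have k6 : hermForm n F q (act B p) k' = 0 := o1 (Sum.inr 0) 1
          have k7 : hermForm n F q (act B p') k = 0 := o1 (Sum.inr 1) 0
          have k8 : hermForm n F q (act B p') k' = 0 := o1 (Sum.inr 1) 1
          have k1' := herm_eq_zero_swap hF k1
          have k2' := herm_eq_zero_swap hF k2
          have k3' := herm_eq_zero_swap hF k3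
          have k4' := herm_eq_zero_swap hF k4
          have k5' := herm_eq_zero_swap hF k5
          have k6' := herm_eq_zero_swap hF k6
          have k7' := herm_eq_zero_swap hF k7
          have k8' := herm_eq_zero_swap hF k8
          rintro (i | i) (j | j) <;> (revert i j; simp only [hpp, hpp', h0, h0', hkk, hkk', h1, h1', herm_act, g1, g2, g3, g4, g1', g2', g3', g4', k1, k2, k3, k4, k5, k6, k7, k8, k1', k2', k3', k4', k5', k6', k7', k8', _root_.Fin.forall_fin_succ, _root_.Sum.elim_inl, _root_.Sum.inl.injEq, Fin.isValue, _root_.Matrix.cons_val_zero, _root_.Matrix.cons_val_succ, _root_.Fin.succ_zero_eq_one, _root_.Matrix.cons_val_fin_one, _root_.Fin.succ_one_eq_two, _root_.IsEmpty.forall_iff, _root_.and_true, ↓reduceIte, _root_.zero_ne_one, Fin.reduceEq, _root_.and_self, _root_.Fin.succ_ne_zero, _root_.right_eq_ite_iff, _root_.imp_false, _root_.left_eq_ite_iff, _root_.one_ne_zero, _root_.Decidable.not_not, _root_.true_and, _root_.not_false_eq_true,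 _root_.Sum.elim_inr, reduceCtorEq, _root_.forall_const, _root_.implies_true, _root_.Sum.inr.injEq])
        · intro i
          fin_cases i
          · show S p = act B p'
            rw [← hTp, TT, act_act h.hB]
          · show S p' = act B p
            rw [← hTp', TT, act_act h.hB]
          · exact hSk
        · intro i
          fin_cases i
          · show S (act B p') = p
            rw [hs.cB]; exact hTp'
          · show S (act B p) = p'
            rw [hs.cB]; exact hTp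
          · exact hSk'

end Pieces

end Out

end Cfsg.Agent.H259.SK
end

-- part: H259/SK/Frame
section
/-!
# S3010, `PSU_n(q)`, `q` even: the elements of `V` as linear and semilinear involutions (helper259)
-/

set_option autoImplicit false
set_option linter.unusedSectionVars false
set_option linter.unusedVariables false
set_option linter.unusedSimpArgs false

universe u

namespace Cfsg.Agent.H259.SK

open Matrix Cfsg Cfsg.Agent.H282.SK
open Cfsg.Agent.LieClassical.HermBasic Cfsg.Agent.LieClassical.HermSiegel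
open Cfsg.Agent.ClassicalGeometry.PSUAutCount (gm semiConj toAut gm_mul gm_one gm_mul_inv gm_inv_mul eq_of_toAut_eq
  herm_gm act_semiConj herm_semi gm_mulVec_inv gm_inv_mulVec gm_inj toAut_pr)
open Cfsg.Agent.ClassicalGeometry.UnitAutBasic (pr pr_surjective exists_scalar_of_pr_eq pr_eq_of_scalar)
open Cfsg.Agent.Schreier.PSU (mapGU gm_mapGU)
open Cfsg.Agent.UGT.U2.FOne.PSUSemi (toAut_mul S_add S_smul S_herm S_S S_def)

section Frame

variable {F : Type*} [Field F] [Fintype F] {q n : ℕ}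

/-- a semilinear representative of an element `w` of order two -/
structure OutRep (hF : Fintype.card F = q ^ 2) {G : Type*} [Group G] (κ : SU n F q →* G) (w : G)
    (S : (Fin n → F) → (Fin n → F)) : Prop where
  semi : Semi q (conj hF) S
  sq : ∀ u, S (S u) = u
  ex : ∀ y : SU n F q, ∃ y' : SU n F q, ∀ u, S (act y u) = act y' (S u)
  conj : ∀ y y' : SU n F q, (∀ u, S (act y u) = act y' (S u)) → w * κ y * w⁻¹ = κ y'

/-- `w` is the image of a linear involution (or `w = 1`) -/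
def LinRep {G : Type*} [Group G] (κ : SU n F q →* G) (w : G) : Prop := ∃ C : SU n F q, C * C = 1 ∧ κ C = w

/-- the frame: `κ : SU n F q → G` and representatives of the elements of `V` -/
structure Fr (hF : Fintype.card F = q ^ 2) {G : Type*} [Group G] (V : Subgroup G) (κ : SU n F q →* G) : Prop where
  ker : ∀ y y' : SU n F q, κ y = κ y' → ∃ c : F, c * c ^ q = 1 ∧ ∀ u, act y' u = c • act y u
  rep : ∀ w ∈ V, ¬ LinRep κ w → ∃ S, OutRep hF κ w S
  coset : ∀ w ∈ V, ∀ w' ∈ V, ¬ LinRep κ w → ¬ LinRep κ w' → LinRep κ (w * w')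

/-- an element of `GU` whose square is a scalar is a scalar times an involution of `SU` -/
theorem exists_lin (hF : Fintype.card F = q ^ 2) (hq : Even q) {A : GU n F q} {c : F} (hc : c * c ^ q = 1)
    (hA : gm A * gm A = c • (1 : Matrix (Fin n) (Fin n) F)) :
    ∃ (C : SU n F q) (d : F), C * C = 1 ∧ d ≠ 0 ∧ gm A = d • mat C := by
  have h2 : (2 : F) = 0 := H277.UnfPsuEven.two_zero hF hq
  obtain ⟨k, hk⟩ := hq
  have hc0 : c ≠ 0 := by
    rintro rfl
    rw [zero_mul] at hc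
    exact zero_ne_one hc
  set d : F := c ^ (k + 1) with hd
  have hdd : d * d = c := by
    calc d * d = c ^ (k + 1 + (k + 1)) := by rw [hd, pow_add c (k + 1) (k + 1)]
      _ = c * (c * c ^ q) := by rw [hk]; ring
      _ = c := by rw [hc, mul_one]
  have hdn : d * d ^ q = 1 := by
    calc d * d ^ q = (c * c ^ q) ^ (k + 1) := by rw [hd, mul_pow, ← pow_mul, ← pow_mul, mul_comm (k + 1) q]
      _ = 1 := by rw [hc, one_pow]
  have hd0 : d ≠ 0 := pow_ne_zero _ hc0
  set M : Matrix (Fin n) (Fin n) F := d⁻¹ • gm A with hM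
  have hMM : M * M = 1 := by
    rw [hM, Matrix.smul_mul, Matrix.mul_smul, hA, smul_smul, smul_smul]
    have : d⁻¹ * d⁻¹ * c = 1 := by rw [← hdd]; field_simp
    rw [this, one_smul]
  have hdet : M.det = 1 := by
    have h3 := congrArg Matrix.det hMM
    rw [Matrix.det_mul, Matrix.det_one] at h3
    exact eq_one_of_sq h2 h3
  have hdi : d⁻¹ * d⁻¹ ^ q = 1 := by
    rw [inv_pow, ← mul_inv, hdn, inv_one]
  have hiso : ∀ u v, hermForm n F q (M *ᵥ u) (M *ᵥ v) = hermForm n F q u v := by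
    intro u v
    rw [hM, Matrix.smul_mulVec, Matrix.smul_mulVec, herm_smul_left, herm_smul_right, herm_gm, ← mul_assoc, hdi,
      one_mul]
  refine ⟨mkSU M hdet hiso, d, ?_, hd0, ?_⟩
  · apply mat_injective
    rw [mat_mul, mat_mkSU, hMM, mat_one]
  · rw [mat_mkSU, hM, smul_smul, mul_inv_cancel₀ hd0, one_smul]

theorem exists_frame (hF : Fintype.card F = q ^ 2) (hq : Even q) (hn : 3 ≤ n) (h32 : ¬ (n = 3 ∧ q = 2)) {G : Type u}
    [Group G] [Finite G] {V K : Subgroup G} (h : Cx V K) (e : K ≃* PSU n F q) :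
    ∃ κ : SU n F q →* G, Fr hF V κ := by
  have h2 : (2 : F) = 0 := H277.UnfPsuEven.two_zero hF hq
  obtain ⟨φ, hinj, hφ, hφ2⟩ := h.exists_toAut e
  let κ : SU n F q →* G := K.subtype.comp (e.symm.toMonoidHom.comp (pr n F q))
  have hκ : ∀ y, κ y = (e.symm (pr n F q y) : K) := fun y => rfl
  -- conjugation
  have key : ∀ (w : G) (A : GU n F q) (ρ : F ≃+* F), φ w = toAut A ρ → ∀ y y' : SU n F q,
      (∀ u : Fin n → F, (gm A *ᵥ fun i => ρ (act y u i)) = act y' (gm A *ᵥ fun i => ρ (u i))) →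
      w * κ y * w⁻¹ = κ y' := by
    intro w A ρ hw y y' hy
    have h1 : y' = semiConj A ρ y := by
      apply ext_act
      intro v
      have hv : v = gm A *ᵥ fun i => ρ ((fun j => ρ.symm ((gm A⁻¹ *ᵥ v) j)) i) := by
        have : (fun i => ρ ((fun j => ρ.symm ((gm A⁻¹ *ᵥ v) j)) i)) = gm A⁻¹ *ᵥ v := by
          funext i
          simp
        rw [this, gm_mulVec_inv]
      rw [hv, ← hy, act_semiConj]
    obtain ⟨hm, h3⟩ := hφ2 w (e.symm (pr n F q y))
    rw [MulEquiv.apply_symm_apply, hw, toAut_pr, ← h1] at h3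
    rw [hκ, hκ, h3, MulEquiv.symm_apply_apply]
  -- the squares
  have hsq : ∀ w ∈ V, ∀ (A : GU n F q) (ρ : F ≃+* F), φ w = toAut A ρ → ρ * ρ = 1 ∧
      ∃ c : F, c * c ^ q = 1 ∧ gm (A * mapGU ρ A) = c • (1 : Matrix (Fin n) (Fin n) F) := by
    intro w hw A ρ hA
    have h1 : toAut (A * mapGU ρ A) (ρ * ρ) = toAut (1 : GU n F q) 1 := by
      rw [← toAut_mul, ← hA, ← map_mul, h.sq hw, map_one]
      symm
      exact (Cfsg.Agent.Schreier.PSU.f₁ (F := F) (q := q) (n := n)).map_one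
    obtain ⟨h3, c, hc, h4⟩ := eq_of_toAut_eq hF hn h1.symm
    refine ⟨h3, c, hc, ?_⟩
    rw [h4, gm_one]
  have hlin : ∀ w ∈ V, ∀ A : GU n F q, φ w = toAut A 1 → LinRep κ w := by
    intro w hw A hA
    obtain ⟨-, c, hc, h4⟩ := hsq w hw A 1 hA
    have h5 : gm A * gm A = c • (1 : Matrix (Fin n) (Fin n) F) := by
      rw [← h4, gm_mul]
      congr 1
    obtain ⟨C, d, hC, hd, hAC⟩ := exists_lin hF hq hc h5
    refine ⟨C, hC, ?_⟩
    apply hinj
    have h6 : φ (κ C) = MulAut.conj (pr n F q C) := by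
      rw [hκ, hφ, MulEquiv.apply_symm_apply]
    rw [h6, hA]
    apply MulEquiv.ext
    intro t
    obtain ⟨y, rfl⟩ := pr_surjective t
    rw [toAut_pr, MulAut.conj_apply, ← map_inv, ← map_mul, ← map_mul]
    congr 1
    apply ext_act
    intro v
    have hv : v = gm A *ᵥ fun i => (1 : F ≃+* F) ((gm A⁻¹ *ᵥ v) i) := by
      have : (fun i => (1 : F ≃+* F) ((gm A⁻¹ *ᵥ v) i)) = gm A⁻¹ *ᵥ v := rfl
      rw [this, gm_mulVec_inv]
    rw [hv, act_semiConj]
    generalize gm A⁻¹ *ᵥ v = t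
    show act (C * y * C⁻¹) (gm A *ᵥ t) = gm A *ᵥ act y t
    have hg : ∀ t : Fin n → F, gm A *ᵥ t = d • act C t := fun t => by rw [hAC, Matrix.smul_mulVec]; rfl
    rw [hg, hg, act_smul, act_mul, act_mul, act_inv_act]
  have hcj : ∀ ρ : F ≃+* F, ρ * ρ = 1 → ρ ≠ 1 → ρ = Cfsg.Agent.LieClassical.HermBasic.conj hF := by
    intro ρ h1 h3
    have h4 : orderOf ρ = 2 := orderOf_eq_prime (by rw [pow_two]; exact h1) h3
    ext a
    exact H199.PslGraphField.eq_pow hF h4 a
  refine ⟨κ, ?_, ?_, ?_⟩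
  · intro y y' hy
    apply exists_scalar_of_pr_eq hF hn
    apply e.symm.injective
    exact Subtype.ext hy
  · intro w hw hnl
    obtain ⟨A, ρ, hA⟩ := Cfsg.Agent.ClassicalGeometry.PSUAutMain.exists_toAut hF hn h32 (φ w)
    by_cases hρ : ρ = 1
    · subst hρ
      exact absurd (hlin w hw A hA) hnl
    · obtain ⟨h1, c, hc, h4⟩ := hsq w hw A ρ hA
      have hρq := hcj ρ h1 hρ
      refine ⟨fun u => gm A *ᵥ fun i => ρ (u i), ?_, ?_, ?_, ?_⟩
      · rw [← hρq]
        exact ⟨S_add A ρ, S_smul A ρ, S_herm A ρ⟩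
      · -- the square
        have hS2 : ∀ u : Fin n → F, (gm A *ᵥ fun i => ρ ((gm A *ᵥ fun j => ρ (u j)) i)) = c • u := by
          intro u
          have h5 := S_S A A ρ ρ u
          rw [S_def, S_def, S_def, h4, h1, Matrix.smul_mulVec, Matrix.one_mulVec] at h5
          exact h5
        have hc1 : c = 1 := by
          have h5 : ∀ u : Fin n → F, (c ^ q - c) • (gm A *ᵥ fun i => ρ (u i)) = 0 := by
            intro u
            have h6 := hS2 (gm A *ᵥ fun i => ρ (u i))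
            have h7 : (gm A *ᵥ fun i => ρ ((gm A *ᵥ fun j => ρ ((gm A *ᵥ fun k => ρ (u k)) j)) i)) =
                c ^ q • (gm A *ᵥ fun i => ρ (u i)) := by
              rw [hS2 u]
              have h8 := S_smul A ρ c u
              rw [S_def, S_def] at h8
              rw [h8, hρq]
              rfl
            rw [h7] at h6
            rw [sub_smul, h6, sub_self]
          have h9 : c ^ q - c = 0 := by
            by_contra hne
            have h10 := h5 ((fun i => ρ.symm ((gm A⁻¹ *ᵥ (fun _ => (1 : F))) i)))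
            have h11 : (fun i => ρ ((fun i => ρ.symm ((gm A⁻¹ *ᵥ (fun _ => (1 : F))) i)) i)) =
                gm A⁻¹ *ᵥ (fun _ => (1 : F)) := by
              funext i
              simp
            rw [h11, gm_mulVec_inv] at h10
            rcases smul_eq_zero.1 h10 with h12 | h12
            · exact hne h12
            · have := congrFun h12 ⟨0, by omega⟩
              exact one_ne_zero this
          have h13 : c ^ q = c := sub_eq_zero.1 h9
          rw [h13] at hc
          exact eq_one_of_sq h2 hc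
        intro u
        have := hS2 u
        rw [hc1, one_smul] at this
        exact this
      · exact fun y => ⟨semiConj A ρ y, fun u => (act_semiConj A ρ y u).symm⟩
      · exact fun y y' hy => key w A ρ hA y y' hy
  · intro w hw w' hw' hl hl'
    obtain ⟨A, ρ, hA⟩ := Cfsg.Agent.ClassicalGeometry.PSUAutMain.exists_toAut hF hn h32 (φ w)
    obtain ⟨A', ρ', hA'⟩ := Cfsg.Agent.ClassicalGeometry.PSUAutMain.exists_toAut hF hn h32 (φ w')
    have hρ : ρ ≠ 1 := by
      rintro rfl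
      exact hl (hlin w hw A hA)
    have hρ' : ρ' ≠ 1 := by
      rintro rfl
      exact hl' (hlin w' hw' A' hA')
    have h1 := hcj ρ (hsq w hw A ρ hA).1 hρ
    have h3 := hcj ρ' (hsq w' hw' A' ρ' hA').1 hρ'
    have h4 : ρ * ρ' = 1 := by
      have := (hsq w hw A ρ hA).1
      rwa [h3, ← h1]
    apply hlin (w * w') (V.mul_mem hw hw') (A * mapGU ρ A')
    rw [map_mul, hA, hA', toAut_mul, h4]

end Frame

end Cfsg.Agent.H259.SK
end

-- part: H259/SK/Main
section
/-!
# S3010, the row `PSU_n(q)`, `q` even (helper259)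
-/

set_option autoImplicit false
set_option linter.unusedSectionVars false
set_option linter.unusedVariables false
set_option linter.unusedSimpArgs false

universe u

namespace Cfsg.Agent.H259.SK

open Subgroup Matrix Cfsg Cfsg.Agent.H282.SK
open Cfsg.Agent.LieClassical.HermBasic Cfsg.Agent.LieClassical.HermSiegel

section Main

variable {F : Type*} [Field F] [Fintype F] {q n : ℕ} {hF : Fintype.card F = q ^ 2}
variable {G : Type u} [Group G] {V K : Subgroup G} {κ : SU n F q →* G}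

theorem exists_vec_ne (hn : 0 < n) : ∃ u : Fin n → F, u ≠ 0 :=
  ⟨fun _ => 1, fun h => one_ne_zero (congrFun h ⟨0, hn⟩)⟩

theorem comm_lin (h2 : (2 : F) = 0) (hn : 0 < n) (hf : Fr hF V κ) {C D : SU n F q} (hD : D * D = 1)
    (hc : Commute (κ C) (κ D)) : C * D = D * C := by
  obtain ⟨c, hcn, h⟩ := hf.ker D (C * D * C⁻¹) (by rw [map_mul, map_mul, map_inv, hc.eq]; group)
  have h3 : c = 1 := by
    obtain ⟨u, hu⟩ := exists_vec_ne (F := F) hn
    have h4 : act (C * D * C⁻¹) (act (C * D * C⁻¹) u) = u := by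
      rw [← act_mul]
      have : C * D * C⁻¹ * (C * D * C⁻¹) = 1 := by
        calc C * D * C⁻¹ * (C * D * C⁻¹) = C * (D * D) * C⁻¹ := by group
          _ = 1 := by rw [hD]; group
      rw [this, act_one]
    rw [h, h, act_smul, act_act hD, smul_smul] at h4
    have h5 : (c * c - 1) • u = 0 := by rw [sub_smul, h4, one_smul, sub_self]
    rcases smul_eq_zero.1 h5 with h6 | h6
    · exact eq_one_of_sq h2 (sub_eq_zero.1 h6)
    · exact absurd h6 hu
  have h4 : C * D * C⁻¹ = D := by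
    apply ext_act
    intro u
    rw [h, h3, one_smul]
  calc C * D = (C * D * C⁻¹) * C := by group
    _ = D * C := by rw [h4]

theorem comm_out (h2 : (2 : F) = 0) (hn : 0 < n) (hf : Fr hF V κ) {w : G} {S : (Fin n → F) → (Fin n → F)}
    (hr : OutRep hF κ w S) {D : SU n F q} (hD : D * D = 1) (hc : Commute w (κ D)) (u : Fin n → F) :
    S (act D u) = act D (S u) := by
  obtain ⟨y', hy'⟩ := hr.ex D
  obtain ⟨c, hcn, h⟩ := hf.ker D y' (by rw [← hr.conj D y' hy', hc.eq]; group)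
  have h3 : c = 1 := by
    obtain ⟨u, hu⟩ := exists_vec_ne (F := F) hn
    have h4 : act y' (act y' (S (S u))) = u := by
      rw [← hy', ← hy', act_act hD, hr.sq]
    rw [h, h, act_smul, act_act hD, smul_smul, hr.sq] at h4
    have h5 : (c * c - 1) • u = 0 := by rw [sub_smul, h4, one_smul, sub_self]
    rcases smul_eq_zero.1 h5 with h6 | h6
    · exact eq_one_of_sq h2 (sub_eq_zero.1 h6)
    · exact absurd h6 hu
  rw [hy', h, h3, one_smul]

/-- a non-scalar element is nontrivial in `G` -/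
theorem ne_one_of (hf : Fr hF V κ) {y : SU n F q} (hy : ¬ ∃ c : F, ∀ u, act y u = c • u) : κ y ≠ 1 := by
  intro h
  obtain ⟨c, hc, h1⟩ := hf.ker 1 y (by rw [h, map_one])
  exact hy ⟨c, fun u => by rw [h1, act_one]⟩

theorem odd_of_pow (hq : Even q) {y : SU n F q} (hy : y ^ (q + 1) = 1) : Odd (orderOf (κ y)) := by
  have h1 : (κ y) ^ (q + 1) = 1 := by rw [← map_pow, hy, map_one]
  exact Odd.of_dvd_nat (Even.add_one hq) (orderOf_dvd_of_pow_eq_one h1)

variable [Finite G]

theorem t1_out (hq : Even q) (hn : 0 < n) (h : Cx V K) (hf : Fr hF V κ) {B x : SU n F q} {Λ : Set F}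
    (hx : XS B x Λ) (hxo : x ^ (q + 1) = 1) (hBV : κ B ∈ V) (hB1 : κ B ≠ 1) {α : F} (hα : α * α ^ q = 1)
    (hα1 : α ≠ 1) :
    ∃ w ∈ V, w ≠ 1 ∧ ¬ LinRep κ w ∧ ∃ S, OutRep hF κ w S ∧ Anti hF B x S ∧ ¬ Kill B x S := by
  have h2 : (2 : F) = 0 := H277.UnfPsuEven.two_zero hF hq
  have hinv : κ B * κ x * (κ B)⁻¹ = (κ x)⁻¹ := by
    rw [← map_mul, hx.inv, map_mul, map_inv]; group
  obtain ⟨w, hwV, hw1, hwx, hwO⟩ := h.t1 hBV hB1 (odd_of_pow hq hxo) hinv
  have hwB : Commute w (κ B) := h.comm hwV hBV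
  have hD : B * x * (B * x) = 1 := by
    calc B * x * (B * x) = (x⁻¹ * B) * (B * x) := by rw [hx.inv]
      _ = x⁻¹ * (B * B) * x := by group
      _ = 1 := by rw [hx.hB]; group
  have hwD : Commute w (κ (B * x)) := by
    rw [map_mul]; exact hwB.mul_right hwx
  have hxBD : x = B * (B * x) := by rw [← mul_assoc, hx.hB, one_mul]
  have nokill : ∀ S : (Fin n → F) → (Fin n → F), (∀ y : SU n F q, (∀ u, S (act y u) = act y⁻¹ (S u)) →
      w * κ y * w⁻¹ = κ y⁻¹) → ¬ Kill B x S := by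
    rintro S hS ⟨y, hyo, hyn, hyB, hyx, hyS⟩
    apply ne_one_of hf hyn
    refine eq_one_of_inv hwO (mem_inf.2 ⟨mem_centralizer_singleton_iff.2 ?_, mem_centralizer_singleton_iff.2 ?_⟩)
      (odd_of_pow hq hyo) ?_
    · rw [← map_mul, ← map_mul, hyB]
    · rw [← map_mul, ← map_mul, hyx]
    · rw [hS y hyS, map_inv]
  by_cases hl : LinRep κ w
  · exfalso
    obtain ⟨C, hC, rfl⟩ := hl
    have hCB := comm_lin h2 hn hf hx.hB hwB
    have hCD := comm_lin h2 hn hf hD hwD
    have hCx : C * x = x * C := by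
      calc C * x = C * B * (B * x) := by rw [mul_assoc, ← hxBD]
        _ = B * (C * (B * x)) := by rw [hCB, mul_assoc]
        _ = B * (B * x) * C := by rw [hCD]; simp only [mul_assoc]
        _ = x * C := by rw [← hxBD]
    have hC1 : C ≠ 1 := by
      rintro rfl
      exact hw1 (map_one κ)
    refine nokill (act C) (fun y hy => ?_) (kill_lin hF h2 hx hα hα1 hC hC1 hCB hCx)
    have h3 : C * y = y⁻¹ * C := by
      apply ext_act
      intro u
      rw [act_mul, act_mul, hy]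
    rw [← map_mul, h3, map_mul]; group
  · obtain ⟨S, hS⟩ := hf.rep w hwV hl
    have hSB := comm_out h2 hn hf hS hx.hB hwB
    have hSD := comm_out h2 hn hf hS hD hwD
    refine ⟨w, hwV, hw1, hl, S, hS, ⟨hS.semi, hS.sq, hSB, ?_⟩, nokill S fun y hy => hS.conj y y⁻¹ hy⟩
    intro u
    have h3 : ∀ v, act x v = act B (act (B * x) v) := fun v => by rw [← act_mul, ← hxBD]
    rw [h3, hSB, hSD, ← h3]

/-- elements of norm one -/
theorem exists_alpha (hF : Fintype.card F = q ^ 2) (hq : Even q) :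
    ∃ α : F, α * α ^ q = 1 ∧ α ≠ 1 ∧ (q ≠ 2 → α ^ 3 ≠ 1) := by
  classical
  have h2 := two_le hF
  by_cases hq2 : q = 2
  · obtain ⟨ζ, hζ, hζ1⟩ := Cfsg.Agent.ClassicalGeometry.GUBasic.exists_norm_one hF
    exact ⟨ζ, by rw [← pow_succ', hζ], hζ1, fun h => absurd hq2 h⟩
  · have hc := card_norm_eq_one hF
    by_contra hcon
    push Not at hcon
    have h3 : ∀ α : F, α * α ^ q = 1 → α ^ 3 = 1 := by
      intro α hα
      by_cases h1 : α = 1
      · rw [h1, one_pow]
      · exact (hcon α hα h1).2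
    have h4 : Nat.card {x : F // x * x ^ q = 1} ≤ 3 := by
      have hinj : Function.Injective (fun x : {x : F // x * x ^ q = 1} =>
          (⟨x.1, by
            rw [Multiset.mem_toFinset, Polynomial.mem_nthRoots (by norm_num : 0 < 3)]
            exact h3 x.1 x.2⟩ : {x : F // x ∈ (Polynomial.nthRoots 3 (1 : F)).toFinset})) := by
        intro x y hxy
        exact Subtype.ext (congrArg (fun t => t.1) hxy)
      refine (Nat.card_le_card_of_injective _ hinj).trans ?_
      rw [Nat.card_eq_fintype_card, Fintype.card_coe]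
      exact (Multiset.toFinset_card_le _).trans (Polynomial.card_nthRoots 3 (1 : F))
    rw [hc] at h4
    obtain ⟨k, hk⟩ := hq
    omega

/-- **The leftover `PSU_6(2)`.** -/
theorem special_false (hq2 : q = 2) (hn : n = 6) (h : Cx V K) (hf : Fr hF V κ) {w : G} (hwV : w ∈ V) (hw1 : w ≠ 1)
    (hwl : ¬ LinRep κ w) {S : (Fin n → F) → (Fin n → F)} (hr : OutRep hF κ w S) (hs : Special q S) : False := by
  have hq : Even q := by rw [hq2]; norm_num
  have h2 : (2 : F) = 0 := H277.UnfPsuEven.two_zero hF hq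
  have hn0 : 0 < n := by omega
  obtain ⟨β, hβ, hβ1, -⟩ := exists_alpha hF hq
  have hββ : β ≠ β ^ q := ne_q h2 hβ hβ1
  have hβq1 : β ^ q ≠ 1 := by
    intro h1
    rw [h1, mul_one] at hβ
    exact hβ1 hβ
  have hqq : ∀ a : F, (a ^ q) ^ q = a := pow_q_pow_q hF
  obtain ⟨P, P', hon, hSP, hSP'⟩ := hs
  set g : Fin 3 → F := ![1, β, β ^ q] with hg
  have hgn : ∀ i, g i * g i ^ q = 1 := by
    intro i
    fin_cases i
    · show (1 : F) * 1 ^ q = 1
      rw [one_pow, one_mul]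
    · exact hβ
    · exact norm_q hF hβ
  have hgne : ∀ i j, i ≠ j → g i ≠ g j := by
    intro i j hij
    fin_cases i <;> fin_cases j
    · exact absurd rfl hij
    · exact hβ1.symm
    · exact hβq1.symm
    · exact hβ1
    · exact absurd rfl hij
    · exact hββ
    · exact hβq1
    · exact hββ.symm
    · exact absurd rfl hij
  have hγn : ∀ i : Fin 3 ⊕ Fin 3, Sum.elim g g i * Sum.elim g g i ^ q = 1 := by
    rintro (i | i) <;> exact hgn i
  obtain ⟨x, hx⟩ := exists_tor hF hon hγn (by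
    rw [Fintype.prod_sum_type]
    simp only [Sum.elim_inl, Sum.elim_inr, Fin.prod_univ_three]
    show 1 * β * β ^ q * (1 * β * β ^ q) = 1
    linear_combination (β * β ^ q + 1) * hβ)
  have hxo : x ^ (q + 1) = 1 := hx.pow_eq_one hon fun i => by rw [pow_succ']; exact hγn i
  have heP : ∀ i, P i ∈ Eg x (g i) := fun i => hx.apply hon (Sum.inl i)
  have heP' : ∀ i, P' i ∈ Eg x (g i) := fun i => hx.apply hon (Sum.inr i)
  have hSx : ∀ u, S (act x u) = act x⁻¹ (S u) := by
    refine hr.semi.conj_tor hx (hx.inv hF hon hγn) (Equiv.sumComm _ _) ?_ ?_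
    · rintro (i | i)
      · exact ⟨1, by rw [one_pow, one_mul], by rw [one_smul]; exact hSP i⟩
      · exact ⟨1, by rw [one_pow, one_mul], by rw [one_smul]; exact hSP' i⟩
    · rintro (i | i) <;> rfl
  have hwx : w * κ x * w⁻¹ = (κ x)⁻¹ := by rw [hr.conj x x⁻¹ hSx, map_inv]
  have hx1 : κ x ≠ 1 := by
    apply ne_one_of hf
    rintro ⟨c, hc⟩
    have h3 := mem_Eg.1 (heP 0)
    have h4 := mem_Eg.1 (heP 1)
    rw [hc] at h3 h4
    have key : ∀ i, c • P i = g i • P i → c = g i := by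
      intro i hi
      have h5 := congrArg (fun t => hermForm n F q t (P i)) hi
      simp only [herm_smul_left] at h5
      have h6 : hermForm n F q (P i) (P i) = 1 := by
        have := hon (Sum.inl i) (Sum.inl i)
        rwa [if_pos rfl] at this
      rw [h6, mul_one, mul_one] at h5
      exact h5
    exact hgne 0 1 (by decide) ((key 0 h3).symm.trans (key 1 h4))
  obtain ⟨w', hwV', hw1', hwx', hwO'⟩ := h.t1 hwV hw1 (odd_of_pow hq hxo) hwx
  have hww : Commute w w' := h.comm hwV hwV'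
  -- the elements `y i`
  have hpair : ∀ i, ON q ![P i, P' i] := by
    intro i
    refine ON.pair ?_ ?_ ?_ ?_
    · have := hon (Sum.inl i) (Sum.inl i); rwa [if_pos rfl] at this
    · have := hon (Sum.inr i) (Sum.inr i); rwa [if_pos rfl] at this
    · have := hon (Sum.inl i) (Sum.inr i); rwa [if_neg (by simp)] at this
    · have := hon (Sum.inr i) (Sum.inl i); rwa [if_neg (by simp)] at this
  have hδn : ∀ i, ![β, β ^ q] i * ![β, β ^ q] i ^ q = 1 := by
    intro i; fin_cases i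
    · exact hβ
    · exact norm_q hF hβ
  have hy : ∀ i, ∃ y : SU n F q, IsTor y ![P i, P' i] ![β, β ^ q] := fun i =>
    exists_tor hF (hpair i) hδn (by simp [hβ])
  choose y hy using hy
  have hyo : ∀ i, y i ^ (q + 1) = 1 := fun i => (hy i).pow_eq_one (hpair i) fun j => by
    rw [pow_succ']; exact hδn j
  have hyP : ∀ i, act (y i) (P i) = β • P i := fun i => (hy i).apply (hpair i) 0
  have hyP' : ∀ i, act (y i) (P' i) = β ^ q • P' i := fun i => (hy i).apply (hpair i) 1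
  have hPP : ∀ i, hermForm n F q (P i) (P i) = 1 := fun i => by
    have := hon (Sum.inl i) (Sum.inl i); rwa [if_pos rfl] at this
  have hPP' : ∀ i, hermForm n F q (P' i) (P' i) = 1 := fun i => by
    have := hon (Sum.inr i) (Sum.inr i); rwa [if_pos rfl] at this
  have hyx : ∀ i, x * y i = y i * x := by
    intro i
    apply comm_of_eigen (hy i)
    intro j
    fin_cases j
    · exact ⟨g i, hgn i, heP i⟩
    · exact ⟨g i, hgn i, heP' i⟩
  have hyw : ∀ i, w * κ (y i) * w⁻¹ = κ (y i) := by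
    intro i
    apply hr.conj
    refine hr.semi.conj_tor (hy i) (hy i) (Equiv.swap 0 1) ?_ ?_
    · intro j; fin_cases j
      · exact ⟨1, by rw [one_pow, one_mul], by rw [one_smul]; exact hSP i⟩
      · exact ⟨1, by rw [one_pow, one_mul], by rw [one_smul]; exact hSP' i⟩
    · intro j; fin_cases j
      · rfl
      · exact hqq β
  have hyC : ∀ i, κ (y i) ∈ centralizer ({w} : Set G) ⊓ centralizer ({κ x} : Set G) := by
    intro i
    refine mem_inf.2 ⟨mem_centralizer_singleton_iff.2 ?_, mem_centralizer_singleton_iff.2 ?_⟩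
    · have := hyw i
      rw [mul_inv_eq_iff_eq_mul] at this
      exact this.symm
    · rw [← map_mul, ← map_mul, hyx]
  have hynon : ∀ (i : Fin 3) (c : F), ¬ (c • P i = β • P i ∧ c • P' i = β ^ q • P' i) := by
    rintro i c ⟨h3, h4⟩
    have h5 := congrArg (fun t => hermForm n F q t (P i)) h3
    have h6 := congrArg (fun t => hermForm n F q t (P' i)) h4
    simp only [herm_smul_left, hPP, hPP', mul_one] at h5 h6
    exact hββ (h5.symm.trans h6)
  have hy1 : ∀ i, κ (y i) ≠ 1 := by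
    intro i
    apply ne_one_of hf
    rintro ⟨c, hc⟩
    exact hynon i c ⟨by rw [← hc, hyP], by rw [← hc, hyP']⟩
  by_cases hl : LinRep κ w'
  · obtain ⟨C, hC, rfl⟩ := hl
    have hCx : x * C = C * x := comm_lin h2 hn0 hf hC hwx'.symm
    have hCS := comm_out h2 hn0 hf hr hC hww
    have hCE : ∀ l, ∀ u ∈ Eg x l, act C u ∈ Eg x l := by
      intro l u hu
      rw [mem_Eg, ← act_mul, hCx, act_mul, mem_Eg.1 hu, act_smul]
    -- expansion
    have hexp : ∀ i, act C (P i) = hermForm n F q (act C (P i)) (P i) • P i +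
        hermForm n F q (act C (P i)) (P' i) • P' i := by
      intro i
      rw [← sub_eq_zero]
      apply hon.eq_zero (by simp [hn])
      rintro (j | j)
      · show hermForm n F q (act C (P i) - (hermForm n F q (act C (P i)) (P i) • P i +
          hermForm n F q (act C (P i)) (P' i) • P' i)) (P j) = 0
        have a1 : hermForm n F q (P' i) (P j) = 0 := by
          have := hon (Sum.inr i) (Sum.inl j); rwa [if_neg (by simp)] at this
        rw [herm_sub_left, herm_add_left, herm_smul_left, herm_smul_left, a1, mul_zero, add_zero]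
        by_cases hij : i = j
        · subst hij
          rw [hPP, mul_one, sub_self]
        · have a2 : hermForm n F q (P i) (P j) = 0 := by
            have := hon (Sum.inl i) (Sum.inl j)
            rwa [if_neg (fun h => hij (Sum.inl.inj h))] at this
          rw [a2, mul_zero, sub_zero]
          exact orth_of_eigen hF (hgn j) (hgne i j hij) (hCE _ _ (heP i)) (heP j)
      · show hermForm n F q (act C (P i) - (hermForm n F q (act C (P i)) (P i) • P i +
          hermForm n F q (act C (P i)) (P' i) • P' i)) (P' j) = 0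
        have a1 : hermForm n F q (P i) (P' j) = 0 := by
          have := hon (Sum.inl i) (Sum.inr j); rwa [if_neg (by simp)] at this
        rw [herm_sub_left, herm_add_left, herm_smul_left, herm_smul_left, a1, mul_zero, zero_add]
        by_cases hij : i = j
        · subst hij
          rw [hPP', mul_one, sub_self]
        · have a2 : hermForm n F q (P' i) (P' j) = 0 := by
            have := hon (Sum.inr i) (Sum.inr j)
            rwa [if_neg (fun h => hij (Sum.inr.inj h))] at this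
          rw [a2, mul_zero, sub_zero]
          exact orth_of_eigen hF (hgn j) (hgne i j hij) (hCE _ _ (heP i)) (heP' j)
    -- a plane on which `C` is nontrivial
    obtain ⟨i, hi⟩ : ∃ i, hermForm n F q (act C (P i)) (P' i) ≠ 0 := by
      by_contra hcon
      push Not at hcon
      apply hw1'
      have h3 : ∀ i, act C (P i) = P i := by
        intro i
        have h4 := hexp i
        rw [hcon i, zero_smul, add_zero] at h4
        have h5 : (hermForm n F q (act C (P i)) (P i)) * (hermForm n F q (act C (P i)) (P i)) = 1 := by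
          have h6 := act_act hC (P i)
          rw [h4, act_smul, h4, smul_smul] at h6
          have h7 := congrArg (fun t => hermForm n F q t (P i)) h6
          simp only [herm_smul_left, hPP, mul_one] at h7
          exact h7
        rw [h4, eq_one_of_sq h2 h5, one_smul]
      have h4 : ∀ i, act C (P' i) = P' i := by
        intro i
        rw [← hSP, ← hCS, h3]
      have : C = 1 := by
        apply ext_act
        intro u
        rw [act_one, ← sub_eq_zero]
        apply hon.eq_zero (by simp [hn])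
        rintro (j | j)
        · show hermForm n F q (act C u - u) (P j) = 0
          have h5 := herm_act C u (P j)
          rw [h3] at h5
          rw [herm_sub_left, h5, sub_self]
        · show hermForm n F q (act C u - u) (P' j) = 0
          have h5 := herm_act C u (P' j)
          rw [h4] at h5
          rw [herm_sub_left, h5, sub_self]
      rw [this, map_one]
    set a := hermForm n F q (act C (P i)) (P i) with ha
    set b := hermForm n F q (act C (P i)) (P' i) with hb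
    have h3 : act C (P i) = a • P i + b • P' i := hexp i
    have h4 : act C (P' i) = a ^ q • P' i + b ^ q • P i := by
      rw [← hSP, ← hCS, h3, hr.semi.add, hr.semi.smul, hr.semi.smul, hSP, hSP']
      rfl
    have hPo : hermForm n F q (P i) (P' i) = 0 := by
      have := hon (Sum.inl i) (Sum.inr i); rwa [if_neg (by simp)] at this
    have hPo' : hermForm n F q (P' i) (P i) = 0 := herm_eq_zero_swap hF hPo
    have h5 := act_act hC (P i)
    rw [h3, act_add, act_smul, act_smul, h3, h4] at h5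
    have h6 := congrArg (fun t => hermForm n F q t (P i)) h5
    have h7 := congrArg (fun t => hermForm n F q t (P' i)) h5
    simp only [herm_add_left, herm_smul_left, hPP, hPP', hPo, hPo', mul_one, mul_zero, add_zero, zero_add] at h6 h7
    have h8 : a + a ^ q = 0 := by
      have h9 : b * (a + a ^ q) = 0 := by linear_combination h7
      rcases mul_eq_zero.1 h9 with h10 | h10
      · exact absurd h10 hi
      · exact h10
    have ha0 : a = 0 := by
      rw [hq2] at h8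
      have h9 : a * (1 + a) = 0 := by linear_combination h8
      rcases mul_eq_zero.1 h9 with h10 | h10
      · exact h10
      · exfalso
        have h11 : a = 1 := by linear_combination h10 - h2
        rw [h11] at h6
        have h12 : b * b ^ q = 0 := by linear_combination h6
        rcases mul_eq_zero.1 h12 with h13 | h13
        · exact hi h13
        · exact hi ((pow_q_eq_zero hF).1 h13)
    have hbn : b * b ^ q = 1 := by
      rw [ha0] at h6
      linear_combination h6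
    rw [ha0, zero_smul, zero_add] at h3
    rw [ha0, zero_pow_q hF, zero_smul, zero_add] at h4
    have h9 : C * y i = (y i)⁻¹ * C := by
      refine inv_of_perm hF (hpair i) hδn (hy i) (Equiv.swap 0 1) ?_ ?_
      · intro j; fin_cases j
        · exact ⟨b, hbn, h3⟩
        · exact ⟨b ^ q, norm_q hF hbn, h4⟩
      · intro j; fin_cases j
        · exact (hqq β).symm
        · rfl
    apply hy1 i
    apply eq_one_of_inv hwO' (hyC i) (odd_of_pow hq (hyo i))
    rw [← map_mul, h9, map_mul, map_inv]; group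
  · obtain ⟨D, hD, hDw⟩ := hf.coset w' hwV' w hwV hl hwl
    have hw' : w' = κ D * w⁻¹ := by rw [hDw]; group
    -- `D` inverts `x` modulo scalars
    have h3 : κ (D * x * D⁻¹) = κ x⁻¹ := by
      rw [map_mul, map_mul, map_inv, map_inv, hDw]
      calc w' * w * κ x * (w' * w)⁻¹ = w' * (w * κ x * w⁻¹) * w'⁻¹ := by group
        _ = w' * (κ x)⁻¹ * w'⁻¹ := by rw [hwx]
        _ = (κ x)⁻¹ := by rw [(hwx'.inv_right).eq]; group
    obtain ⟨c, hcn, hc⟩ := hf.ker _ _ h3.symm
    have hc0 : c ≠ 0 := by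
      rintro rfl
      rw [zero_mul] at hcn
      exact zero_ne_one hcn
    have hDinv : D⁻¹ = D := by rw [inv_eq_iff_mul_eq_one, hD]
    -- images of eigenvectors
    have hDE : ∀ l : F, l * l ^ q = 1 → ∀ u ∈ Eg x l, act D u ∈ Eg x (c * l ^ q) := by
      intro l hl u hu
      have hxu : act x⁻¹ u = l ^ q • u := by
        have h5 : act x (l ^ q • u) = u := by
          rw [act_smul, mem_Eg.1 hu, smul_smul, mul_comm, hl, one_smul]
        rw [← h5, act_inv_act, h5]
      -- `D x⁻¹ D = c⁻¹ x`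
      have h6 : ∀ v, act (D * x * D⁻¹) v = c • act x⁻¹ v := hc
      have h7 : act (D * x * D⁻¹) (act x (act D u)) = c • act D u := by
        rw [h6, act_inv_act]
      have h8 : act x (act D u) = c • act (D * x⁻¹ * D⁻¹) (act D u) := by
        have h9 : ∀ v, act (D * x⁻¹ * D⁻¹) (act (D * x * D⁻¹) v) = v := by
          intro v
          rw [← act_mul]
          have : D * x⁻¹ * D⁻¹ * (D * x * D⁻¹) = 1 := by group
          rw [this, act_one]
        rw [← act_smul, ← h7, h9]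
      rw [mem_Eg, h8, ← act_mul]
      have : D * x⁻¹ * D⁻¹ * D = D * x⁻¹ := by group
      rw [this, act_mul, hxu, act_smul, smul_smul]
    -- choose the plane
    obtain ⟨i, hi⟩ : ∃ i, c * g i ^ q ≠ g i := by
      by_contra hcon
      push Not at hcon
      have h4 := hcon 0
      have h5 := hcon 1
      have h6 : c * (1 : F) ^ q = 1 := h4
      have h7 : c * β ^ q = β := h5
      rw [one_pow, mul_one] at h6
      rw [h6, one_mul] at h7
      exact hββ h7.symm
    have hgiq : g i ^ q * (g i ^ q) ^ q = 1 := norm_q hF (hgn i)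
    have hmn : (c * g i ^ q) * (c * g i ^ q) ^ q = 1 := by
      rw [mul_pow]
      linear_combination (g i ^ q * (g i ^ q) ^ q) * hcn + hgiq
    -- `D y D⁻¹` is trivial on the plane
    have htriv : ∀ u ∈ Eg x (g i), act (D * y i * D⁻¹) u = u := by
      intro u hu
      rw [act_mul, act_mul, hDinv]
      have h4 := hDE (g i) (hgn i) u hu
      have h5 : act (y i) (act D u) = act D u := by
        apply (hy i).orth
        intro j
        fin_cases j
        · exact orth_of_eigen hF (hgn i) hi h4 (heP i)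
        · exact orth_of_eigen hF (hgn i) hi h4 (heP' i)
      rw [h5, act_act hD]
    have hcomm : (D * y i * D⁻¹) * y i = y i * (D * y i * D⁻¹) := by
      apply comm_of_eigen (hy i)
      intro j
      fin_cases j
      · exact ⟨1, by rw [one_pow, one_mul], by rw [one_smul]; exact htriv _ (heP i)⟩
      · exact ⟨1, by rw [one_pow, one_mul], by rw [one_smul]; exact htriv _ (heP' i)⟩
    have hwy : w' * κ (y i) * w'⁻¹ = κ (D * y i * D⁻¹) := by
      have h4 : w⁻¹ * κ (y i) * w = κ (y i) := by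
        calc w⁻¹ * κ (y i) * w = w⁻¹ * (w * κ (y i) * w⁻¹) * w := by rw [hyw]
          _ = κ (y i) := by group
      rw [hw', map_mul, map_mul, map_inv]
      calc κ D * w⁻¹ * κ (y i) * (κ D * w⁻¹)⁻¹ = κ D * (w⁻¹ * κ (y i) * w) * (κ D)⁻¹ := by group
        _ = _ := by rw [h4]
    have hodd : Odd (orderOf (w' * κ (y i) * w'⁻¹ * (κ (y i))⁻¹)) := by
      rw [hwy, ← map_inv, ← map_mul]
      apply odd_of_pow hq
      have h4 : Commute (D * y i * D⁻¹) (y i)⁻¹ := Commute.inv_right hcomm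
      rw [h4.mul_pow, conj_pow, hyo, inv_pow, hyo]
      group
    have h4 := commute_of_odd_comm hwO' (hyC i) hodd
    have h5 : κ (D * y i * D⁻¹) = κ (y i) := by
      rw [← hwy, h4.eq]; group
    obtain ⟨s, hs, hs'⟩ := hf.ker _ _ h5
    apply hynon i s
    constructor
    · rw [← hyP i, hs', htriv _ (heP i)]
    · rw [← hyP' i, hs', htriv _ (heP' i)]

/-- **The row.** -/
theorem false_of_psu (hq : Even q) (hn : 3 ≤ n) (h32 : ¬ (n = 3 ∧ q = 2)) (h42 : ¬ (n = 4 ∧ q = 2))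
    (h : Cx V K) (hf : Fr hF V κ) : False := by
  have h2 : (2 : F) = 0 := H277.UnfPsuEven.two_zero hF hq
  have hn0 : 0 < n := by omega
  -- a linear element of `V`
  obtain ⟨v, hv, hv1, hvl⟩ : ∃ v ∈ V, v ≠ 1 ∧ LinRep κ v := by
    by_contra hcon
    push Not at hcon
    obtain ⟨a, b, hab, ha, hb⟩ : ∃ a b : V, a ≠ b ∧ a ≠ 1 ∧ b ≠ 1 := by
      have h3 : 1 < Nat.card V := by have := h.card; omega
      have : Nontrivial V := Finite.one_lt_card_iff_nontrivial.1 h3
      obtain ⟨a, ha⟩ := exists_ne (1 : V)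
      by_contra hc
      push Not at hc
      have h4 : ∀ b : V, b = 1 ∨ b = a := by
        intro b
        by_contra hb
        push Not at hb
        exact hb.1 (hc a b hb.2.symm ha)
      have h5 : Nat.card V ≤ 2 := by
        have h6 : Function.Surjective (fun i : Fin 2 => if i = 0 then (1 : V) else a) := by
          intro b
          rcases h4 b with rfl | rfl
          · exact ⟨0, rfl⟩
          · exact ⟨1, rfl⟩
        have := Nat.card_le_card_of_surjective _ h6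
        simpa only [_root_.ge_iff_le, _root_.Nat.card_eq_fintype_card, _root_.Fintype.card_fin] using this
      have := h.card
      omega
    have ha' : (a : G) ≠ 1 := fun h => ha (Subtype.ext h)
    have hb' : (b : G) ≠ 1 := fun h => hb (Subtype.ext h)
    have h3 := hf.coset a a.2 b b.2 (hcon a a.2 ha') (hcon b b.2 hb')
    refine hcon (a * b) (V.mul_mem a.2 b.2) ?_ h3
    intro h4
    apply hab
    have h5 : (a : G) = (b : G)⁻¹ := by rw [eq_inv_iff_mul_eq_one]; exact h4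
    rw [h.inv_eq b.2] at h5
    exact Subtype.ext h5
  obtain ⟨B, hB, rfl⟩ := hvl
  have hB1 : B ≠ 1 := by
    rintro rfl
    exact hv1 (map_one κ)
  obtain ⟨α, hα, hα1, hα3⟩ := exists_alpha hF hq
  obtain ⟨r, z, hz, hc⟩ := exists_pairs hF h2 hB
  have hr0 : 0 < r := by
    rcases Nat.eq_zero_or_pos r with rfl | h3
    · exfalso
      apply hB1
      apply ext_act
      intro u
      rw [act_one]
      apply hc
      rintro (i | i) <;> exact i.elim0
    · exact h3
  have hαα : α ≠ α ^ q := ne_q h2 hα hα1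
  by_cases hcase : q = 2 ∨ r = 1
  · -- one eigenvalue
    obtain ⟨x, hxo, hxt, hx⟩ := exists_XS hF hB hz hc (fun _ => α) (fun _ => hα) (fun _ => hα1) (fun _ _ => hαα)
    have : Nonempty (Fin r) := ⟨⟨0, hr0⟩⟩
    rw [Set.range_const] at hx
    obtain ⟨w, hw, hw1, hwl, S, hrep, hanti, hnk⟩ := t1_out hq hn0 h hf hx hxo hv hv1 hα hα1
    have h3 : α ^ 3 = 1 → q = 2 ∧ n ≠ 3 ∧ n ≠ 4 := by
      intro h3
      have h4 : q = 2 := by
        by_contra h5
        exact hα3 h5 h3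
      exact ⟨h4, fun h5 => h32 ⟨h5, h4⟩, fun h5 => h42 ⟨h5, h4⟩⟩
    have h4 : q = 2 ∨ ∀ p ∈ Eg x α, ∀ p' ∈ Eg x α, hermForm n F q p p = 1 → hermForm n F q p' p' = 1 →
        hermForm n F q p p' ≠ 0 := by
      rcases hcase with h3 | h3
      · exact Or.inl h3
      · right
        subst h3
        have hz0 : hermForm n F q (z 0) (z 0) = 1 := by
          have := hz.on 0 0; rwa [if_pos rfl] at this
        have hzE : z 0 ∈ Eg x α := hxt.apply (hz.dbl_on hF) (Sum.inl 0)
        have hline : ∀ p ∈ Eg x α, p = hermForm n F q p (z 0) • z 0 := by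
          intro p hp
          have hd : p - hermForm n F q p (z 0) • z 0 ∈ Eg x α := (Eg x α).sub_mem hp ((Eg x α).smul_mem _ hzE)
          have h5 : act x (p - hermForm n F q p (z 0) • z 0) = p - hermForm n F q p (z 0) • z 0 := by
            apply hxt.orth
            rintro (i | i)
            · obtain rfl : i = 0 := Subsingleton.elim _ _
              show hermForm n F q (p - hermForm n F q p (z 0) • z 0) (z 0) = 0
              rw [herm_sub_left, herm_smul_left, hz0, mul_one, sub_self]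
            · obtain rfl : i = 0 := Subsingleton.elim _ _
              exact hx.orthB hF rfl rfl hd hzE
          rw [mem_Eg, h5] at hd
          have h6 : (α - 1) • (p - hermForm n F q p (z 0) • z 0) = 0 := by
            rw [sub_smul, one_smul, ← hd, sub_self]
          rcases smul_eq_zero.1 h6 with h7 | h7
          · exact absurd (sub_eq_zero.1 h7) hα1
          · exact sub_eq_zero.1 h7
        intro p hp p' hp' hpp hpp' h0
        rw [hline p hp, hline p' hp'] at h0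
        rw [hline p hp] at hpp
        rw [hline p' hp'] at hpp'
        rw [herm_smul_left, herm_smul_right, hz0, mul_one] at h0 hpp hpp'
        rcases mul_eq_zero.1 h0 with h7 | h7
        · rw [h7, zero_mul] at hpp
          exact zero_ne_one hpp
        · rw [h7, mul_zero] at hpp'
          exact zero_ne_one hpp'
    rcases kill_one h2 hx hanti hα hα1 hn h3 h4 with h5 | ⟨h5, h6, h7⟩
    · exact hnk h5
    · exact special_false h5 h6 h hf hw hw1 hwl hrep h7
  · push Not at hcase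
    obtain ⟨hq2, hr1⟩ := hcase
    have hα3' := hα3 hq2
    have hα0 : α ≠ 0 := by
      rintro rfl
      rw [zero_mul] at hα
      exact zero_ne_one hα
    have h21 : α ^ 2 ≠ 1 := by
      intro h3
      exact hα1 (eq_one_of_sq h2 (by rw [← pow_two]; exact h3))
    have h2n : α ^ 2 * (α ^ 2) ^ q = 1 := by
      calc α ^ 2 * (α ^ 2) ^ q = (α * α ^ q) ^ 2 := by ring
        _ = 1 := by rw [hα, one_pow]
    have h2q : (α ^ 2) ^ q = (α ^ q) ^ 2 := by rw [← pow_mul, ← pow_mul, mul_comm]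
    have hαα2 := ne_q2 hα hα3'
    obtain ⟨x, hxo, hxt, hx⟩ := exists_XS hF hB hz hc (fun i => if i.val = 0 then α else α ^ 2)
      (fun i => by by_cases hi : i.val = 0 <;> simp only [hi, if_true, if_false] <;> assumption)
      (fun i => by by_cases hi : i.val = 0 <;> simp only [hi, if_true, if_false] <;> assumption)
      (fun i j => by
        by_cases hi : i.val = 0 <;> by_cases hj : j.val = 0 <;> simp only [hi, hj, if_true, if_false]
        · exact hαα
        · rw [h2q]; exact hαα2.symm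
        · intro h3
          apply hαα2
          rw [← h2q, h3, pow_q_pow_q hF]
        · exact ne_q h2 h2n h21)
    obtain ⟨w, hw, hw1, hwl, S, hrep, hanti, hnk⟩ := t1_out hq hn0 h hf hx hxo hv hv1 hα hα1
    refine hnk (kill_two h2 hx hanti hα hα3' (l := α) (m := α ^ 2) ⟨⟨0, hr0⟩, by simp⟩ ⟨⟨1, by omega⟩, by simp⟩ ?_)
    intro h3
    apply hα1
    have h4 : α * (α - 1) = 0 := by linear_combination -h3
    rcases mul_eq_zero.1 h4 with h5 | h5
    · exact absurd h5 hα0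
    · exact sub_eq_zero.1 h5

end Main

/-- **S3010, the row `PSU_n(q)`, `q` even**, `(n, q) ≠ (3, 2), (4, 2)`. -/
theorem dead_psu : DeadS.{u} (fun K _ => ∃ (F : Type) (_ : Field F) (_ : Fintype F) (n q : ℕ),
    Fintype.card F = q ^ 2 ∧ Even q ∧ 3 ≤ n ∧ ¬ (n = 3 ∧ q = 2) ∧ ¬ (n = 4 ∧ q = 2) ∧ Nonempty (K ≃* PSU n F q)) := by
  rintro G _ _ V K h ⟨F, _, _, n, q, hF, hq, hn, h32, h42, ⟨e⟩⟩
  obtain ⟨κ, hf⟩ := exists_frame hF hq hn h32 h e
  exact false_of_psu hq hn h32 h42 h hf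

end Cfsg.Agent.H259.SK
end

-- part: H259/SK/Row
section
/-!
# S3010: the row `psu` in the form of helper731's `Rows` (helper259)
-/

set_option autoImplicit false

universe u

namespace Cfsg.Agent.H259.SK

open Cfsg Cfsg.Agent.H282.SK Cfsg.Agent.H731.SK

/-- `Rows.psu` -/
theorem row_psu : DeadS.{u} fun K _ => PsuEven K := by
  rintro G _ _ V K h ⟨F, _, _, _, n, q, hF, hq, hn, h32, h42, he⟩
  exact dead_psu V K h ⟨F, _, _, n, q, hF, hq, hn, h32, h42, he⟩

end Cfsg.Agent.H259.SK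
end

-- part: H282/SK/Dom
section
/-!
# Root group data with the Chevalley commutator formula: centralisers of root elements of dominant roots (helper282)

`Dm S a` : `a` is a dominant root, `S ∋ a` a set of positive roots such that `⟨X S⟩` and `⟨X (S \ {a})⟩` are normal in
`U`, and `a` is the only root of its orbit in `S`. `mem_PJ_of_conj` : `g z g⁻¹ ∈ X a`, `1 ≠ z ∈ X a` imply
`g ∈ P_J`, `J` the simple roots orthogonal to `a`.
-/

set_option autoImplicit false
set_option linter.unusedSectionVars false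

namespace Cfsg.Agent.H282.SK.Dom

open CoxeterSystem Cfsg.Agent.ChevalleyStructure.CoxeterGeom Cfsg.Agent.Tits.Core
  Cfsg.Agent.Tits.RootComb Cfsg.Agent.Tits.Exchange Cfsg.Agent.Nodes.Reps Cfsg.Agent.Nodes.BNOf
  Cfsg.Agent.Nodes.StabComb Cfsg.Agent.Nodes.Bruhat Cfsg.Agent.Nodes.OppDec Cfsg.Agent.Nodes.LeviDec
  Cfsg.Agent.Nodes.NormX Cfsg.Agent.Nodes.Coroot Cfsg.Agent.KFacts.RgdFilt Cfsg.Agent.KFacts.RgdBorelTits
  Cfsg.Agent.OddHalf.D4.StarLoc
open Cfsg.Agent.Tits.Roots hiding ht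
open scoped commutatorElement

variable {I W Y : Type*} [Fintype I] [DecidableEq I] [Group W] [Group Y] {M : CoxeterMatrix I}
  {cs : CoxeterSystem M W} {A : I → I → ℤ} {h : IsCartan M A} {p : ℕ} {T : Subgroup Y} {n : I → Y}
  {X : (I → ℤ) → Subgroup Y}

/-- a dominant root with its upper set -/
structure Dm (cs : CoxeterSystem M W) (h : IsCartan M A) (S : Set (I → ℤ)) (a : I → ℤ) : Prop where
  pos : S ⊆ RGD.Pos cs h
  mem : a ∈ S
  up : ∀ x ∈ RGD.Pos cs h, ∀ y ∈ S, x ≠ y → ∀ z, IB cs h x y z → z ∈ S ∧ z ≠ a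
  orb : ∀ w : W, rep cs h w a ∈ S → rep cs h w a = a
  dom : Dom A a

section

variable (R : RGD cs h p T n X) (hI : IntComm cs h X)

include R hI

/-- `B` normalises `⟨X S⟩` if `S` is closed upwards -/
theorem B_le_normalizer {S : Set (I → ℤ)} (hS : S ⊆ RGD.Pos cs h)
    (hup : ∀ x ∈ RGD.Pos cs h, ∀ y ∈ S, x ≠ y → ∀ z, IB cs h x y z → z ∈ S) :
    RGD.B cs h T X ≤ Subgroup.normalizer (RGD.Sup X S : Set Y) := by
  refine sup_le (R.T_le_normalizer fun x hx => (hS hx).1) (RGD.Sup_le fun x hx => ?_)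
  refine Cfsg.Agent.H297.SK.Opp.le_normalizer_of_conj fun a ha z hz => ?_
  -- `a ∈ X x` conjugates the generators into `Sup X S`
  have key : RGD.Sup X S ≤ (RGD.Sup X S).comap (MulAut.conj a).toMonoidHom := by
    refine RGD.Sup_le fun y hy => ?_
    intro b hb
    show a * b * a⁻¹ ∈ RGD.Sup X S
    by_cases hxy : x = y
    · subst hxy
      exact RGD.le_Sup hy (mul_mem (mul_mem ha hb) (inv_mem ha))
    · have h1 := hI x y hx.1 (hS hy).1 hxy (ne_neg hx (hS hy)) a ha b hb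
      have h2 : ⁅a, b⁆ ∈ RGD.Sup X S :=
        (FS_le fun z hz => RGD.le_Sup (hup x hx y hy hxy z hz) : FS X {z | IB cs h x y z} ≤ RGD.Sup X S) h1
      have h3 : a * b * a⁻¹ = ⁅a, b⁆ * b := by rw [commutatorElement_def]; group
      rw [h3]
      exact mul_mem h2 (RGD.le_Sup hy hb)
  exact key hz

theorem mem_PJ_of_conj [Finite W] (hG : GG cs h T X = ⊤) {S : Set (I → ℤ)} {a : I → ℤ} (D : Dm cs h S a) {g z : Y}
    (hz : z ∈ X a) (hz1 : z ≠ 1) (hgz : g * z * g⁻¹ ∈ X a) : g ∈ PJ cs h T X (orth cs h a) := by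
  have hclS : Cl cs h S := ⟨D.pos, fun x hx y hy hxy z hz => (D.up x (D.pos hx) y hy hxy z hz).1⟩
  have hBS := B_le_normalizer R hI D.pos fun x hx y hy hxy z hz => (D.up x hx y hy hxy z hz).1
  have hBS' := B_le_normalizer R hI (S := S \ {a}) (Set.sdiff_subset.trans D.pos)
    fun x hx y hy hxy z hz => (D.up x hx y hy.1 hxy z hz)
  obtain ⟨w, b₁, hb₁, k, hk, b₂, hb₂, e⟩ := (mem_GG R).1 (hG ▸ Subgroup.mem_top g)
  have hcell : Cell R.nsys cs h X w g := ⟨b₁, hb₁, k, hk, b₂, hb₂, e⟩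
  rw [cell_mem_PJ_iff R hcell]
  apply mem_WJ_of_rep D.dom
  apply D.orb
  set y : Y := b₂ * z * b₂⁻¹ with hy
  have hyS : y ∈ RGD.Sup X S := (Subgroup.mem_normalizer_iff.1 (hBS hb₂) z).1 (RGD.le_Sup D.mem hz)
  have hkS : k * y * k⁻¹ ∈ RGD.Sup X S := by
    have h1 := (Subgroup.mem_normalizer_iff.1 (hBS (inv_mem hb₁)) _).1 (RGD.le_Sup D.mem hgz)
    have h2 : b₁⁻¹ * (g * z * g⁻¹) * b₁⁻¹⁻¹ = k * y * k⁻¹ := by rw [e, hy]; group
    rwa [h2] at h1
  -- `y ∈ Sup X (S ∩ PW w)`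
  have h1 : y ∈ RGD.Sup X (PW cs h w) := by
    have h2 := mem_PW_of_conj R (w := w⁻¹) (k := k⁻¹) hk.inv (RGD.Sup_mono D.pos hyS) (by
      rw [inv_inv]
      exact RGD.U_le_B (RGD.Sup_mono D.pos hkS))
    rwa [inv_inv] at h2
  have hclP : Cl cs h (PW cs h w) := by
    refine ⟨fun x hx => ⟨hx.1, hx.2.1⟩, fun x hx y hy _ z hz => ?_⟩
    exact ⟨hz.1, btwn_nonneg hz.btwn hx.2.1 hy.2.1, btwn_nonneg (hz.btwn.act w) hx.2.2 hy.2.2⟩
  have h2 : y ∈ RGD.Sup X (S ∩ PW cs h w) := hclS.inf R hI hclP ⟨hyS, h1⟩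
  -- `k y k⁻¹ ∈ Sup X (w (S ∩ PW w))`
  have h3 : k * y * k⁻¹ ∈ RGD.Sup X ((fun x => rep cs h w x) '' (S ∩ PW cs h w)) :=
    conj_mem_Sup R hk (S := S ∩ PW cs h w) (fun x hx => (D.pos hx.1).1) (fun x hx => Set.mem_image_of_mem _ hx) h2
  have hcl3 : Cl cs h ((fun x => rep cs h w x) '' (S ∩ PW cs h w)) := by
    constructor
    · rintro _ ⟨x, hx, rfl⟩
      exact ⟨hx.2.1.act w, hx.2.2.2⟩
    · rintro _ ⟨x, hx, rfl⟩ _ ⟨y, hy, rfl⟩ hxy z ⟨hzr, i, j, hi, hj, rfl⟩
      have hxy' : x ≠ y := fun e0 => hxy (by rw [e0])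
      have e1 : rep cs h w (i • x + j • y) = i • rep cs h w x + j • rep cs h w y := by
        rw [map_add, map_smul, map_smul]
      have h4 : IB cs h x y (i • x + j • y) := by
        refine ⟨?_, i, j, hi, hj, rfl⟩
        have h5 := hzr.act w⁻¹
        rwa [← e1, rep_inv_apply] at h5
      exact ⟨i • x + j • y, ⟨hclS.2 x hx.1 y hy.1 hxy' _ h4, hclP.2 x hx.2 y hy.2 hxy' _ h4⟩, e1⟩
  have h4 : k * y * k⁻¹ ∈ RGD.Sup X (S ∩ (fun x => rep cs h w x) '' (S ∩ PW cs h w)) :=
    hclS.inf R hI hcl3 ⟨hkS, h3⟩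
  by_contra hcon
  -- then `y ∈ Sup X (S \ {a})`
  have h5 : y ∈ RGD.Sup X (S \ {a}) := by
    have h6 := conj_mem_Sup' R hk (S' := S \ {a})
      (S := S ∩ (fun x => rep cs h w x) '' (S ∩ PW cs h w)) (fun x hx => (D.pos hx.1).1) (by
        rintro _ ⟨hx1, x, hx, rfl⟩
        show rep cs h w⁻¹ (rep cs h w x) ∈ S \ {a}
        rw [rep_inv_apply]
        refine ⟨hx.1, fun hxa => hcon ?_⟩
        have hxa' : x = a := hxa
        rw [← hxa']
        exact hx1) h4
    have e2 : k⁻¹ * (k * y * k⁻¹) * k = y := by group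
    rwa [e2] at h6
  have h6 : z ∈ RGD.Sup X (S \ {a}) := by
    have h7 := (Subgroup.mem_normalizer_iff.1 (hBS' (inv_mem hb₂)) y).1 h5
    have e2 : b₂⁻¹ * y * b₂⁻¹⁻¹ = z := by rw [hy]; group
    rwa [e2] at h7
  have hcl' : Cl cs h (S \ {a}) := ⟨Set.sdiff_subset.trans D.pos,
    fun x hx y hy hxy z hz => D.up x (D.pos hx.1) y hy.1 hxy z hz⟩
  have hcla : Cl cs h ({a} : Set (I → ℤ)) := by
    refine ⟨Set.singleton_subset_iff.2 (D.pos D.mem), ?_⟩
    rintro x hx y hy hxy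
    exact absurd ((Set.mem_singleton_iff.1 hx).trans (Set.mem_singleton_iff.1 hy).symm) hxy
  have h7 := hcla.inf R hI hcl' ⟨RGD.le_Sup (S := {a}) rfl hz, h6⟩
  have h8 : ({a} : Set (I → ℤ)) ∩ (S \ {a}) = ∅ := by
    ext z
    simp only [Set.mem_inter_iff, Set.mem_singleton_iff, Set.mem_sdiff, Set.mem_empty_iff_false, iff_false]
    rintro ⟨rfl, -, h⟩
    exact h rfl
  rw [h8, Sup_empty, Subgroup.mem_bot] at h7
  exact hz1 h7

end

end Cfsg.Agent.H282.SK.Dom
end

-- part: H282/SK/DomGood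
section
/-!
# Good root elements of simple roots, by the opposite trick (helper282)
-/

set_option autoImplicit false
set_option linter.unusedSectionVars false

namespace Cfsg.Agent.H282.SK.Dom

open CoxeterSystem Cfsg.Agent.ChevalleyStructure.CoxeterGeom Cfsg.Agent.Tits.Core
  Cfsg.Agent.Tits.RootComb Cfsg.Agent.Tits.Exchange Cfsg.Agent.Nodes.Reps Cfsg.Agent.Nodes.BNOf
  Cfsg.Agent.Nodes.StabComb Cfsg.Agent.Nodes.Bruhat Cfsg.Agent.Nodes.OppDec Cfsg.Agent.Nodes.LeviDec
  Cfsg.Agent.Nodes.NormX Cfsg.Agent.Nodes.Coroot Cfsg.Agent.KFacts.RgdFilt Cfsg.Agent.KFacts.RgdBorelTits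
  Cfsg.Agent.OddHalf.D4.StarLoc Cfsg.Agent.H282.SK Cfsg.Agent.H297.SK.Opp
open Cfsg.Agent.Tits.Roots hiding ht
open scoped commutatorElement

variable {I W Y : Type*} [Fintype I] [DecidableEq I] [Group W] [Group Y] {M : CoxeterMatrix I}
  {cs : CoxeterSystem M W} {A : I → I → ℤ} {h : IsCartan M A} {p : ℕ} {T : Subgroup Y} {n : I → Y}
  {X : (I → ℤ) → Subgroup Y}

/-- **Good involutions by the opposite trick** (only automorphisms of order two). -/
theorem good_opp' [Finite W] [Finite Y] (R : RGD cs h 2 T n X) (hG : GG cs h T X = ⊤) {J : Set I} {v n0 : Y} {w : W}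
    (hn0 : Rp cs R.nsys w n0) (hw : ∀ x, IsRoot cs h x → 0 ≤ x → rep cs h w x ≤ 0)
    (hwJ : ∀ x ∈ RootsJ cs h J, rep cs h w x ∈ RootsJ cs h J) (hv2 : v * v = 1) {k : ℕ} (hk : Odd k)
    (hvk : (v * (n0⁻¹ * v * n0)) ^ k = 1) (hCv : ∀ g, g * v = v * g → g ∈ PJ cs h T X J)
    (hJ : ∀ x ∈ RootsJ cs h J, ∀ g ∈ X x, g * v = v * g)
    (hin : ∀ α : MulAut Y, α * α = 1 → (∀ a ∈ RootsJ cs h J, ∀ z ∈ X a, α z = z) → ∃ g, α = MulAut.conj g) :
    Good v := by
  have : Fact (Nat.Prime 2) := ⟨Nat.prime_two⟩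
  obtain ⟨v', hv'⟩ : ∃ v', v' = n0⁻¹ * v * n0 := ⟨_, rfl⟩
  have hv1 : v⁻¹ = v := inv_eq_of_mul_eq_one_right hv2
  have hv2' : v' * v' = 1 := by
    rw [hv']
    calc n0⁻¹ * v * n0 * (n0⁻¹ * v * n0) = n0⁻¹ * (v * v) * n0 := by group
      _ = 1 := by rw [hv2]; group
  have hv1' : v'⁻¹ = v' := inv_eq_of_mul_eq_one_right hv2'
  have hJ' : ∀ x ∈ RootsJ cs h J, ∀ g ∈ X x, g * v' = v' * g := by
    intro x hx g hg
    have h1 := hJ _ (hwJ x hx) _ (R.conj_mem hn0 hx.1 hg)
    rw [hv']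
    calc g * (n0⁻¹ * v * n0) = n0⁻¹ * ((n0 * g * n0⁻¹) * v) * n0 := by group
      _ = n0⁻¹ * (v * (n0 * g * n0⁻¹)) * n0 := by rw [h1]
      _ = _ := by group
  have hC : ∀ x ∈ RootsJ cs h J, ∀ g ∈ X x,
      g ∈ (Subgroup.centralizer {v} ⊓ Subgroup.centralizer {v * v'} : Subgroup Y) := by
    intro x hx g hg
    have h1 := hJ x hx g hg
    have h2 := hJ' x hx g hg
    refine mem_cc.2 ⟨h1, ?_⟩
    rw [← mul_assoc, h1, mul_assoc, h2, mul_assoc]
  refine ⟨v * v', ?_, ?_, ?_, ?_⟩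
  · rw [← hv'] at hvk
    exact hk.of_dvd_nat (orderOf_dvd_of_pow_eq_one hvk)
  · rw [mul_inv_rev, hv1, hv1', ← mul_assoc, hv2, one_mul]
  · intro N hNp hNc hNn
    have hNv : ∀ z ∈ N, z * v = v * z ∧ z * v' = v' * z := by
      intro z hz
      obtain ⟨h1, h2⟩ := mem_cc.1 (hNc hz)
      refine ⟨h1, ?_⟩
      have h3 : v * (z * v') = v * (v' * z) := by
        calc v * (z * v') = (z * v) * v' := by rw [h1]; group
          _ = z * (v * v') := by group
          _ = (v * v') * z := h2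
          _ = _ := by group
      exact mul_left_cancel h3
    refine eq_bot_of_opp R hG hNp hn0 hw hwJ (fun z hz => hCv z (hNv z hz).1) (fun z hz => hCv _ ?_)
      (fun x hx g hg z hz => hNn g (hC x hx g hg) z hz)
    have h1 := (hNv z hz).2
    rw [hv'] at h1
    calc n0 * z * n0⁻¹ * v = n0 * (z * (n0⁻¹ * v * n0)) * n0⁻¹ := by group
      _ = n0 * (n0⁻¹ * v * n0 * z) * n0⁻¹ := by rw [h1]
      _ = _ := by group
  · intro α hα _ _ hc
    exact hin α hα fun a ha z hz => hc z (hC a ha z hz)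

/-- The data of a node: `a = w (sr i)` is dominant, orthogonal to the simple root `sr j` only, and `-1 = s_j s_a`. -/
structure Node (R : RGD cs h p T n X) (S : Set (I → ℤ)) (a : I → ℤ) (i j : I) (w : W) : Prop where
  dm : Dm cs h S a
  orth : orth cs h a = {j}
  comm : ∀ x ∈ RootsJ cs h {j}, ∀ g ∈ X x, ∀ z ∈ X a, g * z = z * g
  hw : rep cs h w (sr i) = a
  neg : ∀ x, rep cs h (cs.simple j * (w * cs.simple i * w⁻¹)) x = -x
  nj : n j ∈ X (sr j) ⊔ X (-sr j)

section

variable {R : RGD cs h p T n X} {S : Set (I → ℤ)} {a : I → ℤ} {i j : I} {w : W} (N : Node R S a i j w)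

include N

theorem Node.neg_one [Finite W] {w' : W} (h' : ∀ x, rep cs h w' x = -x) {m : Y} (hm : Rp cs R.nsys w' m) {J : Set I} :
    cj m (PJ cs h T X J) ≤ PNJ cs h T X J := by
  have h1 : cj m T = T := mem_normalizer_iff_cj.1 hm.mem_normalizer
  have h2 : cj m (LJ cs h T X J) ≤ LJ cs h T X J := by
    unfold LJ
    rw [cj_sup, h1]
    exact sup_le le_sup_left ((cj_Sup_le R hm (fun x hx => hx.1) fun x hx => by rw [h']; exact RootsJ.neg hx).trans le_sup_right)
  have h3 : cj m (VJ cs h X J) ≤ VNJ cs h X J :=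
    cj_Sup_le R hm (S := NotJ cs h J) (S' := NotNJ cs h J) (fun x hx => hx.1) fun x hx => by
      rw [h']
      show -(-x) ∈ NotJ cs h J
      rwa [neg_neg]
  unfold PJ PNJ
  rw [cj_sup]
  exact sup_le (h2.trans le_sup_left) (h3.trans le_sup_right)

/-- an element conjugating the root groups `X (± sr i)` like `F⁻¹` acts as a torus element -/
theorem Node.scalar [Finite W] (hI : IntComm cs h X) (hG : GG cs h T X = ⊤) {k m : Y} (hk : Rp cs R.nsys w k) {w' : W}
    (hm : Rp cs R.nsys w' m) (h' : ∀ x, rep cs h w' x = -x) {F : MulAut Y} (hFX : ∀ z ∈ X (sr i), F z ∈ X (sr i))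
    (hFm : F m = m) {g : Y} (h1 : ∀ z ∈ X (sr i), g * F z * g⁻¹ = z) (h2 : ∀ z ∈ X (-sr i), g * F z * g⁻¹ = z) :
    ∃ t ∈ T, ∀ z ∈ X (sr i), t * F z * t⁻¹ = z := by
  have hne := X_ne_bot R (isRoot_sr cs h i)
  rw [ne_eq, Subgroup.eq_bot_iff_forall] at hne
  push Not at hne
  obtain ⟨z, hz, hz1⟩ := hne
  have hXa : ∀ y ∈ X (sr i), k * y * k⁻¹ ∈ X a := by
    intro y hy
    have := R.conj_mem hk (isRoot_sr cs h i) hy
    rwa [N.hw] at this
  have key : ∀ g' : Y, g' * F z * g'⁻¹ = z → k * g' * k⁻¹ ∈ PJ cs h T X {j} := by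
    intro g' hg'
    have h3 : F z ≠ 1 := by
      rw [Ne, ← map_one F, F.injective.eq_iff]
      exact hz1
    have h4 : k * g' * k⁻¹ * (k * F z * k⁻¹) * (k * g' * k⁻¹)⁻¹ = k * z * k⁻¹ := by
      calc k * g' * k⁻¹ * (k * F z * k⁻¹) * (k * g' * k⁻¹)⁻¹ = k * (g' * F z * g'⁻¹) * k⁻¹ := by group
        _ = _ := by rw [hg']
    rw [← N.orth]
    refine mem_PJ_of_conj R hI hG N.dm (hXa _ (hFX z hz)) ?_ (by rw [h4]; exact hXa z hz)
    intro h5
    apply h3
    have : F z = k⁻¹ * (k * F z * k⁻¹) * k := by group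
    rw [this, h5]; group
  have e1 := key g (h1 z hz)
  have e2 := key (m⁻¹ * g * m) (by
    have h3 : m * z * m⁻¹ ∈ X (-sr i) := by
      have := R.conj_mem hm (isRoot_sr cs h i) hz
      rwa [h'] at this
    have h4 := h2 _ h3
    rw [map_mul, map_mul, map_inv, hFm] at h4
    calc m⁻¹ * g * m * F z * (m⁻¹ * g * m)⁻¹ = m⁻¹ * (g * (m * F z * m⁻¹) * g⁻¹) * m := by group
      _ = m⁻¹ * (m * z * m⁻¹) * m := by rw [h4]
      _ = z := by group)
  have e3 : k * g * k⁻¹ ∈ PNJ cs h T X {j} := by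
    have h3 : Rp cs R.nsys (w * w' * w⁻¹) (k * m * k⁻¹) := (hk.mul hm).mul hk.inv
    have h4 : ∀ x, rep cs h (w * w' * w⁻¹) x = -x := by
      intro x
      rw [rep_mul_apply, rep_mul_apply, h', map_neg, rep_apply_inv]
    refine N.neg_one h4 h3 ?_
    rw [mem_cj]
    have : (k * m * k⁻¹)⁻¹ * (k * g * k⁻¹) * (k * m * k⁻¹) = k * (m⁻¹ * g * m) * k⁻¹ := by group
    rw [this]
    exact e2
  have e4 : k * g * k⁻¹ ∈ LJ cs h T X {j} := by
    rw [← PJ_inf_PNJ R]
    exact ⟨e1, e3⟩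
  have hT : T ≤ Subgroup.normalizer (RGD.Sup X (RootsJ cs h {j}) : Set Y) := R.T_le_normalizer fun x hx => hx.1
  have e5 : k * g * k⁻¹ ∈ ((LJ cs h T X {j} : Subgroup Y) : Set Y) := e4
  unfold LJ at e5
  rw [Subgroup.coe_mul_of_left_le_normalizer_right _ _ hT, Set.mem_mul] at e5
  obtain ⟨t, ht, u, hu, e⟩ := e5
  have hu' : ∀ y ∈ X a, u * y = y * u := by
    intro y hy
    have h3 : RGD.Sup X (RootsJ cs h {j}) ≤ Subgroup.centralizer ({y} : Set Y) := by
      refine RGD.Sup_le fun x hx v hv => ?_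
      rw [Subgroup.mem_centralizer_singleton_iff]
      exact N.comm x hx v hv y hy
    exact Subgroup.mem_centralizer_singleton_iff.1 (h3 hu)
  refine ⟨k⁻¹ * t * k, ?_, fun y hy => ?_⟩
  · have h3 : cj k⁻¹ T = T := mem_normalizer_iff_cj.1 hk.inv.mem_normalizer
    have h4 : k⁻¹ * t * k⁻¹⁻¹ ∈ cj k⁻¹ T := conj_mem_cj.2 ht
    rwa [h3, inv_inv] at h4
  · have h3 := hu' _ (hXa _ (hFX y hy))
    have h4 := h1 y hy
    have h5 : k * g * k⁻¹ * (k * F y * k⁻¹) * (k * g * k⁻¹)⁻¹ = k * y * k⁻¹ := by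
      calc k * g * k⁻¹ * (k * F y * k⁻¹) * (k * g * k⁻¹)⁻¹ = k * (g * F y * g⁻¹) * k⁻¹ := by group
        _ = _ := by rw [h4]
    rw [← e] at h5
    have h6 : t * (k * F y * k⁻¹) * t⁻¹ = k * y * k⁻¹ := by
      calc t * (k * F y * k⁻¹) * t⁻¹ = t * (k * F y * k⁻¹ * u) * u⁻¹ * t⁻¹ := by group
        _ = t * (u * (k * F y * k⁻¹)) * u⁻¹ * t⁻¹ := by rw [h3]
        _ = t * u * (k * F y * k⁻¹) * (t * u)⁻¹ := by group
        _ = _ := h5
    calc k⁻¹ * t * k * F y * (k⁻¹ * t * k)⁻¹ = k⁻¹ * (t * (k * F y * k⁻¹) * t⁻¹) * k := by group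
      _ = k⁻¹ * (k * y * k⁻¹) * k := by rw [h6]
      _ = y := by group

end

/-- **Good root elements.** -/
theorem Node.good [Finite W] [Finite Y] {R : RGD cs h 2 T n X} {S : Set (I → ℤ)} {a : I → ℤ} {i j : I} {w : W}
    (N : Node R S a i j w) (hI : IntComm cs h X) (hG : GG cs h T X = ⊤) {v : Y} (hv : v ∈ X (sr i)) (hv1 : v ≠ 1)
    (hv2 : v * v = 1) (hv3 : (v * ((n i)⁻¹ * v * n i)) ^ 3 = 1)
    (hin : ∀ α : MulAut Y, α * α = 1 → (∀ z ∈ X (sr j), α z = z) → (∀ z ∈ X (-sr j), α z = z) →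
      ∃ g, α = MulAut.conj g) : Good v := by
  obtain ⟨k, hk⟩ := exists_rp cs R.nsys w
  have hva : k * v * k⁻¹ ∈ X a := by
    have := R.conj_mem hk (isRoot_sr cs h i) hv
    rwa [N.hw] at this
  have hva1 : k * v * k⁻¹ ≠ 1 := by
    intro h1
    apply hv1
    have : v = k⁻¹ * (k * v * k⁻¹) * k := by group
    rw [this, h1]; group
  have hjc : ∀ y ∈ X a, n j * y = y * n j := by
    intro y hy
    have h3 : X (sr j) ⊔ X (-sr j) ≤ Subgroup.centralizer ({y} : Set Y) := by
      refine sup_le ?_ ?_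
      · intro v hv
        rw [Subgroup.mem_centralizer_singleton_iff]
        exact N.comm _ ⟨isRoot_sr cs h j, fun l hl => sr_ne fun e => hl (by rw [e]; rfl)⟩ v hv y hy
      · intro v hv
        rw [Subgroup.mem_centralizer_singleton_iff]
        exact N.comm _ ⟨(isRoot_sr cs h j).neg, fun l hl => by
          rw [Pi.neg_apply, sr_ne fun e => hl (by rw [e]; rfl), neg_zero]⟩ v hv y hy
    exact Subgroup.mem_centralizer_singleton_iff.1 (h3 N.nj)
  have hn0 : Rp cs R.nsys (cs.simple j * (w * cs.simple i * w⁻¹)) (n j * (k * n i * k⁻¹)) :=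
    (rp_simple cs R.nsys j).mul ((hk.mul (rp_simple cs R.nsys i)).mul hk.inv)
  have h1 : Good (k * v * k⁻¹) := by
    refine good_opp' R hG (J := {j}) hn0 ?_ ?_ ?_ (k := 3) (by decide) ?_ ?_ ?_ ?_
    · intro x hx h0
      rw [N.neg]
      exact neg_nonpos.2 h0
    · intro x hx
      rw [N.neg]
      exact RootsJ.neg hx
    · calc k * v * k⁻¹ * (k * v * k⁻¹) = k * (v * v) * k⁻¹ := by group
        _ = 1 := by rw [hv2]; group
    · have h2 := hjc _ hva
      have h3 : (n j * (k * n i * k⁻¹))⁻¹ * (k * v * k⁻¹) * (n j * (k * n i * k⁻¹)) =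
          k * ((n i)⁻¹ * v * n i) * k⁻¹ := by
        calc (n j * (k * n i * k⁻¹))⁻¹ * (k * v * k⁻¹) * (n j * (k * n i * k⁻¹))
            = (k * n i * k⁻¹)⁻¹ * (n j)⁻¹ * ((k * v * k⁻¹) * n j) * (k * n i * k⁻¹) := by group
          _ = (k * n i * k⁻¹)⁻¹ * (n j)⁻¹ * (n j * (k * v * k⁻¹)) * (k * n i * k⁻¹) := by rw [h2]
          _ = _ := by group
      rw [h3]
      have h4 : k * v * k⁻¹ * (k * ((n i)⁻¹ * v * n i) * k⁻¹) = k * (v * ((n i)⁻¹ * v * n i)) * k⁻¹ := by group
      rw [h4, conj_pow, hv3]; group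
    · intro g hg
      rw [← N.orth]
      refine mem_PJ_of_conj R hI hG N.dm hva hva1 ?_
      rw [hg, mul_inv_cancel_right]
      exact hva
    · intro x hx g hg
      exact N.comm x hx g hg _ hva
    · intro α hα hc
      refine hin α hα (hc _ ⟨isRoot_sr cs h j, fun l hl => sr_ne fun e => hl (by rw [e]; rfl)⟩)
        (hc _ ⟨(isRoot_sr cs h j).neg, fun l hl => by
          rw [Pi.neg_apply, sr_ne fun e => hl (by rw [e]; rfl), neg_zero]⟩)
  have h2 := h1.conj k⁻¹
  have h3 : k⁻¹ * (k * v * k⁻¹) * k⁻¹⁻¹ = v := by group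
  rwa [h3] at h2

end Cfsg.Agent.H282.SK.Dom
end

-- part: H282/SK/TwDFour
section
/-!
# S3010 (Sidki pairs): `³D₄(q)`, `q` even (helper282)
-/

set_option autoImplicit false
set_option linter.unusedSectionVars false

universe u

namespace Cfsg.Agent.H282.SK.TwDFour

open CoxeterSystem Cfsg.Agent.ChevalleyStructure.CoxeterGeom Cfsg.Agent.Tits.Core
  Cfsg.Agent.Tits.RootComb Cfsg.Agent.Tits.Exchange Cfsg.Agent.Nodes.Reps Cfsg.Agent.Nodes.BNOf
  Cfsg.Agent.Nodes.StabComb Cfsg.Agent.Nodes.Bruhat Cfsg.Agent.Nodes.OppDec Cfsg.Agent.Nodes.LeviDec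
  Cfsg.Agent.Nodes.NormX Cfsg.Agent.Nodes.Coroot Cfsg.Agent.KFacts.RgdFilt Cfsg.Agent.KFacts.RgdBorelTits
  Cfsg.Agent.OddHalf.D4.StarLoc Cfsg.Agent.H282.SK Cfsg.Agent.H282.SK.Dom
open Cfsg.Agent.Tits.Roots hiding ht
open Cfsg.Lie Cfsg.Agent.ChevalleyStructure Cfsg.Agent.Nodes.RGDFold Cfsg.Agent.Nodes.RGDFoldSL
open Cfsg.Agent.Nodes.RGDTwD4 (J foldData foldGrp hp isCartan X T n)
open Cfsg.Agent.ChevalleyStructure.SL2Hom (up lo)
open Cfsg.Agent.BiChar.TwDFour (cs Ph mem_X Ph_wS range_Ph)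

/-! ### The root system -/

theorem tab : ∀ r < 24, (V chevD4 J r 0, V chevD4 J r 1) ∈
    [((1 : ℤ), (0 : ℤ)), (0, 1), (1, 1), (1, 2), (1, 3), (2, 3), (-1, 0), (0, -1), (-1, -1), (-1, -2), (-1, -3),
      (-2, -3)] := by decide +kernel

theorem nroots : chevD4.nroots = 24 := by decide +kernel

theorem coords {z : Fin 2 → ℤ} (hz : IsRoot cs isCartan z) : (z 0, z 1) ∈
    [((1 : ℤ), (0 : ℤ)), (0, 1), (1, 1), (1, 2), (1, 3), (2, 3), (-1, 0), (0, -1), (-1, -1), (-1, -2), (-1, -3),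
      (-2, -3)] := by
  obtain ⟨r, hr, rfl⟩ := (foldData.isRoot_iff hp.checked
    (fun i r hr => wp_lt hp _ hr) z).1 hz
  exact tab r (by rw [← nroots]; exact hr)

theorem rep0 (x : Fin 2 → ℤ) : rep cs isCartan (cs.simple 0) x = ![x 1 - x 0, x 1] := by
  rw [rep_simple_eq]
  funext k
  fin_cases k
  · simp [pairing, Nodes.RGDTwD4.A, Fin.sum_univ_two, sr]; ring
  · simp [pairing, Nodes.RGDTwD4.A, Fin.sum_univ_two, sr]

theorem rep1 (x : Fin 2 → ℤ) : rep cs isCartan (cs.simple 1) x = ![x 0, 3 * x 0 - x 1] := by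
  rw [rep_simple_eq]
  funext k
  fin_cases k
  · simp [pairing, Nodes.RGDTwD4.A, Fin.sum_univ_two, sr]
  · simp only [pairing, Nodes.RGDTwD4.A, Fin.sum_univ_two, sr, _root_.Int.reduceNeg, _root_.Fin.isValue, _root_.Matrix.cons_val', _root_.Matrix.cons_val_fin_one, _root_.Matrix.cons_val_one, _root_.Matrix.cons_val_zero, _root_.neg_mul, _root_.zsmul_eq_mul, _root_.Int.cast_add, _root_.Int.cast_neg, _root_.Int.cast_mul, _root_.Int.cast_ofNat, _root_.Fin.mk_one, _root_.Pi.sub_apply, _root_.Pi.mul_apply, _root_.Pi.add_apply, _root_.Pi.neg_apply, _root_.Pi.ofNat_apply, _root_.Pi.intCast_apply, _root_.Int.cast_eq, _root_.Pi.single_eq_same, _root_.mul_one, _root_.Nat.succ_eq_add_one, _root_.Nat.reduceAdd]; ring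

theorem rep_two (x : Fin 2 → ℤ) :
    rep cs isCartan (cs.simple 0 * cs.simple 1) x = ![2 * x 0 - x 1, 3 * x 0 - x 1] := by
  rw [rep_mul_apply, rep1, rep0]
  funext k
  fin_cases k
  · simp; ring
  · simp

theorem rep_two' (x : Fin 2 → ℤ) :
    rep cs isCartan (cs.simple 1 * cs.simple 0) x = ![x 1 - x 0, 2 * x 1 - 3 * x 0] := by
  rw [rep_mul_apply, rep0, rep1]
  funext k
  fin_cases k
  · simp
  · simp; ring

theorem ge_four {z : Fin 2 → ℤ} (hz : IsRoot cs isCartan z) (h4 : 4 ≤ z 0 + z 1) :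
    z = ![1, 3] ∨ z = ![2, 3] := by
  have h1 := coords hz
  simp only [List.mem_cons, Prod.mk.injEq, List.not_mem_nil, or_false] at h1
  rcases h1 with ⟨h1, h2⟩ | ⟨h1, h2⟩ | ⟨h1, h2⟩ | ⟨h1, h2⟩ | ⟨h1, h2⟩ | ⟨h1, h2⟩ | ⟨h1, h2⟩ | ⟨h1, h2⟩ | ⟨h1, h2⟩ |
    ⟨h1, h2⟩ | ⟨h1, h2⟩ | ⟨h1, h2⟩ <;> try (exfalso; omega)
  · left; funext k; fin_cases k
    · exact h1
    · exact h2
  · right; funext k; fin_cases k
    · exact h1
    · exact h2

theorem pos_ge {z : Fin 2 → ℤ} (hz : z ∈ RGD.Pos cs isCartan) : 1 ≤ z 0 + z 1 ∧ 0 ≤ z 0 ∧ 0 ≤ z 1 := by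
  have h1 := coords hz.1
  have h2 := hz.2 0
  have h3 := hz.2 1
  simp only [Pi.zero_apply] at h2 h3
  simp only [List.mem_cons, Prod.mk.injEq, List.not_mem_nil, or_false] at h1
  rcases h1 with ⟨h1, h2⟩ | ⟨h1, h2⟩ | ⟨h1, h2⟩ | ⟨h1, h2⟩ | ⟨h1, h2⟩ | ⟨h1, h2⟩ | ⟨h1, h2⟩ | ⟨h1, h2⟩ | ⟨h1, h2⟩ |
    ⟨h1, h2⟩ | ⟨h1, h2⟩ | ⟨h1, h2⟩ <;> omega

theorem isRoot_13 : IsRoot cs isCartan ![1, 3] := by
  refine ⟨cs.simple 1, 0, ?_⟩
  rw [rep1]
  funext k
  (revert k; simp [sr, _root_.Fin.forall_fin_succ])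

theorem isRoot_12 : IsRoot cs isCartan ![1, 2] := by
  refine ⟨cs.simple 1 * cs.simple 0, 1, ?_⟩
  rw [rep_two']
  funext k
  (revert k; simp [sr, _root_.Fin.forall_fin_succ])

theorem isRoot_23 : IsRoot cs isCartan ![2, 3] := by
  refine ⟨cs.simple 0 * cs.simple 1, 0, ?_⟩
  rw [rep_two]
  funext k
  (revert k; simp [sr, _root_.Fin.forall_fin_succ])

/-- the second coordinate modulo 3 -/
theorem orb_mod (w : CoxeterMatrix.G₂.Group) (x : Fin 2 → ℤ) :
    (3 : ℤ) ∣ rep cs isCartan w x 1 ↔ (3 : ℤ) ∣ x 1 := by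
  obtain ⟨ω, rfl⟩ := cs.wordProd_surjective w
  induction ω with
  | nil => rw [wordProd_nil, map_one, Module.End.one_apply]
  | cons i ω ih =>
    rw [wordProd_cons, rep_mul_apply, ← ih]
    generalize rep cs isCartan (cs.wordProd ω) x = y
    have hi : i = 0 ∨ i = 1 := by (revert i; simp only [_root_.Fin.forall_fin_succ, Fin.isValue, _root_.zero_ne_one, _root_.or_false, _root_.Fin.succ_ne_zero, _root_.false_or, _root_.Fin.succ_zero_eq_one, _root_.IsEmpty.forall_iff, _root_.and_self])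
    rcases hi with rfl | rfl
    · rw [rep0]; simp
    · rw [rep1]
      show (3 : ℤ) ∣ 3 * y 0 - y 1 ↔ _
      omega

theorem ib_coord {x y z : Fin 2 → ℤ} (hz : IB cs isCartan x y z) :
    ∃ i j : ℤ, 0 < i ∧ 0 < j ∧ z 0 = i * x 0 + j * y 0 ∧ z 1 = i * x 1 + j * y 1 := by
  obtain ⟨-, i, j, hi, hj, rfl⟩ := hz
  exact ⟨i, j, hi, hj, by simp only [_root_.zsmul_eq_mul, _root_.Fin.isValue, _root_.Pi.add_apply, _root_.Pi.mul_apply, _root_.Pi.intCast_apply, _root_.Int.cast_eq], by simp only [_root_.zsmul_eq_mul, _root_.Fin.isValue, _root_.Pi.add_apply, _root_.Pi.mul_apply, _root_.Pi.intCast_apply, _root_.Int.cast_eq]⟩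

theorem dmL : Dm cs isCartan {![2, 3]} ![2, 3] where
  pos := by
    rintro _ rfl
    refine ⟨isRoot_23, fun k => ?_⟩
    (revert k; simp only [_root_.Fin.forall_fin_succ, _root_.Pi.zero_apply, _root_.Nat.succ_eq_add_one, Nat.reduceAdd, Fin.isValue, _root_.Matrix.cons_val_zero, _root_.Nat.ofNat_nonneg, _root_.Matrix.cons_val_succ, _root_.Matrix.cons_val_fin_one, _root_.implies_true, _root_.and_self])
  mem := rfl
  up := by
    rintro x hx _ rfl hxy z hz
    exfalso
    obtain ⟨i, j, hi, hj, h0, h1⟩ := ib_coord hz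
    obtain ⟨h2, h3, h4⟩ := pos_ge hx
    have h5 : (![2, 3] : Fin 2 → ℤ) 0 = 2 := rfl
    have h6 : (![2, 3] : Fin 2 → ℤ) 1 = 3 := rfl
    rw [h5] at h0
    rw [h6] at h1
    have h7 : 6 ≤ z 0 + z 1 := by nlinarith only [hi, hj, h0, h1, h2]
    rcases ge_four hz.1 (by omega) with rfl | rfl
    · simp at h7
    · simp at h7
  orb := fun w hw => hw
  dom := by
    intro i
    (revert i; simp only [pairing, Nodes.RGDTwD4.A, Fin.sum_univ_two, _root_.Fin.forall_fin_succ, Int.reduceNeg, _root_.Matrix.cons_val', _root_.Matrix.cons_val_fin_one, Fin.isValue, _root_.Matrix.cons_val_zero, _root_.Matrix.cons_val_one, Int.reduceMul, _root_.neg_mul, _root_.one_mul, Int.reduceAdd, _root_.zero_le_one, _root_.Matrix.cons_val_succ, _root_.neg_add_cancel, _root_.Std.le_refl, _root_.implies_true, _root_.and_self])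

theorem dmS : Dm cs isCartan {![1, 2], ![1, 3], ![2, 3]} ![1, 2] where
  pos := by
    rintro _ (rfl | rfl | rfl)
    · refine ⟨isRoot_12, fun k => ?_⟩
      (revert k; simp only [_root_.Fin.forall_fin_succ, _root_.Pi.zero_apply, _root_.Nat.succ_eq_add_one, Nat.reduceAdd, Fin.isValue, _root_.Matrix.cons_val_zero, _root_.zero_le_one, _root_.Matrix.cons_val_succ, _root_.Matrix.cons_val_fin_one, _root_.Nat.ofNat_nonneg, _root_.implies_true, _root_.and_self])
    · refine ⟨isRoot_13, fun k => ?_⟩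
      (revert k; simp only [_root_.Fin.forall_fin_succ, _root_.Pi.zero_apply, _root_.Nat.succ_eq_add_one, Nat.reduceAdd, Fin.isValue, _root_.Matrix.cons_val_zero, _root_.zero_le_one, _root_.Matrix.cons_val_succ, _root_.Matrix.cons_val_fin_one, _root_.Nat.ofNat_nonneg, _root_.implies_true, _root_.and_self])
    · refine ⟨isRoot_23, fun k => ?_⟩
      fin_cases k <;> simp
  mem := by simp
  up := by
    intro x hx y hy hxy z hz
    obtain ⟨i, j, hi, hj, h0, h1⟩ := ib_coord hz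
    obtain ⟨h2, h3, h4⟩ := pos_ge hx
    have h5 : 1 ≤ y 0 ∧ 2 ≤ y 1 := by
      rcases hy with rfl | rfl | rfl
      · simp
      · simp
      · simp
    have h7 : 4 ≤ z 0 + z 1 := by nlinarith only [hi, hj, h0, h1, h2, h5]
    rcases ge_four hz.1 h7 with rfl | rfl
    · refine ⟨by simp, fun e => ?_⟩
      have := congrFun e 1
      simp at this
    · refine ⟨by simp, fun e => ?_⟩
      have := congrFun e 1
      simp at this
  orb := by
    intro w hw
    have h1 := orb_mod w ![1, 2]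
    rcases hw with hw | hw | hw
    · exact hw
    · exfalso
      rw [hw] at h1
      have h2 : (3 : ℤ) ∣ (![1, 3] : Fin 2 → ℤ) 1 := ⟨1, by simp⟩
      have h3 : (3 : ℤ) ∣ 2 := h1.1 h2
      omega
    · exfalso
      rw [hw] at h1
      have h2 : (3 : ℤ) ∣ (![2, 3] : Fin 2 → ℤ) 1 := ⟨1, by simp⟩
      have h3 : (3 : ℤ) ∣ 2 := h1.1 h2
      omega
  dom := by
    intro i
    (revert i; simp only [pairing, Nodes.RGDTwD4.A, Fin.sum_univ_two, _root_.Fin.forall_fin_succ, Int.reduceNeg, _root_.Matrix.cons_val', _root_.Matrix.cons_val_fin_one, Fin.isValue, _root_.Matrix.cons_val_zero, _root_.mul_one, _root_.Matrix.cons_val_one, _root_.neg_mul, _root_.one_mul, _root_.add_neg_cancel, _root_.Std.le_refl, _root_.Matrix.cons_val_succ, Int.reduceMul, Int.reduceAdd, _root_.zero_le_one, _root_.implies_true, _root_.and_self])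

theorem orthL : orth cs isCartan ![2, 3] = {1} := by
  ext i
  rw [mem_orth]
  (revert i; simp only [pairing, Nodes.RGDTwD4.A, Fin.sum_univ_two, _root_.Fin.forall_fin_succ, Int.reduceNeg, _root_.Matrix.cons_val', _root_.Matrix.cons_val_fin_one, Fin.isValue, _root_.Matrix.cons_val_zero, _root_.Matrix.cons_val_one, _root_.Set.mem_singleton_iff, Int.reduceMul, _root_.neg_mul, _root_.one_mul, Int.reduceAdd, _root_.one_ne_zero, _root_.zero_ne_one, _root_.Matrix.cons_val_succ, _root_.neg_add_cancel, _root_.true_iff, _root_.Fin.succ_zero_eq_one, _root_.IsEmpty.forall_iff, _root_.and_self])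

theorem orthS : orth cs isCartan ![1, 2] = {0} := by
  ext i
  rw [mem_orth]
  (revert i; simp only [pairing, Nodes.RGDTwD4.A, Fin.sum_univ_two, _root_.Fin.forall_fin_succ, Int.reduceNeg, _root_.Matrix.cons_val', _root_.Matrix.cons_val_fin_one, Fin.isValue, _root_.Matrix.cons_val_zero, _root_.mul_one, _root_.Matrix.cons_val_one, _root_.Set.mem_singleton_iff, _root_.neg_mul, _root_.one_mul, _root_.add_neg_cancel, _root_.Matrix.cons_val_succ, Int.reduceMul, Int.reduceAdd, _root_.one_ne_zero, _root_.Fin.succ_ne_zero, _root_.implies_true, _root_.and_self])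

theorem negL (x : Fin 2 → ℤ) : rep cs isCartan (cs.simple 1 *
    ((cs.simple 0 * cs.simple 1) * cs.simple 0 * (cs.simple 0 * cs.simple 1)⁻¹)) x = -x := by
  have e : cs.simple 1 * ((cs.simple 0 * cs.simple 1) * cs.simple 0 * (cs.simple 0 * cs.simple 1)⁻¹) =
      (cs.simple 1 * cs.simple 0) * ((cs.simple 1 * cs.simple 0) * (cs.simple 1 * cs.simple 0)) := by
    rw [mul_inv_rev, cs.inv_simple, cs.inv_simple]; group
  rw [e, rep_mul_apply, rep_two', rep_mul_apply, rep_two', rep_two']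
  funext k
  fin_cases k
  · simp; ring
  · simp; ring

theorem negS (x : Fin 2 → ℤ) : rep cs isCartan (cs.simple 0 *
    ((cs.simple 1 * cs.simple 0) * cs.simple 1 * (cs.simple 1 * cs.simple 0)⁻¹)) x = -x := by
  have e : cs.simple 0 * ((cs.simple 1 * cs.simple 0) * cs.simple 1 * (cs.simple 1 * cs.simple 0)⁻¹) =
      (cs.simple 0 * cs.simple 1) * ((cs.simple 0 * cs.simple 1) * (cs.simple 0 * cs.simple 1)) := by
    rw [mul_inv_rev, cs.inv_simple, cs.inv_simple]; group
  rw [e, rep_mul_apply, rep_two, rep_mul_apply, rep_two, rep_two]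
  funext k
  fin_cases k
  · simp; ring
  · simp; ring

theorem rootsL {x : Fin 2 → ℤ} (hx : x ∈ RootsJ cs isCartan {1}) : x 0 = 0 ∧ (x 1 = 1 ∨ x 1 = -1) := by
  have h0 := hx.2 0 (by simp)
  have h1 := coords hx.1
  simp only [List.mem_cons, Prod.mk.injEq, List.not_mem_nil, or_false] at h1
  omega

theorem rootsS {x : Fin 2 → ℤ} (hx : x ∈ RootsJ cs isCartan {0}) : x 1 = 0 ∧ (x 0 = 1 ∨ x 0 = -1) := by
  have h0 := hx.2 1 (by simp)
  have h1 := coords hx.1
  simp only [List.mem_cons, Prod.mk.injEq, List.not_mem_nil, or_false] at h1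
  omega

theorem ibL {x z : Fin 2 → ℤ} (hx : x ∈ RootsJ cs isCartan {1}) : ¬ IB cs isCartan x ![2, 3] z := by
  intro hz
  obtain ⟨h0, h1⟩ := rootsL hx
  obtain ⟨i, j, hi, hj, e0, e1⟩ := ib_coord hz
  have h5 : (![2, 3] : Fin 2 → ℤ) 0 = 2 := rfl
  have h6 : (![2, 3] : Fin 2 → ℤ) 1 = 3 := rfl
  rw [h5, h0] at e0
  rw [h6] at e1
  have h2 := coords hz.1
  simp only [List.mem_cons, Prod.mk.injEq, List.not_mem_nil, or_false] at h2
  rcases h1 with h1 | h1 <;> rw [h1] at e1 <;> omega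

theorem ibS {x z : Fin 2 → ℤ} (hx : x ∈ RootsJ cs isCartan {0}) : ¬ IB cs isCartan x ![1, 2] z := by
  intro hz
  obtain ⟨h0, h1⟩ := rootsS hx
  obtain ⟨i, j, hi, hj, e0, e1⟩ := ib_coord hz
  have h5 : (![1, 2] : Fin 2 → ℤ) 0 = 1 := rfl
  have h6 : (![1, 2] : Fin 2 → ℤ) 1 = 2 := rfl
  rw [h5] at e0
  rw [h6, h0] at e1
  have h2 := coords hz.1
  simp only [List.mem_cons, Prod.mk.injEq, List.not_mem_nil, or_false] at h2
  rcases h1 with h1 | h1 <;> rw [h1] at e0 <;> omega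

/-- commuting root groups -/
theorem comm_of_not_ib {Y : Type*} [Group Y] {X : (Fin 2 → ℤ) → Subgroup Y} (hI : IntComm cs isCartan X)
    {x a : Fin 2 → ℤ} (hx : IsRoot cs isCartan x) (ha : IsRoot cs isCartan a) (hne : x ≠ a) (hne' : x ≠ -a)
    (h : ∀ z, ¬ IB cs isCartan x a z) : ∀ g ∈ X x, ∀ z ∈ X a, g * z = z * g := by
  intro g hg z hz
  have h1 := hI x a hx ha hne hne' g hg z hz
  have h2 : (FS X {z | IB cs isCartan x a z} : Subgroup Y) ≤ ⊥ := FS_le fun z hz => absurd hz (h z)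
  have h3 := Subgroup.mem_bot.1 (h2 h1)
  exact (commutatorElement_eq_one_iff_mul_comm.1 h3)

variable {K : Type} [Field K] [Fintype K] [CharP K 2] {q : ℕ} {φ : K →+* K} (hφ : ∀ x, φ x = x ^ q)
  (hK : Fintype.card K = q ^ 3)

include hφ hK in
/-- the Chevalley commutator formula -/
theorem hI : IntComm cs isCartan (X φ q : (Fin 2 → ℤ) → Subgroup ↥(twistedD4 K q)) := by
  have : Fact (Nat.Prime 2) := ⟨Nat.prime_two⟩
  exact OddHalf.D4.StarTw.intComm_sub cs isCartan foldData (foldGrp hφ (D4Fixed.twisted_le_fix hK hφ)) 2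

theorem finiteW : Finite CoxeterMatrix.G₂.Group :=
  Cfsg.Agent.Nodes.RGDFold.finite_W (hp := hp) cs isCartan foldData

include hK in
theorem rg : RGD cs isCartan 2 (T K q) (n hφ) (X φ q) := by
  have : Fact (Nat.Prime 2) := ⟨Nat.prime_two⟩
  exact Nodes.RGDTwD4.rgd cs hK hφ 2

include hK in
theorem nj (j : Fin 2) : n hφ j ∈ (X φ q (sr j) ⊔ X φ q (-sr j) : Subgroup ↥(twistedD4 K q)) := by
  have hle : twistedD4 K q ≤ D4Fixed.fix φ := D4Fixed.twisted_le_fix hK hφ
  rw [← range_Ph hφ hle hK j, ← _root_.Cfsg.Agent.BiChar.TwDFour.Ph_wS hφ hle j]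
  exact ⟨_, rfl⟩

theorem nodeL : Node (rg hφ hK) {![2, 3]} ![2, 3] 0 1 (cs.simple 0 * cs.simple 1) where
  dm := dmL
  orth := orthL
  comm := by
    intro x hx
    refine comm_of_not_ib (hI hφ hK) hx.1 isRoot_23 ?_ ?_ fun z => ibL hx
    · rintro rfl
      have := (rootsL hx).1
      simp at this
    · rintro rfl
      have := (rootsL hx).1
      simp at this
  hw := by
    rw [rep_two]
    funext k
    (revert k; simp [sr, _root_.Fin.forall_fin_succ])
  neg := negL
  nj := nj hφ hK 1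

theorem nodeS : Node (rg hφ hK) {![1, 2], ![1, 3], ![2, 3]} ![1, 2] 1 0 (cs.simple 1 * cs.simple 0) where
  dm := dmS
  orth := orthS
  comm := by
    intro x hx
    refine comm_of_not_ib (hI hφ hK) hx.1 isRoot_12 ?_ ?_ fun z => ibS hx
    · rintro rfl
      have := (rootsS hx).1
      simp at this
    · rintro rfl
      have := (rootsS hx).1
      simp at this
  hw := by
    rw [rep_two']
    funext k
    (revert k; simp [sr, _root_.Fin.forall_fin_succ])
  neg := negS
  nj := nj hφ hK 0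

theorem up_sq {F : Type*} [Field F] [CharP F 2] : (up 1 * up 1 : Matrix.SpecialLinearGroup (Fin 2) F) = 1 := by
  have h2 : (1 : F) + 1 = 0 := CharTwo.add_self_eq_zero 1
  apply Subtype.ext
  show (!![1, 1; 0, 1] : Matrix (Fin 2) (Fin 2) F) * !![1, 1; 0, 1] = 1
  ext i j
  (revert i j; simp only [Matrix.mul_apply, Fin.sum_univ_two, h2, _root_.Fin.forall_fin_succ, _root_.Matrix.of_apply, _root_.Matrix.cons_val', _root_.Matrix.cons_val_fin_one, Fin.isValue, _root_.Matrix.cons_val_zero, _root_.Matrix.cons_val_one, _root_.mul_one, _root_.MulZeroClass.mul_zero, _root_.add_zero, _root_.Matrix.cons_val_succ, _root_.IsEmpty.forall_iff, _root_.and_true, _root_.Matrix.one_apply_eq, Nat.reduceAdd, _root_.Fin.succ_zero_eq_one, _root_.ne_eq, _root_.zero_ne_one, _root_.not_false_eq_true, _root_.Matrix.one_apply_ne, _root_.and_self, _root_.Fin.succ_ne_zero, _root_.zero_add, _root_.true_and])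

theorem up_cube {F : Type*} [Field F] [CharP F 2] :
    ((up 1 * ((wS 1)⁻¹ * up 1 * wS 1)) ^ 3 : Matrix.SpecialLinearGroup (Fin 2) F) = 1 := by
  have h2 : (1 : F) + 1 = 0 := CharTwo.add_self_eq_zero 1
  have hn : (-1 : F) = 1 := by rw [CharTwo.neg_eq]
  have h3 : ((wS 1)⁻¹ * up 1 * wS 1 : Matrix.SpecialLinearGroup (Fin 2) F) = lo 1 := by
    rw [mul_assoc, inv_mul_eq_iff_eq_mul]
    apply Subtype.ext
    rw [Matrix.SpecialLinearGroup.coe_mul, Matrix.SpecialLinearGroup.coe_mul, coe_wS one_ne_zero]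
    show (!![1, 1; 0, 1] : Matrix (Fin 2) (Fin 2) F) * !![0, 1; -1⁻¹, 0] = !![0, 1; -1⁻¹, 0] * !![1, 0; 1, 1]
    ext i j
    (revert i j; simp only [Matrix.mul_apply, Fin.sum_univ_two, hn, _root_.Fin.forall_fin_succ, _root_.inv_one, _root_.Matrix.of_apply, _root_.Matrix.cons_val', _root_.Matrix.cons_val_fin_one, Fin.isValue, _root_.Matrix.cons_val_zero, _root_.Matrix.cons_val_one, _root_.MulZeroClass.mul_zero, _root_.mul_one, _root_.zero_add, _root_.Matrix.cons_val_succ, _root_.add_zero, _root_.implies_true, _root_.and_true, _root_.and_self])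
  rw [h3]
  apply Subtype.ext
  rw [Matrix.SpecialLinearGroup.coe_pow, Matrix.SpecialLinearGroup.coe_mul]
  show ((!![1, 1; 0, 1] : Matrix (Fin 2) (Fin 2) F) * !![1, 0; 1, 1]) ^ 3 = 1
  have h4 : ((!![1, 1; 0, 1] : Matrix (Fin 2) (Fin 2) F) * !![1, 0; 1, 1]) = !![0, 1; 1, 1] := by
    ext i j
    (revert i j; simp only [Matrix.mul_apply, Fin.sum_univ_two, h2, _root_.Fin.forall_fin_succ, _root_.Matrix.of_apply, _root_.Matrix.cons_val', _root_.Matrix.cons_val_fin_one, Fin.isValue, _root_.Matrix.cons_val_zero, _root_.Matrix.cons_val_one, _root_.mul_one, _root_.Matrix.cons_val_succ, _root_.MulZeroClass.mul_zero, _root_.zero_add, _root_.implies_true, _root_.and_true, _root_.and_self])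
  rw [h4, pow_three]
  ext i j
  (revert i j; simp only [Matrix.mul_apply, Fin.sum_univ_two, h2, _root_.Fin.forall_fin_succ, _root_.Matrix.cons_mul, _root_.Nat.succ_eq_add_one, Nat.reduceAdd, _root_.Matrix.vecMul_cons, _root_.Matrix.head_cons, _root_.zero_smul, _root_.Matrix.tail_cons, _root_.one_smul, _root_.Matrix.empty_vecMul, _root_.add_zero, _root_.zero_add, _root_.Matrix.add_cons, _root_.Matrix.empty_add_empty, _root_.Matrix.empty_mul, _root_.Equiv.symm_apply_apply, _root_.Matrix.of_apply, _root_.Matrix.cons_val', _root_.Matrix.cons_val_fin_one, Fin.isValue, _root_.Matrix.cons_val_zero, _root_.Matrix.cons_val_one, _root_.mul_one, _root_.Matrix.cons_val_succ, _root_.MulZeroClass.mul_zero, _root_.IsEmpty.forall_iff, _root_.and_true, _root_.Matrix.one_apply_eq, _root_.Fin.succ_zero_eq_one, _root_.ne_eq, _root_.zero_ne_one, _root_.not_false_eq_true, _root_.Matrix.one_apply_ne, _root_.and_self, _root_.Fin.succ_ne_zero, _root_.true_and])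

/-! ### field automorphisms -/

omit [Fintype K] [CharP K 2] in
theorem sigma_eq_one (hφ3 : ∀ x, φ (φ (φ x)) = x) {σ : K ≃+* K} (hc : ∀ x, σ (φ x) = φ (σ x))
    (hf : ∀ x, φ x = x → σ x = x) (h2 : ∀ x, σ (σ x) = x) : σ = 1 := by
  ext x
  show σ x = x
  have e1 := hf (x + φ x + φ (φ x)) (by rw [map_add, map_add, hφ3]; ring)
  have e2 := hf (x * φ x + x * φ (φ x) + φ x * φ (φ x)) (by
    rw [map_add, map_add, map_mul, map_mul, map_mul, hφ3]; ring)
  have e3 := hf (x * φ x * φ (φ x)) (by rw [map_mul, map_mul, hφ3]; ring)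
  have e4 : σ ((x - x) * (x - φ x) * (x - φ (φ x))) = 0 := by rw [sub_self, zero_mul, zero_mul, map_zero]
  have e5 : (x - x) * (x - φ x) * (x - φ (φ x)) = x ^ 3 - (x + φ x + φ (φ x)) * x ^ 2 +
      (x * φ x + x * φ (φ x) + φ x * φ (φ x)) * x - x * φ x * φ (φ x) := by ring
  rw [e5, map_sub, map_add, map_sub, map_pow, map_mul, e1, map_pow, map_mul, e2, e3] at e4
  have e6 : (σ x - x) * (σ x - φ x) * (σ x - φ (φ x)) = 0 := by rw [← e4]; ring
  rcases mul_eq_zero.1 e6 with e7 | e7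
  · rcases mul_eq_zero.1 e7 with e7 | e7
    · exact sub_eq_zero.1 e7
    · have e8 : σ x = φ x := sub_eq_zero.1 e7
      have e9 := h2 x
      rw [e8, hc, e8] at e9
      have := congrArg φ e9
      rw [hφ3] at this
      rw [e8]
      exact this.symm
  · have e8 : σ x = φ (φ x) := sub_eq_zero.1 e7
    have e9 := h2 x
    rw [e8, hc, hc, e8, hφ3] at e9
    rw [e8, e9, e9]

/-! ### automorphisms -/

open Cfsg.Agent.H967.CopMat Cfsg.Agent.H967.CopTw Cfsg.Agent.H967.CopD4 Cfsg.Agent.H967.FaTw in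
include hK in
theorem decomp (hq : IsPrimePow q) (α : MulAut ↥(twistedD4 K q)) :
    ∃ (g : ↥(twistedD4 K q)) (σ : K ≃+* K), α = MulAut.conj g * fieldAut (stab_d4 q) σ := by
  let f : (K ≃+* K) →* Cfsg.Out ↥(twistedD4 K q) := (QuotientGroup.mk' (Cfsg.Inn _)).comp (fieldAut (stab_d4 q))
  have hfin : Finite (K ≃+* K) := Finite.of_injective (fun f : K ≃+* K => (f : K → K)) DFunLike.coe_injective
  have hfY : Finite ↥(twistedD4 K q) := inferInstance
  have hfM : Finite (MulAut ↥(twistedD4 K q)) := finite_mulAut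
  have hfO : Finite (Cfsg.Out ↥(twistedD4 K q)) := finite_out
  have hinj : Function.Injective f := by
    rw [injective_iff_map_eq_one]
    intro σ hσ
    by_contra h1
    exact not_inner_d4 hq hK σ h1 ((QuotientGroup.eq_one_iff _).1 hσ)
  have h2 : Fact (Nat.Prime 2) := ⟨Nat.prime_two⟩
  have hc := H69.OutTwD4.card_out hq hK 2
  have hbij := (Nat.bijective_iff_injective_and_card f).2 ⟨hinj, hc.symm⟩
  obtain ⟨σ, hσ⟩ := hbij.2 (QuotientGroup.mk' (Cfsg.Inn _) α)
  have h3 : QuotientGroup.mk' (Cfsg.Inn ↥(twistedD4 K q)) (α * (fieldAut (stab_d4 q) σ)⁻¹) = 1 := by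
    rw [map_mul, map_inv, mul_inv_eq_one]
    exact hσ.symm
  obtain ⟨g, hg⟩ : α * (fieldAut (stab_d4 q) σ)⁻¹ ∈ Cfsg.Inn ↥(twistedD4 K q) := (QuotientGroup.eq_one_iff _).1 h3
  exact ⟨g, σ, by rw [hg, inv_mul_cancel_right]⟩


/-- the element over `-1` -/
noncomputable def m0 : ↥(twistedD4 K q) := (n hφ 0 * n hφ 1) * ((n hφ 0 * n hφ 1) * (n hφ 0 * n hφ 1))

theorem m0_rp : Rp cs (rg hφ hK).nsys ((cs.simple 0 * cs.simple 1) *
    ((cs.simple 0 * cs.simple 1) * (cs.simple 0 * cs.simple 1))) (m0 hφ) := by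
  have h1 := (rp_simple cs (rg hφ hK).nsys 0).mul (rp_simple cs (rg hφ hK).nsys 1)
  exact h1.mul (h1.mul h1)

theorem m0_neg (x : Fin 2 → ℤ) : rep cs isCartan ((cs.simple 0 * cs.simple 1) *
    ((cs.simple 0 * cs.simple 1) * (cs.simple 0 * cs.simple 1))) x = -x := by
  rw [rep_mul_apply, rep_two, rep_mul_apply, rep_two, rep_two]
  funext k
  fin_cases k
  · simp; ring
  · simp; ring

open Cfsg.Agent.H69.OutTwD4 Cfsg.Agent.KFacts.TwDFour.Out

/-- a field automorphism of `³D₄(q)` composed with an inner automorphism, trivial on `X (± sr i)` -/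
theorem rs_eq {S : Set (Fin 2 → ℤ)} {a : Fin 2 → ℤ} {i j : Fin 2} {w : CoxeterMatrix.G₂.Group}
    (N : Node (rg hφ hK) S a i j w) (σ : K ≃+* K) {g : ↥(twistedD4 K q)}
    (h1 : ∀ z ∈ X φ q (sr i), g * st q σ z * g⁻¹ = z) (h2 : ∀ z ∈ X φ q (-sr i), g * st q σ z * g⁻¹ = z)
    (b : KD φ i) : rs hφ σ i b = b := by
  have hW : Finite CoxeterMatrix.G₂.Group := finiteW
  have hG : GG cs isCartan (T K q) (X φ q) = ⊤ := GG_eq_top (Nodes.RGDTwD4.G1_eq_top cs hK hφ)
  obtain ⟨k, hk⟩ := exists_rp cs (rg hφ hK).nsys w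
  have hX : ∀ z ∈ X φ q (sr i), st q σ z ∈ X φ q (sr i) := by
    intro z hz
    obtain ⟨b, rfl⟩ := (KFacts.TwDFour.Out.mem_X hφ hK i z).1 hz
    rw [st_up]
    exact (KFacts.TwDFour.Out.mem_X hφ hK i _).2 ⟨_, rfl⟩
  obtain ⟨t, ht, h⟩ := N.scalar (hI hφ hK) hG hk (m0_rp hφ hK) m0_neg hX
    (by simp only [m0, map_mul, st_n]) h1 h2
  have key : ∀ b : KD φ i, chD hφ hK i t * rs hφ σ i b = b := by
    intro b
    have h3 := h _ ((KFacts.TwDFour.Out.mem_X hφ hK i _).2 ⟨b, rfl⟩)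
    rw [st_up] at h3
    have h4 := (coordD hφ hK i).act t ht (rs hφ σ i b)
    rw [h3] at h4
    exact ((coordD hφ hK i).inj h4).symm
  have h5 : chD hφ hK i t = 1 := by
    have := key 1
    rwa [map_one, mul_one] at this
  have h6 := key b
  rwa [h5, one_mul] at h6

open Cfsg.Agent.H967.CopMat Cfsg.Agent.H967.CopTw Cfsg.Agent.H967.CopD4 Cfsg.Agent.H967.FaTw in
include hφ in
theorem hin {S : Set (Fin 2 → ℤ)} {a : Fin 2 → ℤ} {i j : Fin 2} {w : CoxeterMatrix.G₂.Group}
    (N : Node (rg hφ hK) S a i j w) (hq : IsPrimePow q) (α : MulAut ↥(twistedD4 K q)) (hα : α * α = 1)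
    (h1 : ∀ z ∈ X φ q (sr i), α z = z) (h2 : ∀ z ∈ X φ q (-sr i), α z = z) : ∃ g, α = MulAut.conj g := by
  obtain ⟨g, σ, rfl⟩ := decomp hK hq α
  have hst : fieldAut (stab_d4 q) σ = st q σ := rfl
  rw [hst] at hα h1 h2 ⊢
  have h3 : ∀ b : KD φ i, rs hφ σ i b = b := fun b => rs_eq hφ hK N σ (g := g) h1 h2 b
  have hσ : σ = 1 := by
    refine sigma_eq_one (φ := φ) (fun x => ?_) (fun x => ?_) (fun x hx => ?_) (fun x => ?_)
    · rw [hφ, hφ, hφ, ← pow_mul, ← pow_mul]
      have : q * (q * q) = q ^ 3 := by ring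
      rw [this, ← hK]
      exact FiniteField.pow_card x
    · rw [hφ, hφ, map_pow]
    · have h4 : x ∈ KD φ i := by
        rw [Nodes.RGDFoldSL.mem_Fx]
        have : ∀ k, φ^[k] x = x := fun k => Function.iterate_fixed hx k
        exact this _
      exact congrArg Subtype.val (h3 ⟨x, h4⟩)
    · -- `σ²` is inner
      have h4 : σ * σ = 1 := by
        by_contra hne
        apply not_inner_d4 hq hK (σ * σ) hne
        refine ⟨(g * st q σ g)⁻¹, ?_⟩
        rw [map_mul (fieldAut (stab_d4 q)), hst, map_inv, map_mul]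
        have h5 : MulAut.conj (st q σ g) = st q σ * MulAut.conj g * (st q σ)⁻¹ := by
          apply MulEquiv.ext
          intro y
          simp only [MulAut.mul_apply, MulAut.conj_apply, map_mul, map_inv, MulAut.apply_inv_self]
        have h6 : MulAut.conj g * (MulAut.conj (st q σ g)) * (st q σ * st q σ) = 1 := by
          rw [h5, ← hα]; group
        exact inv_eq_of_mul_eq_one_right h6
      exact congrArg (fun τ : K ≃+* K => τ x) h4
  refine ⟨g, ?_⟩
  rw [hσ]
  have : st q (1 : K ≃+* K) = 1 := by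
    rw [← show fieldAut (stab_d4 q) (1 : K ≃+* K) = st q 1 from rfl, map_one]
  rw [this, mul_one]


/-! ### the row -/

open Cfsg.Agent.H83.ChevInv Cfsg.Agent.H83.OrthRed Cfsg.Agent.H83.FoldInv Cfsg.Agent.ChevalleyStructure.Elts

/-- the root element of the node `i` -/
noncomputable def vr (i : Fin 2) : ↥(twistedD4 K q) := _root_.Cfsg.Agent.BiChar.TwDFour.Ph hφ (D4Fixed.twisted_le_fix hK hφ) i (up 1)

theorem good_vr (hq : IsPrimePow q) (i : Fin 2) : Good (vr hφ hK i) := by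
  have hW : Finite CoxeterMatrix.G₂.Group := finiteW
  have hfY : Finite ↥(twistedD4 K q) := inferInstance
  have hG : GG cs isCartan (T K q) (X φ q) = ⊤ := GG_eq_top (Nodes.RGDTwD4.G1_eq_top cs hK hφ)
  have hle : twistedD4 K q ≤ D4Fixed.fix φ := D4Fixed.twisted_le_fix hK hφ
  have hv : vr hφ hK i ∈ X φ q (sr i) := (BiChar.TwDFour.mem_X hφ hle i _).2 ⟨1, rfl⟩
  have hch : CharP (Fx φ ((Nodes.RGDTwNode.D4.rest i).length + 1)) 2 := charP_KD 2 i
  have hv2 : vr hφ hK i * vr hφ hK i = 1 := by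
    unfold vr
    rw [← map_mul, up_sq, map_one]
  have hv1 : vr hφ hK i ≠ 1 := by
    intro h1
    have h2 := (coordD hφ hK i).inj (a₁ := 1) (a₂ := 0) (by
      rw [(coordD hφ hK i).zero]
      exact h1)
    exact one_ne_zero h2
  have hv3 : (vr hφ hK i * ((n hφ i)⁻¹ * vr hφ hK i * n hφ i)) ^ 3 = 1 := by
    unfold vr
    rw [← BiChar.TwDFour.Ph_wS hφ hle i, ← map_inv, ← map_mul, ← map_mul, ← map_mul, ← map_pow, up_cube, map_one]
  have hi : i = 0 ∨ i = 1 := by fin_cases i <;> simp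
  rcases hi with rfl | rfl
  · exact (nodeL hφ hK).good (hI hφ hK) hG hv hv1 hv2 hv3 fun α => hin hφ hK (nodeS hφ hK) hq α
  · exact (nodeS hφ hK).good (hI hφ hK) hG hv hv1 hv2 hv3 fun α => hin hφ hK (nodeL hφ hK) hq α

theorem coe_vr0 : (vr hφ hK 0 : GL chevD4.Idx K) = PX hp.inList K [14] := by
  have h1 := coe_Phi_up (foldGrp hφ (D4Fixed.twisted_le_fix hK hφ)) (Nodes.RGDTwNode.D4.nodeOK 0)
    (BiChar.TwDFour.hf φ 0) 1
  refine Eq.trans h1 ?_
  rw [PX_cons, PX_nil]
  rfl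

theorem coe_vr1 : (vr hφ hK 1 : GL chevD4.Idx K) = PX hp.inList K [18, 13, 12] := by
  have h1 := coe_Phi_up (foldGrp hφ (D4Fixed.twisted_le_fix hK hφ)) (Nodes.RGDTwNode.D4.nodeOK 1)
    (BiChar.TwDFour.hf φ 1) 1
  refine Eq.trans h1 ?_
  rw [PX_cons, PX_cons, PX_cons, PX_nil]
  show xG hp.inList 18 1 * (xG hp.inList 13 (φ 1) * (xG hp.inList 12 (φ (φ 1)) * 1)) = _
  rw [map_one, map_one]

include hφ hK in
theorem good (hq : IsPrimePow q) (y : ↥(twistedD4 K q)) (hy1 : y ≠ 1) (hy2 : y * y = 1) : Good y := by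
  have FG := foldGrp hφ (D4Fixed.twisted_le_fix hK hφ)
  obtain ⟨e, he⟩ : ∃ e, e = H83.TwDFour.exists_rep hK y.2 (congrArg Subtype.val hy2) := ⟨_, rfl⟩
  clear he
  rcases e with h1 | ⟨R, hR, g, hg, e⟩
  · exact absurd (Subtype.ext h1) hy1
  have key : ∃ (i : Fin 2) (z : ↥(twistedD4 K q)), (z * y * z⁻¹ : ↥(twistedD4 K q)) = vr hφ hK i := by
    simp only [List.mem_cons, List.not_mem_nil, or_false] at hR
    rcases hR with rfl | rfl
    · have h0 : EqvG hp.inList K (twistedD4 K q) [14] ([14].map (bact chevD4 J [0, 1])) :=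
        EqvG.bword (hp := hp) FG [0, 1] (by
          intro r hr; rw [List.mem_singleton] at hr; subst hr; rw [nroots]; norm_num)
      obtain ⟨k, hk, e2⟩ := h0
      have e3 : [14].map (bact chevD4 J [0, 1]) = [23] := by decide +kernel
      rw [e3] at e2
      refine ⟨0, ⟨k⁻¹ * g, mul_mem (inv_mem hk) hg⟩, Subtype.ext ?_⟩
      show k⁻¹ * g * y * (k⁻¹ * g)⁻¹ = _
      rw [coe_vr0 hφ hK]
      calc k⁻¹ * g * y * (k⁻¹ * g)⁻¹ = k⁻¹ * (g * y * g⁻¹) * k := by group
        _ = _ := by rw [e, ← e2]; group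
    · refine ⟨1, ⟨g, hg⟩, Subtype.ext ?_⟩
      show g * y * g⁻¹ = _
      rw [coe_vr1 hφ hK]
      exact e
  obtain ⟨i, z, hz⟩ := key
  have h1 := (good_vr hφ hK hq i).conj z⁻¹
  rw [← hz] at h1
  have h2 : z⁻¹ * (z * y * z⁻¹) * z⁻¹⁻¹ = y := by group
  rwa [h2] at h1

/-- **Row twD4.** -/
theorem dead : DeadS.{u} fun K _ => H731.SK.TwDFourEven K := by
  rintro G _ _ V K h ⟨F, iF, iT, iC, q, hq, hF, he⟩
  obtain ⟨φ, hφ⟩ := D4Fixed.exists_frob hq hF
  obtain ⟨p, f, hp', hc, hf, rfl, hF'⟩ := H565.CopTw.exists_params hq hF (by norm_num)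
  have : Fact p.Prime := ⟨hp'⟩
  have h6 : ∀ y : ↥(twistedD4 F (p ^ f)), y ≠ 1 → y * y = 1 → Good y := @good F iF iT iC _ _ hφ hF hq
  exact dead_of_good h6 (outLe_3d4 p f hF' hf) V K h he

end Cfsg.Agent.H282.SK.TwDFour
end

private theorem dce_c385db8128d5 : _root_.True := by
  try have : _root_.True := by simp only [_root_.Cfsg.Agent.H282.SK.TwDFour.m0.eq_1]
  try have : _root_.True := by simp only [_root_.Cfsg.Agent.Nodes.RGDTwD4.A.eq_1]
  try have : _root_.True := by simp only [_root_.Cfsg.Agent.H259.SK.torM.eq_1]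
  try have : _root_.True := by simp only [_root_.Cfsg.Agent.H259.SK.TT.eq_1]
  try have : _root_.True := by simp only [_root_.Cfsg.Agent.H259.SK.Pairs.congr_simp]
  exact _root_.True.intro
end

-- part: H297/SK/TwRow_mg
section
prune_inst 0x4440122000000000000c00000040c00009010200c01cc0100400000a34004028100042000034002a20800040020030000500000000000000000000005010008020400400000000080000084000000000000000000000000000000000000200000000
set_option linter.all false
open scoped Cfsg.Agent.FastGrp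

-- part: H297/SK/TwF
section
/-!
# S3010, characteristic two: twisted Frobenius automorphisms as frame automorphisms (helper297)

`TwF cs h e F σ φ` : `F (e x a) = e (x ∘ σ) (φ a)`, `σ` an involutory diagram symmetry, `φ² = 1`.

* `o2_tw_big`, `o2_tw_two` : `Fix F ∩ C(v) ∩ C(x) ∩ Fix γ` has no nontrivial normal 2-subgroup;
* `o2_sub` : passage to a normal subgroup of `Fix F`.
-/

set_option autoImplicit false
set_option linter.unusedSectionVars false

namespace Cfsg.Agent.H297.SK.Tw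

open CoxeterSystem Cfsg.Agent.ChevalleyStructure.CoxeterGeom Cfsg.Agent.Tits.Roots Cfsg.Agent.Tits.Core
  Cfsg.Agent.Tits.Exchange Cfsg.Agent.Nodes.Reps Cfsg.Agent.Nodes.BNOf Cfsg.Agent.Nodes.StabComb
  Cfsg.Agent.Nodes.Bruhat Cfsg.Agent.Nodes.OppDec Cfsg.Agent.Nodes.LeviDec Cfsg.Agent.Nodes.NormalForm
  Cfsg.Agent.Nodes.Coroot
  Cfsg.Agent.KFacts.RgdField Cfsg.Agent.BpExc.TorCent Cfsg.Agent.KFacts.RgdOpp Cfsg.Agent.KFacts.RgdCent
  Cfsg.Agent.KFacts.ChevTwo Cfsg.Agent.KFacts.RgdSys Cfsg.Agent.H737.SK.O2 Cfsg.Agent.H282.SK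
  Cfsg.Agent.KFacts.RgdRigid Cfsg.Agent.H737.SK.Gen

/-! ### passage to a normal subgroup -/

theorem o2_sub {G : Type*} [Group G] [Finite G] {L Fx D : Subgroup G} (hL : L ≤ Fx)
    (hn : ∀ g ∈ Fx, ∀ z ∈ L, g * z * g⁻¹ ∈ L)
    (H : ∀ N : Subgroup G, IsPGroup 2 N → N ≤ Fx ⊓ D → (∀ g ∈ Fx ⊓ D, ∀ z ∈ N, g * z * g⁻¹ ∈ N) → N = ⊥)
    {N : Subgroup G} (hNp : IsPGroup 2 N) (hNL : N ≤ L ⊓ D) (hN : ∀ g ∈ L ⊓ D, ∀ z ∈ N, g * z * g⁻¹ ∈ N) :
    N = ⊥ := by
  have h1 : ∀ g ∈ Fx ⊓ D, (L ⊓ D).map (MulAut.conj g).toMonoidHom = L ⊓ D := by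
    intro g hg
    refine Subgroup.eq_of_le_of_card_ge ?_ ?_
    · rintro _ ⟨z, hz, rfl⟩
      show g * z * g⁻¹ ∈ L ⊓ D
      exact ⟨hn g hg.1 z hz.1, D.mul_mem (D.mul_mem hg.2 hz.2) (D.inv_mem hg.2)⟩
    · rw [Subgroup.card_map_of_injective (MulEquiv.injective _)]
  have h2 : O2 (L ⊓ D) = ⊥ := by
    apply H _ (isPGroup_O2 _)
    · exact (O2_le _).trans (inf_le_inf_right D hL)
    · intro g hg z hz
      have h3 := mem_O2_conj g hz
      rwa [h1 g hg] at h3
  rw [eq_bot_iff, ← h2]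
  intro z hz
  rw [mem_O2_iff]
  refine ⟨N, hNL, fun g hg => ?_, hNp, hz⟩
  rw [Subgroup.mem_normalizer_iff]
  intro y
  refine ⟨hN g hg y, fun hy => ?_⟩
  have h3 := hN g⁻¹ (inv_mem hg) _ hy
  have h4 : g⁻¹ * (g * y * g⁻¹) * g⁻¹⁻¹ = y := by group
  rwa [h4] at h3

variable {I W Y K : Type*} [Fintype I] [DecidableEq I] [Group W] [Group Y] [Field K] {M : CoxeterMatrix I}
variable {cs : CoxeterSystem M W} {A : I → I → ℤ} {h : IsCartan M A} {e : (I → ℤ) → K → Y}
  {p : ℕ} {T : Subgroup Y} {n : I → Y} {X : (I → ℤ) → Subgroup Y}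

/-- the twisted Frobenius automorphism -/
structure TwF (cs : CoxeterSystem M W) (h : IsCartan M A) (e : (I → ℤ) → K → Y) (F : MulAut Y) (σ : I → I)
    (φ : K →+* K) : Prop where
  invol : ∀ i, σ (σ i) = i
  cart : ∀ i j, A (σ i) (σ j) = A i j
  map : ∀ x, IsRoot cs h x → ∀ a, F (e x a) = e (fun i => x (σ i)) (φ a)
  phi : ∀ a, φ (φ a) = a

theorem neg_comp {σ : I → I} (hσ : ∀ i, σ (σ i) = i) (j : I) : (fun k => (-sr j : I → ℤ) (σ k)) = -sr (σ j) := by
  rw [← sr_comp hσ]; rfl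

section

variable [Finite W] {R : RGD cs h p T n X} (S : Sys R e) {F : MulAut Y} {σ : I → I} {φ : K →+* K}
  (hF : TwF cs h e F σ φ)

include hF

theorem TwF.root {x : I → ℤ} (hx : IsRoot cs h x) : IsRoot cs h (fun k => x (σ k)) := by
  obtain ⟨w, i, rfl⟩ := hx
  obtain ⟨ω, rfl⟩ := cs.wordProd_surjective w
  rw [← rep_comp hF.invol hF.cart, sr_comp hF.invol]
  exact (isRoot_sr cs h _).act _

theorem TwF.nc (j : I) (c : K) : F (nc e (sr j) c) = nc e (sr (σ j)) (φ c) := by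
  rw [nc_def, nc_def, map_mul, map_mul, hF.map _ (isRoot_sr cs h j), hF.map _ (isRoot_sr cs h j).neg,
    sr_comp hF.invol, neg_comp hF.invol, map_inv₀]

theorem TwF.nel (j : I) : F (nel e (sr j)) = nel e (sr (σ j)) := by
  have h1 := hF.nc j 1
  rwa [map_one] at h1

theorem TwF.hel (j : I) (c : K) : F (hel e (sr j) c) = hel e (sr (σ j)) (φ c) := by
  rw [hel_def, hel_def, map_mul, hF.nc, hF.nel]

include S in
theorem TwF.map_T (hG1 : RGD.Sup X {x | IsRoot cs h x} = ⊤) {t : Y} (ht : t ∈ T) : F t ∈ T := by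
  refine mem_T_of_norm S hG1 fun r hr => ?_
  obtain ⟨χ, hχ⟩ := S.chi t ht
  refine ⟨φ ((χ (fun k => r (σ k))).toMul : Kˣ), (map_ne_zero φ).2 (Units.ne_zero _), fun a => ?_⟩
  have h1 := congrArg F (hχ _ (hF.root hr) (φ a))
  have h2 : (fun k => (fun k => r (σ k)) (σ k)) = r := by
    funext k
    show r (σ (σ k)) = r k
    rw [hF.invol]
  rw [map_mul, map_mul, map_inv, hF.map _ (hF.root hr), hF.map _ (hF.root hr), h2, hF.phi, map_mul, hF.phi] at h1
  exact h1

include S in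
theorem TwF.frA (hG1 : RGD.Sup X {x | IsRoot cs h x} = ⊤) : FrA R F (fun x k => x (σ k)) (th cs σ) where
  root _ ha := hF.root ha
  map a ha z hz := by
    obtain ⟨c, rfl⟩ := (S.mem_X a ha z).1 hz
    rw [hF.map a ha]
    exact S.mem (hF.root ha) _
  rp w k hk := by
    obtain ⟨ω, hω, h1⟩ := th_spec (cs := cs) σ w
    rw [h1]
    subst hω
    have key : ∀ ω : List I, Rp cs R.nsys (cs.wordProd ω) (pr ω fun j => KFacts.ChevTwo.nel e (sr j)) ∧
        F (pr ω fun j => KFacts.ChevTwo.nel e (sr j)) = pr (ω.map σ) fun j => KFacts.ChevTwo.nel e (sr j) := by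
      intro ω
      refine ⟨nJ_rp S ω, ?_⟩
      unfold pr
      rw [map_list_prod, List.map_map, List.map_map]
      congr 1
      exact List.map_congr_left fun j _ => hF.nel j
    obtain ⟨h2, h3⟩ := key ω
    have h4 : k = (pr ω fun j => KFacts.ChevTwo.nel e (sr j)) * ((pr ω fun j => KFacts.ChevTwo.nel e (sr j))⁻¹ * k) := by
      group
    rw [h4, map_mul, h3]
    exact (nJ_rp S (ω.map σ)).mul_mem_right (hF.map_T S hG1 (h2.unique hk))
  rep' w a ha := by
    obtain ⟨ω, hω, h1⟩ := th_spec (cs := cs) σ w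
    rw [h1, rep_comp hF.invol hF.cart, hω]
  neg a := rfl

include S in
/-- `F` has order 2 -/
theorem TwF.sq (hG1 : RGD.Sup X {x | IsRoot cs h x} = ⊤) (z : Y) : F (F z) = z := by
  have h1 : (RGD.Sup X {x | IsRoot cs h x}) ≤ FixA (F * F) := by
    refine RGD.Sup_le fun y hy u hu => ?_
    obtain ⟨c, rfl⟩ := (S.mem_X y hy u).1 hu
    show F (F (e y c)) = e y c
    rw [hF.map y hy, hF.map _ (hF.root hy), hF.phi]
    congr 1
    funext k
    show y (σ (σ k)) = y k
    rw [hF.invol]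
  rw [hG1] at h1
  exact h1 (Subgroup.mem_top z)

include S in
theorem TwF.pr {J : List I} (hJ : Orth cs h J) (hJσ : (J.map σ).Perm J) {f g : I → Y} (hf : ∀ j ∈ J, f j ∈ SS X j)
    (hg : ∀ j ∈ J, g j ∈ SS X j) (hfγ : ∀ j, F (f j) = g (σ j)) : F (pr J f) = pr J g := by
  have h1 : F (H737.SK.Gen.pr J f) = H737.SK.Gen.pr (J.map σ) g := by
    unfold H737.SK.Gen.pr
    rw [map_list_prod, List.map_map, List.map_map]
    congr 1
    exact List.map_congr_left fun j _ => hfγ j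
  rw [h1]
  exact pr_perm hJσ (commL S hJ hg hg)

include S in
/-- `F` commutes with graph automorphisms -/
theorem TwF.comm (hG1 : RGD.Sup X {x | IsRoot cs h x} = ⊤) {γ : MulAut Y} {σ' : I → I} (hγ : Gra cs h e γ σ')
    (hσ : ∀ i, σ (σ' i) = σ' (σ i)) (z : Y) : F (γ z) = γ (F z) := by
  have h1 : (RGD.Sup X {x | IsRoot cs h x}) ≤ FixA ((γ * F)⁻¹ * (F * γ)) := by
    refine RGD.Sup_le fun y hy u hu => ?_
    obtain ⟨c, rfl⟩ := (S.mem_X y hy u).1 hu
    have h2 : (F * γ) (e y c) = (γ * F) (e y c) := by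
      show F (γ (e y c)) = γ (F (e y c))
      rw [hγ.map y hy, hF.map _ (hγ.root hy), hF.map y hy, hγ.map _ (hF.root hy)]
      congr 1
      funext k
      show y (σ' (σ k)) = y (σ (σ' k))
      rw [hσ]
    show (γ * F)⁻¹ ((F * γ) (e y c)) = e y c
    rw [h2, MulAut.inv_apply_self]
  rw [hG1] at h1
  have h2 : (γ * F)⁻¹ ((F * γ) z) = z := h1 (Subgroup.mem_top z)
  have h3 := congrArg (γ * F) h2
  rwa [MulAut.apply_inv_self] at h3

end

/-! ### Admissibility -/

section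

variable [Finite W] [Finite Y] [Finite K] {R : RGD cs h 2 T n X} (S : Sys R e) {J : List I} (hJ : Orth cs h J)
  (hG1 : RGD.Sup X {x | IsRoot cs h x} = ⊤) (hN : NoCent cs h T X) {F : MulAut Y} {σ : I → I} {φ : K →+* K}
  (hF : TwF cs h e F σ φ) (hJσ : (J.map σ).Perm J) {γ : MulAut Y} {σ' : I → I} (hγ : Gra cs h e γ σ')
  (hJσ' : (J.map σ').Perm J) (hσ : ∀ i, σ (σ' i) = σ' (σ i))

include S hJ hG1 hN hF hJσ hγ hJσ' hσ

/-- **`q ≥ 4`: `Fix F ∩ C(nJ) ∩ C(tJ) ∩ Fix γ` has no nontrivial normal 2-subgroup.** -/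
theorem o2_tw_big {l : ℕ} (hl : l.Prime)
    (hl2 : l ≠ 2) {c : K} (hc : c ≠ 0) (hc1 : c ≠ 1) (hcl : c ^ l = 1) (hφc : φ c = c) {N : Subgroup Y}
    (hNp : IsPGroup 2 N)
    (hNH : N ≤ FixA F ⊓ (Subgroup.centralizer {pr J fun j => nel e (sr j)} ⊓
      Subgroup.centralizer {pr J fun j => hel e (sr j) c} ⊓ FixA γ))
    (hn : ∀ g ∈ FixA F ⊓ (Subgroup.centralizer {pr J fun j => nel e (sr j)} ⊓
      Subgroup.centralizer {pr J fun j => hel e (sr j) c} ⊓ FixA γ), ∀ z ∈ N, g * z * g⁻¹ ∈ N) : N = ⊥ := by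
  have : Fact (Nat.Prime 2) := ⟨Nat.prime_two⟩
  have C := coords S hG1
  have htT := tJ_mem S hG1 hc J
  have hc2 : c ^ (2 : ℤ) ≠ 1 := by
    intro h0
    have h1 : c ^ 2 = 1 := by exact_mod_cast h0
    exact hc1 (orderOf_eq_one_iff.1 (Nat.eq_one_of_dvd_coprimes ((Nat.coprime_primes hl Nat.prime_two).2 hl2)
      (orderOf_dvd_of_pow_eq_one hcl) (orderOf_dvd_of_pow_eq_one h1)))
  have hγv : γ (pr J fun j => nel e (sr j)) = pr J fun j => nel e (sr j) :=
    hγ.pr S hJ hJσ' (fun j _ => nel_mem S j) fun j => hγ.nel j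
  have hFv : F (pr J fun j => nel e (sr j)) = pr J fun j => nel e (sr j) :=
    hF.pr S hJ hJσ (fun j _ => nel_mem S j) (fun j _ => nel_mem S j) fun j => hF.nel j
  have hFt : F (pr J fun j => hel e (sr j) c) = pr J fun j => hel e (sr j) c :=
    hF.pr S hJ hJσ (fun j _ => hel_memS S j c) (fun j _ => hel_memS S j c) fun j => by rw [hF.hel, hφc]
  have hA0 : Adm2 R (chS e) (pr J fun j => hel e (sr j) c)
      ((⊤ ⊓ FixA (MulAut.conj (pr J fun j => nel e (sr j)))) ⊓ FixA F) := by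
    refine Adm2.fix C htT (hF.frA S hG1) (fun z hz => cent_of_inv (Or.inr hFt) hz) (fun a _ h0 k => h0 (σ k))
      (fun a _ h0 k => h0 (σ k)) (adm_v S hJ hG1 hN hc hc2) ?_ ⟨1, ?_⟩
    · intro z hz
      rw [mem_top_fix] at hz ⊢
      have h1 := congrArg F hz
      rwa [map_mul, map_mul, hFv] at h1
    · intro z _
      rw [pow_one, pow_two, MulAut.mul_apply, hF.sq S hG1]
  have hA := adm_gra S hJ hG1 hN hγ hJσ' hc hA0 (by
    rintro z ⟨h1, h2⟩
    refine ⟨?_, ?_⟩
    · have h1' : z * (pr J fun j => nel e (sr j)) = (pr J fun j => nel e (sr j)) * z := mem_top_fix.1 h1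
      have h3 := congrArg γ h1'
      rw [map_mul, map_mul, hγv] at h3
      exact mem_top_fix.2 h3
    · show F (γ z) = γ z
      rw [hF.comm S hG1 hγ hσ, (h2 : F z = z)])
  refine hA.eq_bot C htT (chAdd S) hl hl2 ?_ (GG_eq_top (T := T) hG1) hNp (fun z hz => ?_) ?_
  · intro a ha
    rw [chi_tJ S hG1 ha hc, ← zpow_natCast, ← zpow_mul, mul_comm, zpow_mul, zpow_natCast, hcl, one_zpow]
  · obtain ⟨h1, ⟨h2, h3⟩, h4⟩ := hNH hz
    exact ⟨⟨⟨mem_top_fix.2 (Subgroup.mem_centralizer_singleton_iff.1 h2), h1⟩, h4⟩, h3⟩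
  · rintro g ⟨⟨⟨h1, h2⟩, h3⟩, h4⟩ z hz
    exact hn g ⟨h2, ⟨Subgroup.mem_centralizer_singleton_iff.2 (mem_top_fix.1 h1), h4⟩, h3⟩ z hz

/-- **`q = 2`: `Fix F ∩ C(nJ) ∩ C(xJ) ∩ Fix γ` has no nontrivial normal 2-subgroup.** -/
theorem o2_tw_two {ζ : K} (hζ : ζ ^ 2 = ζ + 1) (hφζ : φ ζ = ζ ^ 2) {N : Subgroup Y}
    (hNp : IsPGroup 2 N)
    (hNH : N ≤ FixA F ⊓ (Subgroup.centralizer {pr J fun j => nel e (sr j)} ⊓
      Subgroup.centralizer {pr J (xl e)} ⊓ FixA γ))
    (hn : ∀ g ∈ FixA F ⊓ (Subgroup.centralizer {pr J fun j => nel e (sr j)} ⊓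
      Subgroup.centralizer {pr J (xl e)} ⊓ FixA γ), ∀ z ∈ N, g * z * g⁻¹ ∈ N) : N = ⊥ := by
  have : Fact (Nat.Prime 2) := ⟨Nat.prime_two⟩
  have hζ0 : ζ ≠ 0 := by
    rintro rfl
    rw [zero_pow two_ne_zero, zero_add] at hζ
    exact zero_ne_one hζ
  have h2K : (2 : K) = 0 := by
    have := S.data.two (1 : K)
    rwa [one_add_one_eq_two] at this
  have hζ3 : ζ ^ 3 = 1 := by linear_combination (ζ + 1) * hζ + ζ * h2K
  have hζi : ζ ^ 2 = ζ⁻¹ := eq_inv_of_mul_eq_one_left (by linear_combination hζ3)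
  have hc2 : ζ ^ (2 : ℤ) ≠ 1 := by
    intro h0
    have h1 : ζ ^ 2 = 1 := by exact_mod_cast h0
    exact hζ0 (by linear_combination h1 - hζ)
  have hφζ2 : φ (ζ ^ 2) = ζ := by rw [← hφζ, hF.phi]
  have hal : ∀ j, F (al e ζ j) = al e ζ (σ j) * nel e (sr (σ j)) := by
    intro j
    rw [al_nel S hζ]
    unfold al
    rw [map_mul, map_mul, hF.map _ (isRoot_sr cs h j), hF.map _ (isRoot_sr cs h j).neg, sr_comp hF.invol,
      neg_comp hF.invol, map_one, hφζ2]
  set v : Y := pr J fun j => nel e (sr j) with hv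
  set t : Y := pr J fun j => hel e (sr j) ζ with ht
  set a : Y := pr J (al e ζ) with ha
  set x : Y := pr J (xl e) with hx
  have hFt : F t = t⁻¹ := by
    rw [ht, tJ_inv S hJ hG1 hN hζ0]
    exact hF.pr S hJ hJσ (fun j _ => hel_memS S j ζ) (fun j _ => hel_memS S j _) fun j => by
      rw [hF.hel, hφζ, hζi]
  have hFv : F v = v := hF.pr S hJ hJσ (fun j _ => nel_mem S j) (fun j _ => nel_mem S j) fun j => hF.nel j
  have hFa : F a = a * v := by
    rw [ha, hv, pr_mul hJ.nodup (commL S hJ (fun j _ => al_mem S ζ j) fun j _ => nel_mem S j)]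
    exact hF.pr S hJ hJσ (fun j _ => al_mem S ζ j) (fun j _ => mul_mem (al_mem S ζ j) (nel_mem S j)) hal
  have hγv : γ v = v := hγ.pr S hJ hJσ' (fun j _ => nel_mem S j) fun j => hγ.nel j
  have hγa : γ a = a := by
    refine hγ.pr S hJ hJσ' (fun j _ => al_mem S ζ j) fun j => ?_
    unfold al
    rw [map_mul, map_mul, hγ.map _ (isRoot_sr cs h j), hγ.map _ (isRoot_sr cs h j).neg, sr_comp hγ.invol,
      neg_comp hγ.invol]
  have ha2 : a * a = 1 := alJ_sq S hJ ζ
  have hv2 : v * v = 1 := nJ_sq S hJ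
  have hav : a * v = v * a := alJ_nJ S hJ hζ
  have haxa : a * x * a = t := alJ_xlJ S hJ hG1 hN hζ
  have hata : a * t * a = x := by
    rw [← haxa]
    calc a * (a * x * a) * a = (a * a) * x * (a * a) := by group
      _ = x := by rw [ha2, one_mul, mul_one]
  have C := coords S hG1
  have htT : t ∈ T := tJ_mem S hG1 hζ0 J
  have hB : Adm2 R (chS e) t ((⊤ ⊓ FixA (MulAut.conj v)) ⊓ FixA F) := by
    refine Adm2.fix C htT (hF.frA S hG1) (fun z hz => cent_of_inv (Or.inl hFt) hz) (fun a _ h0 k => h0 (σ k))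
      (fun a _ h0 k => h0 (σ k)) (adm_v S hJ hG1 hN hζ0 hc2) ?_ ⟨1, ?_⟩
    · intro z hz
      rw [mem_top_fix] at hz ⊢
      have h1 := congrArg F hz
      rwa [map_mul, map_mul, hFv] at h1
    · intro z _
      rw [pow_one, pow_two, MulAut.mul_apply, hF.sq S hG1]
  have hB' := adm_gra S hJ hG1 hN hγ hJσ' hζ0 hB (by
    rintro z ⟨h1, h2⟩
    refine ⟨?_, ?_⟩
    · have h1' : z * v = v * z := mem_top_fix.1 h1
      have h3 := congrArg γ h1'
      rw [map_mul, map_mul, hγv] at h3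
      exact mem_top_fix.2 h3
    · show F (γ z) = γ z
      rw [hF.comm S hG1 hγ hσ, (h2 : F z = z)])
  -- conjugation by `a`
  have key : ∀ z s, F z = z → z * v = v * z → z * s = s * z → γ z = z →
      F (a * z * a) = a * z * a ∧ (a * z * a) * v = v * (a * z * a) ∧
        (a * z * a) * (a * s * a) = (a * s * a) * (a * z * a) ∧ γ (a * z * a) = a * z * a := by
    intro z s h1 h2 h3 h4
    refine ⟨conj_fix hv2 hav hFa h1 h2, ?_, conj_comm ha2 h3, by rw [map_mul, map_mul, hγa, h4]⟩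
    calc a * z * a * v = a * z * (a * v) := by group
      _ = a * (z * v) * a := by rw [hav]; group
      _ = a * (v * z) * a := by rw [h2]
      _ = (a * v) * z * a := by group
      _ = v * (a * z * a) := by rw [hav]; group
  have hconj : ∀ z : Y, MulAut.conj a z = a * z * a := by
    intro z
    rw [MulAut.conj_apply, inv_eq_of_mul_eq_one_right ha2]
  have h0 : N.map (MulAut.conj a).toMonoidHom = ⊥ := by
    refine hB'.eq_bot C htT (chAdd S) Nat.prime_three (by norm_num) ?_ (GG_eq_top (T := T) hG1) (hNp.map _) ?_ ?_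
    · intro b hb
      rw [ht, chi_tJ S hG1 hb hζ0, ← zpow_natCast, ← zpow_mul, mul_comm, zpow_mul, zpow_natCast, hζ3, one_zpow]
    · rintro _ ⟨z, hz, rfl⟩
      obtain ⟨h1, ⟨h2, h3⟩, hg⟩ := hNH hz
      obtain ⟨h4, h5, h6, h7⟩ := key z x h1 (Subgroup.mem_centralizer_singleton_iff.1 h2)
        (Subgroup.mem_centralizer_singleton_iff.1 h3) hg
      rw [haxa] at h6
      show MulAut.conj a z ∈ _
      rw [hconj]
      exact ⟨⟨⟨mem_top_fix.2 h5, h4⟩, h7⟩, Subgroup.mem_centralizer_singleton_iff.2 h6⟩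
    · rintro g ⟨⟨⟨h1, h2⟩, h2'⟩, h3⟩ _ ⟨z, hz, rfl⟩
      have h1' : g * v = v * g := mem_top_fix.1 h1
      obtain ⟨h4, h5, h6, h6'⟩ := key g t h2 h1' (Subgroup.mem_centralizer_singleton_iff.1 h3) h2'
      rw [hata] at h6
      have h7 := hn (a * g * a) ⟨h4, ⟨Subgroup.mem_centralizer_singleton_iff.2 h5,
        Subgroup.mem_centralizer_singleton_iff.2 h6⟩, h6'⟩ z hz
      refine ⟨_, h7, ?_⟩
      show MulAut.conj a _ = g * MulAut.conj a z * g⁻¹
      have hai : a⁻¹ = a := inv_eq_of_mul_eq_one_right ha2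
      rw [hconj, hconj]
      calc a * (a * g * a * z * (a * g * a)⁻¹) * a = (a * a) * g * (a * z * a⁻¹) * g⁻¹ * (a⁻¹ * a) := by group
        _ = g * (a * z * a) * g⁻¹ := by rw [ha2, hai, ha2, one_mul, mul_one]
  rw [Subgroup.map_eq_bot_iff_of_injective _ (MulEquiv.injective _)] at h0
  exact h0

end

end Cfsg.Agent.H297.SK.Tw
end

-- part: H297/SK/TwE
section
/-!
# S3010: `²E₆(q)`, `q` even, inside `E₆(q²)` (helper297)

* `FF` : the twisted Frobenius automorphism of `chevE6.group K`; `twF` : `TwF`;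
* `L0` : `²E₆(q)` in `chevE6.group K`, `io` : the embedding; `le_fix`, `normal`;
* `mem1`, `mem2` : root elements in `L0`;
* `pb` : the data `PB`.
-/

set_option autoImplicit false
set_option linter.unusedSectionVars false
set_option linter.unusedVariables false

namespace Cfsg.Agent.H297.SK.TwE

open CoxeterSystem Cfsg.Agent.ChevalleyStructure.CoxeterGeom Cfsg.Agent.Tits.Roots Cfsg.Agent.Tits.Core
  Cfsg.Agent.Nodes.Reps Cfsg.Agent.Nodes.BNOf Cfsg.Agent.Nodes.Coroot
open Cfsg.Lie Cfsg.Agent.ChevalleyStructure Cfsg.Agent.ChevalleyStructure.Elts Cfsg.Agent.ChevalleyStructure.NPerm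
  Cfsg.Agent.ChevalleyStructure.CoxeterGeomTypes Cfsg.Agent.Nodes Cfsg.Agent.Nodes.RGDChev
  Cfsg.Agent.KFacts.ChevTwo Cfsg.Agent.KFacts.ChevTwoInst Cfsg.Agent.KFacts.RgdChevCoord
  Cfsg.Agent.KFacts.RgdCent Cfsg.Agent.H737.SK.Gen Cfsg.Agent.H297.SK.Dich Cfsg.Agent.H297.SK.DichE6
  Cfsg.Agent.H297.SK.Tw Cfsg.Agent.H737.SK.O2 Cfsg.Agent.BpExc.EmbInst
open Cfsg.Agent.H129.TwE6Fr (gam coe_gam flip6 flip_vec flip6_apply sg_one_sq sg_mem)
open Cfsg.Agent.ChevalleyStructure.TwE6Basic (sg rho)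

universe u

/-- the Coxeter system -/
noncomputable abbrev cs0 : CoxeterSystem CoxeterMatrix.E₆ CoxeterMatrix.E₆.Group := CoxeterMatrix.E₆.toCoxeterSystem

variable {K : Type u} [Field K]

/-! ### The twisted Frobenius automorphism -/

theorem sg_sg {φ : K →+* K} (hφ2 : ∀ x, φ (φ x) = x) {g : GL chevE6.Idx K} (hg : g ∈ chevE6.group K) :
    sg φ (sg φ g) = g := by
  have h1 : chevE6.group K ≤ MonoidHom.eqLocus ((sg φ).comp (sg φ)) (MonoidHom.id _) := by
    rw [group_le_iff RGDTwE6.hp.inList]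
    intro r hr t
    show ((sg φ).comp (sg φ)) _ = _
    rw [BpExc.EmbInst.sg_sq φ r hr t]
    show xG _ r (φ (φ t)) = _
    rw [hφ2]
    rfl
  exact (h1 hg :)

/-- the twisted Frobenius automorphism -/
noncomputable def FF (φ : K →+* K) (hφ2 : ∀ x, φ (φ x) = x) : MulAut ↥(chevE6.group K) where
  toFun g := ⟨sg φ g, sg_mem g.2⟩
  invFun g := ⟨sg φ g, sg_mem g.2⟩
  left_inv g := Subtype.ext (sg_sg hφ2 g.2)
  right_inv g := Subtype.ext (sg_sg hφ2 g.2)
  map_mul' _ _ := Subtype.ext (map_mul (sg φ) _ _)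

theorem coe_FF {φ : K →+* K} (hφ2 : ∀ x, φ (φ x) = x) (g : ↥(chevE6.group K)) :
    ((FF φ hφ2 g : ↥(chevE6.group K)) : GL chevE6.Idx K) = sg φ g := rfl

variable {W : Type*} [Group W] (cs : CoxeterSystem CoxeterMatrix.E₆ W)

theorem ep_one [CharP K 2] (r : Fin 72) : ((BpExc.EmbInst.ep r : ℤ) : K) = 1 := by
  have h3 : ((BpExc.EmbInst.ep r : ℤ) : K) * ((BpExc.EmbInst.ep r : ℤ) : K) = 1 := by
    rw [← Int.cast_mul, BpExc.EmbInst.eps_sq, Int.cast_one]
  rcases mul_self_eq_one_iff.1 h3 with h4 | h4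
  · exact h4
  · rw [h4, CharTwo.neg_eq]

theorem FF_eg [CharP K 2] {φ : K →+* K} (hφ2 : ∀ x, φ (φ x) = x) {x : Fin 6 → ℤ}
    (hx : IsRoot cs DichE6.hp.isCartan x) (u : K) :
    FF φ hφ2 (eg DichE6.hp K x u) = eg DichE6.hp K (flip6 x) (φ u) := by
  obtain ⟨r, hr, rfl⟩ := (isRoot_iff DichE6.hp cs x).1 hx
  have hr' : r < 72 := hr
  apply Subtype.ext
  rw [coe_FF, coe_eg, coe_eg, ev_vec DichE6.hp hr, flip_vec ⟨r, hr'⟩, ev_vec DichE6.hp (rho ⟨r, hr'⟩).2]
  have h1 : sg φ (xG RGDTwE6.hp.inList r u) = xG RGDTwE6.hp.inList (rho ⟨r, hr'⟩).val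
    (((BpExc.EmbInst.ep ⟨r, hr'⟩ : ℤ) : K) * φ u) := BpExc.EmbInst.sg_ep φ (⟨r, hr'⟩ : Fin 72) u
  refine h1.trans ?_
  rw [ep_one, one_mul]

theorem twF [CharP K 2] {φ : K →+* K} (hφ2 : ∀ x, φ (φ x) = x) :
    TwF cs DichE6.hp.isCartan (eg DichE6.hp K) (FF φ hφ2) sigE φ where
  invol := by decide
  cart := cart_sig
  map x hx u := by rw [FF_eg cs hφ2 hx, flip6_eq]
  phi := hφ2

/-! ### The embedding -/

/-- `²E₆(q)` as a subgroup of `E₆(q²)` -/
def L0 (K : Type u) [Field K] (q : ℕ) : Subgroup ↥(chevE6.group K) := (twistedE6 K q).subgroupOf (chevE6.group K)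

theorem mem_L0 {q : ℕ} {g : ↥(chevE6.group K)} : g ∈ L0 K q ↔ (g : GL chevE6.Idx K) ∈ twistedE6 K q := Iff.rfl

theorem coe_eg_sr (j : Fin 6) (t : K) :
    ((eg DichE6.hp K (sr j) t : ↥(chevE6.group K)) : GL chevE6.Idx K) = xG DichE6.hp.inList (chevE6.simple j) t := by
  rw [coe_eg, ev_sr DichE6.hp]

theorem coe_eg_neg (j : Fin 6) (t : K) :
    ((eg DichE6.hp K (-sr j) t : ↥(chevE6.group K)) : GL chevE6.Idx K) =
      xG DichE6.hp.inList (chevE6.neg (chevE6.simple j)) t := by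
  rw [coe_eg, ev_neg_sr DichE6.hp]

theorem word_mem {q : ℕ} {w : List (ℕ × K)} (hw : w ∈ e6Words K q) {g : GL chevE6.Idx K}
    (hg : g = (w.map fun p => xG DichE6.hp.inList p.1 p.2).prod) : g ∈ twistedE6 K q := by
  refine Subgroup.subset_closure ⟨w, hw, ?_⟩
  rw [hg]
  unfold ChevalleyDatum.wordMat
  rw [← Units.coeHom_apply, map_list_prod, List.map_map]
  rfl

/-- the single generators -/
theorem mem_one {q : ℕ} {t : K} (ht : t ^ q = t) {r : ℕ} (hr : r ∈ [e6p2, e6m2, e6p4, e6m4]) :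
    xG DichE6.hp.inList r t ∈ twistedE6 K q :=
  word_mem (w := [(r, t)]) (Or.inl ⟨t, ht, r, hr, rfl⟩) (by simp)

/-- the double generators -/
theorem mem_two {q : ℕ} (t : K) {rs : ℕ × ℕ}
    (hr : rs ∈ [(e6p1, e6p6), (e6m1, e6m6), (e6p3, e6p5), (e6m3, e6m5)]) :
    xG DichE6.hp.inList rs.1 t * xG DichE6.hp.inList rs.2 (t ^ q) ∈ twistedE6 K q :=
  word_mem (w := [(rs.1, t), (rs.2, t ^ q)]) (Or.inr ⟨t, rs, hr, rfl⟩) (by simp)

variable {q : ℕ}

theorem mem1 {t : K} (ht : t ^ q = t) {j : Fin 6} (hj : j = 1 ∨ j = 3) :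
    eg DichE6.hp K (sr j) t ∈ L0 K q ∧ eg DichE6.hp K (-sr j) t ∈ L0 K q := by
  rw [mem_L0, mem_L0, coe_eg_sr, coe_eg_neg]
  rcases hj with rfl | rfl
  · exact ⟨mem_one ht (r := 46) (by decide), mem_one ht (r := 25) (by decide)⟩
  · exact ⟨mem_one ht (r := 39) (by decide), mem_one ht (r := 32) (by decide)⟩

theorem mem05 (t : K) :
    eg DichE6.hp K (sr 0) t * eg DichE6.hp K (sr 5) (t ^ q) ∈ L0 K q ∧
      eg DichE6.hp K (-sr 0) t * eg DichE6.hp K (-sr 5) (t ^ q) ∈ L0 K q := by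
  rw [mem_L0, mem_L0, Subgroup.coe_mul, Subgroup.coe_mul, coe_eg_sr, coe_eg_neg, coe_eg_sr, coe_eg_neg]
  exact ⟨mem_two t (rs := (56, 36)) (by decide), mem_two t (rs := (15, 35)) (by decide)⟩

section Emb

variable [Fintype K] (hq : IsPrimePow q) (hK : Fintype.card K = q ^ 2)

include hq hK

theorem tw_le : twistedE6 K q ≤ chevE6.group K := H129.TwE6Fr.tw_le hq hK

/-- the embedding -/
noncomputable def io : ↥(twistedE6 K q) →* ↥(chevE6.group K) := Subgroup.inclusion (tw_le hq hK)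

theorem coe_io (y : ↥(twistedE6 K q)) : ((io hq hK y : ↥(chevE6.group K)) : GL chevE6.Idx K) = y := rfl

theorem io_inj : Function.Injective (io (K := K) hq hK) := Subgroup.inclusion_injective _

theorem io_mem (y : ↥(twistedE6 K q)) : io hq hK y ∈ L0 K q := y.2

theorem exists_io {g : ↥(chevE6.group K)} (hg : g ∈ L0 K q) : ∃ y, io hq hK y = g := ⟨⟨g, hg⟩, rfl⟩

theorem glMap_id (g : GL chevE6.Idx K) : GpExc.Field.glMap chevE6 (RingHom.id K) g = g := by
  apply Units.ext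
  ext i j
  rfl

theorem le_fix {φ : K →+* K} (hφ : ∀ x, φ x = x ^ q) (hφ2 : ∀ x, φ (φ x) = x) : L0 K q ≤ FixA (FF φ hφ2) := by
  intro g hg
  have h1 := twE6_fix (f := RingHom.id K) hq hK hφ (mem_L0.1 hg)
  rw [glMap_id hq hK] at h1
  apply Subtype.ext
  rw [coe_FF]
  exact h1.2

theorem normal {φ : K →+* K} (hφ : ∀ x, φ x = x ^ q) (hφ2 : ∀ x, φ (φ x) = x) {g : ↥(chevE6.group K)}
    (hg : g ∈ FixA (FF φ hφ2)) {z : ↥(chevE6.group K)} (hz : z ∈ L0 K q) : g * z * g⁻¹ ∈ L0 K q := by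
  have h1 : sg φ (g : GL chevE6.Idx K) = g := by
    rw [← coe_FF hφ2]
    exact congrArg Subtype.val hg
  have h2 := twE6_normalizer (f := RingHom.id K) hq hK hφ g.2 h1
  have h3 : (twistedE6 K q).map (GpExc.Field.glMap chevE6 (RingHom.id K)) = twistedE6 K q := by
    have h4 : GpExc.Field.glMap chevE6 (RingHom.id K) = MonoidHom.id (GL chevE6.Idx K) :=
      MonoidHom.ext fun g => glMap_id hq hK g
    rw [h4, Subgroup.map_id]
  rw [h3] at h2
  exact (Subgroup.mem_normalizer_iff.1 h2 _).1 hz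

end Emb

/-! ### The data `PB` -/

section PB

/-- the conditions on `J` -/
structure GJ (K : Type u) [Field K] (q : ℕ) (J : List (Fin 6)) : Prop where
  orth : Orth cs0 DichE6.hp.isCartan J
  perm : (J.map sigE).Perm J
  mem : ∀ c : K, c ^ q = c → pr J (fun j => eg DichE6.hp K (sr j) c) ∈ L0 K q ∧
    pr J (fun j => eg DichE6.hp K (-sr j) c) ∈ L0 K q

/-- the automorphism `τ` and the inner-diagonal automorphisms of `²E₆(q)` -/
structure Dic (K : Type u) [Field K] (q : ℕ) (H : Subgroup (MulAut ↥(twistedE6 K q)))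
    (τ : MulAut ↥(twistedE6 K q)) : Prop where
  sq : τ * τ = 1
  coe : ∀ y : ↥(twistedE6 K q), ((τ y : ↥(twistedE6 K q)) : GL chevE6.Idx K) =
    sg (RingHom.id K) (y : GL chevE6.Idx K)
  inn : ∀ k, MulAut.conj k ∈ H
  cube : ∀ δ ∈ H, ∃ k, δ ^ 3 = MulAut.conj k
  dich : ∀ α : MulAut ↥(twistedE6 K q), α * α = 1 → α ∈ H ∨ α * τ ∈ H

variable [Fintype K] [CharP K 2] (hq : IsPrimePow q) (hK : Fintype.card K = q ^ 2)

theorem S0 : KFacts.ChevTwo.Sys (rgd (K := K) DichE6.hp cs0 2) (eg DichE6.hp K) := sys DichE6.hp twoOK_E6 cs0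

theorem finW : Finite CoxeterMatrix.E₆.Group := finite_W DichE6.hp cs0

theorem hG1 : RGD.Sup (XX chevE6 6 K) {x | IsRoot cs0 DichE6.hp.isCartan x} = ⊤ := G1_eq_top DichE6.hp cs0

section mem

variable {J : List (Fin 6)} (hJ : GJ K q J)

include hJ

theorem GJ.nel_mem : pr J (fun j => nel (eg DichE6.hp K) (sr j)) ∈ L0 K q := by
  have := finW
  have S := S0 (K := K)
  obtain ⟨h1, h2⟩ := hJ.mem 1 (one_pow q)
  have h3 : pr J (fun j => nel (eg DichE6.hp K) (sr j)) =
      pr J (fun j => eg DichE6.hp K (sr j) 1) * pr J (fun j => eg DichE6.hp K (-sr j) 1) *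
        pr J (fun j => eg DichE6.hp K (sr j) 1) := by
    rw [pr_mul hJ.orth.nodup (commL S hJ.orth (fun j _ => e_mem S j _) fun j _ => e_neg_mem S j _),
      pr_mul hJ.orth.nodup (commL S hJ.orth (fun j _ => mul_mem (e_mem S j _) (e_neg_mem S j _)) fun j _ => e_mem S j _)]
    refine pr_congr fun j _ => ?_
    rw [nel_def]
  rw [h3]
  exact mul_mem (mul_mem h1 h2) h1

theorem GJ.nc_mem {c : K} (hc : c ^ q = c) : pr J (fun j => _root_.Cfsg.Agent.KFacts.ChevTwo.nc (eg DichE6.hp K) (sr j) c) ∈ L0 K q := by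
  have := finW
  have S := S0 (K := K)
  obtain ⟨h1, -⟩ := hJ.mem c hc
  obtain ⟨-, h2⟩ := hJ.mem c⁻¹ (by rw [inv_pow, hc])
  have h3 : pr J (fun j => _root_.Cfsg.Agent.KFacts.ChevTwo.nc (eg DichE6.hp K) (sr j) c) =
      pr J (fun j => eg DichE6.hp K (sr j) c) * pr J (fun j => eg DichE6.hp K (-sr j) c⁻¹) *
        pr J (fun j => eg DichE6.hp K (sr j) c) := by
    rw [pr_mul hJ.orth.nodup (commL S hJ.orth (fun j _ => e_mem S j _) fun j _ => e_neg_mem S j _),
      pr_mul hJ.orth.nodup (commL S hJ.orth (fun j _ => mul_mem (e_mem S j _) (e_neg_mem S j _)) fun j _ => e_mem S j _)]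
    refine pr_congr fun j _ => ?_
    rw [nc_def]
  rw [h3]
  exact mul_mem (mul_mem h1 h2) h1

theorem GJ.hel_mem {c : K} (hc : c ^ q = c) : pr J (fun j => hel (eg DichE6.hp K) (sr j) c) ∈ L0 K q := by
  have := finW
  have S := S0 (K := K)
  have h3 : pr J (fun j => hel (eg DichE6.hp K) (sr j) c) =
      pr J (fun j => _root_.Cfsg.Agent.KFacts.ChevTwo.nc (eg DichE6.hp K) (sr j) c) * pr J (fun j => nel (eg DichE6.hp K) (sr j)) := by
    rw [pr_mul hJ.orth.nodup (commL S hJ.orth (fun j _ => H737.SK.Gen.nc_mem S j _) fun j _ => H737.SK.Gen.nel_mem S j)]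
    refine pr_congr fun j _ => ?_
    rw [hel_def]
  rw [h3]
  exact mul_mem (hJ.nc_mem hc) hJ.nel_mem

theorem GJ.xl_mem : pr J (xl (eg DichE6.hp K)) ∈ L0 K q := by
  have := finW
  have S := S0 (K := K)
  obtain ⟨h1, h2⟩ := hJ.mem 1 (one_pow q)
  have h3 : pr J (xl (eg DichE6.hp K)) =
      pr J (fun j => eg DichE6.hp K (sr j) 1) * pr J (fun j => eg DichE6.hp K (-sr j) 1) := by
    rw [pr_mul hJ.orth.nodup (commL S hJ.orth (fun j _ => e_mem S j _) fun j _ => e_neg_mem S j _)]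
    exact pr_congr fun j _ => rfl
  rw [h3]
  exact mul_mem h1 h2

/-- the conjugating element -/
theorem GJ.k_mem : pr J (fun j => eg DichE6.hp K (sr j) 1 * nel (eg DichE6.hp K) (sr j)) ∈ L0 K q := by
  have := finW
  have S := S0 (K := K)
  obtain ⟨h1, -⟩ := hJ.mem 1 (one_pow q)
  have h3 : pr J (fun j => eg DichE6.hp K (sr j) 1 * nel (eg DichE6.hp K) (sr j)) =
      pr J (fun j => eg DichE6.hp K (sr j) 1) * pr J (fun j => nel (eg DichE6.hp K) (sr j)) := by
    rw [pr_mul hJ.orth.nodup (commL S hJ.orth (fun j _ => e_mem S j _) fun j _ => H737.SK.Gen.nel_mem S j)]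
  rw [h3]
  exact mul_mem h1 hJ.nel_mem

end mem

/-! pulling back -/

include hq hK in
theorem pull {D : Subgroup ↥(chevE6.group K)}
    (H : ∀ N : Subgroup ↥(chevE6.group K), IsPGroup 2 N → N ≤ L0 K q ⊓ D →
      (∀ g ∈ L0 K q ⊓ D, ∀ z ∈ N, g * z * g⁻¹ ∈ N) → N = ⊥)
    {N : Subgroup ↥(twistedE6 K q)} (hNp : IsPGroup 2 N) (hN : ∀ z ∈ N, io hq hK z ∈ D)
    (hn : ∀ g, io hq hK g ∈ D → ∀ z ∈ N, g * z * g⁻¹ ∈ N) : N = ⊥ := by
  have h2 : N.map (io hq hK) = ⊥ := by
    apply H _ (hNp.map _)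
    · rintro _ ⟨z, hz, rfl⟩
      exact ⟨io_mem hq hK z, hN z hz⟩
    · rintro g ⟨h1, h2⟩ _ ⟨z, hz, rfl⟩
      obtain ⟨g, rfl⟩ := exists_io hq hK h1
      exact ⟨g * z * g⁻¹, hn g h2 z hz, by rw [map_mul, map_mul, map_inv]⟩
  rwa [Subgroup.map_eq_bot_iff_of_injective _ (io_inj hq hK)] at h2

theorem Dic.io {H : Subgroup (MulAut ↥(twistedE6 K q))} {τ : MulAut ↥(twistedE6 K q)} (hD : Dic K q H τ)
    (y : ↥(twistedE6 K q)) : TwE.io hq hK (τ y) = gam K (TwE.io hq hK y) := by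
  apply Subtype.ext
  rw [coe_io, coe_gam, coe_io, hD.coe]

theorem gra1 {W : Type*} [Group W] (cs : CoxeterSystem CoxeterMatrix.E₆ W) :
    Gra cs DichE6.hp.isCartan (eg DichE6.hp K) (1 : MulAut ↥(chevE6.group K)) (fun i => i) where
  invol _ := rfl
  cart _ _ := rfl
  map _ _ _ := rfl

theorem exists_phi {K : Type u} [Field K] [Fintype K] {q : ℕ} (hq : IsPrimePow q) (hK : Fintype.card K = q ^ 2) :
    ∃ φ : K →+* K, (∀ x, φ x = x ^ q) ∧ ∀ x, φ (φ x) = x := by
  obtain ⟨φ, h1, h2⟩ := Cfsg.Agent.ChevalleyStructure.TwE6Basic.exists_frob hq hK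
  exact ⟨φ, h1, fun x => by rw [h1, h1]; exact h2 x⟩

section

variable {J : List (Fin 6)} (hJ : GJ K q J) {H : Subgroup (MulAut ↥(twistedE6 K q))}
  {τ : MulAut ↥(twistedE6 K q)} (hD : Dic K q H τ)

include hJ hD

/-- the common part of the two constructions -/
theorem pb_aux {v x : ↥(twistedE6 K q)} (hx : Odd (orderOf x)) (hinv : v * x * v⁻¹ = x⁻¹)
    (hγv : gam K (io hq hK v) = io hq hK v) (hγx : gam K (io hq hK x) = io hq hK x)
    (h1 : ∀ N : Subgroup ↥(chevE6.group K), IsPGroup 2 N → N ≤ L0 K q ⊓ (Subgroup.centralizer {io hq hK v} ⊓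
        Subgroup.centralizer {io hq hK x} ⊓ FixA 1) →
      (∀ g ∈ L0 K q ⊓ (Subgroup.centralizer {io hq hK v} ⊓
        Subgroup.centralizer {io hq hK x} ⊓ FixA 1), ∀ z ∈ N, g * z * g⁻¹ ∈ N) → N = ⊥)
    (h2 : ∀ N : Subgroup ↥(chevE6.group K), IsPGroup 2 N → N ≤ L0 K q ⊓ (Subgroup.centralizer {io hq hK v} ⊓
        Subgroup.centralizer {io hq hK x} ⊓ FixA (gam K)) →
      (∀ g ∈ L0 K q ⊓ (Subgroup.centralizer {io hq hK v} ⊓
        Subgroup.centralizer {io hq hK x} ⊓ FixA (gam K)), ∀ z ∈ N, g * z * g⁻¹ ∈ N) → N = ⊥) :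
    PB v x τ H := by
  have hcen : ∀ y z : ↥(twistedE6 K q), io hq hK z ∈ Subgroup.centralizer {io hq hK y} ↔ z * y = y * z := by
    intro y z
    rw [Subgroup.mem_centralizer_singleton_iff, ← map_mul, ← map_mul]
    exact (io_inj hq hK).eq_iff
  have hfix : ∀ z : ↥(twistedE6 K q), io hq hK z ∈ FixA (gam K) ↔ τ z = z := by
    intro z
    rw [mem_FixA, ← hD.io hq hK]
    exact (io_inj hq hK).eq_iff
  refine ⟨hx, hinv, hD.sq, ?_, ?_, ?_, ?_, hD.inn, hD.cube, fun α hα _ => hD.dich α hα⟩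
  · exact (hfix v).1 hγv
  · exact (hfix x).1 hγx
  · intro N hNp hNc hNn
    refine pull hq hK h1 hNp ?_ ?_
    · intro z hz
      obtain ⟨h3, h4⟩ := H282.SK.mem_cc.1 (hNc hz)
      exact ⟨⟨(hcen _ _).2 h3, (hcen _ _).2 h4⟩, rfl⟩
    · rintro g ⟨⟨h3, h4⟩, -⟩ z hz
      exact hNn g (H282.SK.mem_cc.2 ⟨(hcen _ _).1 h3, (hcen _ _).1 h4⟩) z hz
  · intro N hNp hNc hNτ hNn
    refine pull hq hK h2 hNp ?_ ?_
    · intro z hz
      obtain ⟨h3, h4⟩ := H282.SK.mem_cc.1 (hNc hz)
      exact ⟨⟨(hcen _ _).2 h3, (hcen _ _).2 h4⟩, (hfix z).2 (hNτ z hz)⟩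
    · rintro g ⟨⟨h3, h4⟩, h5⟩ z hz
      exact hNn g (H282.SK.mem_cc.2 ⟨(hcen _ _).1 h3, (hcen _ _).1 h4⟩) ((hfix g).1 h5) z hz

/-- **`PB`, `q ≥ 4`** -/
theorem pb_big {l : ℕ} (hl : l.Prime) (hl2 : l ≠ 2) {c : K} (hc : c ≠ 0) (hc1 : c ≠ 1)
    (hcl : c ^ l = 1) (hcq : c ^ q = c) {v x : ↥(twistedE6 K q)}
    (hv : io hq hK v = pr J fun j => nel (eg DichE6.hp K) (sr j))
    (hx : io hq hK x = pr J fun j => hel (eg DichE6.hp K) (sr j) c) : PB v x τ H := by
  have := finW
  have S := S0 (K := K)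
  have hG1 := hG1 (K := K)
  have hN := noCent_E6 (K := K) cs0
  obtain ⟨φ, hφ, hφ2⟩ := exists_phi hq hK
  have hF := twF cs0 hφ2
  have hγ := gra_E6 (K := K) cs0
  refine pb_aux hq hK hJ hD ?_ ?_ ?_ ?_ ?_ ?_
  · have h2 : orderOf x ∣ l := by
      refine orderOf_dvd_of_pow_eq_one (io_inj hq hK ?_)
      rw [map_pow, hx, map_one, tJ_pow S hJ.orth hG1 hN hc, hcl,
        pr_congr (g := fun _ => 1) fun j _ => hel_one S hG1 hN j, pr_one]
    exact Odd.of_dvd_nat (hl.odd_of_ne_two hl2) h2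
  · apply io_inj hq hK
    rw [map_mul, map_mul, map_inv, map_inv, hv, hx, nJ_tJ S hJ.orth hG1 hN hc, tJ_inv S hJ.orth hG1 hN hc]
  · rw [hv]
    exact hγ.pr S hJ.orth hJ.perm (fun j _ => H737.SK.Gen.nel_mem S j) fun j => hγ.nel j
  · rw [hx]
    exact hγ.pr S hJ.orth hJ.perm (fun j _ => hel_memS S j c) fun j => hγ.hel j c
  · intro N h1 h2 h3
    rw [hv, hx] at h2 h3
    refine o2_sub (le_fix hq hK hφ hφ2) (fun g hg z hz => normal hq hK hφ hφ2 hg hz) ?_ h1 h2 h3
    intro N h4 h5 h6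
    exact o2_tw_big S hJ.orth hG1 hN hF hJ.perm (gra1 cs0) (by rw [List.map_id'])
      (fun _ => rfl) hl hl2 hc hc1 hcl (by rw [hφ, hcq]) h4 h5 h6
  · intro N h1 h2 h3
    rw [hv, hx] at h2 h3
    refine o2_sub (le_fix hq hK hφ hφ2) (fun g hg z hz => normal hq hK hφ hφ2 hg hz) ?_ h1 h2 h3
    intro N h4 h5 h6
    exact o2_tw_big S hJ.orth hG1 hN hF hJ.perm hγ hJ.perm
      (fun _ => rfl) hl hl2 hc hc1 hcl (by rw [hφ, hcq]) h4 h5 h6

/-- **`PB`, `q = 2`** -/
theorem pb_two (hq2 : q = 2) {ζ : K} (hζ : ζ ^ 2 = ζ + 1) {v x : ↥(twistedE6 K q)}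
    (hv : io hq hK v = pr J fun j => nel (eg DichE6.hp K) (sr j))
    (hx : io hq hK x = pr J (xl (eg DichE6.hp K))) : PB v x τ H := by
  have := finW
  have S := S0 (K := K)
  have hG1 := hG1 (K := K)
  have hN := noCent_E6 (K := K) cs0
  obtain ⟨φ, hφ, hφ2⟩ := exists_phi hq hK
  have hF := twF cs0 hφ2
  have hγ := gra_E6 (K := K) cs0
  have hφζ : φ ζ = ζ ^ 2 := by rw [hφ, hq2]
  refine pb_aux hq hK hJ hD ?_ ?_ ?_ ?_ ?_ ?_
  · have hζ0 : ζ ≠ 0 := by
      rintro rfl
      rw [zero_pow two_ne_zero, zero_add] at hζ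
      exact zero_ne_one hζ
    have h2K : (2 : K) = 0 := by
      have := S.data.two (1 : K)
      rwa [one_add_one_eq_two] at this
    have hζ3 : ζ ^ 3 = 1 := by linear_combination (ζ + 1) * hζ + ζ * h2K
    have h2 : (pr J (xl (eg DichE6.hp K))) ^ 3 = 1 := by
      have h3 := alJ_xlJ S hJ.orth hG1 hN hζ
      have h4 := alJ_sq S hJ.orth ζ
      have h5 : (pr J (al (eg DichE6.hp K) ζ))⁻¹ = pr J (al (eg DichE6.hp K) ζ) := inv_eq_of_mul_eq_one_right h4
      have h6 : pr J (xl (eg DichE6.hp K)) = pr J (al (eg DichE6.hp K) ζ) *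
          pr J (fun j => hel (eg DichE6.hp K) (sr j) ζ) * (pr J (al (eg DichE6.hp K) ζ))⁻¹ := by
        rw [← h3, h5]
        calc pr J (xl (eg DichE6.hp K)) = (pr J (al (eg DichE6.hp K) ζ) * pr J (al (eg DichE6.hp K) ζ)) *
              pr J (xl (eg DichE6.hp K)) * (pr J (al (eg DichE6.hp K) ζ) * pr J (al (eg DichE6.hp K) ζ)) := by
              rw [h4, one_mul, mul_one]
          _ = _ := by group
      rw [h6, conj_pow, tJ_pow S hJ.orth hG1 hN hζ0, hζ3,
        pr_congr (g := fun _ => 1) fun j _ => hel_one S hG1 hN j, pr_one, mul_one, mul_inv_cancel]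
    have h3 : x ^ 3 = 1 := by
      apply io_inj hq hK
      rw [map_pow, hx, h2, map_one]
    exact Odd.of_dvd_nat (by decide) (orderOf_dvd_of_pow_eq_one h3)
  · apply io_inj hq hK
    rw [map_mul, map_mul, map_inv, map_inv, hv, hx, nJ_xlJ S hJ.orth]
  · rw [hv]
    exact hγ.pr S hJ.orth hJ.perm (fun j _ => H737.SK.Gen.nel_mem S j) fun j => hγ.nel j
  · rw [hx]
    refine hγ.pr S hJ.orth hJ.perm (fun j _ => H737.SK.Gen.xl_mem S j) fun j => ?_
    unfold xl
    rw [map_mul, hγ.map _ (isRoot_sr cs0 _ j), hγ.map _ (isRoot_sr cs0 _ j).neg, sr_comp hγ.invol,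
      neg_comp hγ.invol]
  · intro N h1 h2 h3
    rw [hv, hx] at h2 h3
    refine o2_sub (le_fix hq hK hφ hφ2) (fun g hg z hz => normal hq hK hφ hφ2 hg hz) ?_ h1 h2 h3
    intro N h4 h5 h6
    exact o2_tw_two S hJ.orth hG1 hN hF hJ.perm (gra1 cs0) (by rw [List.map_id'])
      (fun _ => rfl) hζ hφζ h4 h5 h6
  · intro N h1 h2 h3
    rw [hv, hx] at h2 h3
    refine o2_sub (le_fix hq hK hφ hφ2) (fun g hg z hz => normal hq hK hφ hφ2 hg hz) ?_ h1 h2 h3
    intro N h4 h5 h6
    exact o2_tw_two S hJ.orth hG1 hN hF hJ.perm hγ hJ.perm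
      (fun _ => rfl) hζ hφζ h4 h5 h6

omit hJ in
/-- `Good v` from an element moved by `γ` -/
theorem good_of {v x : ↥(twistedE6 K q)} (P : PB v x τ H) {z : ↥(chevE6.group K)} (hz : z ∈ L0 K q)
    (hzv : z * io hq hK v = io hq hK v * z) (hzx : z * io hq hK x = io hq hK x * z) (hne : gam K z ≠ z)
    (hZ : Subgroup.center ↥(twistedE6 K q) = ⊥) : H282.SK.Good v := by
  obtain ⟨y, rfl⟩ := exists_io hq hK hz
  rw [← map_mul, ← map_mul] at hzv hzx
  refine P.good hZ (z := y) (H282.SK.mem_cc.2 ⟨io_inj hq hK hzv, io_inj hq hK hzx⟩) fun h1 => hne ?_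
  rw [← hD.io hq hK, h1]

end

end PB

end Cfsg.Agent.H297.SK.TwE
end

-- part: H897/SK6/Inv
section
/-!
# Involutions of groups with a cyclic subgroup of index 1 or 3 (S3010, row `²E₆`)
-/

set_option autoImplicit false

namespace Cfsg.Agent.H897.SK6

open Subgroup

/-- the involution of a cyclic group is unique -/
theorem eq_of_cyclic {C : Type*} [Group C] [Finite C] [IsCyclic C] {a b : C} (ha : a * a = 1) (ha1 : a ≠ 1)
    (hb : b * b = 1) (hb1 : b ≠ 1) : a = b := by
  classical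
  have := Fintype.ofFinite C
  by_contra hab
  have h1 := IsCyclic.card_pow_eq_one_le (α := C) (n := 2) (by norm_num)
  have h2 : ({1, a, b} : Finset C) ⊆ Finset.univ.filter fun x => x ^ 2 = 1 := by
    intro x hx
    rw [Finset.mem_filter]
    refine ⟨Finset.mem_univ _, ?_⟩
    rw [Finset.mem_insert, Finset.mem_insert, Finset.mem_singleton] at hx
    rw [pow_two]
    rcases hx with rfl | rfl | rfl
    · exact one_mul 1
    · exact ha
    · exact hb
  have h3 := Finset.card_le_card h2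
  rw [Finset.card_insert_of_notMem (by
      rw [Finset.mem_insert, Finset.mem_singleton, not_or]; exact ⟨Ne.symm ha1, Ne.symm hb1⟩),
    Finset.card_insert_of_notMem (by rw [Finset.mem_singleton]; exact hab), Finset.card_singleton] at h3
  omega

section

variable {O : Type*} [Group O] [Finite O]

/-- an involution is conjugate into a cyclic subgroup of odd index -/
theorem exists_conj {C : Subgroup O} (hC : IsCyclic C) (hi : Odd C.index) {t a : O} (ht : t ∈ C) (ht2 : t * t = 1)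
    (ht1 : t ≠ 1) (ha : a * a = 1) (ha1 : a ≠ 1) : ∃ g, a = g * t * g⁻¹ := by
  have hp : IsPGroup 2 (Subgroup.zpowers a) := by
    intro x
    obtain ⟨n, hn⟩ := x.2
    refine ⟨1, Subtype.ext ?_⟩
    have h1 : a ^ n = (x : O) := hn
    show (x : O) ^ 2 ^ 1 = 1
    rw [pow_one, ← h1, ← zpow_natCast, ← zpow_mul, mul_comm, zpow_mul]
    have h2 : a ^ ((2 : ℕ) : ℤ) = 1 := by rw [zpow_natCast, pow_two, ha]
    rw [h2, one_zpow]
  have : Fact (Nat.Prime 2) := ⟨Nat.prime_two⟩
  have h1 := hp.card_modEq_card_fixedPoints (O ⧸ C)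
  have h2 : Nonempty (MulAction.fixedPoints (Subgroup.zpowers a) (O ⧸ C)) := by
    by_contra hcon
    rw [not_nonempty_iff] at hcon
    have h3 : Nat.card (MulAction.fixedPoints (Subgroup.zpowers a) (O ⧸ C)) = 0 := Nat.card_of_isEmpty
    rw [h3] at h1
    have h4 : 2 ∣ C.index := (Nat.modEq_zero_iff_dvd).1 h1
    obtain ⟨m, hm⟩ := hi
    omega
  obtain ⟨x, hx⟩ := h2
  obtain ⟨g, rfl⟩ := QuotientGroup.mk_surjective x
  have h3 : a * g ∈ {y : O | (y : O ⧸ C) = (g : O ⧸ C)} := hx ⟨a, Subgroup.mem_zpowers a⟩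
  have h4 : g⁻¹ * (a * g) ∈ C := QuotientGroup.eq.1 (show ((g : O) : O ⧸ C) = ((a * g : O) : O ⧸ C) from h3.symm)
  have h5 : g⁻¹ * (a * g) = t := by
    have h6 := eq_of_cyclic (C := C) (a := ⟨g⁻¹ * (a * g), h4⟩) (b := ⟨t, ht⟩) (Subtype.ext (by
        show g⁻¹ * (a * g) * (g⁻¹ * (a * g)) = 1
        calc g⁻¹ * (a * g) * (g⁻¹ * (a * g)) = g⁻¹ * (a * a) * g := by group
          _ = 1 := by rw [ha]; group)) (by
        intro h0
        apply ha1
        have h7 : g⁻¹ * (a * g) = 1 := congrArg Subtype.val h0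
        calc a = g * (g⁻¹ * (a * g)) * g⁻¹ := by group
          _ = 1 := by rw [h7]; group) (Subtype.ext ht2) (by
        intro h0
        exact ht1 (congrArg Subtype.val h0))
    exact congrArg Subtype.val h6
  refine ⟨g, ?_⟩
  rw [← h5]
  group

/-- commuting involutions are equal -/
theorem eq_of_comm {C : Subgroup O} (hC : IsCyclic C) (hi : Odd C.index) {t a : O} (ht : t ∈ C) (ht2 : t * t = 1)
    (ht1 : t ≠ 1) (ha : a * a = 1) (ha1 : a ≠ 1) (hc : a * t = t * a) : a = t := by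
  have hCN : C ≤ centralizer ({t} : Set O) := by
    intro c hc
    rw [mem_centralizer_singleton_iff]
    have := hC.isMulCommutative
    exact congrArg Subtype.val (mul_comm' (⟨c, hc⟩ : C) ⟨t, ht⟩)
  have htN : t ∈ centralizer ({t} : Set O) := hCN ht
  have haN : a ∈ centralizer ({t} : Set O) := mem_centralizer_singleton_iff.2 hc
  have hi' : Odd (C.subgroupOf (centralizer ({t} : Set O))).index := by
    have h1 := Subgroup.relIndex_mul_index hCN
    rw [← h1] at hi
    exact (Nat.odd_mul.1 hi).1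
  have hC' : IsCyclic (C.subgroupOf (centralizer ({t} : Set O))) :=
    isCyclic_of_injective (Subgroup.subgroupOfEquivOfLe hCN).toMonoidHom
      (Subgroup.subgroupOfEquivOfLe hCN).injective
  obtain ⟨g, hg⟩ := exists_conj hC' hi' (t := ⟨t, htN⟩) (a := ⟨a, haN⟩) ht (Subtype.ext ht2)
    (fun h0 => ht1 (congrArg Subtype.val h0)) (Subtype.ext ha) (fun h0 => ha1 (congrArg Subtype.val h0))
  have h1 : a = (g : O) * t * (g : O)⁻¹ := congrArg Subtype.val hg
  have h2 := mem_centralizer_singleton_iff.1 g.2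
  rw [h1, h2, mul_inv_cancel_right]

/-- **The subgroup `D`.** -/
theorem exists_D {C : Subgroup O} (hC : IsCyclic C) (hi : C.index = 1 ∨ C.index = 3) {t : O} (ht : t ∈ C)
    (ht2 : t * t = 1) (ht1 : t ≠ 1) :
    ∃ D : Subgroup O, (∀ d ∈ D, d ^ 3 = 1) ∧ ∀ a : O, a * a = 1 → a ∈ D ∨ a * t ∈ D := by
  classical
  have hodd : Odd C.index := by
    rcases hi with h | h
    · rw [h]; exact odd_one
    · rw [h]; exact ⟨1, rfl⟩
  have h3 : Nat.card (O ⧸ C) ≤ 3 := by
    show C.index ≤ 3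
    omega
  by_cases hall : ∀ a : O, a * a = 1 → a ≠ 1 → a = t
  · refine ⟨⊥, fun d hd => by rw [Subgroup.mem_bot.1 hd, one_pow], fun a ha => ?_⟩
    by_cases ha1 : a = 1
    · left; rw [ha1]; exact one_mem _
    · right; rw [hall a ha ha1, ht2]; exact one_mem _
  push Not at hall
  obtain ⟨b, hb, hb1, hbt⟩ := hall
  have hcm : ∀ c ∈ C, c * t = t * c := by
    intro c hc
    have := hC.isMulCommutative
    exact congrArg Subtype.val (mul_comm' (⟨c, hc⟩ : C) ⟨t, ht⟩)
  -- the class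
  let f : O ⧸ C → O := Quotient.lift (fun g : O => g * t * g⁻¹) (by
    intro g g' hgg
    have h1 : g⁻¹ * g' ∈ C := (QuotientGroup.leftRel_apply).1 hgg
    have h2 := hcm _ h1
    show g * t * g⁻¹ = g' * t * g'⁻¹
    calc g * t * g⁻¹ = g * (t * (g⁻¹ * g')) * g'⁻¹ := by group
      _ = g * ((g⁻¹ * g') * t) * g'⁻¹ := by rw [h2]
      _ = g' * t * g'⁻¹ := by group)
  have hf : ∀ a : O, a * a = 1 → a ≠ 1 → a ∈ Set.range f := by
    intro a ha ha1
    obtain ⟨g, hg⟩ := exists_conj hC hodd ht ht2 ht1 ha ha1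
    exact ⟨(g : O ⧸ C), hg.symm⟩
  have hfour : ∀ s : Finset O, (∀ x ∈ s, x * x = 1 ∧ x ≠ 1) → s.card ≤ 3 := by
    intro s hs
    have h4 : (s : Set O) ⊆ Set.range f := fun x hx => hf x (hs x hx).1 (hs x hx).2
    have h5 := Set.ncard_le_ncard h4 (Set.toFinite _)
    rw [Set.ncard_coe_finset] at h5
    have h6 : (Set.range f).ncard ≤ Nat.card (O ⧸ C) := by
      rw [← Set.image_univ, ← Set.ncard_univ]
      exact Set.ncard_image_le (Set.toFinite _)
    omega
  have hinv : ∀ {x y : O}, x * x = 1 → y * y = 1 → y ≠ 1 → (x * y * x) * (x * y * x) = 1 ∧ x * y * x ≠ 1 := by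
    intro x y hx hy hy1
    constructor
    · calc (x * y * x) * (x * y * x) = x * y * (x * x) * y * x := by group
        _ = x * (y * y) * x := by rw [hx]; group
        _ = 1 := by rw [hy, mul_one, hx]
    · intro h0
      apply hy1
      calc y = (x * x) * y * (x * x) := by rw [hx]; group
        _ = x * (x * y * x) * x := by group
        _ = 1 := by rw [h0, mul_one, hx]
  have hcomm : ∀ {x y : O}, x * x = 1 → x * y * x = y → x * y = y * x := by
    intro x y hx h0
    calc x * y = x * y * (x * x) := by rw [hx, mul_one]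
      _ = (x * y * x) * x := by group
      _ = y * x := by rw [h0]
  have hne1 : t * b * t ≠ t := by
    intro h0
    apply hbt
    calc b = (t * t) * b * (t * t) := by rw [ht2]; group
      _ = t * (t * b * t) * t := by group
      _ = t := by rw [h0, ht2, one_mul]
  have hne2 : t * b * t ≠ b := fun h0 => hbt (eq_of_comm hC hodd ht ht2 ht1 hb hb1 (hcomm ht2 h0).symm)
  have hne3 : b * t * b ≠ b := by
    intro h0
    apply hbt
    have : t = b := by
      calc t = (b * b) * t * (b * b) := by rw [hb]; group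
        _ = b * (b * t * b) * b := by group
        _ = b := by rw [h0, hb, one_mul]
    exact this.symm
  have hne4 : b * t * b ≠ t := fun h0 => hbt (eq_of_comm hC hodd ht ht2 ht1 hb hb1 (hcomm hb h0))
  have heq : b * t * b = t * b * t := by
    by_contra hcon
    have h4 := hfour {t, b, t * b * t, b * t * b} (by
      intro x hx
      simp only [Finset.mem_insert, Finset.mem_singleton] at hx
      rcases hx with rfl | rfl | rfl | rfl
      · exact ⟨ht2, ht1⟩
      · exact ⟨hb, hb1⟩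
      · exact hinv ht2 hb hb1
      · exact hinv hb ht2 ht1)
    rw [Finset.card_insert_of_notMem (by
        simp only [Finset.mem_insert, Finset.mem_singleton, not_or]
        exact ⟨Ne.symm hbt, Ne.symm hne1, Ne.symm hne4⟩),
      Finset.card_insert_of_notMem (by
        simp only [Finset.mem_insert, Finset.mem_singleton, not_or]
        exact ⟨Ne.symm hne2, Ne.symm hne3⟩),
      Finset.card_insert_of_notMem (by
        simp only [Finset.mem_singleton]
        exact Ne.symm hcon), Finset.card_singleton] at h4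
    omega
  have hcube : (b * t) ^ 3 = 1 := by
    calc (b * t) ^ 3 = (b * t * b) * (t * b * t) := by rw [pow_succ, pow_two]; group
      _ = (t * b * t) * (t * b * t) := by rw [heq]
      _ = 1 := (hinv ht2 hb hb1).1
  refine ⟨Subgroup.zpowers (b * t), fun d hd => ?_, fun a ha => ?_⟩
  · obtain ⟨n, rfl⟩ := Subgroup.mem_zpowers_iff.1 hd
    rw [← zpow_natCast, ← zpow_mul, mul_comm, zpow_mul, zpow_natCast, hcube, one_zpow]
  · by_cases ha1 : a = 1
    · left; rw [ha1]; exact one_mem _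
    right
    by_cases h1 : a = t
    · rw [h1, ht2]; exact one_mem _
    by_cases h2 : a = b
    · rw [h2]; exact Subgroup.mem_zpowers _
    by_cases h3 : a = t * b * t
    · have h4 : a * t = (b * t)⁻¹ := by
        have hb' : b⁻¹ = b := by rw [inv_eq_iff_mul_eq_one, hb]
        have ht' : t⁻¹ = t := by rw [inv_eq_iff_mul_eq_one, ht2]
        rw [mul_inv_rev, hb', ht', h3, mul_assoc, ht2, mul_one]
      rw [h4]
      exact inv_mem (Subgroup.mem_zpowers _)
    exfalso
    have h4 := hfour {a, t, b, t * b * t} (by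
      intro x hx
      simp only [Finset.mem_insert, Finset.mem_singleton] at hx
      rcases hx with rfl | rfl | rfl | rfl
      · exact ⟨ha, ha1⟩
      · exact ⟨ht2, ht1⟩
      · exact ⟨hb, hb1⟩
      · exact hinv ht2 hb hb1)
    rw [Finset.card_insert_of_notMem (by
        simp only [Finset.mem_insert, Finset.mem_singleton, not_or]
        exact ⟨h1, h2, h3⟩),
      Finset.card_insert_of_notMem (by
        simp only [Finset.mem_insert, Finset.mem_singleton, not_or]
        exact ⟨Ne.symm hbt, Ne.symm hne1⟩),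
      Finset.card_insert_of_notMem (by
        simp only [Finset.mem_singleton]
        exact Ne.symm hne2), Finset.card_singleton] at h4
    omega

end

end Cfsg.Agent.H897.SK6
end

-- part: H897/SK6/TauTwo
section
/-!
# The graph-field automorphism of `²E₆(q)` and the data `H` of `PB` (S3010)
-/

set_option autoImplicit false
set_option linter.unusedSectionVars false

namespace Cfsg.Agent.H897.SK6

open Cfsg Cfsg.Lie Cfsg.Agent
open Cfsg.Agent.H967.CopMat Cfsg.Agent.H967.CopTw Cfsg.Agent.H967.CopD4 Cfsg.Agent.H967.FaTw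

universe u

variable {K : Type u} [Field K] [Fintype K] {q : ℕ}

/-- the automorphism `x ↦ x ^ q` of the field of order `q²` -/
theorem exists_sq (hq : IsPrimePow q) (hK : Fintype.card K = q ^ 2) :
    ∃ σ : K ≃+* K, (∀ x, σ x = x ^ q) ∧ σ ≠ 1 ∧ σ * σ = 1 := by
  classical
  obtain ⟨φ, hφ, hqq⟩ := Cfsg.Agent.ChevalleyStructure.TwE6Basic.exists_frob hq hK
  have hb : Function.Bijective φ := Finite.injective_iff_bijective.1 φ.injective
  refine ⟨RingEquiv.ofBijective φ hb, fun x => hφ x, fun h0 => ?_, ?_⟩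
  · have h1 : ∀ x : K, x ^ q = x := by
      intro x
      rw [← hφ]
      exact congrArg (fun τ : K ≃+* K => τ x) h0
    have hq1 : 1 < q := hq.one_lt
    have h2 : Fintype.card K ≤ q := by
      have h3 : (Finset.univ : Finset K) ⊆ (Polynomial.X ^ q - Polynomial.X : Polynomial K).roots.toFinset := by
        intro x _
        rw [Multiset.mem_toFinset, Polynomial.mem_roots (FiniteField.X_pow_card_sub_X_ne_zero K hq1)]
        simp [h1]
      have h4 := Finset.card_le_card h3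
      have h5 := Multiset.toFinset_card_le (Polynomial.X ^ q - Polynomial.X : Polynomial K).roots
      have h6 := Polynomial.card_roots' (Polynomial.X ^ q - Polynomial.X : Polynomial K)
      rw [FiniteField.X_pow_card_sub_X_natDegree_eq K hq1] at h6
      rw [Finset.card_univ] at h4
      omega
    rw [hK] at h2
    nlinarith only [hq1, h2]
  · ext x
    show φ (φ x) = x
    rw [hφ, hφ]
    exact hqq x

/-- the automorphism `x ↦ x ^ q` -/
noncomputable def sq (hq : IsPrimePow q) (hK : Fintype.card K = q ^ 2) : K ≃+* K := (exists_sq hq hK).choose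

theorem sq_apply (hq : IsPrimePow q) (hK : Fintype.card K = q ^ 2) (x : K) : sq hq hK x = x ^ q :=
  (exists_sq hq hK).choose_spec.1 x

theorem sq_ne (hq : IsPrimePow q) (hK : Fintype.card K = q ^ 2) : sq hq hK ≠ 1 := (exists_sq hq hK).choose_spec.2.1

theorem sq_mul (hq : IsPrimePow q) (hK : Fintype.card K = q ^ 2) : sq hq hK * sq hq hK = 1 :=
  (exists_sq hq hK).choose_spec.2.2

/-- the automorphism `τ` of `²E₆(q)` -/
noncomputable def tau (hq : IsPrimePow q) (hK : Fintype.card K = q ^ 2) : MulAut ↥(twistedE6 K q) :=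
  fieldAut (stab_e6 q) (sq hq hK)

theorem tau_mul (hq : IsPrimePow q) (hK : Fintype.card K = q ^ 2) : tau hq hK * tau hq hK = 1 := by
  rw [tau, ← map_mul, sq_mul, map_one]

theorem tau_coe (hq : IsPrimePow q) (hK : Fintype.card K = q ^ 2) (g : ↥(twistedE6 K q)) :
    ((tau hq hK g : ↥(twistedE6 K q)) : GL chevE6.Idx K) =
      Matrix.GeneralLinearGroup.map (sq hq hK : K →+* K) (g : GL chevE6.Idx K) := rfl

/-- **The data of `PB`.** -/
theorem exists_H (hq : IsPrimePow q) (hK : Fintype.card K = q ^ 2) :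
    ∃ H : Subgroup (MulAut ↥(twistedE6 K q)), (∀ k, MulAut.conj k ∈ H) ∧ (∀ δ ∈ H, ∃ k, δ ^ 3 = MulAut.conj k) ∧
      ∀ α : MulAut ↥(twistedE6 K q), α * α = 1 → α ∈ H ∨ α * tau hq hK ∈ H := by
  obtain ⟨p, f, hp, hc, hf, rfl, hK'⟩ := H565.CopTw.exists_params hq hK (by norm_num)
  have : Fact p.Prime := ⟨hp⟩
  have hfin : Finite (Cfsg.Out ↥(Cfsg.Lie.twistedE6 K (p ^ f))) := H282.SK.finite_out
  have hout := S2130.result (K := K) p f hK' hf
  let j : (K ≃+* K) →* Cfsg.Out ↥(Cfsg.Lie.twistedE6 K (p ^ f)) :=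
    (QuotientGroup.mk' (Cfsg.Inn _)).comp (fieldAut (stab_e6 (p ^ f)))
  have hj : Function.Injective j := by
    rw [injective_iff_map_eq_one]
    intro σ hσ
    by_contra h1
    exact not_inner_e6 hq hK σ h1 ((QuotientGroup.eq_one_iff _).1 hσ)
  have hcy : IsCyclic (K ≃+* K) := H933.SubTwist.isCyclic_ringAut (show 1 ≤ 2 * f by omega) hK'
  have hcard : Nat.card (K ≃+* K) = 2 * f := Lib.FieldAutCard.card_ringAut (by omega) hK'
  have hcard' : Nat.card j.range = 2 * f := by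
    rw [← hcard]
    exact Nat.card_congr (MonoidHom.ofInjective hj).toEquiv.symm
  have h2 : j.range.index = Nat.gcd 3 (p ^ f + 1) := by
    have h1 := j.range.card_mul_index
    rw [hcard', hout] at h1
    apply Nat.eq_of_mul_eq_mul_left (show 0 < 2 * f by omega)
    rw [h1]
    ring
  have h3 : j.range.index = 1 ∨ j.range.index = 3 := by
    rw [h2]
    exact (Nat.dvd_prime Nat.prime_three).1 (Nat.gcd_dvd_left _ _)
  obtain ⟨D, hD, hD'⟩ := exists_D (isCyclic_of_surjective _ j.rangeRestrict_surjective) h3 (t := j (sq hq hK))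
    ⟨_, rfl⟩ (by rw [← map_mul, sq_mul, map_one]) (fun h0 => sq_ne hq hK (hj (by rw [h0, map_one])))
  refine ⟨D.comap (QuotientGroup.mk' (Cfsg.Inn _)), fun k => ?_, fun δ hδ => ?_, fun α hα => ?_⟩
  · rw [Subgroup.mem_comap]
    have h4 : QuotientGroup.mk' (Cfsg.Inn _) (MulAut.conj k) = 1 := (QuotientGroup.eq_one_iff _).2 ⟨k, rfl⟩
    rw [h4]
    exact one_mem _
  · have h4 := hD _ (Subgroup.mem_comap.1 hδ)
    rw [← map_pow] at h4
    obtain ⟨k, hk⟩ := (QuotientGroup.eq_one_iff _).1 h4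
    exact ⟨k, hk.symm⟩
  · have h4 := hD' (QuotientGroup.mk' (Cfsg.Inn _) α) (by rw [← map_mul, hα, map_one])
    rcases h4 with h4 | h4
    · exact Or.inl (Subgroup.mem_comap.2 h4)
    · right
      rw [Subgroup.mem_comap, map_mul]
      exact h4

end Cfsg.Agent.H897.SK6
end

-- part: H897/SK6/Reps
section
/-!
# The involutions of `²E₆(q)`, `q` even, and the graph automorphism (S3010)
-/

set_option autoImplicit false
set_option linter.unusedSectionVars false

namespace Cfsg.Agent.H897.SK6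

open Cfsg Cfsg.Lie Cfsg.Agent Cfsg.Agent.ChevalleyStructure
open Cfsg.Agent.H83.ChevInv Cfsg.Agent.H83.OrthRed Cfsg.Agent.H83.FoldInv Cfsg.Agent.ChevalleyStructure.Elts
open Cfsg.Agent.Nodes.RGDTwE6 (J foldData foldGrp hp isCartan)
open Cfsg.Agent.ChevalleyStructure.TwE6Basic (sg mem_fix twisted_le_fix exists_frob)
open Cfsg.Agent.ChevalleyStructure.GraphSymm (symmE6)

universe u

section Tau

variable {K : Type u} [Field K] [Fintype K] {q : ℕ}

/-- `τ` is the restriction of the graph automorphism -/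
theorem tau_sg (hq : IsPrimePow q) (hK : Fintype.card K = q ^ 2) (y : ↥(twistedE6 K q)) :
    ((tau hq hK y : ↥(twistedE6 K q)) : GL chevE6.Idx K) = sg (RingHom.id K) (y : GL chevE6.Idx K) := by
  obtain ⟨φ, hφ, hqq⟩ := exists_frob hq hK
  have hφ' : (sq hq hK : K →+* K) = φ := RingHom.ext fun x => by
    show sq hq hK x = φ x
    rw [sq_apply, hφ]
  have key : ∀ z : ↥(twistedE6 K q), sg (RingHom.id K) ((tau hq hK z : ↥(twistedE6 K q)) : GL chevE6.Idx K) = z := by
    intro z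
    have h1 : sg φ (z : GL chevE6.Idx K) = z := mem_fix.1 (twisted_le_fix φ hφ hqq z.2)
    rw [tau_coe, hφ']
    conv_rhs => rw [← h1]
    show MulAut.conj (symmE6.P K) (Matrix.GeneralLinearGroup.map (RingHom.id K)
      (Matrix.GeneralLinearGroup.map φ (z : GL chevE6.Idx K))) =
        MulAut.conj (symmE6.P K) (Matrix.GeneralLinearGroup.map φ (z : GL chevE6.Idx K))
    rw [Matrix.GeneralLinearGroup.map_id]
    rfl
  have h2 := key (tau hq hK y)
  have h3 : tau hq hK (tau hq hK y) = y := by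
    have := tau_mul hq hK
    exact congrArg (fun β : MulAut ↥(twistedE6 K q) => β y) this
  rw [h3] at h2
  exact h2.symm

/-- **(T1)** -/
theorem exists_tau (hq : IsPrimePow q) (hK : Fintype.card K = q ^ 2) :
    ∃ (H : Subgroup (MulAut ↥(twistedE6 K q))) (τ : MulAut ↥(twistedE6 K q)), τ * τ = 1 ∧
      (∀ y : ↥(twistedE6 K q), ((τ y : ↥(twistedE6 K q)) : GL chevE6.Idx K) =
        sg (RingHom.id K) (y : GL chevE6.Idx K)) ∧
      (∀ k, MulAut.conj k ∈ H) ∧ (∀ δ ∈ H, ∃ k, δ ^ 3 = MulAut.conj k) ∧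
      ∀ α : MulAut ↥(twistedE6 K q), α * α = 1 → α ∈ H ∨ α * τ ∈ H := by
  obtain ⟨H, h1, h2, h3⟩ := exists_H hq hK
  exact ⟨H, tau hq hK, tau_mul hq hK, tau_sg hq hK, h1, h2, h3⟩

end Tau

section Reps

variable {K : Type u} [Field K] [Fintype K] [CharP K 2] {q : ℕ}

theorem nr : chevE6.nroots = 72 := rfl

theorem lt_of {L : List ℕ} (h : (L.all fun r => Nat.blt r 72) = true) : ∀ r ∈ L, r < chevE6.nroots := by
  intro r hr
  have := List.all_eq_true.1 h r hr
  rw [nr]
  simpa using this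

/-- **(T2)** every involution is conjugate to a product over pairwise orthogonal simple roots -/
theorem exists_simple (hq : IsPrimePow q) (hK : Fintype.card K = q ^ 2) (y : ↥(twistedE6 K q)) (hy1 : y ≠ 1)
    (hy2 : y * y = 1) : ∃ J ∈ ([[1], [0, 5], [1, 0, 5]] : List (List (Fin 6))), ∃ z : ↥(twistedE6 K q),
      ((z * y * z⁻¹ : ↥(twistedE6 K q)) : GL chevE6.Idx K) =
        PX hp.inList K (J.map fun j : Fin 6 => chevE6.simple j) := by
  obtain ⟨φ, hφ, hqq⟩ := exists_frob hq hK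
  have FG := foldGrp hφ hqq
  rcases Cfsg.Agent.H83.TwESix.exists_rep hK y.2 (congrArg Subtype.val hy2) with h1 | ⟨R, hR, g, hg, e⟩
  · exact absurd (Subtype.ext h1) hy1
  have key : ∀ (J0 : List (Fin 6)) (L : List ℕ) (ω : List (Fin 4)), L = J0.map (fun j : Fin 6 => chevE6.simple j) →
      (∀ r ∈ L, r < chevE6.nroots) → L.map (bact chevE6 J ω) = R → ∃ z : ↥(twistedE6 K q),
      ((z * y * z⁻¹ : ↥(twistedE6 K q)) : GL chevE6.Idx K) =
        PX hp.inList K (J0.map fun j : Fin 6 => chevE6.simple j) := by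
    intro J0 L ω hL hlt hR'
    obtain ⟨k, hk, e2⟩ : EqvG hp.inList K (twistedE6 K q) L (L.map (bact chevE6 J ω)) :=
      EqvG.bword (hp := hp) FG ω hlt
    rw [hR'] at e2
    refine ⟨⟨k⁻¹ * g, mul_mem (inv_mem hk) hg⟩, ?_⟩
    show k⁻¹ * g * y * (k⁻¹ * g)⁻¹ = _
    rw [← hL]
    calc k⁻¹ * g * y * (k⁻¹ * g)⁻¹ = k⁻¹ * (g * y * g⁻¹) * k := by group
      _ = _ := by rw [e, ← e2]; group
  simp only [Cfsg.Agent.H83.TwESix.reps, List.mem_cons, List.not_mem_nil, or_false] at hR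
  rcases hR with rfl | rfl | rfl
  · exact ⟨[1], by simp, key [1] [46] [0, 1, 2, 1, 3, 2, 1] (by decide +kernel) (lt_of (by decide +kernel))
      (by decide +kernel)⟩
  · exact ⟨[0, 5], by simp, key [0, 5] [56, 36] [2, 3, 2, 1, 0, 2, 1, 2] (by decide +kernel)
      (lt_of (by decide +kernel)) (by decide +kernel)⟩
  · exact ⟨[1, 0, 5], by simp, key [1, 0, 5] [46, 56, 36] [2, 1, 3, 0, 2, 3, 1, 0, 2, 1, 2] (by decide +kernel)
      (lt_of (by decide +kernel)) (by decide +kernel)⟩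

end Reps

end Cfsg.Agent.H897.SK6
end

-- part: H737/SK/TwE6A
section
/-!
# S3010, `²E₆(q)`, `q` even: an explicit element for `J = [1]` (helper737, (A) of helper297)
-/

set_option autoImplicit false
set_option linter.unusedSectionVars false

namespace Cfsg.Agent.H737.SK.E6

open CoxeterSystem Cfsg.Agent.ChevalleyStructure.CoxeterGeom Cfsg.Agent.Tits.Roots Cfsg.Agent.Tits.Core
  Cfsg.Agent.Tits.Exchange Cfsg.Agent.Nodes.Reps Cfsg.Agent.Nodes.BNOf Cfsg.Agent.Nodes.Coroot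
  Cfsg.Agent.KFacts.RgdField Cfsg.Agent.KFacts.RgdCent Cfsg.Agent.KFacts.ChevTwo Cfsg.Agent.KFacts.RgdSys
  Cfsg.Agent.KFacts.ChevTwoInst Cfsg.Agent.H737.SK.O2 Cfsg.Agent.H282.SK Cfsg.Agent.H737.SK.Gen
  Cfsg.Agent.H737.SK.Chev Cfsg.Agent.H297.SK Cfsg.Agent.H297.SK.Dich Cfsg.Agent.Nodes.OppDec Cfsg.Agent.Nodes.Comb
  Cfsg.Agent.KFacts.RgdOpp
open Cfsg.Lie Cfsg.Agent.ChevalleyStructure Cfsg.Agent.ChevalleyStructure.Elts
  Cfsg.Agent.ChevalleyStructure.RootVec Cfsg.Agent.ChevalleyStructure.FieldIso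
  Cfsg.Agent.ChevalleyStructure.CoxeterGeomTypes
open Cfsg.Agent.Nodes Cfsg.Agent.Nodes.RGDChev
open Cfsg.Agent.H129.TwE6Fr (gam)
open Cfsg.Agent.H297.SK.DichE6 (hp)

universe u

section

variable {W Y K : Type*} [Group W] [Group Y] [Field K] {M : CoxeterMatrix (Fin 6)}
variable {cs : CoxeterSystem M W} {h : IsCartan M A6} {e : (Fin 6 → ℤ) → K → Y}
  {T : Subgroup Y} {n : Fin 6 → Y} {X : (Fin 6 → ℤ) → Subgroup Y}
variable [Finite W] {R : RGD cs h 2 T n X} (S : _root_.Cfsg.Agent.KFacts.ChevTwo.Sys R e) {q : ℕ} {L : Subgroup Y}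

include S

theorem t5a_aux {γ : MulAut Y} (hγ : Gra cs h e γ s6) {u : K} (hu : u ^ q ≠ u) (t : Tw e q L) :
    ∃ z ∈ L, (∀ c, Commute (_root_.Cfsg.Agent.H737.SK.Gen.pr [(1 : Fin 6)] fun j => nc e (sr j) c) z) ∧
      Commute (_root_.Cfsg.Agent.H737.SK.Gen.pr [(1 : Fin 6)] fun j => nel e (sr j)) z ∧
      (∀ c, Commute (_root_.Cfsg.Agent.H737.SK.Gen.pr [(1 : Fin 6)] fun j => hel e (sr j) c) z) ∧
      Commute (_root_.Cfsg.Agent.H737.SK.Gen.pr [(1 : Fin 6)] (xl e)) z ∧ γ z ≠ z := by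
  obtain ⟨v, hv⟩ : ∃ v, v = u ^ q := ⟨_, rfl⟩
  obtain ⟨z, hzd⟩ : ∃ z, z = e (V 0) u * e (V 5) v := ⟨_, rfl⟩
  have v7 : V 7 = -sr 1 := by decide +kernel
  have hc : ∀ c, Commute (_root_.Cfsg.Agent.H737.SK.Gen.pr [(1 : Fin 6)] fun j => e (sr j) c) z := by
    intro c
    rw [pr_cons, pr_nil, mul_one, hzd]
    exact (show Commute _ _ from V_comm S (k := 1) (l := 0) (by decide +kernel) c u).mul_right
      (V_comm S (k := 1) (l := 5) (by decide +kernel) c v)
  have hc' : ∀ c, Commute (_root_.Cfsg.Agent.H737.SK.Gen.pr [(1 : Fin 6)] fun j => e (-sr j) c) z := by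
    intro c
    rw [pr_cons, pr_nil, mul_one, hzd, ← v7]
    exact (show Commute _ _ from V_comm S (k := 7) (l := 0) (by decide +kernel) c u).mul_right
      (V_comm S (k := 7) (l := 5) (by decide +kernel) c v)
  have hJ : Orth cs h [(1 : Fin 6)] := by
    refine ⟨by decide, ?_⟩
    intro i hi j hj hij
    rw [List.mem_singleton] at hi hj
    exact absurd (hi.trans hj.symm) hij
  obtain ⟨k1, k2, k3, k4⟩ := comm_nJ S hJ hc hc'
  refine ⟨z, ?_, k1, k2, k3, k4, ?_⟩
  · rw [hzd, hv]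
    exact t.p0 u
  · intro h1
    have g0 : (fun i => V 0 (s6 i)) = V 5 := by decide +kernel
    have g5 : (fun i => V 5 (s6 i)) = V 0 := by decide +kernel
    rw [hzd, map_mul, hγ.map _ (root_V _), hγ.map _ (root_V _), g0, g5] at h1
    have huv : v + u ≠ 0 := fun h0 => hu (by
      have := S.data.two u
      rw [← hv]
      linear_combination h0 - this)
    have h2 : e (V 0) (v + u) = e (V 5) (v + u) := by
      have a1 := V_comm S (k := 5) (l := 0) (by decide +kernel) u v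
      have a2 := S.data.sq (root_V (cs := cs) (h := h) 0) v
      have a3 := S.data.sq (root_V (cs := cs) (h := h) 5) v
      rw [add_comm v u, S.data.add _ (root_V 5), add_comm u v, S.data.add _ (root_V 0)]
      rw [a1] at h1
      calc e (V 0) v * e (V 0) u = e (V 0) v * (e (V 0) u * e (V 5) v) * e (V 5) v := by
            rw [mul_assoc, mul_assoc, a3, mul_one]
        _ = e (V 0) v * (e (V 0) v * e (V 5) u) * e (V 5) v := by rw [h1]
        _ = e (V 5) u * e (V 5) v := by rw [← mul_assoc, a2, one_mul]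
    have h3 := word_act S [0] (root_V (cs := cs) (h := h) 0) (v + u)
    have h4 := word_act S [0] (root_V (cs := cs) (h := h) 5) (v + u)
    rw [rep_word] at h3 h4
    have e3 : ([0] : List (Fin 6)).foldr (step A6) (V 0) = V 6 := by decide +kernel
    have e4 : ([0] : List (Fin 6)).foldr (step A6) (V 5) = V 5 := by decide +kernel
    rw [e3, h2, h4, e4] at h3
    have hneg : ∀ i, V 6 i ≤ 0 := by decide +kernel
    have hpos : ∀ i, 0 ≤ V 5 i := by decide +kernel
    exact ne_of_neg' S (root_V 6) hneg huv (mem_U S (root_V 5) hpos (v + u)) h3.symm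

end

/-- **(A)**: an element of `²E₆(q)`, `q` even, centralising the root `SL₂`, `J = [1]` -/
theorem t5a {K : Type u} [Field K] [Fintype K] [CharP K 2] {q : ℕ} (hq : IsPrimePow q)
    (hK : Fintype.card K = q ^ 2) :
    ∃ z ∈ (twistedE6 K q).subgroupOf (chevE6.group K),
      Commute (_root_.Cfsg.Agent.H737.SK.Gen.pr [(1 : Fin 6)] fun j => nel (eg hp K) (sr j)) z ∧
      (∀ c, Commute (_root_.Cfsg.Agent.H737.SK.Gen.pr [(1 : Fin 6)] fun j => hel (eg hp K) (sr j) c) z) ∧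
      Commute (_root_.Cfsg.Agent.H737.SK.Gen.pr [(1 : Fin 6)] (xl (eg hp K))) z ∧ gam K z ≠ z := by
  obtain ⟨cs, -⟩ : ∃ cs : CoxeterSystem CoxeterMatrix.E₆ CoxeterMatrix.E₆.Group,
    cs = CoxeterMatrix.E₆.toCoxeterSystem := ⟨_, rfl⟩
  have := finite_W hp cs
  have S := sys (K := K) hp twoOK_E6 cs
  have hγ : Gra cs hp.isCartan (eg hp K) (gam K) s6 := DichE6.gra_E6 cs
  obtain ⟨u, hu⟩ := exists_pow_ne hq.one_lt hK
  obtain ⟨z, hz, -, h1⟩ := t5a_aux S hγ hu (tw_twE6 q)
  exact ⟨z, hz, h1⟩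

end Cfsg.Agent.H737.SK.E6
end

-- part: H282/SK/TwE5
section
/-!
# S3010, `²E₆(q)`, `q` even: explicit elements (helper282; (T5-B), (T5-D) of helper297)

`L0 K q` : `²E₆(q)` as a subgroup of the adjoint Chevalley group `E₆(q²)`.

* `exists_B` : `J = [0, 5]`, `q ≥ 4`: a torus element of `²E₆(q)` commuting with `e (± sr 0)`, `e (± sr 5)` and moved by
  the graph automorphism;
* `exists_D` : `J = [1, 0, 5]`, any `q`: a unipotent element of `²E₆(q)` commuting with `pr J nel`, `pr J hel`, `pr J xl`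
  and moved by the graph automorphism.
-/

set_option autoImplicit false
set_option linter.unusedSectionVars false

namespace Cfsg.Agent.H282.SK.TwE5

open CoxeterSystem Cfsg.Agent.ChevalleyStructure.CoxeterGeom Cfsg.Agent.Tits.Roots Cfsg.Agent.Tits.Core
  Cfsg.Agent.Tits.Exchange Cfsg.Agent.Nodes.Reps Cfsg.Agent.Nodes.BNOf Cfsg.Agent.Nodes.Coroot Cfsg.Agent.Nodes.Comb
  Cfsg.Agent.Nodes.OppDec
  Cfsg.Agent.KFacts.RgdField Cfsg.Agent.KFacts.RgdCent Cfsg.Agent.KFacts.ChevTwo Cfsg.Agent.KFacts.RgdSys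
  Cfsg.Agent.KFacts.ChevTwoInst Cfsg.Agent.H737.SK.O2 Cfsg.Agent.H282.SK Cfsg.Agent.H737.SK.Gen
  Cfsg.Agent.H737.SK.Chev Cfsg.Agent.KFacts.RgdRigid
open Cfsg.Lie Cfsg.Agent.ChevalleyStructure Cfsg.Agent.ChevalleyStructure.Elts
  Cfsg.Agent.ChevalleyStructure.RootVec Cfsg.Agent.ChevalleyStructure.FieldIso
  Cfsg.Agent.ChevalleyStructure.CoxeterGeomTypes
open Cfsg.Agent.Nodes Cfsg.Agent.Nodes.RGDChev
open Cfsg.Agent.H737.SK.E6 (A6)
open Cfsg.Agent.KFacts.RgdChevCoord
open scoped commutatorElement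

universe u

/-! ### Abstract part -/

section abs

variable {W Y K : Type*} [Group W] [Group Y] [Field K] {M : CoxeterMatrix (Fin 6)}
variable {cs : CoxeterSystem M W} {h : IsCartan M A6} {e : (Fin 6 → ℤ) → K → Y}
  {T : Subgroup Y} {n : Fin 6 → Y} {X : (Fin 6 → ℤ) → Subgroup Y}

def m1 : Fin 6 → ℤ := ![0, 1, 1, 2, 1, 1]
variable [Finite W] {R : RGD cs h 2 T n X} (S : _root_.Cfsg.Agent.KFacts.ChevTwo.Sys R e)

include S

theorem comm_of_zero {x y : Fin 6 → ℤ} (hx : IsRoot cs h x) (hy : IsRoot cs h y) (h1 : 0 ≤ cpr cs h x y) (a b : K) :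
    Commute (e x a) (e y b) := S.data.comm_of_nonneg hx hy h1 a b

/-- what we need of a pair of roots for `J` -/
structure PairJ (cs : CoxeterSystem M W) (h : IsCartan M A6) (J : List (Fin 6)) (b b' : Fin 6 → ℤ) : Prop where
  root : IsRoot cs h b
  root' : IsRoot cs h b'
  zero : cpr cs h b b' = 0
  w : rep cs h (cs.wordProd J) b = b'
  w' : rep cs h (cs.wordProd J) b' = b
  s : (J.map fun j => cpr cs h b (sr j)).sum = 0
  s' : (J.map fun j => cpr cs h b' (sr j)).sum = 0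

/-! ### membership -/

variable {L : Subgroup Y} {q : ℕ}

/-- membership of the folded root elements -/
structure Fold (e : (Fin 6 → ℤ) → K → Y) (L : Subgroup Y) (q : ℕ) : Prop where
  p05 : ∀ u, e (sr 0) u * e (sr 5) (u ^ q) ∈ L
  m05 : ∀ u, e (-sr 0) u * e (-sr 5) (u ^ q) ∈ L
  p24 : ∀ u, e (sr 2) u * e (sr 4) (u ^ q) ∈ L
  m24 : ∀ u, e (-sr 2) u * e (-sr 4) (u ^ q) ∈ L
  p1 : ∀ u, u ^ q = u → e (sr 1) u ∈ L
  m1 : ∀ u, u ^ q = u → e (-sr 1) u ∈ L
  p3 : ∀ u, u ^ q = u → e (sr 3) u ∈ L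
  m3 : ∀ u, u ^ q = u → e (-sr 3) u ∈ L

variable (hL : Fold e L q)

omit S [Finite W] in
theorem nc_pair {i j : Fin 6} (hc : ∀ a b, Commute (e (sr i) a) (e (sr j) b)) (hc1 : ∀ a b, Commute (e (-sr i) a) (e (sr j) b))
    (hc2 : ∀ a b, Commute (e (sr i) a) (e (-sr j) b))
    (hp : ∀ u, e (sr i) u * e (sr j) (u ^ q) ∈ L) (hm : ∀ u, e (-sr i) u * e (-sr j) (u ^ q) ∈ L) (b : K) :
    _root_.Cfsg.Agent.KFacts.ChevTwo.nc e (sr i) b * _root_.Cfsg.Agent.KFacts.ChevTwo.nc e (sr j) (b ^ q) ∈ L := by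
  have h1 : _root_.Cfsg.Agent.KFacts.ChevTwo.nc e (sr i) b * _root_.Cfsg.Agent.KFacts.ChevTwo.nc e (sr j) (b ^ q) = (e (sr i) b * e (sr j) (b ^ q)) *
      (e (-sr i) b⁻¹ * e (-sr j) (b⁻¹ ^ q)) * (e (sr i) b * e (sr j) (b ^ q)) := by
    rw [nc_def, nc_def, inv_pow]
    calc e (sr i) b * e (-sr i) b⁻¹ * e (sr i) b * (e (sr j) (b ^ q) * e (-sr j) (b ^ q)⁻¹ * e (sr j) (b ^ q))
        = e (sr i) b * e (-sr i) b⁻¹ * (e (sr i) b * e (sr j) (b ^ q)) * e (-sr j) (b ^ q)⁻¹ * e (sr j) (b ^ q) := by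
          group
      _ = e (sr i) b * (e (-sr i) b⁻¹ * e (sr j) (b ^ q)) * (e (sr i) b * e (-sr j) (b ^ q)⁻¹) * e (sr j) (b ^ q) := by
          rw [(hc b (b ^ q)).eq]; group
      _ = e (sr i) b * (e (sr j) (b ^ q) * e (-sr i) b⁻¹) * (e (-sr j) (b ^ q)⁻¹ * e (sr i) b) * e (sr j) (b ^ q) := by
          rw [(hc1 _ _).eq, (hc2 _ _).eq]
      _ = _ := by group
  rw [h1]
  exact mul_mem (mul_mem (hp b) (hm _)) (hp b)

theorem comm4 {i j : Fin 6} (hij : pairing A6 j (sr i) = 0) :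
    (∀ a b, Commute (e (sr i) a) (e (sr j) b)) ∧ (∀ a b, Commute (e (-sr i) a) (e (sr j) b)) ∧
    (∀ a b, Commute (e (sr i) a) (e (-sr j) b)) ∧ (∀ a b, Commute (e (-sr i) a) (e (-sr j) b)) := by
  have ri := isRoot_sr cs h i
  have rj := isRoot_sr cs h j
  have h0 : cpr cs h (sr i) (sr j) = 0 := by rw [cpr_sr, hij]
  refine ⟨fun a b => comm_of_zero S ri rj (by rw [h0]) a b, fun a b => comm_of_zero S ri.neg rj ?_ a b,
    fun a b => comm_of_zero S ri rj.neg ?_ a b, fun a b => comm_of_zero S ri.neg rj.neg ?_ a b⟩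
  · rw [cpr_neg cs h _ rj, h0, neg_zero]
  · rw [cpr_neg_right cs h _ rj, h0, neg_zero]
  · rw [cpr_neg_right cs h _ rj, cpr_neg cs h _ rj, h0, neg_zero, neg_zero]

include hL

theorem nc05 (b : K) : _root_.Cfsg.Agent.KFacts.ChevTwo.nc e (sr 0) b * _root_.Cfsg.Agent.KFacts.ChevTwo.nc e (sr 5) (b ^ q) ∈ L := by
  obtain ⟨h1, h2, h3, -⟩ := comm4 (i := 0) (j := 5) S (by decide +kernel)
  exact nc_pair h1 h2 h3 hL.p05 hL.m05 b

theorem nc24 (b : K) : _root_.Cfsg.Agent.KFacts.ChevTwo.nc e (sr 2) b * _root_.Cfsg.Agent.KFacts.ChevTwo.nc e (sr 4) (b ^ q) ∈ L := by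
  obtain ⟨h1, h2, h3, -⟩ := comm4 (i := 2) (j := 4) S (by decide +kernel)
  exact nc_pair h1 h2 h3 hL.p24 hL.m24 b

theorem n24 : nel e (sr 2) * nel e (sr 4) ∈ L := by
  have := nc24 S hL 1
  rwa [one_pow] at this

theorem n05 : nel e (sr 0) * nel e (sr 5) ∈ L := by
  have := nc05 S hL 1
  rwa [one_pow] at this

end abs

/-! ### The torus element for `J = [0, 5]` -/

section tor

variable {W Y K : Type*} [Group W] [Group Y] [Field K] {M : CoxeterMatrix (Fin 6)}
variable {cs : CoxeterSystem M W} {h : IsCartan M A6} {e : (Fin 6 → ℤ) → K → Y}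
  {T : Subgroup Y} {n : Fin 6 → Y} {X : (Fin 6 → ℤ) → Subgroup Y}
variable [Finite W] {R : RGD cs h 2 T n X} (S : _root_.Cfsg.Agent.KFacts.ChevTwo.Sys R e) {L : Subgroup Y} {q : ℕ}

theorem orth_B : Orth cs h [(0 : Fin 6), 5] := by
  refine ⟨by decide, ?_⟩
  have key : ∀ i ∈ [(0 : Fin 6), 5], ∀ j ∈ [(0 : Fin 6), 5], i ≠ j → pairing A6 j (sr i) = 0 := by
    decide +kernel
  intro i hi j hj hij
  rw [cpr_sr]
  exact key i hi j hj hij

theorem orth_B' : Orth cs h [(2 : Fin 6), 4] := by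
  refine ⟨by decide, ?_⟩
  have key : ∀ i ∈ [(2 : Fin 6), 4], ∀ j ∈ [(2 : Fin 6), 4], i ≠ j → pairing A6 j (sr i) = 0 := by
    decide +kernel
  intro i hi j hj hij
  rw [cpr_sr]
  exact key i hi j hj hij

/-- the torus element -/
def zB (e : (Fin 6 → ℤ) → K → Y) (q : ℕ) (b : K) : Y :=
  (hel e (sr 0) b * hel e (sr 5) (b ^ q)) * (hel e (sr 2) (b ^ 2) * hel e (sr 4) ((b ^ 2) ^ q))

include S

theorem zB_mem (hL : Fold e L q) (b : K) : zB e q b ∈ L := by
  refine mul_mem ?_ ?_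
  · have c : Commute (nel e (sr 0)) (_root_.Cfsg.Agent.KFacts.ChevTwo.nc e (sr 5) (b ^ q)) :=
      SS_comm S orth_B (by decide) (by decide) (by decide) (nel_mem S 0) (nc_mem S 5 _)
    have e1 : hel e (sr 0) b * hel e (sr 5) (b ^ q) = (_root_.Cfsg.Agent.KFacts.ChevTwo.nc e (sr 0) b * _root_.Cfsg.Agent.KFacts.ChevTwo.nc e (sr 5) (b ^ q)) *
        (nel e (sr 0) * nel e (sr 5)) := by
      rw [hel_def, hel_def]
      calc _root_.Cfsg.Agent.KFacts.ChevTwo.nc e (sr 0) b * nel e (sr 0) * (_root_.Cfsg.Agent.KFacts.ChevTwo.nc e (sr 5) (b ^ q) * nel e (sr 5))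
          = _root_.Cfsg.Agent.KFacts.ChevTwo.nc e (sr 0) b * (nel e (sr 0) * _root_.Cfsg.Agent.KFacts.ChevTwo.nc e (sr 5) (b ^ q)) * nel e (sr 5) := by group
        _ = _ := by rw [c.eq]; group
    rw [e1]
    exact mul_mem (nc05 S hL b) (n05 S hL)
  · have c : Commute (nel e (sr 2)) (_root_.Cfsg.Agent.KFacts.ChevTwo.nc e (sr 4) ((b ^ 2) ^ q)) :=
      SS_comm S orth_B' (by decide) (by decide) (by decide) (nel_mem S 2) (nc_mem S 4 _)
    have e1 : hel e (sr 2) (b ^ 2) * hel e (sr 4) ((b ^ 2) ^ q) = (_root_.Cfsg.Agent.KFacts.ChevTwo.nc e (sr 2) (b ^ 2) * _root_.Cfsg.Agent.KFacts.ChevTwo.nc e (sr 4) ((b ^ 2) ^ q)) *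
        (nel e (sr 2) * nel e (sr 4)) := by
      rw [hel_def, hel_def]
      calc _root_.Cfsg.Agent.KFacts.ChevTwo.nc e (sr 2) (b ^ 2) * nel e (sr 2) * (_root_.Cfsg.Agent.KFacts.ChevTwo.nc e (sr 4) ((b ^ 2) ^ q) * nel e (sr 4))
          = _root_.Cfsg.Agent.KFacts.ChevTwo.nc e (sr 2) (b ^ 2) * (nel e (sr 2) * _root_.Cfsg.Agent.KFacts.ChevTwo.nc e (sr 4) ((b ^ 2) ^ q)) * nel e (sr 4) := by group
        _ = _ := by rw [c.eq]; group
    rw [e1]
    exact mul_mem (nc24 S hL (b ^ 2)) (n24 S hL)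

/-- the action on the root elements -/
theorem zB_act {b : K} (hb : b ≠ 0) {x : Fin 6 → ℤ} (hx : IsRoot cs h x) (a : K) :
    zB e q b * e x a * (zB e q b)⁻¹ = e x (b ^ cpr cs h x (sr 0) * ((b ^ q) ^ cpr cs h x (sr 5) *
      ((b ^ 2) ^ cpr cs h x (sr 2) * (((b ^ 2) ^ q) ^ cpr cs h x (sr 4) * a)))) := by
  have h0 : b ^ q ≠ 0 := pow_ne_zero _ hb
  have h2 : b ^ 2 ≠ 0 := pow_ne_zero _ hb
  have h3 : (b ^ 2) ^ q ≠ 0 := pow_ne_zero _ h2
  have e1 : zB e q b * e x a * (zB e q b)⁻¹ = hel e (sr 0) b * (hel e (sr 5) (b ^ q) * (hel e (sr 2) (b ^ 2) *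
      (hel e (sr 4) ((b ^ 2) ^ q) * e x a * (hel e (sr 4) ((b ^ 2) ^ q))⁻¹) * (hel e (sr 2) (b ^ 2))⁻¹) *
      (hel e (sr 5) (b ^ q))⁻¹) * (hel e (sr 0) b)⁻¹ := by
    unfold zB; group
  rw [e1, S.data.hel_conj hx (isRoot_sr cs h 4) h3, S.data.hel_conj hx (isRoot_sr cs h 2) h2,
    S.data.hel_conj hx (isRoot_sr cs h 5) h0, S.data.hel_conj hx (isRoot_sr cs h 0) hb]

theorem zB_comm {b : K} (hb : b ≠ 0) {x : Fin 6 → ℤ} (hx : IsRoot cs h x) {c0 c5 c2 c4 : ℤ}
    (h0 : cpr cs h x (sr 0) = c0) (h5 : cpr cs h x (sr 5) = c5) (h2 : cpr cs h x (sr 2) = c2)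
    (h4 : cpr cs h x (sr 4) = c4) (e1 : c0 + 2 * c2 = 0) (e2 : c5 + 2 * c4 = 0) (a : K) :
    Commute (zB e q b) (e x a) := by
  have h := zB_act (q := q) S hb hx a
  have k1 : (b ^ c0 * ((b ^ q) ^ c5 * ((b ^ 2) ^ c2 * (((b ^ 2) ^ q) ^ c4 * a)))) = a := by
    have e3 : b ^ c0 * (b ^ 2) ^ c2 = 1 := by
      rw [← zpow_natCast b 2, ← zpow_mul, ← zpow_add₀ hb]
      rw [show c0 + ((2 : ℕ) : ℤ) * c2 = 0 by push_cast; exact e1, zpow_zero]
    have e4 : (b ^ q) ^ c5 * ((b ^ 2) ^ q) ^ c4 = 1 := by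
      rw [← zpow_natCast b 2, ← zpow_natCast b q, ← zpow_natCast (b ^ ((2 : ℕ) : ℤ)) q, ← zpow_mul, ← zpow_mul,
        ← zpow_mul, ← zpow_add₀ hb]
      rw [show (q : ℤ) * c5 + ((2 : ℕ) : ℤ) * ((q : ℤ) * c4) = 0 by push_cast; linear_combination (q : ℤ) * e2, zpow_zero]
    calc (b ^ c0 * ((b ^ q) ^ c5 * ((b ^ 2) ^ c2 * (((b ^ 2) ^ q) ^ c4 * a))))
        = (b ^ c0 * (b ^ 2) ^ c2) * ((b ^ q) ^ c5 * ((b ^ 2) ^ q) ^ c4) * a := by ring
      _ = a := by rw [e3, e4, one_mul, one_mul]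
  rw [h0, h5, h2, h4, k1] at h
  exact mul_inv_eq_iff_eq_mul.1 h

/-- `zB` commutes with the rank one groups of `sr 0` and `sr 5` -/
theorem zB_SS {b : K} (hb : b ≠ 0) {j : Fin 6} (hj : j ∈ [(0 : Fin 6), 5]) {y : Y} (hy : y ∈ SS X j) :
    Commute (zB e q b) y := by
  have key : ∀ (s : Fin 6 → ℤ), IsRoot cs h s → (∀ a, Commute (zB e q b) (e s a)) →
      X s ≤ Subgroup.centralizer {zB e q b} := by
    intro s hs hc v hv
    obtain ⟨a, rfl⟩ := (S.mem_X s hs v).1 hv
    rw [Subgroup.mem_centralizer_singleton_iff]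
    exact (hc a).symm.eq
  have hle : SS X j ≤ Subgroup.centralizer {zB e q b} := by
    have hr := isRoot_sr cs h j
    refine sup_le (key _ hr fun a => ?_) (key _ hr.neg fun a => ?_)
    · simp only [List.mem_cons, List.not_mem_nil, or_false] at hj
      rcases hj with rfl | rfl
      · refine zB_comm (c0 := 2) (c5 := 0) (c2 := -1) (c4 := 0) S hb hr ?_ ?_ ?_ ?_ (by norm_num) (by norm_num) a <;>
          rw [cpr_sr] <;> decide +kernel
      · refine zB_comm (c0 := 0) (c5 := 2) (c2 := 0) (c4 := -1) S hb hr ?_ ?_ ?_ ?_ (by norm_num) (by norm_num) a <;>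
          rw [cpr_sr] <;> decide +kernel
    · simp only [List.mem_cons, List.not_mem_nil, or_false] at hj
      rcases hj with rfl | rfl
      · refine zB_comm (c0 := -2) (c5 := 0) (c2 := 1) (c4 := 0) S hb hr.neg ?_ ?_ ?_ ?_ (by norm_num) (by norm_num) a <;>
          rw [cpr_sr] <;> decide +kernel
      · refine zB_comm (c0 := 0) (c5 := -2) (c2 := 0) (c4 := 1) S hb hr.neg ?_ ?_ ?_ ?_ (by norm_num) (by norm_num) a <;>
          rw [cpr_sr] <;> decide +kernel
  exact (Subgroup.mem_centralizer_singleton_iff.1 (hle hy)).symm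

theorem zB_pr {b : K} (hb : b ≠ 0) {f : Fin 6 → Y} (hf : ∀ j, f j ∈ SS X j) :
    Commute (zB e q b) (_root_.Cfsg.Agent.H737.SK.Gen.pr [(0 : Fin 6), 5] f) :=
  commute_pr fun j hj => zB_SS S hb hj (hf j)

/-- the graph automorphism moves `zB` -/
theorem zB_ne {γ : MulAut Y} (hγ : Gra cs h e γ ![5, 1, 4, 3, 2, 0]) {b : K} (hb : b ≠ 0)
    (hbq : (b ^ q) ^ 3 ≠ b ^ 3) : γ (zB e q b) ≠ zB e q b := by
  intro h0
  have hr2 := isRoot_sr cs h 2
  have hr4 := isRoot_sr cs h 4
  have g4 : ∀ a, γ (e (sr 4) a) = e (sr 2) a := fun a => by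
    rw [hγ.map _ hr4, sr_comp hγ.invol]; rfl
  have a2 := zB_act (q := q) S hb hr2 1
  have a4 := zB_act (q := q) S hb hr4 1
  have c20 : cpr cs h (sr 2) (sr 0) = -1 := by rw [cpr_sr]; decide +kernel
  have c25 : cpr cs h (sr 2) (sr 5) = 0 := by rw [cpr_sr]; decide +kernel
  have c22 : cpr cs h (sr 2) (sr 2) = 2 := by rw [cpr_sr]; decide +kernel
  have c24 : cpr cs h (sr 2) (sr 4) = 0 := by rw [cpr_sr]; decide +kernel
  have c40 : cpr cs h (sr 4) (sr 0) = 0 := by rw [cpr_sr]; decide +kernel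
  have c45 : cpr cs h (sr 4) (sr 5) = -1 := by rw [cpr_sr]; decide +kernel
  have c42 : cpr cs h (sr 4) (sr 2) = 0 := by rw [cpr_sr]; decide +kernel
  have c44 : cpr cs h (sr 4) (sr 4) = 2 := by rw [cpr_sr]; decide +kernel
  rw [c20, c25, c22, c24] at a2
  rw [c40, c45, c42, c44] at a4
  have a4' := congrArg γ a4
  rw [map_mul, map_mul, map_inv, h0, g4, g4, a2] at a4'
  have h1 := S.data.injective hr2 a4'
  simp only [zpow_zero, one_mul, mul_one] at h1
  have e1 : b ^ (-1 : ℤ) * (b ^ 2) ^ (2 : ℤ) = b ^ 3 := by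
    rw [zpow_neg_one]
    have : (b ^ 2) ^ (2 : ℤ) = (b ^ 2) ^ 2 := by norm_cast
    rw [this]
    field_simp
  have e2 : (b ^ q) ^ (-1 : ℤ) * ((b ^ 2) ^ q) ^ (2 : ℤ) = (b ^ q) ^ 3 := by
    have h2 : (b ^ 2) ^ q = (b ^ q) ^ 2 := by rw [← pow_mul, ← pow_mul, mul_comm]
    have h3 : b ^ q ≠ 0 := pow_ne_zero _ hb
    rw [h2, zpow_neg_one]
    have : ((b ^ q) ^ 2) ^ (2 : ℤ) = ((b ^ q) ^ 2) ^ 2 := by norm_cast
    rw [this]
    field_simp
  rw [e1, e2] at h1
  exact hbq h1.symm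

end tor

/-! ### The concrete groups -/

section conc

variable {K : Type u} [Field K]

/-- `²E₆(q)` in the adjoint Chevalley group -/
abbrev L0 (K : Type u) [Field K] (q : ℕ) : Subgroup ↥(chevE6.group K) := (twistedE6 K q).subgroupOf (chevE6.group K)

open Cfsg.Agent.H297.SK.DichE6 (hp gra_E6)

theorem fold_L0 (q : ℕ) : Fold (eg hp K) (L0 K q) q where
  p05 u := by
    rw [Subgroup.mem_subgroupOf, Subgroup.coe_mul, coe_eg, coe_eg, ev_sr hp, ev_sr hp]
    exact TwE6Basic.pair_mem (rs := (56, 36)) u (by simp)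
  m05 u := by
    rw [Subgroup.mem_subgroupOf, Subgroup.coe_mul, coe_eg, coe_eg, ev_neg_sr hp, ev_neg_sr hp]
    exact TwE6Basic.pair_mem (rs := (15, 35)) u (by simp)
  p24 u := by
    rw [Subgroup.mem_subgroupOf, Subgroup.coe_mul, coe_eg, coe_eg, ev_sr hp, ev_sr hp]
    exact TwE6Basic.pair_mem (rs := (42, 37)) u (by simp)
  m24 u := by
    rw [Subgroup.mem_subgroupOf, Subgroup.coe_mul, coe_eg, coe_eg, ev_neg_sr hp, ev_neg_sr hp]
    exact TwE6Basic.pair_mem (rs := (29, 34)) u (by simp)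
  p1 u hu := by
    rw [Subgroup.mem_subgroupOf, coe_eg, ev_sr hp]
    exact TwE6Basic.single_mem (r := 46) hu (by simp)
  m1 u hu := by
    rw [Subgroup.mem_subgroupOf, coe_eg, ev_neg_sr hp]
    exact TwE6Basic.single_mem (r := 25) hu (by simp)
  p3 u hu := by
    rw [Subgroup.mem_subgroupOf, coe_eg, ev_sr hp]
    exact TwE6Basic.single_mem (r := 39) hu (by simp)
  m3 u hu := by
    rw [Subgroup.mem_subgroupOf, coe_eg, ev_neg_sr hp]
    exact TwE6Basic.single_mem (r := 32) hu (by simp)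

variable [Fintype K] [CharP K 2] {q : ℕ}

theorem exists_gen (hK : Fintype.card K = q ^ 2) : ∃ b : K, b ≠ 0 ∧ ∀ m, b ^ m = 1 → q ^ 2 - 1 ∣ m := by
  obtain ⟨g, hg⟩ := IsCyclic.exists_generator (α := Kˣ)
  refine ⟨g, g.ne_zero, fun m hm => ?_⟩
  have h1 : g ^ m = 1 := Units.ext (by rw [Units.val_pow_eq_pow_val, hm]; rfl)
  have h2 := orderOf_dvd_of_pow_eq_one h1
  rw [orderOf_eq_card_of_forall_mem_zpowers hg, Nat.card_units, Nat.card_eq_fintype_card, hK] at h2
  exact h2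

/-- **(T5-B)**: `J = [0, 5]`, `q ≥ 4` -/
theorem exists_B (hq : 4 ≤ q) (hK : Fintype.card K = q ^ 2) : ∃ z ∈ L0 K q,
    (∀ f : Fin 6 → ↥(chevE6.group K), (∀ j, f j ∈ SS (XX chevE6 6 K) j) → Commute z (_root_.Cfsg.Agent.H737.SK.Gen.pr [(0 : Fin 6), 5] f)) ∧
    Commute z (_root_.Cfsg.Agent.H737.SK.Gen.pr [(0 : Fin 6), 5] fun j => nel (eg hp K) (sr j)) ∧
    (∀ c : K, c ≠ 0 → Commute z (_root_.Cfsg.Agent.H737.SK.Gen.pr [(0 : Fin 6), 5] fun j => hel (eg hp K) (sr j) c)) ∧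
    Commute z (_root_.Cfsg.Agent.H737.SK.Gen.pr [(0 : Fin 6), 5] (xl (eg hp K))) ∧ H129.TwE6Fr.gam K z ≠ z := by
  obtain ⟨cs, -⟩ : ∃ cs : CoxeterSystem CoxeterMatrix.E₆ CoxeterMatrix.E₆.Group, cs = CoxeterMatrix.E₆.toCoxeterSystem :=
    ⟨_, rfl⟩
  have hW := finite_W hp cs
  have S := sys (K := K) hp twoOK_E6 cs
  obtain ⟨b, hb, hb1⟩ := exists_gen hK
  have h3 : (b ^ q) ^ 3 ≠ b ^ 3 := by
    intro h1
    have h2 : b ^ (3 * (q - 1)) = 1 := by
      have h4 : b ^ 3 * b ^ (3 * (q - 1)) = b ^ 3 * 1 := by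
        rw [← pow_add, mul_one, ← h1, ← pow_mul]
        congr 1
        omega
      exact mul_left_cancel₀ (pow_ne_zero _ hb) h4
    have h4 := Nat.le_of_dvd (by omega) (hb1 _ h2)
    have h5 : q ^ 2 - 1 = (q + 1) * (q - 1) := by
      obtain ⟨k, rfl⟩ := Nat.exists_eq_add_of_le hq
      have : 4 + k - 1 = k + 3 := by omega
      rw [this]
      have : (4 + k) ^ 2 = (4 + k + 1) * (k + 3) + 1 := by ring
      rw [this]; omega
    rw [h5] at h4
    have h6 : 3 * (q - 1) < (q + 1) * (q - 1) := Nat.mul_lt_mul_of_pos_right (by omega) (by omega)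
    omega
  exact ⟨zB (eg hp K) q b, zB_mem S (fold_L0 q) b, fun f hf => zB_pr S hb hf, zB_pr S hb fun j => nel_mem S j,
    fun c _ => zB_pr S hb fun j => hel_memS S j c, zB_pr S hb fun j => xl_mem S j, zB_ne S (gra_E6 cs) hb h3⟩

end conc

end Cfsg.Agent.H282.SK.TwE5
end

-- part: H297/SK/TwE5C
section
/-!
# S3010, `²E₆(2)`: the explicit elements for `J = [0, 5]` (helper297)

In `C(v)`, `v = e (sr 0) 1 * e (sr 5) 1` (up to conjugation): the folded root elements of
`{-sr 2, -sr 4}` and `{sr 0 + sr 2, sr 4 + sr 5}`.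
-/

set_option autoImplicit false
set_option linter.unusedSectionVars false

namespace Cfsg.Agent.H297.SK.TwE5C

open CoxeterSystem Cfsg.Agent.ChevalleyStructure.CoxeterGeom Cfsg.Agent.Tits.Roots Cfsg.Agent.Tits.Core
  Cfsg.Agent.Tits.Exchange Cfsg.Agent.Nodes.Reps Cfsg.Agent.Nodes.BNOf Cfsg.Agent.Nodes.Coroot
  Cfsg.Agent.KFacts.RgdField Cfsg.Agent.KFacts.RgdCent Cfsg.Agent.KFacts.ChevTwo Cfsg.Agent.KFacts.RgdSys
  Cfsg.Agent.KFacts.ChevTwoInst Cfsg.Agent.H737.SK.O2 Cfsg.Agent.H282.SK Cfsg.Agent.H737.SK.Gen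
  Cfsg.Agent.H737.SK.Chev Cfsg.Agent.H297.SK Cfsg.Agent.H297.SK.Dich Cfsg.Agent.Nodes.OppDec Cfsg.Agent.Nodes.Comb
  Cfsg.Agent.KFacts.RgdOpp
open Cfsg.Lie Cfsg.Agent.ChevalleyStructure Cfsg.Agent.ChevalleyStructure.Elts
  Cfsg.Agent.ChevalleyStructure.RootVec Cfsg.Agent.ChevalleyStructure.FieldIso
  Cfsg.Agent.ChevalleyStructure.CoxeterGeomTypes
open Cfsg.Agent.Nodes Cfsg.Agent.Nodes.RGDChev
open Cfsg.Agent.H129.TwE6Fr (gam)
open Cfsg.Agent.H297.SK.DichE6 (hp)
open Cfsg.Agent.H737.SK.E6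

universe u

variable {W Y K : Type*} [Group W] [Group Y] [Field K] {M : CoxeterMatrix (Fin 6)}
variable {cs : CoxeterSystem M W} {h : IsCartan M A6} {e : (Fin 6 → ℤ) → K → Y}
  {T : Subgroup Y} {n : Fin 6 → Y} {X : (Fin 6 → ℤ) → Subgroup Y}
variable [Finite W] {R : RGD cs h 2 T n X} (S : _root_.Cfsg.Agent.KFacts.ChevTwo.Sys R e) {q : ℕ} {L : Subgroup Y}

include S

/-- `J = [0, 5]`: two elements of `C_L(v)` whose "commutators" with `γ` do not commute. -/
theorem noncomm_05_tw {γ : MulAut Y} (hγ : Gra cs h e γ s6) (t : Tw e q L) {ζ : K} (hζ : ζ + ζ ^ q = 1)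
    (hgL : (_root_.Cfsg.Agent.H737.SK.Gen.pr [(0 : Fin 6), 5] fun j => e (sr j) 1 * nel e (sr j)) ∈ L) : ∃ c₁ ∈ L, ∃ c₂ ∈ L,
    c₁ * (_root_.Cfsg.Agent.H737.SK.Gen.pr [(0 : Fin 6), 5] fun j => nel e (sr j)) = (_root_.Cfsg.Agent.H737.SK.Gen.pr [(0 : Fin 6), 5] fun j => nel e (sr j)) * c₁ ∧
    c₂ * (_root_.Cfsg.Agent.H737.SK.Gen.pr [(0 : Fin 6), 5] fun j => nel e (sr j)) = (_root_.Cfsg.Agent.H737.SK.Gen.pr [(0 : Fin 6), 5] fun j => nel e (sr j)) * c₂ ∧
    (c₁ * (γ c₁)⁻¹) * (c₂ * (γ c₂)⁻¹) ≠ (c₂ * (γ c₂)⁻¹) * (c₁ * (γ c₁)⁻¹) := by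
  have hJ : Orth cs h [(0 : Fin 6), 5] := by
    refine ⟨by decide, ?_⟩
    have key : ∀ i ∈ [(0 : Fin 6), 5], ∀ j ∈ [(0 : Fin 6), 5], i ≠ j → pairing A6 j (sr i) = 0 := by decide +kernel
    intro i hi j hj hij
    rw [cpr_sr]
    exact key i hi j hj hij
  obtain ⟨ζ', hζ'⟩ : ∃ ζ', ζ' = ζ ^ q := ⟨_, rfl⟩
  -- roots
  have wa : ([2] : List (Fin 6)).foldr (step A6) (sr 0) = ![1, 0, 1, 0, 0, 0] := by decide +kernel
  have wb : ([4] : List (Fin 6)).foldr (step A6) (sr 5) = ![0, 0, 0, 0, 1, 1] := by decide +kernel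
  have ra : IsRoot cs h ![1, 0, 1, 0, 0, 0] := isRoot_word wa
  have rb : IsRoot cs h ![0, 0, 0, 0, 1, 1] := isRoot_word wb
  have r0 := isRoot_sr cs h (0 : Fin 6)
  have r2 := (isRoot_sr cs h (2 : Fin 6)).neg
  have r4 := (isRoot_sr cs h (4 : Fin 6)).neg
  have r5 := isRoot_sr cs h (5 : Fin 6)
  have w2 : ([2] : List (Fin 6)).foldr (step A6) (sr 2) = -sr 2 := by decide +kernel
  have w4 : ([4] : List (Fin 6)).foldr (step A6) (sr 4) = -sr 4 := by decide +kernel
  obtain ⟨g, hg⟩ : ∃ g, g = _root_.Cfsg.Agent.H737.SK.Gen.pr [(0 : Fin 6), 5] fun j => e (sr j) 1 * nel e (sr j) := ⟨_, rfl⟩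
  have hγg : γ g = g := by
    rw [hg]
    refine hγ.pr S hJ (by decide) (fun j _ => mul_mem (e_mem S j _) (nel_mem S j)) fun j => ?_
    rw [map_mul, hγ.nel, hγ.map _ (isRoot_sr cs h j), sr_comp hγ.invol]
  have hv : (_root_.Cfsg.Agent.H737.SK.Gen.pr [(0 : Fin 6), 5] fun j => nel e (sr j)) = g * (e (sr 0) 1 * e (sr 5) 1) * g⁻¹ := by
    have h1 : (_root_.Cfsg.Agent.H737.SK.Gen.pr [(0 : Fin 6), 5] fun j => e (sr j) 1) = e (sr 0) 1 * e (sr 5) 1 := by
      rw [pr_cons, pr_cons, pr_nil, mul_one]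
    rw [nJ_conj S hJ, hg, h1]
  have hgr : ∀ c, c * (e (sr 0) 1 * e (sr 5) 1) = (e (sr 0) 1 * e (sr 5) 1) * c →
      (g * c * g⁻¹) * (_root_.Cfsg.Agent.H737.SK.Gen.pr [(0 : Fin 6), 5] fun j => nel e (sr j)) =
        (_root_.Cfsg.Agent.H737.SK.Gen.pr [(0 : Fin 6), 5] fun j => nel e (sr j)) * (g * c * g⁻¹) := by
    intro c hc
    rw [hv]
    calc (g * c * g⁻¹) * (g * (e (sr 0) 1 * e (sr 5) 1) * g⁻¹) = g * (c * (e (sr 0) 1 * e (sr 5) 1)) * g⁻¹ := by group
      _ = g * ((e (sr 0) 1 * e (sr 5) 1) * c) * g⁻¹ := by rw [hc]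
      _ = _ := by group
  have g4 : ∀ a, γ (e (-sr 4) a) = e (-sr 2) a := by
    intro a
    rw [hγ.map _ r4]
    congr 1
    decide
  have g2 : ∀ a, γ (e (-sr 2) a) = e (-sr 4) a := by
    intro a
    rw [hγ.map _ r2]
    congr 1
    decide
  have ga : ∀ a, γ (e ![1, 0, 1, 0, 0, 0] a) = e ![0, 0, 0, 0, 1, 1] a := by
    intro a
    rw [hγ.map _ ra]
    congr 1
    decide
  have gb : ∀ a, γ (e ![0, 0, 0, 0, 1, 1] a) = e ![1, 0, 1, 0, 0, 0] a := by
    intro a
    rw [hγ.map _ rb]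
    congr 1
    decide
  -- commutation rules
  have c42 := cm S r4 r2 (le_of_eq (Eq.symm (cpr_word w2 (by decide +kernel))))
  have cab := cm S ra rb (le_of_eq (Eq.symm (cpr_word wb (by decide +kernel))))
  -- `z γ(z)⁻¹`
  have red : ∀ {x y : Fin 6 → ℤ}, IsRoot cs h x → IsRoot cs h y → (∀ a b, e x a * e y b = e y b * e x a) →
      (e x ζ * e y ζ') * (e y ζ * e x ζ')⁻¹ = e x 1 * e y 1 := by
    intro x y hx hy hc
    rw [mul_inv_rev, S.data.inv hx, S.data.inv hy]
    have h1 : ζ + ζ' = 1 := by rw [hζ', hζ]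
    calc e x ζ * e y ζ' * (e x ζ' * e y ζ) = e x ζ * (e y ζ' * e x ζ') * e y ζ := by group
      _ = e x ζ * (e x ζ' * e y ζ') * e y ζ := by rw [hc]
      _ = (e x ζ * e x ζ') * (e y ζ' * e y ζ) := by group
      _ = e x 1 * e y 1 := by rw [← S.data.add _ hx, ← S.data.add _ hy, add_comm ζ' ζ, h1]
  refine ⟨g * (e (-sr 2) ζ * e (-sr 4) ζ') * g⁻¹, ?_,
    g * (e ![1, 0, 1, 0, 0, 0] ζ * e ![0, 0, 0, 0, 1, 1] ζ') * g⁻¹, ?_, hgr _ ?_, hgr _ ?_, ?_⟩
  · rw [hg, hζ']
    exact mul_mem (mul_mem hgL (t.m2 ζ)) (inv_mem hgL)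
  · rw [hg, hζ']
    refine mul_mem (mul_mem hgL ?_) (inv_mem hgL)
    refine pair_word S (ω := [2, 4]) ?_ r0 r5 (by decide +kernel) (by decide +kernel) (t.p0 ζ)
    rw [pr_cons, pr_cons, pr_nil, mul_one]
    exact n24 S t
  · have h1 := cm S r4 r0 (le_of_eq (Eq.symm (by rw [cpr_sr]; decide +kernel))) ζ' 1
    have h2 := cm S r4 r5 (by rw [cpr_sr]; decide +kernel) ζ' 1
    have h3 := cm S r2 r0 (by rw [cpr_sr]; decide +kernel) ζ 1
    have h4 := cm S r2 r5 (le_of_eq (Eq.symm (by rw [cpr_sr]; decide +kernel))) ζ 1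
    have k1 : Commute (e (-sr 4) ζ') (e (sr 0) 1 * e (sr 5) 1) := (show Commute _ _ from h1).mul_right h2
    have k2 : Commute (e (-sr 2) ζ) (e (sr 0) 1 * e (sr 5) 1) := (show Commute _ _ from h3).mul_right h4
    exact (k2.mul_left k1).eq
  · have h1 := cm S rb r0 (le_of_eq (Eq.symm (by rw [cpr_sr]; decide +kernel))) ζ' 1
    have h2 := cm S rb r5 (by rw [cpr_sr]; decide +kernel) ζ' 1
    have h3 := cm S ra r0 (by rw [cpr_sr]; decide +kernel) ζ 1
    have h4 := cm S ra r5 (le_of_eq (Eq.symm (by rw [cpr_sr]; decide +kernel))) ζ 1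
    have k1 : Commute (e ![0, 0, 0, 0, 1, 1] ζ') (e (sr 0) 1 * e (sr 5) 1) := (show Commute _ _ from h1).mul_right h2
    have k2 : Commute (e ![1, 0, 1, 0, 0, 0] ζ) (e (sr 0) 1 * e (sr 5) 1) := (show Commute _ _ from h3).mul_right h4
    exact (k2.mul_left k1).eq
  · have e1 : γ (g * (e (-sr 2) ζ * e (-sr 4) ζ') * g⁻¹) = g * (e (-sr 4) ζ * e (-sr 2) ζ') * g⁻¹ := by
      rw [map_mul, map_mul, map_inv, hγg, map_mul, g2, g4]
    have e2 : γ (g * (e ![1, 0, 1, 0, 0, 0] ζ * e ![0, 0, 0, 0, 1, 1] ζ') * g⁻¹) =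
        g * (e ![0, 0, 0, 0, 1, 1] ζ * e ![1, 0, 1, 0, 0, 0] ζ') * g⁻¹ := by
      rw [map_mul, map_mul, map_inv, hγg, map_mul, ga, gb]
    rw [e1, e2]
    intro h0
    -- the reduced equation
    have h1 : (e (-sr 2) 1 * e (-sr 4) 1) * (e ![1, 0, 1, 0, 0, 0] 1 * e ![0, 0, 0, 0, 1, 1] 1) =
        (e ![1, 0, 1, 0, 0, 0] 1 * e ![0, 0, 0, 0, 1, 1] 1) * (e (-sr 2) 1 * e (-sr 4) 1) := by
      have h2 : ∀ a b c d : Y, g * a * g⁻¹ * (g * b * g⁻¹)⁻¹ * (g * c * g⁻¹ * (g * d * g⁻¹)⁻¹) =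
          g * ((a * b⁻¹) * (c * d⁻¹)) * g⁻¹ := fun a b c d => by group
      rw [h2, h2] at h0
      have h3 := mul_left_cancel (mul_right_cancel h0)
      rw [red r2 r4 fun a b => (c42 b a).symm, red ra rb cab] at h3
      exact h3
    -- commutation rules
    have c2a : e (-sr 2) 1 * e ![1, 0, 1, 0, 0, 0] 1 = e (sr 0) 1 * (e ![1, 0, 1, 0, 0, 0] 1 * e (-sr 2) 1) :=
      mul_of_neg S r2 ra (cpr_word wa (by decide +kernel)) (cpr_word w2 (by decide +kernel)) (by decide)
    have c4b : e (-sr 4) 1 * e ![0, 0, 0, 0, 1, 1] 1 = e (sr 5) 1 * (e ![0, 0, 0, 0, 1, 1] 1 * e (-sr 4) 1) :=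
      mul_of_neg S r4 rb (cpr_word wb (by decide +kernel)) (cpr_word w4 (by decide +kernel)) (by decide)
    have c40 := comm_of_zero S r4 r0 (le_of_eq (Eq.symm (by rw [cpr_sr]; decide +kernel)))
    have c4a := comm_of_zero S r4 ra (le_of_eq (Eq.symm (cpr_word wa (by decide +kernel))))
    have c2b := comm_of_zero S r2 rb (le_of_eq (Eq.symm (cpr_word wb (by decide +kernel))))
    have ca5 := comm_of_zero S ra r5 (le_of_eq (Eq.symm (by rw [cpr_sr]; decide +kernel)))
    have c42 := c42 1 1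
    obtain ⟨p, hp⟩ : ∃ p, p = e (-sr 4) (1 : K) := ⟨_, rfl⟩
    obtain ⟨q, hq⟩ : ∃ q, q = e (-sr 2) (1 : K) := ⟨_, rfl⟩
    obtain ⟨a, ha⟩ : ∃ a, a = e ![1, 0, 1, 0, 0, 0] (1 : K) := ⟨_, rfl⟩
    obtain ⟨b, hb⟩ : ∃ b, b = e ![0, 0, 0, 0, 1, 1] (1 : K) := ⟨_, rfl⟩
    obtain ⟨x, hx⟩ : ∃ x, x = e (sr 0) (1 : K) := ⟨_, rfl⟩
    obtain ⟨y, hy⟩ : ∃ y, y = e (sr 5) (1 : K) := ⟨_, rfl⟩
    rw [← hp, ← hq, ← ha, ← hb] at h1
    rw [← hq, ← ha, ← hx] at c2a
    rw [← hp, ← hb, ← hy] at c4b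
    rw [← hp, ← hx] at c40
    rw [← hp, ← ha] at c4a
    rw [← hq, ← hb] at c2b
    rw [← ha, ← hy] at ca5
    rw [← hp, ← hq] at c42
    rw [← c42] at h1
    have h3 : p * q * (a * b) = x * y * (a * b * (p * q)) := by
      calc p * q * (a * b) = p * (q * a) * b := by group
        _ = p * (x * (a * q)) * b := by rw [c2a]
        _ = (p * x) * a * (q * b) := by group
        _ = (x * p) * a * (b * q) := by rw [c40, c2b]
        _ = x * (p * a) * b * q := by group
        _ = x * (a * p) * b * q := by rw [c4a]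
        _ = x * a * (p * b) * q := by group
        _ = x * a * (y * (b * p)) * q := by rw [c4b]
        _ = x * (a * y) * b * p * q := by group
        _ = x * (y * a) * b * p * q := by rw [ca5]
        _ = x * y * (a * b * (p * q)) := by group
    rw [h3] at h1
    have h4 : x * y = 1 := mul_eq_right.1 h1
    have h5 : x = y := by
      have h6 : y * y = 1 := by rw [hy]; exact S.data.sq r5 1
      calc x = x * y * y⁻¹ := by group
        _ = y⁻¹ := by rw [h4, one_mul]
        _ = y := inv_eq_of_mul_eq_one_right h6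
    rw [hx, hy] at h5
    exact ne_sr S (show (0 : Fin 6) ≠ 5 by decide) h5.symm

end Cfsg.Agent.H297.SK.TwE5C
end

-- part: H297/SK/TwRow
section
/-!
# S3010: the row `²E₆(q)`, `q` even (helper297)
-/

set_option autoImplicit false
set_option linter.unusedSectionVars false
set_option linter.unusedVariables false

namespace Cfsg.Agent.H297.SK.TwE

open CoxeterSystem Cfsg.Agent.ChevalleyStructure.CoxeterGeom Cfsg.Agent.Tits.Roots Cfsg.Agent.Tits.Core
  Cfsg.Agent.Nodes.Reps Cfsg.Agent.Nodes.BNOf Cfsg.Agent.Nodes.Coroot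
open Cfsg.Lie Cfsg.Agent.ChevalleyStructure Cfsg.Agent.ChevalleyStructure.Elts Cfsg.Agent.ChevalleyStructure.NPerm
  Cfsg.Agent.ChevalleyStructure.CoxeterGeomTypes Cfsg.Agent.Nodes Cfsg.Agent.Nodes.RGDChev
  Cfsg.Agent.KFacts.ChevTwo Cfsg.Agent.KFacts.ChevTwoInst Cfsg.Agent.KFacts.RgdChevCoord
  Cfsg.Agent.KFacts.RgdCent Cfsg.Agent.H737.SK.Gen Cfsg.Agent.H297.SK.Dich Cfsg.Agent.H297.SK.DichE6
  Cfsg.Agent.H297.SK.Tw Cfsg.Agent.H737.SK.O2 Cfsg.Agent.BpExc.EmbInst Cfsg.Agent.H282.SK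
open Cfsg.Agent.H129.TwE6Fr (gam coe_gam flip6 flip_vec flip6_apply sg_one_sq sg_mem)
open Cfsg.Agent.ChevalleyStructure.TwE6Basic (sg rho)

universe u v

variable {K : Type u} [Field K] {q : ℕ}

theorem orthJ {J : List (Fin 6)} (hnd : J.Nodup)
    (h0 : ∀ i ∈ J, ∀ j ∈ J, i ≠ j → pairing (cartanOf chevE6 6) j (sr i) = 0) :
    Orth cs0 DichE6.hp.isCartan J where
  nodup := hnd
  zero i hi j hj hij := by have := finW; rw [cpr_sr]; exact h0 i hi j hj hij

theorem gj1 : GJ K q [1] where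
  orth := orthJ (by decide) (by decide +kernel)
  perm := by decide
  mem c hc := by
    rw [pr_cons, pr_cons, pr_nil, pr_nil, mul_one, mul_one]
    exact mem1 hc (Or.inl rfl)

theorem gj2 : GJ K q [0, 5] where
  orth := orthJ (by decide) (by decide +kernel)
  perm := by decide
  mem c hc := by
    rw [pr_cons, pr_cons, pr_cons, pr_cons, pr_nil, pr_nil, mul_one, mul_one]
    have h1 := mem05 (q := q) c
    rw [hc] at h1
    refine ⟨?_, ?_⟩
    · convert h1.1
    · convert h1.2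

theorem gj3 : GJ K q [1, 0, 5] where
  orth := orthJ (by decide) (by decide +kernel)
  perm := by decide
  mem c hc := by
    rw [pr_cons, pr_cons, pr_cons, pr_cons, pr_cons, pr_cons, pr_nil, pr_nil, mul_one, mul_one]
    have h1 := mem05 (q := q) c
    rw [hc] at h1
    have h2 := mem1 (q := q) hc (j := 1) (Or.inl rfl)
    refine ⟨mul_mem ?_ ?_, mul_mem ?_ ?_⟩
    · convert h2.1
    · convert h1.1
    · convert h2.2
    · convert h1.2

variable [Fintype K] [CharP K 2] (hq : IsPrimePow q) (hK : Fintype.card K = q ^ 2)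

/-- `J = [0, 5]`, `q = 2` -/
theorem exC (hq2 : q = 2) {ζ : K} (hζ : ζ ^ 2 = ζ + 1) : ∃ c₁ ∈ L0 K q, ∃ c₂ ∈ L0 K q,
    c₁ * pr [0, 5] (fun j => nel (eg DichE6.hp K) (sr j)) = pr [0, 5] (fun j => nel (eg DichE6.hp K) (sr j)) * c₁ ∧
    c₂ * pr [0, 5] (fun j => nel (eg DichE6.hp K) (sr j)) = pr [0, 5] (fun j => nel (eg DichE6.hp K) (sr j)) * c₂ ∧
    (c₁ * (gam K c₁)⁻¹) * (c₂ * (gam K c₂)⁻¹) ≠ (c₂ * (gam K c₂)⁻¹) * (c₁ * (gam K c₁)⁻¹) := by
  have := finW
  have hg := (gj2 (K := K) (q := q)).k_mem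
  have hh : ζ + ζ ^ q = 1 := by rw [hq2, hζ, ← add_assoc, CharTwo.add_self_eq_zero, zero_add]
  refine TwE5C.noncomm_05_tw (L := L0 K q) (S0 (K := K)) (gra_E6 cs0) (H737.SK.E6.tw_twE6 q) hh ?_
  convert hg

/-! ### field elements -/

include hK in
theorem two_dvd : 2 ∣ q := by
  obtain ⟨n, hn, h3⟩ := FiniteField.card K 2
  have h4 : 2 ∣ q ^ 2 := by
    rw [← hK, h3]; exact dvd_pow_self 2 (PNat.ne_zero n)
  exact Nat.prime_two.dvd_of_dvd_pow h4

include hK in
/-- an element of odd prime order of `F_q` -/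
theorem exists_c (hq : IsPrimePow q) (hq2 : q ≠ 2) :
    ∃ (l : ℕ) (c : K), l.Prime ∧ l ≠ 2 ∧ c ≠ 0 ∧ c ≠ 1 ∧ c ^ l = 1 ∧ c ^ q = c := by
  have h1 : 1 < q := hq.one_lt
  have h2 : q - 1 ≠ 1 := by omega
  obtain ⟨l, hl, hd⟩ := Nat.exists_prime_and_dvd h2
  have hev : 2 ∣ q := two_dvd hK
  have hl2 : l ≠ 2 := by
    rintro rfl
    omega
  have : Fact l.Prime := ⟨hl⟩
  have hd2 : l ∣ Nat.card Kˣ := by
    rw [Nat.card_units, Nat.card_eq_fintype_card, hK]
    refine hd.trans ⟨q + 1, ?_⟩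
    obtain ⟨m, rfl⟩ : ∃ m, q = m + 1 := ⟨q - 1, by omega⟩
    rw [Nat.add_sub_cancel]
    have h3 : (m + 1) ^ 2 = m * (m + 1 + 1) + 1 := by ring
    omega
  obtain ⟨x, hx⟩ := exists_prime_orderOf_dvd_card' l hd2
  have hxl : (x : K) ^ l = 1 := by
    rw [← Units.val_pow_eq_pow_val, ← hx, pow_orderOf_eq_one, Units.val_one]
  refine ⟨l, (x : K), hl, hl2, x.ne_zero, ?_, hxl, ?_⟩
  · intro h0
    have h3 : x = 1 := Units.ext h0
    rw [h3, orderOf_one] at hx
    exact hl.one_lt.ne hx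
  · obtain ⟨m, hm⟩ := hd
    have h3 : q = l * m + 1 := by omega
    rw [h3, pow_succ, pow_mul, hxl, one_pow, one_mul]

include hK in
theorem exists_zeta (hq2 : q = 2) : ∃ ζ : K, ζ ^ 2 = ζ + 1 := by
  classical
  have h4 : Fintype.card K = 4 := by rw [hK, hq2]; rfl
  obtain ⟨x, hx0, hx1⟩ : ∃ x : K, x ≠ 0 ∧ x ≠ 1 := by
    by_contra hcon
    push Not at hcon
    have h5 : Fintype.card K ≤ 2 := by
      have h6 : (Finset.univ : Finset K) ⊆ {0, 1} := by
        intro x _
        by_cases h0 : x = 0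
        · simp only [h0, _root_.Finset.mem_insert, _root_.Finset.mem_singleton, _root_.zero_ne_one, _root_.or_false]
        · simp only [hcon x h0, _root_.Finset.mem_insert, _root_.one_ne_zero, _root_.Finset.mem_singleton, _root_.or_true]
      calc Fintype.card K = (Finset.univ : Finset K).card := rfl
        _ ≤ ({0, 1} : Finset K).card := Finset.card_le_card h6
        _ ≤ 2 := Finset.card_le_two
    omega
  refine ⟨x, ?_⟩
  have h5 : x ^ 4 = x := by rw [← h4]; exact FiniteField.pow_card x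
  have h2K : (2 : K) = 0 := CharTwo.two_eq_zero
  have h6 : x * (x - 1) * (x ^ 2 + x + 1) = 0 := by linear_combination h5
  rcases mul_eq_zero.1 h6 with h7 | h7
  · rcases mul_eq_zero.1 h7 with h8 | h8
    · exact absurd h8 hx0
    · exact absurd (sub_eq_zero.1 h8) hx1
  · linear_combination h7 - (x + 1) * h2K

/-! ### the row -/

section

variable {H : Subgroup (MulAut ↥(twistedE6 K q))} {τ : MulAut ↥(twistedE6 K q)}

include hq hK in
/-- every representative kills -/
theorem kill (hD : Dic K q H τ) (hZ : Subgroup.center ↥(twistedE6 K q) = ⊥)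
    {G : Type v} [Group G] [Finite G] {V L : Subgroup G} (h : Cx V L) (e : L ≃* ↥(twistedE6 K q)) {w : G}
    (hw : w ∈ V) (hw1 : w ≠ 1) (hwL : w ∈ L) {J : List (Fin 6)}
    (hJ : J ∈ ([[1], [0, 5], [1, 0, 5]] : List (List (Fin 6))))
    (hv : io hq hK (e ⟨w, hwL⟩) = pr J fun j => nel (eg DichE6.hp K) (sr j)) : False := by
  have hgood : ∀ (J : List (Fin 6)), GJ K q J →
      (∃ z ∈ L0 K q, z * pr J (fun j => nel (eg DichE6.hp K) (sr j)) = pr J (fun j => nel (eg DichE6.hp K) (sr j)) * z ∧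
        (q ≠ 2 → ∀ c : K, c ≠ 0 → c ^ q = c → z * pr J (fun j => hel (eg DichE6.hp K) (sr j) c) =
          pr J (fun j => hel (eg DichE6.hp K) (sr j) c) * z) ∧
        (q = 2 → z * pr J (xl (eg DichE6.hp K)) = pr J (xl (eg DichE6.hp K)) * z) ∧ gam K z ≠ z) →
      (io hq hK (e ⟨w, hwL⟩) = pr J fun j => nel (eg DichE6.hp K) (sr j)) → False := by
    rintro J hJ ⟨z, hz, h1, h2, h3, h4⟩ hv
    apply h.not_good e hw hw1 hwL
    by_cases hq2 : q = 2
    · obtain ⟨ζ, hζ⟩ := exists_zeta hK hq2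
      obtain ⟨x, hx⟩ := exists_io hq hK hJ.xl_mem
      have P := pb_two hq hK hJ hD hq2 hζ hv hx
      exact good_of hq hK hD P hz (by rw [hv]; exact h1) (by rw [hx]; exact h3 hq2) h4 hZ
    · obtain ⟨l, c, hl, hl2, hc, hc1, hcl, hcq⟩ := exists_c hK hq hq2
      obtain ⟨x, hx⟩ := exists_io hq hK (hJ.hel_mem hcq)
      have P := pb_big hq hK hJ hD hl hl2 hc hc1 hcl hcq hv hx
      exact good_of hq hK hD P hz (by rw [hv]; exact h1) (by rw [hx]; exact h2 hq2 c hc hcq) h4 hZ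
  simp only [List.mem_cons, List.not_mem_nil, or_false] at hJ
  rcases hJ with rfl | rfl | rfl
  · obtain ⟨z, hz, h1, h2, h3, h4⟩ := H737.SK.E6.t5a hq hK
    exact hgood _ gj1 ⟨z, hz, h1.eq.symm, fun _ c _ _ => (h2 c).eq.symm, fun _ => h3.eq.symm, h4⟩ hv
  · by_cases hq2 : q = 2
    · obtain ⟨ζ, hζ⟩ := exists_zeta hK hq2
      obtain ⟨c₁, hc₁, c₂, hc₂, h1, h2, h3⟩ := exC hq2 hζ
      obtain ⟨x, hx⟩ := exists_io hq hK (gj2 (K := K) (q := q)).xl_mem
      have P := pb_two hq hK gj2 hD hq2 hζ hv hx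
      obtain ⟨y₁, rfl⟩ := exists_io hq hK hc₁
      obtain ⟨y₂, rfl⟩ := exists_io hq hK hc₂
      rw [← hv, ← map_mul, ← map_mul] at h1 h2
      refine P.false_of h e hwL hw hw1 (io_inj hq hK h1) (io_inj hq hK h2) fun h4 => h3 ?_
      have h5 := congrArg (io hq hK) h4
      simp only [map_mul, map_inv, hD.io hq hK] at h5
      exact h5
    · have hev : 2 ∣ q := two_dvd hK
      have h1q : 1 < q := hq.one_lt
      obtain ⟨z, hz, -, h1, h2, -, h3⟩ := H282.SK.TwE5.exists_B (K := K) (q := q) (by omega) hK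
      exact hgood _ gj2 ⟨z, hz, h1.eq, fun _ c hc _ => (h2 c hc).eq, fun h0 => absurd h0 hq2, h3⟩ hv
  · obtain ⟨z, hz, h1, h2, h3, h4⟩ := H737.SK.E6.t5d hq hK
    exact hgood _ gj3 ⟨z, hz, h1.eq.symm, fun _ c _ _ => (h2 c).eq.symm, fun _ => h3.eq.symm, h4⟩ hv

end

/-- the representatives are good lists -/
theorem gj_of {J : List (Fin 6)} (hJ : J ∈ ([[1], [0, 5], [1, 0, 5]] : List (List (Fin 6)))) : GJ K q J := by
  simp only [List.mem_cons, List.not_mem_nil, or_false] at hJ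
  rcases hJ with rfl | rfl | rfl
  · exact gj1
  · exact gj2
  · exact gj3

include hq hK in
/-- representatives of the involutions -/
theorem reps (y : ↥(twistedE6 K q)) (h1 : y ≠ 1) (h2 : y * y = 1) :
    ∃ J ∈ ([[1], [0, 5], [1, 0, 5]] : List (List (Fin 6))), ∃ g : ↥(twistedE6 K q),
      io hq hK (g * y * g⁻¹) = pr J fun j => nel (eg DichE6.hp K) (sr j) := by
  obtain ⟨J, hJ, z, e⟩ := H897.SK6.exists_simple hq hK y h1 h2
  have S := S0 (K := K)
  have hJ' := gj_of (K := K) (q := q) hJ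
  obtain ⟨k, hk⟩ := exists_io hq hK hJ'.k_mem
  refine ⟨J, hJ, k * z, ?_⟩
  have h3 : io hq hK (z * y * z⁻¹) = pr J fun j => eg DichE6.hp K (sr j) 1 := by
    apply Subtype.ext
    rw [coe_io, e]
    exact (H167.SK.Reps.coe_prod DichE6.hp J).symm
  have := finW
  rw [nJ_conj S hJ'.orth, ← hk, ← h3, ← map_mul, ← map_inv, ← map_mul]
  congr 1
  group

end Cfsg.Agent.H297.SK.TwE

namespace Cfsg.Agent.H297.SK.TwE

open Cfsg.Agent.ChevalleyStructure.TwE6Basic (sg rho)
open Cfsg.Lie Cfsg.Agent.H282.SK Cfsg.Agent.H737.SK.Gen Cfsg.Agent.Nodes.BNOf Cfsg.Agent.KFacts.ChevTwo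
  Cfsg.Agent.KFacts.ChevTwoInst Cfsg.Agent.Tits.Core

universe u

/-- **The row `²E₆(q)`, `q` even** -/
theorem dead : DeadS.{u} fun K _ => Cfsg.Agent.H731.SK.TwESixEven K := by
  rintro G _ _ V L h ⟨F, iF, iT, iC, q, hq, hF, ⟨e⟩⟩
  have hout : OutLe ↥(twistedE6 F q) := by
    obtain ⟨p, f, hp', hc, hf, rfl, hF'⟩ := H565.CopTw.exists_params hq hF (by norm_num)
    have : Fact p.Prime := ⟨hp'⟩
    exact outLe_2e6 p f hF' hf
  obtain ⟨w, hw, hw1, hwL⟩ := h.exists_mem_inf e hout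
  have h1 : e ⟨w, hwL⟩ ≠ 1 := by
    intro h1
    apply hw1
    have : (⟨w, hwL⟩ : L) = 1 := e.injective (by rw [h1, map_one])
    exact congrArg Subtype.val this
  have h2 : e ⟨w, hwL⟩ * e ⟨w, hwL⟩ = 1 := by
    rw [← map_mul]
    have : (⟨w, hwL⟩ : L) * ⟨w, hwL⟩ = 1 := Subtype.ext (h.sq hw)
    rw [this, map_one]
  obtain ⟨J, hJ, g, eJ⟩ := reps hq hF (e ⟨w, hwL⟩) h1 h2
  obtain ⟨e', he'⟩ : ∃ e' : L ≃* ↥(twistedE6 F q), e' = e.trans (MulAut.conj g) := ⟨_, rfl⟩
  have hv : e' ⟨w, hwL⟩ = g * e ⟨w, hwL⟩ * g⁻¹ := by rw [he']; rfl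
  obtain ⟨H, τ, k1, k2, k3, k4, k5⟩ := H897.SK6.exists_tau (K := F) hq hF
  have hZ : Subgroup.center ↥(twistedE6 F q) = ⊥ := by
    rw [eq_bot_iff]
    intro z hz
    rw [Subgroup.mem_bot]
    obtain ⟨k, rfl⟩ := e.surjective z
    have h2 : (k : G) = 1 := by
      apply h.eq_one_of_comm
      intro y hy
      have h3 := ((Subgroup.mem_center_iff.1 hz) (e ⟨y, hy⟩)).symm
      rw [← map_mul, ← map_mul] at h3
      exact congrArg Subtype.val (e.injective h3)
    have h4 : k = 1 := Subtype.ext h2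
    rw [h4, map_one]
  exact kill hq hF ⟨k1, k2, k3, k4, k5⟩ hZ h e' hw hw1 hwL hJ (by rw [hv, eJ])

end Cfsg.Agent.H297.SK.TwE
end

-- part: H63/SK/Real
section
/-!
# S3010 (Sidki), `|G / K| ≤ 2`: rows with one class of involutions and a real odd element (helper63)

* `mem_of_inner`, `mul_mem_of_aut` : the elements of `G` inducing inner automorphisms of `K` lie in `K`; `G / K` has order
  at most 2 if the product of two outer automorphisms of `K` is inner;
* `exists_outer` : `t ∈ V#` inverts `x ≠ 1` odd which commutes with no involution of `K`: some `w ∈ V \ K` lies in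
  `O_2(C_G(t))`;
* `false_of_real` : `K` with one class of involutions and `RealOdd K`, no involution of `G \ K` in `O_2(C_G(t))`: dead.
-/

set_option autoImplicit false
set_option linter.unusedVariables false
set_option linter.unusedSectionVars false
set_option linter.style.haveILetI false

universe u

open Subgroup Cfsg

namespace Cfsg.Agent.H63.SK

open Cfsg.Agent.H282.SK

variable {G : Type u} [Group G] [Finite G] {V K : Subgroup G}

/-! ### `G / K` -/

/-- an element inducing an inner automorphism of `K` lies in `K` -/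
theorem mem_of_inner (h : Cx V K) {a : G} {k : K} (hk : ∀ y : K, a * y * a⁻¹ = k * y * (k : G)⁻¹) : a ∈ K := by
  have h1 : (k : G)⁻¹ * a = 1 := by
    apply h.eq_one_of_comm
    intro y hy
    have h2 := hk ⟨y, hy⟩
    calc (k : G)⁻¹ * a * y = (k : G)⁻¹ * (a * y * a⁻¹) * a := by group
      _ = (k : G)⁻¹ * (k * y * (k : G)⁻¹) * a := by rw [h2]
      _ = y * ((k : G)⁻¹ * a) := by group
  have h2 : a = k := (inv_mul_eq_one.1 h1).symm
  rw [h2]
  exact k.2

/-- the automorphism of `K` induced by `a` -/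
theorem exists_aut (h : Cx V K) (a : G) : ∃ φ : MulAut K, (∀ y : K, ((φ y : K) : G) = a * y * a⁻¹) ∧
    (φ ∈ (MulAut.conj : K →* MulAut K).range → a ∈ K) := by
  haveI := h.norm
  refine ⟨MulAut.conjNormal a, fun y => MulAut.conjNormal_apply a y, ?_⟩
  rintro ⟨k, hk⟩
  apply mem_of_inner h (k := k)
  intro y
  rw [← MulAut.conjNormal_apply, ← hk, MulAut.conj_apply]
  simp only [_root_.Subgroup.coe_mul, _root_.InvMemClass.coe_inv]

/-- `|G / K| ≤ 2` -/
theorem mul_mem_of_aut (h : Cx V K) (hA : ∀ φ ψ : MulAut K, φ ∉ (MulAut.conj : K →* MulAut K).range →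
    ψ ∉ (MulAut.conj : K →* MulAut K).range → φ * ψ ∈ (MulAut.conj : K →* MulAut K).range) {a b : G}
    (ha : a ∉ K) (hb : b ∉ K) : a * b ∈ K := by
  obtain ⟨φ, hφ, hφ'⟩ := exists_aut h a
  obtain ⟨ψ, hψ, hψ'⟩ := exists_aut h b
  obtain ⟨k, hk⟩ := hA φ ψ (fun h' => ha (hφ' h')) (fun h' => hb (hψ' h'))
  apply mem_of_inner h (k := k)
  intro y
  have h1 := congrArg (fun χ : MulAut K => ((χ y : K) : G)) hk
  simp only [MulAut.mul_apply, MulAut.conj_apply] at h1
  rw [hφ, hψ] at h1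
  have h2 : ((k * y * k⁻¹ : K) : G) = k * y * (k : G)⁻¹ := by simp only [_root_.Subgroup.coe_mul, _root_.InvMemClass.coe_inv]
  rw [h2] at h1
  rw [h1]
  group

/-- `V ∩ K ≠ 1` if `|G / K| ≤ 2` -/
theorem exists_inner (h : Cx V K) (h2 : ∀ a b : G, a ∉ K → b ∉ K → a * b ∈ K) : ∃ t ∈ V, t ≠ 1 ∧ t ∈ K := by
  classical
  by_contra hcon
  push Not at hcon
  have h8 := h.card
  have key : ∀ a b : V, a ≠ 1 → b ≠ 1 → a = b := by
    intro a b ha hb
    have ha' : (a : G) ∉ K := hcon a a.2 fun h' => ha (Subtype.ext h')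
    have hb' : (b : G) ∉ K := hcon b b.2 fun h' => hb (Subtype.ext h')
    have h3 := h2 a b ha' hb'
    have h4 : (a : G) * b = 1 := by
      by_contra h5
      exact hcon _ (V.mul_mem a.2 b.2) h5 h3
    have h5 : (a : G) = (b : G)⁻¹ := eq_inv_of_mul_eq_one_left h4
    rw [h.inv_eq b.2] at h5
    exact Subtype.ext h5
  by_cases hex : ∃ a : V, a ≠ 1
  · obtain ⟨a, ha⟩ := hex
    have h3 : (Set.univ : Set V) ⊆ {1, a} := by
      intro b _
      by_cases hb : b = 1
      · exact Or.inl hb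
      · exact Or.inr (key b a hb ha)
    have h4 := Set.ncard_le_ncard h3 (Set.toFinite _)
    rw [Set.ncard_univ] at h4
    have h5 := Set.ncard_insert_le (1 : V) {a}
    rw [Set.ncard_singleton] at h5
    omega
  · push Not at hex
    have : Subsingleton V := ⟨fun a b => (hex a).trans (hex b).symm⟩
    have h3 : Nat.card V = 1 := Nat.card_unique
    omega

/-! ### The main step -/

/-- no involution of `K` commutes with `x` -/
def NoInv (K : Subgroup G) (x : G) : Prop := ∀ w ∈ K, w * w = 1 → Commute w x → w = 1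

theorem NoInv.eq_one {x w : G} (h : NoInv K x) (hw : w ∈ K) (hc : Commute w x) {k : ℕ} (hk : w ^ 2 ^ k = 1) :
    w = 1 := by
  induction k with
  | zero => simpa using hk
  | succ k ih =>
    apply ih
    apply h _ (pow_mem hw _)
    · rw [← pow_add]
      rw [pow_succ] at hk
      rwa [← two_mul, mul_comm]
    · exact hc.pow_left _

/-- `t ∈ V#` inverts `x ≠ 1` odd which commutes with no involution of `K`: some `w ∈ V \ K` lies in `O_2(C_G(t))` -/
theorem exists_outer (h : Cx V K) (h2 : ∀ a b : G, a ∉ K → b ∉ K → a * b ∈ K) {t x : G} (ht : t ∈ V) (ht1 : t ≠ 1)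
    (hx : Odd (orderOf x)) (hx1 : x ≠ 1) (hi : t * x * t⁻¹ = x⁻¹) (hn : NoInv K x) :
    ∃ w ∈ V, w ∉ K ∧ w * w = 1 ∧ Commute w x ∧ w ∈ O2 (centralizer ({t} : Set G)) := by
  obtain ⟨z, hzV, hz1, hzx, hzO⟩ := h.t1 ht ht1 hx hi
  have hzK : z ∉ K := fun hK => hz1 (hn z hK (h.sq hzV) hzx)
  have hu : ∀ w ∈ O2 (centralizer ({t} : Set G) ⊓ centralizer ({x} : Set G)), w ≠ 1 → w * w = 1 → w = z := by
    intro w hw hw1 hww
    have hwx : Commute w x := mem_centralizer_singleton_iff.1 (mem_inf.1 (O2_le _ hw)).2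
    have hwK : w ∉ K := fun hK => hw1 (hn w hK hww hwx)
    have h3 : w * z ∈ K := h2 w z hwK hzK
    obtain ⟨k, hk⟩ := isPGroup_O2 _ ⟨w * z, (O2 _).mul_mem hw hzO⟩
    have h4 : w * z = 1 := hn.eq_one h3 (hwx.mul_left hzx) (k := k) (congrArg Subtype.val hk)
    rw [eq_inv_of_mul_eq_one_left h4, h.inv_eq hzV]
  obtain ⟨-, -, -, -, h5⟩ := h.bprime_O2 ht ht1 hx hx1 hi hu
  exact ⟨z, hzV, hzK, h.sq hzV, hzx, h5⟩

/-- an involution inverting the real element -/
theorem exists_of_realOdd {X : Type*} [Group X] [Finite X] (h : H101.RO.RealOdd X) :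
    ∃ x s : X, x ≠ 1 ∧ Odd (orderOf x) ∧ s * s = 1 ∧ s * x * s⁻¹ = x⁻¹ ∧
      ∀ w : X, w * w = 1 → Commute w x → w = 1 := by
  obtain ⟨x, p, k, hp, hp2, hk, hx, hc, hodd⟩ := h
  have hox : Odd (orderOf x) := by
    rw [hx]; exact (hp.odd_of_ne_two hp2).pow
  have hx1 : x ≠ 1 := by
    rintro rfl
    rw [orderOf_one] at hx
    have := Nat.one_lt_pow (by omega : k ≠ 0) hp.one_lt
    omega
  obtain ⟨g, hg⟩ := isConj_iff.1 hc
  have hgg : g * g ∈ centralizer ({x} : Set X) := by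
    rw [mem_centralizer_singleton_iff]
    have h1 : g * x⁻¹ * g⁻¹ = x := by
      calc g * x⁻¹ * g⁻¹ = (g * x * g⁻¹)⁻¹ := by group
        _ = x := by rw [hg, inv_inv]
    calc g * g * x = g * (g * x * g⁻¹) * g := by group
      _ = g * x⁻¹ * g⁻¹ * (g * g) := by rw [hg]; group
      _ = x * (g * g) := by rw [h1]
  have hpow : (g * g) ^ Nat.card (centralizer ({x} : Set X)) = 1 := by
    have := pow_card_eq_one' (x := (⟨g * g, hgg⟩ : centralizer ({x} : Set X)))
    exact congrArg Subtype.val this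
  obtain ⟨m, hm⟩ := hodd
  refine ⟨x, g ^ Nat.card (centralizer ({x} : Set X)), hx1, hox, ?_, ?_, ?_⟩
  · rw [← pow_add, ← two_mul, pow_mul, pow_two]
    exact hpow
  · have h2 : (g * g) ^ m * x = x * (g * g) ^ m :=
      ((show Commute (g * g) x from mem_centralizer_singleton_iff.1 hgg).pow_left m).eq
    have h3 : g ^ Nat.card (centralizer ({x} : Set X)) = g * (g * g) ^ m := by
      rw [hm, pow_succ', pow_mul, pow_two]
    rw [h3]
    calc g * (g * g) ^ m * x * (g * (g * g) ^ m)⁻¹ = g * ((g * g) ^ m * x) * ((g * g) ^ m)⁻¹ * g⁻¹ := by group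
      _ = g * (x * (g * g) ^ m) * ((g * g) ^ m)⁻¹ * g⁻¹ := by rw [h2]
      _ = g * x * g⁻¹ := by group
      _ = x⁻¹ := hg
  · intro w hw hwx
    have h1 : w ∈ centralizer ({x} : Set X) := mem_centralizer_singleton_iff.2 hwx.eq
    have h2 : orderOf (⟨w, h1⟩ : centralizer ({x} : Set X)) ∣ 2 :=
      orderOf_dvd_of_pow_eq_one (Subtype.ext (by rw [Subgroup.coe_pow, pow_two]; exact hw))
    have h3 : Odd (orderOf (⟨w, h1⟩ : centralizer ({x} : Set X))) := Odd.of_dvd_nat ⟨m, hm⟩ (_root_.orderOf_dvd_natCard _)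
    rcases (Nat.dvd_prime Nat.prime_two).1 h2 with h4 | h4
    · have := orderOf_eq_one_iff.1 h4
      exact congrArg Subtype.val this
    · rw [h4] at h3
      exact absurd h3 (by decide)

/-- **Rows with one class of involutions and a real odd element with centraliser of odd order**, `|G / K| ≤ 2`. -/
theorem false_of_real (h : Cx V K) (h2 : ∀ a b : G, a ∉ K → b ∉ K → a * b ∈ K)
    (hone : ∀ s t : K, s * s = 1 → s ≠ 1 → t * t = 1 → t ≠ 1 → ∃ g : K, g * s * g⁻¹ = t)
    (hR : H101.RO.RealOdd K)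
    (hO : ∀ t ∈ K, t * t = 1 → t ≠ 1 → ∀ w : G, w ∉ K → w * w = 1 → w ∉ O2 (centralizer ({t} : Set G))) : False := by
  obtain ⟨t, ht, ht1, htK⟩ := exists_inner h h2
  obtain ⟨x, s, hx1, hxo, hss, hsx, hn⟩ := exists_of_realOdd hR
  have hs1 : s ≠ 1 := by
    rintro rfl
    apply hx1
    apply S3011.eq_one_of_odd_of_inv hxo
    rw [← hsx]; group
  obtain ⟨g, hg⟩ := hone s ⟨t, htK⟩ hss hs1 (Subtype.ext (h.sq ht)) (fun h' => ht1 (congrArg Subtype.val h'))
  have hgt : ((g : G) * s * (g : G)⁻¹) = t := congrArg Subtype.val hg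
  have hsx' : (s : G) * x * (s : G)⁻¹ = (x : G)⁻¹ := congrArg Subtype.val hsx
  obtain ⟨w, -, hwK, hww, -, hwO⟩ := exists_outer h h2 ht ht1 (x := g * x * (g : G)⁻¹) (by
      have : orderOf ((g : G) * x * (g : G)⁻¹) = orderOf (x : G) := by
        simpa only [_root_.orderOf_submonoid, _root_.MulAut.conj_apply] using MulEquiv.orderOf_eq (MulAut.conj (g : G)) (x : G)
      rw [this, Subgroup.orderOf_coe]
      exact hxo) (by
      intro h'
      apply hx1
      apply Subtype.ext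
      have : (x : G) = (g : G)⁻¹ * (g * x * (g : G)⁻¹) * g := by group
      rw [this, h']; simp) (by
      rw [← hgt]
      calc (g : G) * s * (g : G)⁻¹ * (g * x * (g : G)⁻¹) * (g * s * (g : G)⁻¹)⁻¹
          = g * (s * x * (s : G)⁻¹) * (g : G)⁻¹ := by group
        _ = (g * x * (g : G)⁻¹)⁻¹ := by rw [hsx']; group) (by
      intro w hwK hww hwx
      have h3 : (g : G)⁻¹ * w * g = 1 := by
        have h4 := hn (g⁻¹ * ⟨w, hwK⟩ * g) (by
          calc g⁻¹ * ⟨w, hwK⟩ * g * (g⁻¹ * ⟨w, hwK⟩ * g) = g⁻¹ * (⟨w, hwK⟩ * ⟨w, hwK⟩) * g := by group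
            _ = 1 := by rw [show (⟨w, hwK⟩ * ⟨w, hwK⟩ : K) = 1 from Subtype.ext hww]; group) (by
          apply Subtype.ext
          show (g : G)⁻¹ * w * g * x = x * ((g : G)⁻¹ * w * g)
          calc (g : G)⁻¹ * w * g * x = (g : G)⁻¹ * (w * (g * x * (g : G)⁻¹)) * g := by group
            _ = (g : G)⁻¹ * ((g * x * (g : G)⁻¹) * w) * g := by rw [hwx.eq]
            _ = _ := by group)
        exact congrArg Subtype.val h4
      have : w = g * ((g : G)⁻¹ * w * g) * (g : G)⁻¹ := by group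
      rw [this, h3]; group)
  exact hO t htK (h.sq ht) ht1 w hwK hww hwO

end Cfsg.Agent.H63.SK
end

-- part: H63/SK/McL
section
/-!
# S3010 (Sidki), the row `McL` (helper63, task 3727)

One class of involutions, `C_K(t) = 2.A₈`, `|Out| = 2`; `x` of order 5 with `|C_K(x)| = 25` is inverted by an involution
(helper669), hence by `t ∈ V ∩ K`. `(T1)` gives `w ∈ V \ K` in `O_2(C_G(t))` (`exists_outer`); `w` acts trivially on
`C_K(t) / ⟨t⟩ = A₈`, so `w` induces an inner automorphism, a contradiction.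
-/

set_option autoImplicit false
set_option linter.unusedVariables false
set_option linter.style.haveILetI false

universe u

open Subgroup Cfsg Equiv

namespace Cfsg.Agent.H63.SK.McL

open Cfsg.Agent.H282.SK Cfsg.Agent.TypeM.Two Cfsg.Agent.TypeM.OuterMcL Cfsg.Agent.SporRec.TwoAn

/-- a normal 2-subgroup of `2.A₈` lies in the centre -/
theorem le_ker {C : Type*} [Group C] (Q : Cover (Fin 8) C) (N : Subgroup C) (hN : N.Normal) (h2 : IsPGroup 2 N) :
    ∀ g ∈ N, Q.π g = 1 := by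
  have hs : IsSimpleGroup (alternatingGroup (Fin 8)) :=
    alternatingGroup.isSimpleGroup (by rw [Nat.card_eq_fintype_card]; simp)
  have hM : (N.map (Cfsg.Agent.SporRec.LyFiveCov.proj Q)).Normal :=
    hN.map _ (Cfsg.Agent.SporRec.LyFiveCov.proj_surjective Q)
  have hM2 : IsPGroup 2 (N.map (Cfsg.Agent.SporRec.LyFiveCov.proj Q)) := h2.map _
  have : Fact (Nat.Prime 2) := ⟨Nat.prime_two⟩
  intro g hg
  have hgM : Cfsg.Agent.SporRec.LyFiveCov.proj Q g ∈ N.map (Cfsg.Agent.SporRec.LyFiveCov.proj Q) :=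
    mem_map_of_mem _ hg
  rcases hs.eq_bot_or_eq_top_of_normal _ hM with h | h
  · rw [h, mem_bot] at hgM
    exact congrArg Subtype.val hgM
  · exfalso
    rw [h] at hM2
    obtain ⟨n, hn⟩ := IsPGroup.iff_card.1 hM2
    rw [Subgroup.card_top] at hn
    have h3 : 2 * Nat.card (alternatingGroup (Fin 8)) = 40320 := by
      rw [two_mul_nat_card_alternatingGroup, Nat.card_perm, Nat.card_eq_fintype_card, Fintype.card_fin]
      decide
    have h4 : 3 ∣ 2 ^ n := by
      rw [← hn]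
      exact ⟨6720, by omega⟩
    have h5 := Nat.prime_three.dvd_of_dvd_pow h4
    norm_num at h5

variable {G : Type u} [Group G] [Finite G] {V K : Subgroup G}

/-- no involution outside `K` lies in `O_2(C_G(t))` -/
theorem not_mem_O2 (h : Cx V K) (L : MT 8 K) (hI : EvenInner L) {w : G} (hwK : w ∉ K) (hww : w * w = 1)
    (hw : w ∈ O2 (centralizer ({(L.t : G)} : Set G))) : False := by
  obtain ⟨φ, hφ, hφK⟩ := exists_aut h w
  have hwt : w * L.t = L.t * w := mem_centralizer_singleton_iff.1 (O2_le _ hw)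
  have hφt : φ L.t = L.t := by
    apply Subtype.ext
    rw [hφ, hwt]
    group
  let C : Subgroup K := centralizer ({L.t} : Set K)
  let N : Subgroup C := (O2 (centralizer ({(L.t : G)} : Set G))).comap (K.subtype.comp C.subtype)
  have hCG : ∀ c : C, ((c : K) : G) ∈ centralizer ({(L.t : G)} : Set G) := by
    intro c
    rw [mem_centralizer_singleton_iff]
    exact congrArg Subtype.val (L.mem_iff.1 c.2)
  have hN : N.Normal := by
    refine ⟨fun n hn c => ?_⟩
    exact conj_mem_O2 (hCG c) hn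
  have hN2 : IsPGroup 2 N := (isPGroup_O2 _).comap_of_injective _ (by
    intro a b hab
    exact Subtype.ext (Subtype.ext hab))
  apply hwK
  apply hφK
  refine hI φ 1 hφt ?_ (map_one _)
  intro g k hk
  have hm : k * g⁻¹ ∈ N := by
    show ((k : K) : G) * ((g : K) : G)⁻¹ ∈ O2 (centralizer ({(L.t : G)} : Set G))
    have h1 : ((k : K) : G) = w * (g : K) * w⁻¹ := by
      rw [← hφ, ← hk]
    rw [h1]
    have h2 : w * ((g : K) : G) * w⁻¹ * ((g : K) : G)⁻¹ = w * (((g : K) : G) * w⁻¹ * ((g : K) : G)⁻¹) := by group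
    rw [h2]
    exact (O2 _).mul_mem hw (conj_mem_O2 (hCG g) ((O2 _).inv_mem hw))
  have h3 := le_ker L.K N hN hN2 _ hm
  rw [map_mul, map_inv, mul_inv_eq_one] at h3
  rw [h3]
  group

/-- **The row `McL` of S3010.** -/
theorem dead : Cfsg.Agent.H282.SK.DeadS.{u} (fun K _ => Cfsg.Spor.IsoMcL K) := by
  intro G _ _ V K h hK
  obtain ⟨hfin, hs, hcard, ⟨L⟩⟩ := TypeM.FactsMcL.facts hK
  have hI : ∀ L' : MT 8 K, EvenInner L' := fun L' =>
    Cfsg.Agent.TypeM.OuterInst.evenInner L' (Or.inl rfl) (Cfsg.Agent.TypeM.FactsAut.gen L' (Or.inl ⟨rfl, hcard⟩))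
  have h2 : ∀ a b : G, a ∉ K → b ∉ K → a * b ∈ K := fun a b ha hb =>
    mul_mem_of_aut h (fun φ ψ hφ hψ => Cfsg.Agent.TypeM.OuterInst.mul_mem_range L (Or.inl rfl)
      (Cfsg.Agent.TypeM.FactsAut.gen L (Or.inl ⟨rfl, hcard⟩)) hφ hψ) ha hb
  refine false_of_real h h2 (fun s t hs hs1 ht ht1 => L.conj_of_involutions hs hs1 ht ht1)
    (Cfsg.Agent.H669.RO.McL.ro_McL hK) ?_
  intro t htK ht ht1 w hwK hww hw
  obtain ⟨L', hL'⟩ := L.exists_rebase (s := ⟨t, htK⟩) (Subtype.ext ht) (fun h' => ht1 (congrArg Subtype.val h'))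
  apply not_mem_O2 h L' (hI L') hwK hww
  rw [hL']
  exact hw

end Cfsg.Agent.H63.SK.McL
end

private theorem dce_a89a1c86790b : _root_.True := by
  try have : _root_.True := by simp only [_root_.Cfsg.Agent.H297.SK.TwE.io.congr_simp]
  try have : _root_.True := by simp only [_root_.Cfsg.Agent.H897.SK6.tau.eq_1]
  exact _root_.True.intro
end

-- part: H791/SK/Co3_mg
section
prune_inst 0x243010440122020000000012e0001c669600059210488c008ca103420680ce220d02a020882004114800080c20340060030000100200000000000400011d0581008010063140010800008e000080000000000000000000000000000000000000200000000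
set_option linter.all false
open scoped Cfsg.Agent.FastGrp

/-- decoders of the packed data (elaboration time only) -/
private noncomputable def pk61d (b S i : Nat) : Nat := Nat.mod (Nat.shiftRight S (Nat.mul b i)) (Nat.shiftLeft (nat_lit 1) b)
private noncomputable def pk61c {α : Type} (t : Nat) (a : α) (f : Nat → α) : α := Nat.rec a (fun k _ => f k) t
private noncomputable def pk61f {α : Type} (t : Nat) (f : Nat → α) : α := Nat.rec (f Nat.zero) (fun k _ => f (Nat.succ k)) t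
private noncomputable def pk61z (t : Nat) : Int := pk61f t fun t =>
  pk61c (Nat.mod t (nat_lit 2)) (Int.ofNat (Nat.div t (nat_lit 2))) fun _ => Int.negSucc (Nat.div t (nat_lit 2))
private noncomputable def pk61l {α : Type} (f : Nat → α) (s e : Nat) (tl : List α) : List α :=
  pk61f e fun e => Nat.rec tl (fun k ih => List.cons (pk61f (Nat.sub e (Nat.succ k)) f) ih) (Nat.sub e s)

-- part: H791/SK/Co3Dat
section
/-!
# Elements of `Co₃` for the row `Co₃` of S3010: the matrices (helper791)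

Elements of `Co₀` (24 × 24 integer matrices divided by 8) fixing the vector `leechV`.  Generated by a script; checked by
the kernel.  Letters: 0 = `a` (2B), 1 = `b` (2B), 2 = `x` (5B), 3 = `v` (2A), 4 = order 7, 5 = order 11, 6 = `t` (2B).
-/

set_option autoImplicit false
set_option maxRecDepth 100000

namespace Cfsg.Agent.H791.SK.Co3Dat

open Cfsg Cfsg.Agent.SporadicStructure.Co0Matrix Cfsg.Agent.CoOneType.CoEval

/-- rows of `a` -/
def r_a : List (List ℤ) :=
  (by
  refine (?fq9001 : ((pk61l (fun i1 => (pk61l (fun i2 => (pk61z (pk61d (nat_lit 4) 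
    (nat_lit 0x622622121221622222622226216211212112561161216112266211212612211111511612622122151221122252122551211211262612516111261112211216262162261111511112122122629226122222122221211566212612211161211112122122926226122222122221216261262112211116211115211216212112216111216615122122626229122222122221652152121221155222122221261216212112511116211162211261212162511611211612211211212112216666511112261511262112211611216112211211212612261611211165625125121221122522152221211261212112211111566162261211212162211161261115216511212162216111211162211511212112261116261612622122121551122225125221) i2))) (Nat.mul (nat_lit 24) i1) (Nat.mul (nat_lit 24) (Nat.succ i1)) List.nil)) (nat_lit 0) (nat_lit 24) List.nil) : List (List ℤ))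
    = ?xq9001 → (List (List ℤ))) ?hq9001; (case hq9001 => (set_option maxRecDepth 1000000 in conv => lhs; reduce)); intro _; exact ?xq9001 : List (List ℤ))

theorem ok_a : Ok r_a r_a := Ok.of_bool (by exact Cfsg.Agent.CoOneType.CoQ.ok2_of (by decide +kernel))

/-- rows of `b` -/
def r_b : List (List ℤ) :=
  (by
  refine (?fq9002 : ((pk61l (fun i1 => (pk61l (fun i2 => (pk61z (pk61d (nat_lit 4) 
    (nat_lit 0x804444040400004400034044083343030400004400043044430007304034430043400400430000304043340044407300440070303044340033400400437000403044430034400300003334040300004380044044430000473043440043300400004433030400004308044043440000304743430034300400003444040400003300043843004344030300003400844043004334040400804400043033003443040300084400044033440000404033440733400300440000303034447044300300004433840300003400043044003434038400003400044034004444030308004300043034340000404044440044470400430700404034340034300400004343040480003300044034440000404044330043300307440000403033330044400470)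 i2))) (Nat.mul (nat_lit 24) i1) (Nat.mul (nat_lit 24) (Nat.succ i1)) List.nil)) (nat_lit 0) (nat_lit 24) List.nil) : List (List ℤ))
    = ?xq9002 → (List (List ℤ))) ?hq9002; (case hq9002 => (set_option maxRecDepth 1000000 in conv => lhs; reduce)); intro _; exact ?xq9002 : List (List ℤ))

theorem ok_b : Ok r_b r_b := Ok.of_bool (by exact Cfsg.Agent.CoOneType.CoQ.ok2_of (by decide +kernel))

/-- rows of `x1` -/
def r_x1 : List (List ℤ) :=
  (by
  refine (?fq9003 : ((pk61l (fun i1 => (pk61l (fun i2 => (pk61z (pk61d (nat_lit 4) 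
    (nat_lit 0xa222222611121121222262222225225116126121522212222522222111651621522212222222252116121621255212222225222161621121225212522225522111121656222212222522222111126126225212251111161222212262611121662222225161121621222512252252222161121126552212221611616222212212161121611116111222262212161126162252222111126621222215522222552161156121222212221161116222262262116121112222222116151126222512526111111a222122121111511122222551116211262222152211116112222122126166261116661612222122121116211125222221661211512222152222525221166211212222122561111115222122121111a111222222211162615125251222) i2))) (Nat.mul (nat_lit 24) i1) (Nat.mul (nat_lit 24) (Nat.succ i1)) List.nil)) (nat_lit 0) (nat_lit 24) List.nil) : List (List ℤ))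
    = ?xq9003 → (List (List ℤ))) ?hq9003; (case hq9003 => (set_option maxRecDepth 1000000 in conv => lhs; reduce)); intro _; exact ?xq9003 : List (List ℤ))

/-- columns of `x1` -/
def c_x1 : List (List ℤ) :=
  (by
  refine (?fq9004 : ((pk61l (fun i1 => (pk61l (fun i2 => (pk61z (pk61d (nat_lit 4) 
    (nat_lit 0xa222222122112212621122622252225122612212121652122222222125115262121625122522552122162212121622122222252122612512126125122225222622112512151622122522222152612262151122126111111211221121a12211511111611266221621212261211616111211221126212266211161611211221121262216262252222122162565121122121611116211226621212211261166161261226121212211212222252622112262121152151111166216221126262211212552222625112212126122122225222125662212121122152225525122112262126122122222222152112215126622156111111211221121512211a1222222212216521215615212222252262261521512112212222222565216221212112512) i2))) (Nat.mul (nat_lit 24) i1) (Nat.mul (nat_lit 24) (Nat.succ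 i1)) List.nil)) (nat_lit 0) (nat_lit 24) List.nil) : List (List ℤ))
    = ?xq9004 → (List (List ℤ))) ?hq9004; (case hq9004 => (set_option maxRecDepth 1000000 in conv => lhs; reduce)); intro _; exact ?xq9004 : List (List ℤ))

theorem ok_x1 : Ok r_x1 c_x1 := Ok.of_bool (by exact Cfsg.Agent.CoOneType.CoQ.ok2_of (by decide +kernel))

/-- rows of `v1` -/
def r_v1 : List (List ℤ) :=
  (by
  refine (?fq9005 : ((pk61l (fun i1 => (pk61l (fun i2 => (pk61z (pk61d (nat_lit 4) 
    (nat_lit 0x8430) (pk61d (nat_lit 2) 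
    (nat_lit 0xca23080000aa35100800036a908951696a009049a299560009d03800009690456196aa000a1c0403005ac513040000550610c8000c9906e034000069a085919a65000610070030a6062008f00056091004f000a90a10080cc065052c080300a50520040cc09a09200b0030590920c4000c663a2004000395908592669600a045626a5900a049a165a500a08952959900) i2)))) (Nat.mul (nat_lit 24) i1) (Nat.mul (nat_lit 24) (Nat.succ i1)) List.nil)) (nat_lit 0) (nat_lit 24) List.nil) : List (List ℤ))
    = ?xq9005 → (List (List ℤ))) ?hq9005; (case hq9005 => (set_option maxRecDepth 1000000 in conv => lhs; reduce)); intro _; exact ?xq9005 : List (List ℤ))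

theorem ok_v1 : Ok r_v1 r_v1 := Ok.of_bool (by exact Cfsg.Agent.CoOneType.CoQ.ok2_of (by decide +kernel))

/-- rows of `g7` -/
def r_g7 : List (List ℤ) :=
  (by
  refine (?fq9006 : ((pk61l (fun i1 => (pk61l (fun i2 => (pk61z (pk61d (nat_lit 4) 
    (nat_lit 0x8430) (pk61d (nat_lit 2) 
    (nat_lit 0xca030080a2a00600034061a305000c8c629006000070a25c0ac000806d503a300040529035300080a160c50300405150090000b051ac090c3040626090699a250805060c30809190a0599519080a0a000c4c91600900c043a19090656916080a05c000409ea00600c0835260a09959260406a095aa15040990a5a529040690a9561a0409a055662a0805090003809253) i2)))) (Nat.mul (nat_lit 24) i1) (Nat.mul (nat_lit 24) (Nat.succ i1)) List.nil)) (nat_lit 0) (nat_lit 24) List.nil) : List (List ℤ))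
    = ?xq9006 → (List (List ℤ))) ?hq9006; (case hq9006 => (set_option maxRecDepth 1000000 in conv => lhs; reduce)); intro _; exact ?xq9006 : List (List ℤ))

/-- columns of `g7` -/
def c_g7 : List (List ℤ) :=
  (by
  refine (?fq9007 : ((pk61l (fun i1 => (pk61l (fun i2 => (pk61z (pk61d (nat_lit 4) 
    (nat_lit 0x8430) (pk61d (nat_lit 2) 
    (nat_lit 0xc00308820aa8003c04810a5895a5a1285002a6a55224600100c00441caa4003c084205a400003b810964c003044105540000088d36940000374206980c0008720a5430000841066b9999921460020300c84109980c0004b105a80000044e3968965952289002aa996118500100c00882c5589a656114a002a96592189001a559a124a0010300c4820664300004820997) i2)))) (Nat.mul (nat_lit 24) i1) (Nat.mul (nat_lit 24) (Nat.succ i1)) List.nil)) (nat_lit 0) (nat_lit 24) List.nil) : List (List ℤ))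
    = ?xq9007 → (List (List ℤ))) ?hq9007; (case hq9007 => (set_option maxRecDepth 1000000 in conv => lhs; reduce)); intro _; exact ?xq9007 : List (List ℤ))

theorem ok_g7 : Ok r_g7 c_g7 := Ok.of_bool (by exact Cfsg.Agent.CoOneType.CoQ.ok2_of (by decide +kernel))

/-- rows of `g11` -/
def r_g11 : List (List ℤ) :=
  (by
  refine (?fq9008 : ((pk61l (fun i1 => (pk61l (fun i2 => (pk61z (pk61d (nat_lit 4) 
    (nat_lit 0x662221122262212226262222112226622212292221212222612521122215212221215252612221122212215521512225221112266156121112621111226112211121121112656611221612261621121612151111221112216121126162151161221112261121121115121666112226922212262221212222221612211121621165621111221162211126621112151116615251152212212251212222226112211626126115121111221112211651121162126116226112211151621612121161251112211126121662121611256612216121121112121116221162216121121615126111251162211621121112621161251112261121626112126111612221125512512221212522221662211151126112121611112229622212262221212222)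 i2))) (Nat.mul (nat_lit 24) i1) (Nat.mul (nat_lit 24) (Nat.succ i1)) List.nil)) (nat_lit 0) (nat_lit 24) List.nil) : List (List ℤ))
    = ?xq9008 → (List (List ℤ))) ?hq9008; (case hq9008 => (set_option maxRecDepth 1000000 in conv => lhs; reduce)); intro _; exact ?xq9008 : List (List ℤ))

/-- columns of `g11` -/
def c_g11 : List (List ℤ) :=
  (by
  refine (?fq9009 : ((pk61l (fun i1 => (pk61l (fun i2 => (pk61z (pk61d (nat_lit 4) 
    (nat_lit 0x616622222122622222222621611122222122122255255121222216111211561616111212225211611261211116111262222211111216511111661262161122222622122222222129161122222922122222222126222261616211511111116212222261161211211116611512222211611211266111161512611152222122125522222151225261111216261161111212222211111266211611116512191122222622122222222126222511161211261111116262222511611211211661611212222211161261516161111212611122225152152222522121222566111261211111161212611125552125122222222121225216111211216111616212222216116211211161111562225211166211211611161212222511116216216116111212)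 i2))) (Nat.mul (nat_lit 24) i1) (Nat.mul (nat_lit 24) (Nat.succ i1)) List.nil)) (nat_lit 0) (nat_lit 24) List.nil) : List (List ℤ))
    = ?xq9009 → (List (List ℤ))) ?hq9009; (case hq9009 => (set_option maxRecDepth 1000000 in conv => lhs; reduce)); intro _; exact ?xq9009 : List (List ℤ))

theorem ok_g11 : Ok r_g11 c_g11 := Ok.of_bool (by exact Cfsg.Agent.CoOneType.CoQ.ok2_of (by decide +kernel))

/-- rows of `t1` -/
def r_t1 : List (List ℤ) :=
  (by
  refine (?fq9010 : ((pk61l (fun i1 => (pk61l (fun i2 => (pk61z (pk61d (nat_lit 4) 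
    (nat_lit 0x840400444040340040404004404043000403004304040337040308434030430040404003403044007403003403040340040480344030430040303004038400333030440040404004404033000404073403040430403043070304003304040440404743000303004403030440040400433040438030304004403033000474004404030340030300443040430048403004304044000404704404040440403034700303004404040430040300334840440030403004030400434040440840303003404044000304003474030330040300343048440040304003404034000304004303047340040400443030440030403803404034000403003304730440030300444030440030384004030400344040430030404083473044000404004303030430) i2))) (Nat.mul (nat_lit 24) i1) (Nat.mul (nat_lit 24) (Nat.succ i1)) List.nil)) (nat_lit 0) (nat_lit 24) List.nil) : List (List ℤ))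
    = ?xq9010 → (List (List ℤ))) ?hq9010; (case hq9010 => (set_option maxRecDepth 1000000 in conv => lhs; reduce)); intro _; exact ?xq9010 : List (List ℤ))

theorem ok_t1 : Ok r_t1 r_t1 := Ok.of_bool (by exact Cfsg.Agent.CoOneType.CoQ.ok2_of (by decide +kernel))

/-- The letters. -/
def M : ℕ → List (List ℤ)
  | 0 => r_a
  | 1 => r_b
  | 2 => r_x1
  | 3 => r_v1
  | 4 => r_g7
  | 5 => r_g11
  | _ => r_t1

/-- The elements of `Co0`. -/
def e : ℕ → Co0
  | 0 => mk ok_a
  | 1 => mk ok_b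
  | 2 => mk ok_x1
  | 3 => mk ok_v1
  | 4 => mk ok_g7
  | 5 => mk ok_g11
  | _ => mk ok_t1

theorem rep : ∀ i, _root_.Cfsg.Agent.CoOneType.CoEval.Rep (e i) (M i)
  | 0 => rep_mk ok_a
  | 1 => rep_mk ok_b
  | 2 => rep_mk ok_x1
  | 3 => rep_mk ok_v1
  | 4 => rep_mk ok_g7
  | 5 => rep_mk ok_g11
  | _ + 6 => rep_mk ok_t1

theorem fixV : (List.range 7).all (fun i => eqL (ap (M i) Cfsg.Agent.H573.Spor.Co0.lV) Cfsg.Agent.H573.Spor.Co0.lV) = true := by
  (rewrite [Cfsg.Agent.CoOneType.CoAp.ap_F]; decide +kernel)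

/-- `n` copies of a word. -/
def rp (n : ℕ) (w : List ℕ) : List ℕ := (List.replicate n w).flatten

/-- The words equal to `1`. -/
def rels : List (List ℕ) :=
  [[0, 0], [1, 1], [0, 1, 0, 1], rp 5 [2], [0, 2, 0] ++ rp 4 [2], [1, 2, 1] ++ rp 4 [2], [3, 3], [3, 2, 3, 2],
    rp 7 [4], [3, 4, 3] ++ rp 6 [4], rp 11 [5], [0, 5, 0] ++ rp 10 [5], [6, 6], rp 21 [0, 6]]

/-- The words different from `1`. -/
def nrels : List (List ℕ) := [[0], [1], [0, 1], [2], [3], [4], [5], rp 7 [0, 6], rp 3 [0, 6]]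

theorem rels_ok : rels.all (oneB M) = true := by (delta Cfsg.Agent.CoOneType.CoEval.oneB; rewrite [Cfsg.Agent.CoOneType.CoW.fold_eq]; decide +kernel)

theorem nrels_ok : nrels.all (neB M) = true := by (delta Cfsg.Agent.CoOneType.CoEval.neB; rewrite [Cfsg.Agent.CoOneType.CoW.fold_eq]; decide +kernel)

end Cfsg.Agent.H791.SK.Co3Dat
end

-- part: H791/SK/Co3
section
/-!
# S3010 (Sidki pairs): the row `Co₃` (helper791)

* `2B` inverts an element of order 21, and there are no elements of order 42: `2B` is dead by (T0).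
* `2A` inverts `x ∈ 5B`, `C(x) = 5 × A₅` contains a four-group, and a `2A`-involution is the only involution of its
  centralizer in the centralizer of an element of order 5; so all involutions of `C(x)` are in `2B`: dead by (T0).
-/

set_option autoImplicit false
set_option linter.unusedVariables false
set_option linter.style.haveILetI false

universe u

open Subgroup Cfsg Cfsg.Agent.H282.SK Cfsg.Agent.H738.SK

namespace Cfsg.Agent.H791.SK.Co3

open Cfsg.Agent.SporRec.Co3.Chain (G3 isCo3_G3)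
open Cfsg.Agent.SporRec.Co3.Ident (Z)
open Cfsg.Agent.SporRec.Co3.Fusion (tC mem_cent)
open Cfsg.Agent.SporadicStructure.Co0Matrix Cfsg.Agent.CoOneType.CoEval
open Cfsg.Agent.H791.SK.Co3Dat
open Cfsg.Agent.H573.Spor.Co0 (lV mem_Co3)

/-! ### The elements -/

theorem mem_gen : ∀ i, ((e i : Co0) : Equiv.Perm leechLattice) ∈ Spor.Co3 := by
  have h := List.all_eq_true.1 fixV
  have h' : ∀ i < 7, eqL (ap (M i) lV) lV = true := fun i hi => h i (List.mem_range.2 hi)
  intro i
  by_cases hi : i < 7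
  · exact mem_Co3 (rep i) (h' i hi)
  · have e1 : M i = M 6 := by
      match i, hi with
      | 0, hi => omega
      | 1, hi => omega
      | 2, hi => omega
      | 3, hi => omega
      | 4, hi => omega
      | 5, hi => omega
      | n + 6, _ => rfl
    exact mem_Co3 (rep i) (by rw [e1]; exact h' 6 (by norm_num))

/-- the letters in `Co₃` -/
noncomputable def c (i : ℕ) : Spor.Co3 := ⟨_, mem_gen i⟩

/-- the letters in the model `G3` -/
noncomputable def s (i : ℕ) : G3 := Cfsg.Agent.SporRec.Co3.Model.equivCo3.symm (c i)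

theorem coe_c (w : List ℕ) : (((w.map c).prod : Spor.Co3) : Equiv.Perm leechLattice) =
    (((w.map e).prod : Co0) : Equiv.Perm leechLattice) := by
  induction w with
  | nil => rfl
  | cons i w ih =>
    rw [List.map_cons, List.prod_cons, List.map_cons, List.prod_cons, Subgroup.coe_mul, ih]
    rfl

theorem map_s (w : List ℕ) : (w.map s).prod = Cfsg.Agent.SporRec.Co3.Model.equivCo3.symm (w.map c).prod := by
  rw [map_list_prod, List.map_map]
  rfl

theorem rel {w : List ℕ} (hw : w ∈ rels) : (w.map s).prod = 1 := by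
  have h := eq_one_of_oneB rep (List.all_eq_true.1 rels_ok w hw)
  have h1 : (w.map c).prod = 1 := by
    apply Subtype.ext
    rw [coe_c, h]
    rfl
  rw [map_s, h1, map_one]

theorem nrel {w : List ℕ} (hw : w ∈ nrels) : (w.map s).prod ≠ 1 := by
  intro hcon
  rw [map_s, map_eq_one_iff _ (MulEquiv.injective _)] at hcon
  have h3 := ne_one_of_neB rep (List.all_eq_true.1 nrels_ok w hw)
  rw [map_prod_pr] at h3
  apply h3
  have h4 : (w.map e).prod = 1 := by
    apply Subtype.ext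
    rw [← coe_c, hcon]
    rfl
  rw [h4]
  exact map_one _

theorem prod_rp (n : ℕ) (w : List ℕ) : ((rp n w).map s).prod = (w.map s).prod ^ n := by
  unfold rp
  induction n with
  | zero => simp
  | succ n ih =>
    rw [List.replicate_succ, List.flatten_cons, List.map_append, List.prod_append, ih, pow_succ']

theorem a_sq : s 0 * s 0 = 1 := by
  have h := rel (w := [0, 0]) (by simp only [rels, _root_.List.cons_append, _root_.List.nil_append, _root_.List.mem_cons, _root_.List.cons.injEq, _root_.zero_ne_one, _root_.and_true, _root_.and_self, _root_.List.nil_eq, _root_.reduceCtorEq, _root_.and_false, _root_.OfNat.zero_ne_ofNat, _root_.List.not_mem_nil, _root_.or_false, _root_.false_or, _root_.true_or])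
  simpa only [_root_.List.map_cons, _root_.List.map_nil, _root_.List.prod_cons, _root_.List.prod_nil, _root_.mul_one] using h

theorem b_sq : s 1 * s 1 = 1 := by
  have h := rel (w := [1, 1]) (by simp [rels])
  simpa only [_root_.List.map_cons, _root_.List.map_nil, _root_.List.prod_cons, _root_.List.prod_nil, _root_.mul_one] using h

theorem ab_sq : s 0 * s 1 * (s 0 * s 1) = 1 := by
  have h := rel (w := [0, 1, 0, 1]) (by simp [rels])
  simpa only [mul_assoc, _root_.List.map_cons, _root_.List.map_nil, _root_.List.prod_cons, _root_.List.prod_nil, _root_.mul_one] using h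

theorem x_five : s 2 ^ 5 = 1 := by
  have h := rel (w := rp 5 [2]) (by simp [rels])
  rw [prod_rp] at h
  simpa only [_root_.List.map_cons, _root_.List.map_nil, _root_.List.prod_cons, _root_.List.prod_nil, _root_.mul_one] using h

theorem ax : s 0 * s 2 * s 0 * s 2 ^ 4 = 1 := by
  have h := rel (w := [0, 2, 0] ++ rp 4 [2]) (by simp [rels])
  rw [List.map_append, List.prod_append, prod_rp] at h
  simpa only [mul_assoc, _root_.List.map_cons, _root_.List.map_nil, _root_.List.prod_cons, _root_.List.prod_nil, _root_.mul_one] using h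

theorem bx : s 1 * s 2 * s 1 * s 2 ^ 4 = 1 := by
  have h := rel (w := [1, 2, 1] ++ rp 4 [2]) (by simp [rels])
  rw [List.map_append, List.prod_append, prod_rp] at h
  simpa only [mul_assoc, _root_.List.map_cons, _root_.List.map_nil, _root_.List.prod_cons, _root_.List.prod_nil, _root_.mul_one] using h

theorem v_sq : s 3 * s 3 = 1 := by
  have h := rel (w := [3, 3]) (by simp [rels])
  simpa only [_root_.List.map_cons, _root_.List.map_nil, _root_.List.prod_cons, _root_.List.prod_nil, _root_.mul_one] using h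

theorem vx : s 3 * s 2 * s 3 * s 2 = 1 := by
  have h := rel (w := [3, 2, 3, 2]) (by simp [rels])
  simpa only [mul_assoc, _root_.List.map_cons, _root_.List.map_nil, _root_.List.prod_cons, _root_.List.prod_nil, _root_.mul_one] using h

theorem y_seven : s 4 ^ 7 = 1 := by
  have h := rel (w := rp 7 [4]) (by simp [rels])
  rw [prod_rp] at h
  simpa only [_root_.List.map_cons, _root_.List.map_nil, _root_.List.prod_cons, _root_.List.prod_nil, _root_.mul_one] using h

theorem vy : s 3 * s 4 * s 3 * s 4 ^ 6 = 1 := by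
  have h := rel (w := [3, 4, 3] ++ rp 6 [4]) (by simp [rels])
  rw [List.map_append, List.prod_append, prod_rp] at h
  simpa only [mul_assoc, _root_.List.map_cons, _root_.List.map_nil, _root_.List.prod_cons, _root_.List.prod_nil, _root_.mul_one] using h

theorem u_eleven : s 5 ^ 11 = 1 := by
  have h := rel (w := rp 11 [5]) (by simp [rels])
  rw [prod_rp] at h
  simpa only [_root_.List.map_cons, _root_.List.map_nil, _root_.List.prod_cons, _root_.List.prod_nil, _root_.mul_one] using h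

theorem au : s 0 * s 5 * s 0 * s 5 ^ 10 = 1 := by
  have h := rel (w := [0, 5, 0] ++ rp 10 [5]) (by simp [rels])
  rw [List.map_append, List.prod_append, prod_rp] at h
  simpa only [mul_assoc, _root_.List.map_cons, _root_.List.map_nil, _root_.List.prod_cons, _root_.List.prod_nil, _root_.mul_one] using h

theorem t_sq : s 6 * s 6 = 1 := by
  have h := rel (w := [6, 6]) (by simp [rels])
  simpa only [_root_.List.map_cons, _root_.List.map_nil, _root_.List.prod_cons, _root_.List.prod_nil, _root_.mul_one] using h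

theorem at_pow : (s 0 * s 6) ^ 21 = 1 := by
  have h := rel (w := rp 21 [0, 6]) (by simp [rels])
  rw [prod_rp] at h
  simpa only [_root_.List.map_cons, _root_.List.map_nil, _root_.List.prod_cons, _root_.List.prod_nil, _root_.mul_one] using h

theorem a_ne : s 0 ≠ 1 := by
  have h := nrel (w := [0]) (by simp [nrels])
  simpa using h

theorem b_ne : s 1 ≠ 1 := by
  have h := nrel (w := [1]) (by simp [nrels])
  simpa using h

theorem ab_ne : s 0 * s 1 ≠ 1 := by
  have h := nrel (w := [0, 1]) (by simp [nrels])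
  simpa only [_root_.ne_eq, _root_.List.map_cons, _root_.List.map_nil, _root_.List.prod_cons, _root_.List.prod_nil, _root_.mul_one] using h

theorem x_ne : s 2 ≠ 1 := by
  have h := nrel (w := [2]) (by simp [nrels])
  simpa using h

theorem v_ne : s 3 ≠ 1 := by
  have h := nrel (w := [3]) (by simp [nrels])
  simpa using h

theorem y_ne : s 4 ≠ 1 := by
  have h := nrel (w := [4]) (by simp [nrels])
  simpa using h

theorem u_ne : s 5 ≠ 1 := by
  have h := nrel (w := [5]) (by simp [nrels])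
  simpa using h

theorem at_ne7 : (s 0 * s 6) ^ 7 ≠ 1 := by
  have h := nrel (w := rp 7 [0, 6]) (by simp [nrels])
  rw [prod_rp] at h
  simpa only [_root_.ne_eq, _root_.List.map_cons, _root_.List.map_nil, _root_.List.prod_cons, _root_.List.prod_nil, _root_.mul_one] using h

theorem at_ne3 : (s 0 * s 6) ^ 3 ≠ 1 := by
  have h := nrel (w := rp 3 [0, 6]) (by simp [nrels])
  rw [prod_rp] at h
  simpa only [_root_.ne_eq, _root_.List.map_cons, _root_.List.map_nil, _root_.List.prod_cons, _root_.List.prod_nil, _root_.mul_one] using h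

/-! ### Relations in usable form -/

theorem comm_of {G : Type*} [Group G] {a x : G} {n : ℕ} (ha : a * a = 1) (hx : x ^ (n + 1) = 1)
    (h : a * x * a * x ^ n = 1) : Commute a x := by
  have h1 : x ^ n = x⁻¹ := eq_inv_of_mul_eq_one_left (by rw [← pow_succ, hx])
  have h2 : a⁻¹ = a := by rw [inv_eq_iff_mul_eq_one]; exact ha
  rw [h1, mul_inv_eq_one] at h
  show a * x = x * a
  calc a * x = a * x * (a * a) := by rw [ha, mul_one]
    _ = a * x * a * a := by group
    _ = x * a := by rw [h]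

theorem comm_ab : Commute (s 0) (s 1) := by
  have h1 : (s 0)⁻¹ = s 0 := by rw [inv_eq_iff_mul_eq_one]; exact a_sq
  have h2 : (s 1)⁻¹ = s 1 := by rw [inv_eq_iff_mul_eq_one]; exact b_sq
  have h := ab_sq
  rw [mul_eq_one_iff_eq_inv, mul_inv_rev, h1, h2] at h
  exact h

theorem comm_ax : Commute (s 0) (s 2) := comm_of a_sq x_five ax
theorem comm_bx : Commute (s 1) (s 2) := comm_of b_sq x_five bx
theorem comm_vy : Commute (s 3) (s 4) := comm_of v_sq y_seven vy
theorem comm_au : Commute (s 0) (s 5) := comm_of a_sq u_eleven au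

theorem inv_vx : s 3 * s 2 * (s 3)⁻¹ = (s 2)⁻¹ := by
  have h2 : (s 3)⁻¹ = s 3 := by rw [inv_eq_iff_mul_eq_one]; exact v_sq
  rw [h2]
  exact (eq_inv_of_mul_eq_one_left vx :)

theorem inv_at : s 0 * (s 0 * s 6) * (s 0)⁻¹ = (s 0 * s 6)⁻¹ := by
  have h1 : (s 0)⁻¹ = s 0 := by rw [inv_eq_iff_mul_eq_one]; exact a_sq
  have h2 : (s 6)⁻¹ = s 6 := by rw [inv_eq_iff_mul_eq_one]; exact t_sq
  rw [mul_inv_rev, h1, h2, ← mul_assoc, a_sq, one_mul]

theorem orderOf_x : orderOf (s 2) = 5 := by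
  haveI : Fact (Nat.Prime 5) := ⟨by norm_num⟩
  exact orderOf_eq_prime x_five x_ne

theorem orderOf_at : orderOf (s 0 * s 6) = 21 := by
  refine orderOf_eq_of_pow_and_pow_div_prime (by norm_num) at_pow ?_
  intro p hp hpd
  have h1 : p ∣ 3 * 7 := hpd
  rcases (Nat.Prime.dvd_mul hp).1 h1 with h | h
  · have := (Nat.prime_dvd_prime_iff_eq hp Nat.prime_three).1 h
    subst this
    exact at_ne7
  · have := (Nat.prime_dvd_prime_iff_eq hp (by norm_num)).1 h
    subst this
    exact at_ne3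

/-! ### The classes -/

theorem card_Z : Nat.card (centralizer ({Z} : Set G3)) = 2903040 := by
  obtain ⟨w, D⟩ := Cfsg.Agent.CTwoTab.Co3.exists_data
  obtain ⟨π, N⟩ := D.ns
  exact Cfsg.Agent.CTwoTab.Co3.card_of_NS N

/-- `a` is not conjugate to `Z` -/
theorem a_not_Z {g : G3} (h : s 0 = g * Z * g⁻¹) : False := by
  haveI : Finite G3 := Cfsg.Agent.H555.TwoSp.finite_G3
  haveI : Fact (Nat.Prime 11) := ⟨by norm_num⟩
  have h1 : orderOf (g⁻¹ * s 5 * g) = 11 := by
    apply orderOf_eq_prime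
    · have := conj_pow (a := g⁻¹) (b := s 5) (i := 11)
      rw [inv_inv] at this
      rw [this, u_eleven]; group
    · intro h2
      apply u_ne
      calc s 5 = g * (g⁻¹ * s 5 * g) * g⁻¹ := by group
        _ = 1 := by rw [h2]; group
  have h2 : (g⁻¹ * s 5 * g) * Z = Z * (g⁻¹ * s 5 * g) := by
    have h3 := comm_au.eq
    rw [h] at h3
    calc (g⁻¹ * s 5 * g) * Z = g⁻¹ * (s 5 * (g * Z * g⁻¹)) * g := by group
      _ = g⁻¹ * (g * Z * g⁻¹ * s 5) * g := by rw [h3]
      _ = _ := by group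
  have h3 := Subgroup.orderOf_dvd_natCard _ (mem_centralizer_singleton_iff.2 h2)
  rw [h1, card_Z] at h3
  norm_num at h3

/-- `v` is not conjugate to `w` -/
theorem v_not_w {w : G3} (D : Cfsg.Agent.CTwoTab.Co3.Data G3 Spor.M12 Z w) {g : G3} (h : s 3 = g * w * g⁻¹) :
    False := by
  haveI : Finite G3 := Cfsg.Agent.H555.TwoSp.finite_G3
  have hw2 : w * w = 1 := by
    have h1 : w = g⁻¹ * s 3 * g := by rw [h]; group
    calc w * w = (g⁻¹ * s 3 * g) * (g⁻¹ * s 3 * g) := by rw [← h1]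
      _ = g⁻¹ * (s 3 * s 3) * g := by group
      _ = 1 := by rw [v_sq]; group
  obtain ⟨f, hf, hk⟩ := D.hom
  set y : G3 := g⁻¹ * s 4 * g with hy
  have hyw : y * w = w * y := by
    have h3 := comm_vy.eq
    rw [h] at h3
    calc (g⁻¹ * s 4 * g) * w = g⁻¹ * (s 4 * (g * w * g⁻¹)) * g := by group
      _ = g⁻¹ * (g * w * g⁻¹ * s 4) * g := by rw [h3]
      _ = w * (g⁻¹ * s 4 * g) := by group
  have hy7 : y ^ 7 = 1 := by
    have := conj_pow (a := g⁻¹) (b := s 4) (i := 7)
    rw [inv_inv] at this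
    rw [hy, this, y_seven]; group
  have hy1 : y ≠ 1 := by
    intro h2
    apply y_ne
    calc s 4 = g * (g⁻¹ * s 4 * g) * g⁻¹ := by group
      _ = 1 := by rw [← hy, h2]; group
  have hm : y ∈ centralizer ({w} : Set G3) := mem_centralizer_singleton_iff.2 hyw
  have h4 : f ⟨y, hm⟩ ^ 7 = 1 := by
    rw [← map_pow]
    have : (⟨y, hm⟩ : centralizer ({w} : Set G3)) ^ 7 = 1 := Subtype.ext hy7
    rw [this, map_one]
  have h5 : f ⟨y, hm⟩ = 1 := by
    have h6 : orderOf (f ⟨y, hm⟩) ∣ 7 := orderOf_dvd_of_pow_eq_one h4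
    have h7 : orderOf (f ⟨y, hm⟩) ∣ 95040 := by
      rw [← D.card]
      exact _root_.orderOf_dvd_natCard _
    have h8 : orderOf (f ⟨y, hm⟩) ∣ Nat.gcd 7 95040 := Nat.dvd_gcd h6 h7
    have h9 : Nat.gcd 7 95040 = 1 := by norm_num
    rw [h9, Nat.dvd_one] at h8
    exact orderOf_eq_one_iff.1 h8
  rcases hk _ h5 with h6 | h6
  · exact hy1 (congrArg Subtype.val h6)
  · have h7 : y = w := h6
    apply hy1
    have h8 : y * y = 1 := by rw [h7]; exact hw2
    have h9 : y ^ 7 = (y * y) ^ 3 * y := by rw [← pow_two, ← pow_mul, ← pow_succ]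
    rw [h9, h8, one_pow, one_mul] at hy7
    exact hy7

theorem orderOf_eq_two {G : Type*} [Group G] {t : G} (h : t * t = 1) (h1 : t ≠ 1) : orderOf t = 2 :=
  orderOf_eq_prime (by rw [pow_two]; exact h) h1

/-- every involution is conjugate to `a` or to `v`; in the second case to `Z`. -/
theorem cls {t : G3} (h : t * t = 1) (h1 : t ≠ 1) :
    IsConj (s 0) t ∨ (IsConj (s 3) t ∧ ∃ g, t = g * Z * g⁻¹) := by
  obtain ⟨w, D⟩ := Cfsg.Agent.CTwoTab.Co3.exists_data
  have hZ : ∀ {g : G3}, t = g * Z * g⁻¹ → IsConj (s 0) t ∨ (IsConj (s 3) t ∧ ∃ g, t = g * Z * g⁻¹) := by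
    intro g hg
    obtain ⟨k, hk | hk⟩ := D.cls _ (orderOf_eq_two v_sq v_ne)
    · right
      refine ⟨isConj_iff.2 ⟨g * k⁻¹, ?_⟩, g, hg⟩
      rw [hg, hk]; group
    · exact (v_not_w D hk).elim
  have hw : ∀ {g : G3}, t = g * w * g⁻¹ → IsConj (s 0) t ∨ (IsConj (s 3) t ∧ ∃ g, t = g * Z * g⁻¹) := by
    intro g hg
    obtain ⟨k, hk | hk⟩ := D.cls _ (orderOf_eq_two a_sq a_ne)
    · exact (a_not_Z hk).elim
    · left
      refine isConj_iff.2 ⟨g * k⁻¹, ?_⟩
      rw [hg, hk]; group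
  obtain ⟨g, hg | hg⟩ := D.cls _ (orderOf_eq_two h h1)
  · exact hZ hg
  · exact hw hg

/-! ### An involution that is alone in its centralizer -/

theorem four_false {H : Type*} [Group H] [Finite H] {z a b : H} (hz : z * z = 1) (hz1 : z ≠ 1)
    (hu : ∀ i : H, i * i = 1 → i ≠ 1 → Commute i z → i = z) (ha : a * a = 1) (ha1 : a ≠ 1)
    (hb : b * b = 1) (hb1 : b ≠ 1) (hab : Commute a b) (hne : a ≠ b) : False := by
  haveI : Fact (Nat.Prime 2) := ⟨Nat.prime_two⟩
  have hcyc : ∀ {i : H}, i * i = 1 → i ≠ 1 → IsPGroup 2 (zpowers i) := by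
    intro i hi hi1
    rw [IsPGroup.iff_card]
    exact ⟨1, by rw [Nat.card_zpowers, pow_one]; exact orderOf_eq_two hi hi1⟩
  obtain ⟨P, hP⟩ := (hcyc hz hz1).exists_le_sylow
  have hn : zpowers a ≤ normalizer ((zpowers b : Subgroup H) : Set H) := by
    rw [zpowers_le]
    apply Subgroup.centralizer_le_normalizer
    rw [mem_centralizer_iff]
    rintro _ ⟨k, rfl⟩
    exact ((hab.symm.zpow_left k)).eq
  have hab2 : IsPGroup 2 (zpowers a ⊔ zpowers b : Subgroup H) :=
    IsPGroup.to_sup_of_normal_right' (hcyc ha ha1) (hcyc hb hb1) hn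
  obtain ⟨Q, hQ⟩ := hab2.exists_le_sylow
  obtain ⟨g, hg⟩ := MulAction.exists_smul_eq H Q P
  have hmem : ∀ {i : H}, i ∈ Q → g * i * g⁻¹ ∈ P := by
    intro i hi
    rw [← hg]
    exact ⟨i, hi, rfl⟩
  have haP : g * a * g⁻¹ ∈ P := hmem (hQ (mem_sup_left (mem_zpowers a)))
  have hbP : g * b * g⁻¹ ∈ P := hmem (hQ (mem_sup_right (mem_zpowers b)))
  have hzP : z ∈ P := hP (mem_zpowers z)
  haveI : Nontrivial (P : Subgroup H) := ⟨⟨⟨z, hzP⟩, 1, fun h => hz1 (congrArg Subtype.val h)⟩⟩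
  have hcen := P.isPGroup'.center_nontrivial
  have hcp : IsPGroup 2 (center (P : Subgroup H)) := P.isPGroup'.to_subgroup _
  obtain ⟨c, hc⟩ : ∃ c : center (P : Subgroup H), orderOf c = 2 := by
    apply exists_prime_orderOf_dvd_card'
    obtain ⟨n, hn⟩ := IsPGroup.iff_card.1 hcp
    rw [hn]
    apply dvd_pow_self
    rintro rfl
    rw [pow_zero] at hn
    have : Nat.card (center (P : Subgroup H)) ≠ 1 := by
      have := Finite.one_lt_card_iff_nontrivial.2 hcen
      omega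
    exact this hn
  have hcc : ∀ i ∈ P, Commute i ((c : (P : Subgroup H)) : H) := by
    intro i hi
    have := mem_center_iff.1 c.2 ⟨i, hi⟩
    exact congrArg Subtype.val this
  have hc2 : ((c : (P : Subgroup H)) : H) * ((c : (P : Subgroup H)) : H) = 1 := by
    have h0 : c ^ 2 = 1 := by
      have h3 := pow_orderOf_eq_one c
      rwa [hc] at h3
    have h1 : c * c = 1 := by rw [← pow_two, h0]
    exact congrArg (fun d : center (P : Subgroup H) => ((d : (P : Subgroup H)) : H)) h1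
  have hc1 : ((c : (P : Subgroup H)) : H) ≠ 1 := by
    intro h
    have h1 : c = 1 := Subtype.ext (Subtype.ext h)
    rw [h1, orderOf_one] at hc
    omega
  have hcz := hu _ hc2 hc1 (hcc z hzP).symm
  rw [hcz] at hcc
  have hconj : ∀ {i : H}, i * i = 1 → i ≠ 1 → g * i * g⁻¹ ∈ P → g * i * g⁻¹ = z := by
    intro i hi hi1 hiP
    refine hu _ ?_ ?_ (hcc _ hiP)
    · calc g * i * g⁻¹ * (g * i * g⁻¹) = g * (i * i) * g⁻¹ := by group
        _ = 1 := by rw [hi]; group
    · intro h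
      apply hi1
      calc i = g⁻¹ * (g * i * g⁻¹) * g := by group
        _ = 1 := by rw [h]; group
  have h1 := hconj ha ha1 haP
  have h2 := hconj hb hb1 hbP
  apply hne
  have h3 : g * a * g⁻¹ = g * b * g⁻¹ := by rw [h1, h2]
  exact mul_left_cancel (mul_right_cancel h3)

/-! ### The two classes are dead -/

theorem dead_a : Dead (⊤ : Subgroup G3) (s 0) := by
  haveI : Finite G3 := Cfsg.Agent.H555.TwoSp.finite_G3
  intro V h ha
  obtain ⟨t, ht, ht1, hc⟩ := h.t0 ha (x := s 0 * s 6) (by rw [orderOf_at]; decide) inv_at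
  apply Cfsg.Agent.H417.Two.Co3Seven.no42 (t * (s 0 * s 6))
  rw [hc.orderOf_mul_eq_mul_orderOf_of_coprime, orderOf_eq_two (h.sq ht) ht1, orderOf_at]
  rw [orderOf_eq_two (h.sq ht) ht1, orderOf_at]
  norm_num

theorem dead_v : Dead (⊤ : Subgroup G3) (s 3) := by
  haveI : Finite G3 := Cfsg.Agent.H555.TwoSp.finite_G3
  intro V h hv
  obtain ⟨t, ht, ht1, hc⟩ := h.t0 hv (x := s 2) (by rw [orderOf_x]; decide) inv_vx
  rcases cls (h.sq ht) ht1 with h1 | ⟨-, g, hg⟩
  · exact dead_a.of_isConj h1 V h ht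
  -- `t` is conjugate to `Z`
  obtain ⟨π, N⟩ := Cfsg.Agent.KFacts.Co3D4.exists_NS_G3
  have hconj : ∀ {i : G3}, Commute i t → Commute (g⁻¹ * i * g) Z := by
    intro i hi
    have h3 := hi.eq
    rw [hg] at h3
    show (g⁻¹ * i * g) * Z = Z * (g⁻¹ * i * g)
    calc (g⁻¹ * i * g) * Z = g⁻¹ * (i * (g * Z * g⁻¹)) * g := by group
      _ = g⁻¹ * (g * Z * g⁻¹ * i) * g := by rw [h3]
      _ = _ := by group
  have hx5 : orderOf (g⁻¹ * s 2 * g) = 5 := by
    have : orderOf (g⁻¹ * s 2 * g) = orderOf (s 2) := by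
      simpa only [_root_.map_inv, _root_.MulAut.inv_apply, _root_.MulAut.conj_symm_apply] using MulEquiv.orderOf_eq (MulAut.conj g⁻¹) (s 2)
    rw [this, orderOf_x]
  have hu : ∀ i : G3, i * i = 1 → i ≠ 1 → Commute i t → Commute i (s 2) → i = t := by
    intro i hi hi1 hit hix
    have h2 := Cfsg.Agent.CpAutCoThreeFive.invol_unique N hx5 (hconj hc.symm).eq (y := g⁻¹ * i * g)
      (by
        calc g⁻¹ * i * g * (g⁻¹ * i * g) = g⁻¹ * (i * i) * g := by group
          _ = 1 := by rw [hi]; group)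
      (by
        intro h
        apply hi1
        calc i = g * (g⁻¹ * i * g) * g⁻¹ := by group
          _ = 1 := by rw [h]; group)
      (hconj hit).eq
      (by
        calc g⁻¹ * i * g * (g⁻¹ * s 2 * g) = g⁻¹ * (i * s 2) * g := by group
          _ = g⁻¹ * (s 2 * i) * g := by rw [hix.eq]
          _ = _ := by group)
    rw [hg, ← h2]; group
  let H : Subgroup G3 := centralizer ({s 2} : Set G3)
  have mH : ∀ {i : G3}, Commute i (s 2) → i ∈ H := fun hi => mem_centralizer_singleton_iff.2 hi.eq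
  refine four_false (H := H) (z := ⟨t, mH hc⟩) (a := ⟨s 0, mH comm_ax⟩) (b := ⟨s 1, mH comm_bx⟩)
    (Subtype.ext (h.sq ht)) (fun h2 => ht1 (congrArg Subtype.val h2)) ?_
    (Subtype.ext a_sq) (fun h2 => a_ne (congrArg Subtype.val h2))
    (Subtype.ext b_sq) (fun h2 => b_ne (congrArg Subtype.val h2))
    (Subtype.ext comm_ab.eq) ?_
  · rintro ⟨i, hi⟩ h2 h3 h4
    exact Subtype.ext (hu i (congrArg Subtype.val h2) (fun h5 => h3 (Subtype.ext h5))
      (congrArg Subtype.val h4.eq) (mem_centralizer_singleton_iff.1 hi))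
  · intro h2
    have h3 : s 0 = s 1 := congrArg Subtype.val h2
    apply ab_ne
    rw [← h3]
    exact a_sq

/-- **Row `Co₃`.** -/
theorem dead : DeadS.{u} (fun K _ => Cfsg.Spor.IsoCo3 K) := by
  haveI : Finite G3 := Cfsg.Agent.H555.TwoSp.finite_G3
  have hk : ∀ V : Subgroup G3, Cx V (⊤ : Subgroup G3) → False := by
    intro V h
    refine false_of_dead h fun t ht ht1 => ?_
    rcases cls ht ht1 with h1 | ⟨h1, -⟩
    · exact dead_a.of_isConj h1
    · exact dead_v.of_isConj h1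
  intro G _ _ V K h hK
  obtain ⟨e⟩ := Cfsg.Agent.H143.RowCo3.equiv_G3 hK
  obtain ⟨V', h'⟩ := exists_of_inner h e
    (Cfsg.Agent.H143.RowCo3.inner Cfsg.Agent.H417.Two.Co3Seven.iso_G3)
  exact hk V' h'

end Cfsg.Agent.H791.SK.Co3
end

-- part: H359/SK/FiLink
section
/-!
# The transpositions of `Fi22` commuting with `a` and with two noncommuting ones (helper359)

`b`, `t` labelled by isotropic vectors, not commuting. `exists_not` : for commuting `e ≠ f` commuting with `b` and `t`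
some labelled `y` commutes with `b`, `t`, `e` but not with `f`. `exists_line` : a totally isotropic line orthogonal to `b`, `t`.
-/

set_option autoImplicit false
set_option linter.unusedSectionVars false
set_option linter.unusedSimpArgs false

namespace Cfsg.Agent.H359.SK.FiLink

open Cfsg Cfsg.Agent.R01 Cfsg.Agent.R01.FiFusion Cfsg.Agent.R01.FiFacts
open Cfsg.Agent.R01.Label Cfsg.Agent.R01.InvForm Cfsg.Agent.R01.Start Cfsg.Agent.R01.Lifts
open Cfsg.Agent.LieClassical.HermBasic Cfsg.Agent.SporadicStructure.UnitTwo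
open Cfsg.Agent.ClassicalGeometry.UnitTransv
open Cfsg.Agent.ClassicalGeometry.UnitAutBasic (tau pr pr_surjective)
open Cfsg.Agent.OddHalf.D8.Fi22.Opp

variable {C : Type*} [Group C] {F : Type*} [Field F] [Fintype F]
variable {hF : Fintype.card F = 2 ^ 2} {π : C →* PSU 6 F 2} {z ε : C} {lift : (Fin 6 → F) → C}

theorem herm_y0' (x : Fin 6 → F) (k : F) : hermForm 6 F 2 x (y0 k) = x 4 + x 5 * k ^ 2 := by
  rw [herm_def, Fin.sum_univ_six]
  simp [y0]

/-- a vector orthogonal to `u`, not to `w` -/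
theorem exists_vec (hF : Fintype.card F = 2 ^ 2) {u w : Fin 6 → F} (hu0 : u ≠ 0) (hw : hermForm 6 F 2 w w = 0) (huw : hermForm 6 F 2 w u = 0) (hne : ¬ ∃ c : F, w = c • u)
    (u4 : u 4 = 0) (u5 : u 5 = 0) (w4 : w 4 = 0) (w5 : w 5 = 0) :
    ∃ y : Fin 6 → F, y 4 = 0 ∧ y 5 = 0 ∧ hermForm 6 F 2 y y = 0 ∧ hermForm 6 F 2 y u = 0 ∧
      hermForm 6 F 2 y w ≠ 0 := by
  classical
  have h2 : (2 : F) = 0 := two_eq_zero hF
  obtain ⟨ω, hω⟩ := exists_omega hF
  obtain ⟨i, hi⟩ : ∃ i, u i ≠ 0 := by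
    by_contra hcon
    push Not at hcon
    exact hu0 (funext hcon)
  obtain ⟨j, hj⟩ : ∃ j, u j * w i - u i * w j ≠ 0 := by
    by_contra hcon
    push Not at hcon
    apply hne
    refine ⟨w i / u i, ?_⟩
    funext j
    have := hcon j
    rw [Pi.smul_apply, smul_eq_mul, div_mul_eq_mul_div, eq_div_iff hi]
    linear_combination -this
  have hij : i ≠ j := by
    rintro rfl
    exact hj (by ring)
  have hi4 : i ≠ 4 := by rintro rfl; exact hi u4
  have hi5 : i ≠ 5 := by rintro rfl; exact hi u5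
  have hj4 : j ≠ 4 := by rintro rfl; exact hj (by rw [u4, w4]; ring)
  have hj5 : j ≠ 5 := by rintro rfl; exact hj (by rw [u5, w5]; ring)
  set x : Fin 6 → F := fun l => if l = i then (u j) ^ 2 else if l = j then - (u i) ^ 2 else 0 with hx
  have key : ∀ v : Fin 6 → F, hermForm 6 F 2 x v = (u j) ^ 2 * (v i) ^ 2 - (u i) ^ 2 * (v j) ^ 2 := by
    intro v
    rw [herm_def, ← Finset.add_sum_erase _ _ (Finset.mem_univ i),
      ← Finset.add_sum_erase _ _ (Finset.mem_erase.2 ⟨hij.symm, Finset.mem_univ j⟩), Finset.sum_eq_zero]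
    · simp only [hx, if_true, if_neg hij.symm]
      ring
    · intro l hl
      rw [Finset.mem_erase, Finset.mem_erase] at hl
      simp only [hx, if_neg hl.1, if_neg hl.2.1, zero_mul]
  have hxu : hermForm 6 F 2 x u = 0 := by rw [key]; ring
  have hxw : hermForm 6 F 2 x w = (u j * w i - u i * w j) ^ 2 := by
    rw [key]
    linear_combination (u i * w j * (u j * w i) - (u i * w j) ^ 2) * h2
  set s : F := hermForm 6 F 2 x w with hs
  have hs0 : s ≠ 0 := by rw [hxw]; exact pow_ne_zero 2 hj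
  have hs3 : s ^ 3 = 1 := pow_three hF hs0
  set n : F := hermForm 6 F 2 x x with hn
  have hnn : n ^ 2 = n := herm_self_pow hF x
  have hwx : hermForm 6 F 2 w x = s ^ 2 := herm_swap hF x w
  refine ⟨x + (n * ω * s) • w, ?_, ?_, ?_, ?_, ?_⟩
  · simp only [Pi.add_apply, Pi.smul_apply, w4, smul_zero, add_zero, hx, if_neg hi4.symm, if_neg hj4.symm]
  · simp only [Pi.add_apply, Pi.smul_apply, w5, smul_zero, add_zero, hx, if_neg hi5.symm, if_neg hj5.symm]
  · rw [herm_add_left, herm_add_right hF, herm_add_right hF, herm_smul_left, herm_smul_right, herm_smul_left,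
      herm_smul_right, hw, ← hn, ← hs, hwx]
    have hω2 : ω ^ 2 = - ω - 1 := by linear_combination hω
    linear_combination (n ^ 2 * ω ^ 2 + n * ω) * hs3 + ω ^ 2 * hnn + n * hω
  · rw [herm_add_left, herm_smul_left, hxu, huw]
    ring
  · rw [herm_add_left, herm_smul_left, hw, mul_zero, add_zero]
    exact hs0

variable (L : Lab hF π z ε lift)

include L

/-- two noncommuting labelled elements are conjugate to the standard ones -/
theorem exists_std {ω : F} (hω : ω ^ 2 + ω + 1 = 0) {a b : C} (ha : a ∈ Dset lift) (hb : b ∈ Dset lift)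
    (hab : ¬ Commute a b) : ∃ (s : SU 6 F 2) (c : C), π c = pr 6 F 2 s ∧ c * lift (y0 1) * c⁻¹ = a ∧
      c * lift (y0 ω) * c⁻¹ = b := by
  have h2 : (2 : F) = 0 := two_eq_zero hF
  have hω3 : ω ^ 3 = 1 := by linear_combination (ω - 1) * hω
  have i1 := y0_iso (F := F) (k := 1) h2 (by ring)
  have iω := y0_iso (F := F) (k := ω) h2 hω3
  have hA : lift (y0 1) ∈ Dset lift := Lab.mem_D (y0_ne _) i1
  have hB : lift (y0 ω) ∈ Dset lift := Lab.mem_D (y0_ne _) iω
  have hAB : ¬ Commute (lift (y0 1)) (lift (y0 ω)) := by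
    rw [L.commute_iff i1 iω (y0_ne _) (y0_ne _), herm_y0]
    intro h1
    have : (1 : F) = 0 := by linear_combination hω - (ω + 1) * (hω - h1)
    exact one_ne_zero this
  obtain ⟨c, h3, h4⟩ := L.trans_noncommuting _ hA _ hB a ha b hb hAB hab
  obtain ⟨s, hs⟩ := pr_surjective (π c)
  exact ⟨s, c, hs.symm, h3, h4⟩

/-- **(L2)** -/
theorem exists_not {b t e f : C} (hb : b ∈ Dset lift) (ht : t ∈ Dset lift) (he : e ∈ Dset lift) (hf : f ∈ Dset lift)
    (hbt : ¬ Commute b t) (eb : Commute e b) (et : Commute e t) (fb : Commute f b) (ft : Commute f t)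
    (ef : Commute e f) (hne : e ≠ f) :
    ∃ y ∈ Dset lift, Commute y b ∧ Commute y t ∧ Commute y e ∧ ¬ Commute y f := by
  obtain ⟨ω, hω⟩ := exists_omega hF
  have h2 : (2 : F) = 0 := two_eq_zero hF
  have hω3 : ω ^ 3 = 1 := by linear_combination (ω - 1) * hω
  have i1 := y0_iso (F := F) (k := 1) h2 (by ring)
  have iω := y0_iso (F := F) (k := ω) h2 hω3
  obtain ⟨s, c, hs, h3, h4⟩ := exists_std L hω hb ht hbt
  have pull : ∀ x ∈ Dset lift, ∃ v, v ≠ 0 ∧ hermForm 6 F 2 v v = 0 ∧ x = c * lift v * c⁻¹ := by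
    intro x hx
    obtain ⟨v, hv0, hv, h⟩ := L.conj_mem hx c⁻¹
    refine ⟨v, hv0, hv, ?_⟩
    rw [← h]; group
  obtain ⟨u, hu0, hu, rfl⟩ := pull e he
  obtain ⟨w, hw0, hw, rfl⟩ := pull f hf
  rw [← h3, conj_comm_iff, L.commute_iff hu i1 hu0 (y0_ne _), herm_y0'] at eb
  rw [← h4, conj_comm_iff, L.commute_iff hu iω hu0 (y0_ne _), herm_y0'] at et
  rw [← h3, conj_comm_iff, L.commute_iff hw i1 hw0 (y0_ne _), herm_y0'] at fb
  rw [← h4, conj_comm_iff, L.commute_iff hw iω hw0 (y0_ne _), herm_y0'] at ft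
  rw [conj_comm_iff, L.commute_iff hu hw hu0 hw0] at ef
  have hω0 : ω ≠ 0 := by rintro rfl; simp at hω
  have k45 : ∀ x y : F, x + y * 1 ^ 2 = 0 → x + y * ω ^ 2 = 0 → x = 0 ∧ y = 0 := by
    intro x y h h'
    have h5 : y * ω = 0 := by linear_combination -h' + h - y * hω + y * (ω + ω ^ 2) * h2
    have h6 : y = 0 := (mul_eq_zero.1 h5).resolve_right hω0
    refine ⟨?_, h6⟩
    rw [h6] at h
    linear_combination h
  obtain ⟨u4, u5⟩ := k45 _ _ eb et
  obtain ⟨w4, w5⟩ := k45 _ _ fb ft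
  obtain ⟨y, y4, y5, hy, hyu, hyw⟩ := exists_vec hF hu0 hw (herm_eq_zero_swap hF ef) (by
    rintro ⟨k, rfl⟩
    apply hne
    have hk : k ≠ 0 := by
      rintro rfl
      exact hw0 (zero_smul _ _)
    rw [L.smul u k hu hk]) u4 u5 w4 w5
  have hy0 : y ≠ 0 := by
    rintro rfl
    exact hyw (herm_zero_left _)
  refine ⟨c * lift y * c⁻¹, L.conj_mem (Lab.mem_D hy0 hy) c, ?_, ?_, ?_, ?_⟩
  · rw [← h3, conj_comm_iff, L.commute_iff hy i1 hy0 (y0_ne _), herm_y0', y4, y5]
    ring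
  · rw [← h4, conj_comm_iff, L.commute_iff hy iω hy0 (y0_ne _), herm_y0', y4, y5]
    ring
  · rwa [conj_comm_iff, L.commute_iff hy hu hy0 hu0]
  · rwa [conj_comm_iff, L.commute_iff hy hw hy0 hw0]

/-- **(L1)** -/
theorem exists_not' {b t f : C} (hb : b ∈ Dset lift) (ht : t ∈ Dset lift) (hf : f ∈ Dset lift)
    (hbt : ¬ Commute b t) (fb : Commute f b) (ft : Commute f t) :
    ∃ y ∈ Dset lift, Commute y b ∧ Commute y t ∧ ¬ Commute y f := by
  by_contra hcon
  push Not at hcon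
  rcases third L hb ht hf hbt hcon with h | h | h
  · rw [h] at ft; exact hbt ft
  · rw [h] at fb; exact hbt fb.symm
  · apply hbt
    have hbb : b * b = 1 := by
      obtain ⟨v, h0, hv, rfl⟩ := hb
      exact L.sq v h0 hv
    have h1 : t = b * f * b := by
      rw [h]
      calc t = (b * b) * t * (b * b) := by rw [hbb, one_mul, mul_one]
        _ = b * (b * t * b) * b := by group
    rw [h1]
    exact ((Commute.refl b).mul_right fb.symm).mul_right (Commute.refl b)

/-- **(L3)** a line orthogonal to `b` and `t` -/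
theorem exists_line {b t : C} (hb : b ∈ Dset lift) (ht : t ∈ Dset lift) (hbt : ¬ Commute b t) :
    ∃ u w : Fin 6 → F, (∀ k : F, u + k • w ≠ 0) ∧ w ≠ 0 ∧ (∀ k : F, hermForm 6 F 2 (u + k • w) (u + k • w) = 0) ∧
      hermForm 6 F 2 w w = 0 ∧ (∀ a b : F, a • u + b • w = 0 → a = 0 ∧ b = 0) ∧
      (∀ k : F, Commute (lift (u + k • w)) b ∧ Commute (lift (u + k • w)) t) ∧
      Commute (lift w) b ∧ Commute (lift w) t := by
  obtain ⟨ω, hω⟩ := exists_omega hF
  have h2 : (2 : F) = 0 := two_eq_zero hF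
  have hω3 : ω ^ 3 = 1 := by linear_combination (ω - 1) * hω
  have i1 := y0_iso (F := F) (k := 1) h2 (by ring)
  have iω := y0_iso (F := F) (k := ω) h2 hω3
  obtain ⟨s, c, hs, h3, h4⟩ := exists_std L hω hb ht hbt
  set u : Fin 6 → F := p0 1 with hu
  set w : Fin 6 → F := p1 1 with hw
  have ind : ∀ a b : F, a • u + b • w = 0 → a = 0 ∧ b = 0 := by
    intro a b h
    constructor
    · have := congrFun h 0
      simpa [hu, hw, p0, p1] using this
    · have := congrFun h 2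
      simpa [hu, hw, p0, p1] using this
  have n0 : ∀ k : F, u + k • w ≠ 0 := fun k h => one_ne_zero (ind 1 k (by rw [one_smul]; exact h)).1
  have iso : ∀ k : F, hermForm 6 F 2 (u + k • w) (u + k • w) = 0 := by
    intro k
    have e1 : hermForm 6 F 2 u u = 0 := p0_iso h2 (by ring)
    have e2 : hermForm 6 F 2 w w = 0 := p1_iso h2 (by ring)
    have e3 : hermForm 6 F 2 u w = 0 := by rw [hu, herm_p0_left]; simp [hw, p1]
    have e4 : hermForm 6 F 2 w u = 0 := herm_eq_zero_swap hF e3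
    rw [herm_add_left, herm_add_right hF, herm_add_right hF, herm_smul_left, herm_smul_right, herm_smul_left,
      herm_smul_right, e1, e2, e3, e4]
    ring
  have orth : ∀ k l : F, hermForm 6 F 2 (u + k • w) (y0 l) = 0 := by
    intro k l
    rw [herm_add_left, herm_smul_left, herm_p0_y0, herm_p1_y0]
    ring
  have eL : ∀ v : Fin 6 → F, v ≠ 0 → hermForm 6 F 2 v v = 0 → lift (act s v) = c * lift v * c⁻¹ := fun v hv0 hv =>
    (L.conj c s v hs hv0 hv).symm
  have ea : ∀ k : F, act s u + k • act s w = act s (u + k • w) := by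
    intro k; rw [act_add, act_smul]
  refine ⟨act s u, act s w, fun k => ?_, Lab.act_ne_zero (p1_ne 1), fun k => ?_, ?_, ?_, fun k => ?_, ?_, ?_⟩
  · rw [ea]; exact Lab.act_ne_zero (n0 k)
  · rw [ea, herm_act]; exact iso k
  · rw [herm_act]; exact p1_iso h2 (by ring)
  · intro a b h
    apply ind
    have h5 : act s (a • u + b • w) = 0 := by rw [act_add, act_smul, act_smul, h]
    by_contra h6
    exact Lab.act_ne_zero h6 h5
  · rw [ea, eL _ (n0 k) (iso k), ← h3, ← h4, conj_comm_iff, conj_comm_iff, L.commute_iff (iso k) i1 (n0 k) (y0_ne _),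
      L.commute_iff (iso k) iω (n0 k) (y0_ne _)]
    exact ⟨orth k 1, orth k ω⟩
  · rw [eL _ (p1_ne 1) (p1_iso h2 (by ring)), ← h3, conj_comm_iff,
      L.commute_iff (p1_iso h2 (by ring)) i1 (p1_ne 1) (y0_ne _)]
    exact herm_p1_y0 1 1
  · rw [eL _ (p1_ne 1) (p1_iso h2 (by ring)), ← h4, conj_comm_iff,
      L.commute_iff (p1_iso h2 (by ring)) iω (p1_ne 1) (y0_ne _)]
    exact herm_p1_y0 1 ω

end Cfsg.Agent.H359.SK.FiLink
end

-- part: H359/SK/FiThirteen
section
/-!
# `Fi22`: the product of three commuting transpositions inverts an element of order 13 (helper359)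

`v = b d f i` and `v' = c e g h` (commuting nodes of the diagram): `(v v') ^ 13 = 1`, and `v` is the product of three
transpositions (the heptad of `b d f i`).
-/

set_option autoImplicit false

namespace Cfsg.Agent.H359.SK.FiThirteen

open Cfsg Cfsg.Agent.Fischer Cfsg.Agent.Fischer.Abstract Cfsg.Agent.Fischer.Centralizer
  Cfsg.Agent.Fischer.Group22 Cfsg.Agent.Fischer.Rank22
open Cfsg.Agent.R01.Fi22Facts
open Cfsg.Agent.R01
open Cfsg.Agent.LThreeFi22.Five (el el_append one_of_chk)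

open Data22.Gen in
/-- the first transposition -/
def cA : CW := ([_root_.Cfsg.Agent.Fischer.Data22.Gen.a, b, c, d, h, i, e, b, c, d, h, f, e, d, c, b], _root_.Cfsg.Agent.Fischer.Data22.Gen.a)

open Data22.Gen in
/-- the second transposition -/
def cB : CW := ([_root_.Cfsg.Agent.Fischer.Data22.Gen.a, b, c, d, h, i, d, h, c, d, e, b, c, d, h, f, e, d, c, b], _root_.Cfsg.Agent.Fischer.Data22.Gen.a)

open Data22.Gen in
/-- the third transposition -/
def cC : CW := ([_root_.Cfsg.Agent.Fischer.Data22.Gen.a, b, c, d, h, i, e, d, h, f, e, d], c)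

private theorem below_of {p : ℕ → Bool} : ∀ {n : ℕ}, (∀ k < n, p k = true) → Cert.allBelow n p = true
  | 0, _ => rfl
  | n + 1, h => by
    show Bool.rec false (Cert.allBelow n p) (p n) = true
    rw [h n (Nat.lt_succ_self n)]
    exact below_of fun k hk => h k (Nat.lt_succ_of_lt hk)

/-- a word that fixes the points of the generators is central, hence fixes all points -/
private theorem chk_of_fix {w : List Data22.Gen} (h : ([0, 2, 2817, 2819, 2827, 2854, 2922, 2830, 2863, 2924] : List ℕ).all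
    (fun x => Nat.beq (Cert.walk Data22.nx w x) x) = true) : Cert.relCheck Data22.nx (nat_lit 54) (nat_lit 65) w = true := by
  have h1 : ∀ s, g s * el w.reverse = el w.reverse * g s := fun s => by
    have h0 := LThreeFi22.Five.comm_of_chk (w := w.reverse) (x := pg s)
      (by rw [List.reverse_reverse]; exact List.all_eq_true.1 h _ (by cases s <;> decide))
    rw [show R.t (pg s) = g s from t_pg s] at h0
    exact h0.symm
  have h2 : Subgroup.closure (Set.range g) ≤ Subgroup.centralizer {el w.reverse} := (Subgroup.closure_le _).2 (by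
    rintro _ ⟨s, rfl⟩
    exact Subgroup.mem_centralizer_singleton_iff.2 (h1 s))
  rw [closure_g] at h2
  have h3 : ∀ x : X, Cert.walk Data22.nx w x = x := fun x => by
    have h4 : el w.reverse • x = x := R.t_injective (by
      rw [R.map_smul, ← Subgroup.mem_centralizer_singleton_iff.1 (h2 (Subgroup.mem_top (R.t x))), mul_inv_cancel_right])
    have h5 := Fi22Loc.val_word w.reverse x
    rw [List.reverse_reverse] at h5
    exact h5.symm.trans (congrArg Fin.val h4)
  have h6 : ∀ k < 3510, Nat.beq (Cert.walk Data22.nx w k) k = true := fun k hk => Nat.beq_eq.mpr (h3 ⟨k, hk⟩)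
  delta Cert.relCheck Cert.allGrid
  refine below_of fun i hi => below_of fun j hj => h6 _ ?_
  have hi' : i < 54 := hi
  have hj' : j < 65 := hj
  show 65 * i + j < 3510
  omega

open Data22.Gen in
theorem prod_chk : Cert.relCheck Data22.nx (nat_lit 54) (nat_lit 65)
    (([cA, cB, cC, ([], i), ([], f), ([], d), ([], b)] : List CW).map word).flatten = true :=
  chk_of_fix (by decide +kernel)

theorem com_AB : Nat.beq (Cert.walk Data22.nx (word cA).reverse (num cB)) (num cB) = true := by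
  decide +kernel

theorem com_AC : Nat.beq (Cert.walk Data22.nx (word cA).reverse (num cC)) (num cC) = true := by
  decide +kernel

theorem com_BC : Nat.beq (Cert.walk Data22.nx (word cB).reverse (num cC)) (num cC) = true := by
  decide +kernel

theorem ne_AB : Nat.beq (num cA) (num cB) = false := by decide +kernel

theorem ne_AC : Nat.beq (num cA) (num cC) = false := by decide +kernel

theorem ne_BC : Nat.beq (num cB) (num cC) = false := by decide +kernel

open Data22.Gen in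
/-- the word of the element of order 13 -/
def xw : List Data22.Gen := [b, d, f, i, c, e, _root_.Cfsg.Agent.Fischer.Data22.Gen.g, h]

theorem x_chk : Cert.relCheck Data22.nx (nat_lit 54) (nat_lit 65)
    (xw ++ xw ++ xw ++ xw ++ xw ++ xw ++ xw ++ xw ++ xw ++ xw ++ xw ++ xw ++ xw) = true :=
  chk_of_fix (by decide +kernel)

theorem x_ne : Nat.beq (Cert.walk Data22.nx xw.reverse (nat_lit 0)) (nat_lit 0) = false := by decide +kernel

open Data22.Gen in
theorem v_chk : Cert.relCheck Data22.nx (nat_lit 54) (nat_lit 65) [b, d, f, i, b, d, f, i] = true :=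
  chk_of_fix (by decide +kernel)

open Data22.Gen in
theorem v2_chk : Cert.relCheck Data22.nx (nat_lit 54) (nat_lit 65) [c, e, _root_.Cfsg.Agent.Fischer.Data22.Gen.g, h, c, e, g, h] = true :=
  chk_of_fix (by decide +kernel)

open Data22.Gen in
/-- the involution -/
def vw : List Data22.Gen := [b, d, f, i]

open Data22.Gen in
/-- the other involution -/
def vw2 : List Data22.Gen := [c, e, _root_.Cfsg.Agent.Fischer.Data22.Gen.g, h]

theorem xw_eq : el xw = el vw * el vw2 := el_append vw vw2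

theorem v_sq : el vw * el vw = 1 := by
  rw [← el_append]
  exact one_of_chk v_chk

theorem v2_sq : el vw2 * el vw2 = 1 := by
  rw [← el_append]
  exact one_of_chk v2_chk

theorem x_pow : el xw ^ 13 = 1 := by
  have h := one_of_chk x_chk
  simp only [el_append] at h
  rw [← h]
  simp only [pow_succ, pow_zero, one_mul]

theorem x_ne_one : el xw ≠ 1 := by
  intro h
  have h1 : ((el xw • (x0 : X) : X) : ℕ) = Cert.walk Data22.nx xw.reverse (x0 : X) := Fi22Loc.val_word _ _
  rw [h, one_smul] at h1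
  have h2 : Nat.beq (Cert.walk Data22.nx xw.reverse (nat_lit 0)) (nat_lit 0) = true := by
    have h3 : ((x0 : X) : ℕ) = nat_lit 0 := rfl
    rw [h3] at h1
    rw [← h1, Nat.beq_refl]
  rw [x_ne] at h2
  exact absurd h2 (by decide)

open Data22.Gen in
theorem v_eq : R.t (ptw cA) * R.t (ptw cB) * R.t (ptw cC) = el vw := by
  have h := prod_of_chk prod_chk
  have e : ∀ s : Data22.Gen, R.t (ptw ([], s)) = g s := by
    intro s
    rw [t_ptw]
    simp [word]
  simp only [List.map_cons, List.map_nil, List.prod_cons, List.prod_nil, mul_one, e] at h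
  have h1 : el vw = g b * (g d * (g f * g i)) := by
    simp [el, vw]
  have hv := v_sq
  have h2 : (R.t (ptw cA) * R.t (ptw cB) * R.t (ptw cC)) * (g i * (g f * (g d * g b))) = 1 := by
    rw [← h]; group
  have gsq : ∀ s : Data22.Gen, g s * g s = 1 := by
    intro s
    rw [← e]
    exact R.sq' _
  have h3 : (g i * (g f * (g d * g b))) * el vw = 1 := by
    rw [h1]
    calc (g i * (g f * (g d * g b))) * (g b * (g d * (g f * g i)))
        = g i * (g f * (g d * (g b * g b) * g d) * g f) * g i := by group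
      _ = 1 := by rw [gsq, mul_one, gsq, mul_one, gsq, mul_one, gsq]
  calc R.t (ptw cA) * R.t (ptw cB) * R.t (ptw cC)
      = R.t (ptw cA) * R.t (ptw cB) * R.t (ptw cC) * ((g i * (g f * (g d * g b))) * el vw) := by rw [h3, mul_one]
    _ = (R.t (ptw cA) * R.t (ptw cB) * R.t (ptw cC) * (g i * (g f * (g d * g b)))) * el vw := by group
    _ = el vw := by rw [h2, one_mul]

/-- **A product of three commuting transpositions inverting an element of order 13.** -/
theorem exists_13 : ∃ a ∈ T, ∃ b ∈ T, ∃ c ∈ T, a ≠ b ∧ a ≠ c ∧ b ≠ c ∧ a * b = b * a ∧ a * c = c * a ∧ b * c = c * b ∧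
    ∃ x : Spor.Fi22, x ^ 13 = 1 ∧ x ≠ 1 ∧ (a * b * c) * x * (a * b * c)⁻¹ = x⁻¹ := by
  refine ⟨E (R.t (ptw cA)), mem_T_iff.2 ⟨_, rfl⟩, E (R.t (ptw cB)), mem_T_iff.2 ⟨_, rfl⟩, E (R.t (ptw cC)),
    mem_T_iff.2 ⟨_, rfl⟩, fun h => ne_of_chk ne_AB (E.injective h), fun h => ne_of_chk ne_AC (E.injective h),
    fun h => ne_of_chk ne_BC (E.injective h), com_iff.2 (com_of_chk com_AB), com_iff.2 (com_of_chk com_AC),
    com_iff.2 (com_of_chk com_BC), E (el xw), ?_, ?_, ?_⟩
  · rw [← map_pow, x_pow, map_one]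
  · intro h
    exact x_ne_one (E.injective (by rw [h, map_one]))
  · rw [← map_mul, ← map_mul, v_eq, ← map_inv, ← map_mul, ← map_mul, ← map_inv, xw_eq]
    congr 1
    have h1 : (el vw)⁻¹ = el vw := (inv_eq_of_mul_eq_one_left v_sq :)
    have h2 : (el vw2)⁻¹ = el vw2 := inv_eq_of_mul_eq_one_left v2_sq
    rw [mul_inv_rev, h1, h2, ← mul_assoc, v_sq, one_mul]

end Cfsg.Agent.H359.SK.FiThirteen
end

-- part: H359/SK/FiKL
section
/-!
# `Fi22`: an involutory automorphism fixing `a` and all transpositions commuting with `a`, `b`, `t` is inner (helper359)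

`b`, `t` commute with `a` but not with each other.
-/

set_option autoImplicit false
set_option linter.unusedSectionVars false

namespace Cfsg.Agent.H359.SK.FiKL

open Subgroup Cfsg Cfsg.Agent.R01
open Cfsg.Agent.R01.Label Cfsg.Agent.R01.Lifts
open Cfsg.Agent.R01.Start (zel)
open Cfsg.Agent.R01.ComLabel (Iso)
open Cfsg.Agent.LieClassical.HermBasic Cfsg.Agent.SporadicStructure.UnitTwo
open Cfsg.Agent.OddHalf.NI3.Ex.FiRow.Base Cfsg.Agent.OddHalf.NI3.Ex.FiRow.Semi
open Cfsg.Agent.U62.Semi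
open Cfsg.Agent.Fischer.Unit22 (hF)

theorem inner_of_fix {α : MulAut Spor.Fi22} (hα : α * α = 1) {a b t : Spor.Fi22} (ha : a ∈ _root_.Cfsg.Agent.OddHalf.NI3.Ex.FiRow.Base.T) (hb : b ∈ _root_.Cfsg.Agent.OddHalf.NI3.Ex.FiRow.Base.T) (ht : t ∈ _root_.Cfsg.Agent.OddHalf.NI3.Ex.FiRow.Base.T)
    (hba : b * a = a * b) (hta : t * a = a * t) (hbt : b * t ≠ t * b) (hfa : α a = a)
    (hfix : ∀ y ∈ _root_.Cfsg.Agent.OddHalf.NI3.Ex.FiRow.Base.T, y * a = a * y → y * b = b * y → y * t = t * y → α y = y) : ∃ k, α = MulAut.conj k := by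
  obtain ⟨π, lift, e, φ, he, D⟩ := exists_dat hα (t := a) ⟨ha, hfa⟩
  rcases he with rfl | rfl
  · exact D.inner
  exfalso
  have L := D.lab
  have bn : b ≠ a := by
    rintro rfl
    exact hbt hta.symm
  have tn : t ≠ a := by
    rintro rfl
    exact hbt hba
  obtain ⟨u, w, n0, w0, iso, isow, ind, cu, cwb, cwt⟩ := FiLink.exists_line L
    (AllOfLab.mem_Dset_of D.mem hb hba bn) (AllOfLab.mem_Dset_of D.mem ht hta tn)
    (fun h => hbt (AllOfLab.comm_coe.1 h))
  have key : ∀ v : Fin 6 → SporRec.GF4.F4, v ≠ 0 → hermForm 6 SporRec.GF4.F4 2 v v = 0 →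
      Commute (lift v) ⟨b, mem_centralizer_singleton_iff.2 hba⟩ → Commute (lift v) ⟨t, mem_centralizer_singleton_iff.2 hta⟩ →
      ∃ c : SporRec.GF4.F4, c ≠ 0 ∧ φ v = c • v := by
    intro v hv0 hv h1 h2
    have hi : Iso SporRec.GF4.F4 v := ⟨hv0, hv⟩
    have h3 := hfix (lift v : Spor.Fi22) ((D.mem _).2 (Or.inr (Lab.mem_D hv0 hv))) (AllOfLab.zel_comm _).symm
      (AllOfLab.comm_coe.1 h1) (AllOfLab.comm_coe.1 h2)
    rw [D.act v hi] at h3
    have h4 : lift v = lift (φ v) := Subtype.ext h3.symm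
    have hφi := D.sem.iso hF (Or.inr rfl) hi
    exact (L.lift_eq_iff hv hφi.2 hv0 hφi.1).1 h4
  obtain ⟨cw, hcw0, hcw⟩ := key w w0 isow cwb cwt
  obtain ⟨c0, hc0, hc0'⟩ := key (u + (0 : SporRec.GF4.F4) • w) (n0 0) (iso 0) (cu 0).1 (cu 0).2
  rw [zero_smul, add_zero] at hc0'
  have h5 : ∀ k : SporRec.GF4.F4, k ^ 2 * cw = c0 * k := by
    intro k
    obtain ⟨c, hc, hc'⟩ := key (u + k • w) (n0 k) (iso k) (cu k).1 (cu k).2
    rw [D.sem.add, D.sem.smul, hc0', hcw] at hc'
    have h6 : (c0 - c) • u + (k ^ 2 * cw - c * k) • w = 0 := by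
      rw [sub_smul, sub_smul, mul_smul, mul_smul]
      have h7 : c0 • u + k ^ 2 • cw • w - (c • (u + k • w)) = 0 := sub_eq_zero.2 hc'
      rw [smul_add] at h7
      rw [← h7]
      abel
    obtain ⟨h8, h9⟩ := ind _ _ h6
    linear_combination h9 + (-k) * h8
  obtain ⟨ω, hω⟩ := exists_omega hF
  have e1 := h5 1
  have e2 := h5 ω
  have h2 : (2 : SporRec.GF4.F4) = 0 := two_eq_zero hF
  have e3 : cw * 1 = 0 := by linear_combination (-1 : SporRec.GF4.F4) * e2 + ω * e1 + cw * hω - cw * ω * h2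
  rw [mul_one] at e3
  exact hcw0 e3

end Cfsg.Agent.H359.SK.FiKL
end

-- part: H359/SK/FiFacts
section
/-!
# The facts on the transpositions of `Fi22` used for the Sidki pairs (helper359)

`F0 K T` : `K` a subgroup of `G` isomorphic to `Fi22`, `T ⊆ K` its class of transpositions.
-/

set_option autoImplicit false
set_option linter.unusedSectionVars false

namespace Cfsg.Agent.H359.SK

open Subgroup Cfsg

universe u v

/-- inner facts -/
structure F0 {G : Type*} [Group G] (K : Subgroup G) (T : Set G) : Prop where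
  sub : ∀ x ∈ T, x ∈ K
  sq : ∀ x ∈ T, x * x = 1
  ne1 : ∀ x ∈ T, x ≠ 1
  three : ∀ x ∈ T, ∀ y ∈ T, x * y = y * x ∨ x * y * x = y * x * y
  uniq : ∀ x ∈ T, ∀ y ∈ T, ∀ u ∈ T, ∀ v ∈ T, x ≠ y → x * y = y * x → u * v = v * u → x * y = u * v →
    u = x ∨ u = y
  opp : ∀ a ∈ T, ∀ b ∈ T, a ≠ b → a * b = b * a → ∃ t ∈ T, t * a = a * t ∧ t * b ≠ b * t
  nb : ∀ x ∈ T, ∀ y ∈ T, ∃ c ∈ T, c ≠ x ∧ c ≠ y ∧ c * x = x * c ∧ c * y = y * c
  L1 : ∀ a ∈ T, ∀ b ∈ T, ∀ t ∈ T, ∀ f ∈ T, b * a = a * b → t * a = a * t → b * t ≠ t * b → f ≠ a → f * a = a * f →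
    f * b = b * f → f * t = t * f → ∃ y ∈ T, y * a = a * y ∧ y * b = b * y ∧ y * t = t * y ∧ y * f ≠ f * y
  L2 : ∀ a ∈ T, ∀ b ∈ T, ∀ t ∈ T, ∀ e ∈ T, ∀ f ∈ T, b * a = a * b → t * a = a * t → b * t ≠ t * b → e ≠ a → f ≠ a →
    e ≠ f → e * a = a * e → e * b = b * e → e * t = t * e → f * a = a * f → f * b = b * f → f * t = t * f →
    e * f = f * e → ∃ y ∈ T, y * a = a * y ∧ y * b = b * y ∧ y * t = t * y ∧ y * e = e * y ∧ y * f ≠ f * y
  L5 : ∀ a ∈ T, ∀ b ∈ T, ∀ t ∈ T, b * a = a * b → t * a = a * t → b * t ≠ t * b → ∃ f ∈ T, f ≠ a ∧ f * a = a * f ∧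
    f * b = b * f ∧ f * t = t * f
  inv : ∀ f ∈ K, f * f = 1 → f = 1 ∨ f ∈ T ∨ (∃ a ∈ T, ∃ b ∈ T, a ≠ b ∧ a * b = b * a ∧ f = a * b) ∨
    ∃ a ∈ T, ∃ b ∈ T, ∃ c ∈ T, a ≠ b ∧ a ≠ c ∧ b ≠ c ∧ a * b = b * a ∧ a * c = c * a ∧ b * c = c * b ∧
      f = a * b * c
  i13 : ∀ a ∈ T, ∀ b ∈ T, ∀ c ∈ T, a ≠ b → a ≠ c → b ≠ c → a * b = b * a → a * c = c * a → b * c = c * b →
    ∃ x ∈ K, x ^ 13 = 1 ∧ x ≠ 1 ∧ (a * b * c) * x * (a * b * c)⁻¹ = x⁻¹

section base

open Cfsg.Agent.R01 Cfsg.Agent.R01.Label Cfsg.Agent.R01.Lifts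
open Cfsg.Agent.OddHalf.NI3.Ex.FiRow.Base (T kt)

/-- **The facts for `Fi22`.** -/
theorem f0 : F0 (⊤ : Subgroup Spor.Fi22) T where
  sub _ _ := mem_top _
  sq := kt.sq
  ne1 := kt.ne1
  three := kt.three
  uniq := kt.uniq
  opp := by
    intro a ha b hb hab cab
    obtain ⟨p, hp⟩ := kt.nonempty
    obtain ⟨π, lift, L, hiff⟩ := Fi22Facts.loc p hp
    obtain ⟨q, hq, r, hr, hqr⟩ := Cfsg.Agent.OddHalf.D8.Fi22.Opp.exists_ncom L
    have hqT : (q : Spor.Fi22) ∈ T := (hiff q).2 (Or.inr hq)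
    have hrT : (r : Spor.Fi22) ∈ T := (hiff r).2 (Or.inr hr)
    have hpq : p ≠ (q : Spor.Fi22) := by
      intro h
      have h1 : Cfsg.Agent.R01.Start.zel p = q := Subtype.ext h
      apply L.z_notMem
      rw [h1]
      exact hq
    obtain ⟨g, h1, h2⟩ := kt.trans2 p hp q hqT a ha b hb hpq hab (AllOfLab.zel_comm q) cab
    refine ⟨g * r * g⁻¹, kt.conj g _ hrT, ?_, ?_⟩
    · rw [← h1]
      have h3 := AllOfLab.zel_comm r
      calc g * r * g⁻¹ * (g * p * g⁻¹) = g * (r * p) * g⁻¹ := by group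
        _ = g * (p * r) * g⁻¹ := by rw [h3]
        _ = _ := by group
    · rw [← h2]
      intro h3
      apply hqr
      apply AllOfLab.comm_coe.2
      have h4 : g * ((r : Spor.Fi22) * q) * g⁻¹ = g * (q * r) * g⁻¹ := by
        calc g * ((r : Spor.Fi22) * q) * g⁻¹ = g * r * g⁻¹ * (g * q * g⁻¹) := by group
          _ = _ := h3
          _ = _ := by group
      exact (mul_left_cancel (mul_right_cancel h4)).symm
  nb := kt.nb
  L1 := by
    intro a ha b hb t ht f hf ba ta bt fa0 fa fb ft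
    obtain ⟨π, lift, L, hiff⟩ := Fi22Facts.loc a ha
    have bn : b ≠ a := by rintro rfl; exact bt ta.symm
    have tn : t ≠ a := by rintro rfl; exact bt ba
    obtain ⟨y, hy, h1, h2, h3⟩ := FiLink.exists_not' L (AllOfLab.mem_Dset_of hiff hb ba bn)
      (AllOfLab.mem_Dset_of hiff ht ta tn) (AllOfLab.mem_Dset_of hiff hf fa fa0)
      (fun h => bt (AllOfLab.comm_coe.1 h)) (AllOfLab.comm_coe.2 fb) (AllOfLab.comm_coe.2 ft)
    exact ⟨y, (hiff y).2 (Or.inr hy), (AllOfLab.zel_comm y).symm, AllOfLab.comm_coe.1 h1, AllOfLab.comm_coe.1 h2,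
      fun h => h3 (AllOfLab.comm_coe.2 h)⟩
  L2 := by
    intro a ha b hb t ht e he f hf ba ta bt ea0 fa0 ef0 ea eb et fa fb ft ef
    obtain ⟨π, lift, L, hiff⟩ := Fi22Facts.loc a ha
    have bn : b ≠ a := by rintro rfl; exact bt ta.symm
    have tn : t ≠ a := by rintro rfl; exact bt ba
    obtain ⟨y, hy, h1, h2, h3, h4⟩ := FiLink.exists_not L (AllOfLab.mem_Dset_of hiff hb ba bn)
      (AllOfLab.mem_Dset_of hiff ht ta tn) (AllOfLab.mem_Dset_of hiff he ea ea0) (AllOfLab.mem_Dset_of hiff hf fa fa0)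
      (fun h => bt (AllOfLab.comm_coe.1 h)) (AllOfLab.comm_coe.2 eb) (AllOfLab.comm_coe.2 et)
      (AllOfLab.comm_coe.2 fb) (AllOfLab.comm_coe.2 ft) (AllOfLab.comm_coe.2 ef)
      (fun h => ef0 (congrArg Subtype.val h))
    exact ⟨y, (hiff y).2 (Or.inr hy), (AllOfLab.zel_comm y).symm, AllOfLab.comm_coe.1 h1, AllOfLab.comm_coe.1 h2,
      AllOfLab.comm_coe.1 h3, fun h => h4 (AllOfLab.comm_coe.2 h)⟩
  L5 := by
    intro a ha b hb t ht ba ta bt
    obtain ⟨π, lift, L, hiff⟩ := Fi22Facts.loc a ha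
    have bn : b ≠ a := by rintro rfl; exact bt ta.symm
    have tn : t ≠ a := by rintro rfl; exact bt ba
    obtain ⟨u, w, n0, w0, iso, isow, ind, cu, cwb, cwt⟩ := FiLink.exists_line L
      (AllOfLab.mem_Dset_of hiff hb ba bn) (AllOfLab.mem_Dset_of hiff ht ta tn)
      (fun h => bt (AllOfLab.comm_coe.1 h))
    have hD := Lab.mem_D (lift := lift) w0 isow
    refine ⟨lift w, (hiff _).2 (Or.inr hD), ?_, (AllOfLab.zel_comm _).symm, AllOfLab.comm_coe.1 cwb,
      AllOfLab.comm_coe.1 cwt⟩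
    intro h
    have h1 : lift w = Cfsg.Agent.R01.Start.zel a := Subtype.ext h
    apply L.z_notMem
    rw [← h1]
    exact hD
  inv f _ hf := kt.inv f hf
  i13 := by
    intro a ha b hb c hc hab hac hbc cab cac cbc
    obtain ⟨a', ha', b', hb', c', hc', nab, nac, nbc, kab, kac, kbc, x, hx, hx1, hxi⟩ := FiThirteen.exists_13
    obtain ⟨g, h1, h2, h3⟩ := kt.trans3 a' ha' b' hb' c' hc' a ha b hb c hc nab nac nbc hab hac hbc kab kac kbc
      cab cac cbc
    refine ⟨g * x * g⁻¹, mem_top _, ?_, ?_, ?_⟩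
    · rw [conj_pow, hx, mul_one, mul_inv_cancel]
    · intro h
      apply hx1
      rw [mul_inv_eq_one] at h
      exact mul_left_cancel (h.trans (mul_one g).symm)
    · rw [← h1, ← h2, ← h3]
      calc g * a' * g⁻¹ * (g * b' * g⁻¹) * (g * c' * g⁻¹) * (g * x * g⁻¹) *
            (g * a' * g⁻¹ * (g * b' * g⁻¹) * (g * c' * g⁻¹))⁻¹
          = g * ((a' * b' * c') * x * (a' * b' * c')⁻¹) * g⁻¹ := by group
        _ = g * x⁻¹ * g⁻¹ := by rw [hxi]
        _ = (g * x * g⁻¹)⁻¹ := by group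

end base

section map

variable {X : Type*} [Group X] {G : Type*} [Group G] {K : Subgroup X} {T : Set X}

theorem F0.map (h : F0 K T) (ι : X →* G) (hι : Function.Injective ι) : F0 (K.map ι) (ι '' T) where
  sub := by
    rintro _ ⟨x, hx, rfl⟩
    exact ⟨x, h.sub x hx, rfl⟩
  sq := by
    rintro _ ⟨x, hx, rfl⟩
    rw [← map_mul, h.sq x hx, map_one]
  ne1 := by
    rintro _ ⟨x, hx, rfl⟩ h1
    exact h.ne1 x hx (hι (by rw [h1, map_one]))
  three := by
    rintro _ ⟨x, hx, rfl⟩ _ ⟨y, hy, rfl⟩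
    rcases h.three x hx y hy with h1 | h1
    · left; rw [← map_mul, h1, map_mul]
    · right; rw [← map_mul, ← map_mul, h1, map_mul, map_mul]
  uniq := by
    rintro _ ⟨x, hx, rfl⟩ _ ⟨y, hy, rfl⟩ _ ⟨u, hu, rfl⟩ _ ⟨v, hv, rfl⟩ n c1 c2 e
    simp only [← map_mul] at c1 c2 e
    rcases h.uniq x hx y hy u hu v hv (fun h1 => n (by rw [h1])) (hι c1) (hι c2) (hι e) with h1 | h1
    · left; rw [h1]
    · right; rw [h1]
  opp := by
    rintro _ ⟨a, ha, rfl⟩ _ ⟨b, hb, rfl⟩ n c1
    simp only [← map_mul] at c1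
    obtain ⟨t, ht, h1, h2⟩ := h.opp a ha b hb (fun h1 => n (by rw [h1])) (hι c1)
    refine ⟨ι t, ⟨t, ht, rfl⟩, ?_, ?_⟩
    · rw [← map_mul, h1, map_mul]
    · intro h3
      rw [← map_mul, ← map_mul] at h3
      exact h2 (hι h3)
  nb := by
    rintro _ ⟨a, ha, rfl⟩ _ ⟨b, hb, rfl⟩
    obtain ⟨c, hc, h1, h2, h3, h4⟩ := h.nb a ha b hb
    exact ⟨ι c, ⟨c, hc, rfl⟩, fun h5 => h1 (hι h5), fun h5 => h2 (hι h5), by rw [← map_mul, h3, map_mul],
      by rw [← map_mul, h4, map_mul]⟩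
  L1 := by
    rintro _ ⟨a, ha, rfl⟩ _ ⟨b, hb, rfl⟩ _ ⟨t, ht, rfl⟩ _ ⟨f, hf, rfl⟩ h1 h2 h3 h4 h5 h6 h7
    simp only [← map_mul, hι.eq_iff, ne_eq] at h1 h2 h3 h4 h5 h6 h7
    obtain ⟨y, hy, k1, k2, k3, k4⟩ := h.L1 a ha b hb t ht f hf h1 h2 h3 h4 h5 h6 h7
    refine ⟨ι y, ⟨y, hy, rfl⟩, ?_⟩
    simp only [← map_mul, hι.eq_iff, ne_eq]
    exact ⟨k1, k2, k3, k4⟩
  L2 := by
    rintro _ ⟨a, ha, rfl⟩ _ ⟨b, hb, rfl⟩ _ ⟨t, ht, rfl⟩ _ ⟨e, he, rfl⟩ _ ⟨f, hf, rfl⟩ h1 h2 h3 h4 h5 h6 h7 h8 h9 h10 h11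
      h12 h13
    simp only [← map_mul, hι.eq_iff, ne_eq] at h1 h2 h3 h4 h5 h6 h7 h8 h9 h10 h11 h12 h13
    obtain ⟨y, hy, k1, k2, k3, k4, k5⟩ := h.L2 a ha b hb t ht e he f hf h1 h2 h3 h4 h5 h6 h7 h8 h9 h10 h11 h12 h13
    refine ⟨ι y, ⟨y, hy, rfl⟩, ?_⟩
    simp only [← map_mul, hι.eq_iff, ne_eq]
    exact ⟨k1, k2, k3, k4, k5⟩
  L5 := by
    rintro _ ⟨a, ha, rfl⟩ _ ⟨b, hb, rfl⟩ _ ⟨t, ht, rfl⟩ h1 h2 h3
    simp only [← map_mul, hι.eq_iff, ne_eq] at h1 h2 h3
    obtain ⟨y, hy, k1, k2, k3, k4⟩ := h.L5 a ha b hb t ht h1 h2 h3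
    refine ⟨ι y, ⟨y, hy, rfl⟩, ?_⟩
    simp only [← map_mul, hι.eq_iff, ne_eq]
    exact ⟨k1, k2, k3, k4⟩
  inv := by
    rintro _ ⟨f, hf, rfl⟩ hff
    rw [← map_mul] at hff
    rcases h.inv f hf (hι (by rw [hff, map_one])) with h1 | h1 | ⟨a, ha, b, hb, n, c, h1⟩ |
      ⟨a, ha, b, hb, c, hc, n1, n2, n3, c1, c2, c3, h1⟩
    · left; rw [h1, map_one]
    · right; left; exact ⟨f, h1, rfl⟩
    · right; right; left
      exact ⟨ι a, ⟨a, ha, rfl⟩, ι b, ⟨b, hb, rfl⟩, fun h2 => n (hι h2), by rw [← map_mul, c, map_mul],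
        by rw [h1, map_mul]⟩
    · right; right; right
      exact ⟨ι a, ⟨a, ha, rfl⟩, ι b, ⟨b, hb, rfl⟩, ι c, ⟨c, hc, rfl⟩, fun h2 => n1 (hι h2), fun h2 => n2 (hι h2),
        fun h2 => n3 (hι h2), by rw [← map_mul, c1, map_mul], by rw [← map_mul, c2, map_mul],
        by rw [← map_mul, c3, map_mul], by rw [h1, map_mul, map_mul]⟩
  i13 := by
    rintro _ ⟨a, ha, rfl⟩ _ ⟨b, hb, rfl⟩ _ ⟨c, hc, rfl⟩ h1 h2 h3 h4 h5 h6
    simp only [← map_mul, hι.eq_iff, ne_eq] at h1 h2 h3 h4 h5 h6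
    obtain ⟨x, hx, k1, k2, k3⟩ := h.i13 a ha b hb c hc h1 h2 h3 h4 h5 h6
    refine ⟨ι x, ⟨x, hx, rfl⟩, by rw [← map_pow, k1, map_one], fun h7 => k2 (hι (by rw [h7, map_one])), ?_⟩
    simp only [← map_mul, ← map_inv, hι.eq_iff]
    exact k3

end map

end Cfsg.Agent.H359.SK
end

-- part: H359/SK/Fi22
section
/-!
# S3010 (Sidki pairs): the row `Fi22` (helper359)

* `abc` (product of three commuting transpositions) inverts an element of order 13, which commutes with no involution of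
  `Aut(Fi22)`;
* `b` and `a b` invert `b t` (`t` commutes with `a`, not with `b`); an involution `w ∈ O_2(C_G(v, b t))` commutes with
  `a`, `b`, `t` and all transpositions commuting with them, so it is inner (`FiKL.inner_of_fix`), and then it is `a`.
-/

set_option autoImplicit false
set_option linter.unusedSectionVars false

namespace Cfsg.Agent.H359.SK

open Subgroup Cfsg
open Cfsg.Agent.H282.SK

universe u v

/-- the facts in `G` -/
structure FG {G : Type*} [Group G] (K : Subgroup G) (T : Set G) : Prop where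
  f0 : F0 K T
  conj : ∀ g : G, ∀ x ∈ T, g * x * g⁻¹ ∈ T
  kl : ∀ w : G, w * w = 1 → ∀ a ∈ T, ∀ b ∈ T, ∀ t ∈ T, b * a = a * b → t * a = a * t → b * t ≠ t * b → w * a = a * w →
    (∀ y ∈ T, y * a = a * y → y * b = b * y → y * t = t * y → w * y = y * w) → w ∈ K
  two : ∀ g h : G, g ∉ K → h ∉ K → g * h ∈ K
  t13 : ∀ w x : G, w * w = 1 → x ∈ K → x ^ 13 = 1 → x ≠ 1 → w * x = x * w → w = 1

namespace FG

section
variable {G : Type*} [Group G] {K : Subgroup G} {T : Set G} (F : FG K T)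
include F

theorem sq {x : G} (hx : x ∈ T) : x * x = 1 := F.f0.sq x hx

theorem inv_self {x : G} (hx : x ∈ T) : x⁻¹ = x := inv_eq_of_mul_eq_one_left (F.sq hx)

/-- an element of `T` commuting with a product of two commuting members commutes with both -/
theorem pairc {a b c : G} (ha : a ∈ T) (hb : b ∈ T) (hc : c ∈ T) (hab : a ≠ b)
    (_cab : a * b = b * a) (h : c * (a * b) = a * b * c) : c * a = a * c ∧ c * b = b * c := by
  have haa := F.sq ha
  have hbb := F.sq hb
  have hcc := F.sq hc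
  have h1 : c * (a * b) * c = a * b := by rw [h, mul_assoc, hcc, mul_one]
  have h2 : (c * a * c) * (c * b * c) = a * b := by
    rw [← h1]
    calc (c * a * c) * (c * b * c) = c * a * (c * c) * b * c := by group
      _ = c * (a * b) * c := by rw [hcc]; group
  rcases F.f0.three c hc a ha with k1 | k1
  · refine ⟨k1, ?_⟩
    have k2 : c * a * c = a := by rw [k1, mul_assoc, hcc, mul_one]
    rw [k2] at h2
    have k3 : c * b * c = b := mul_left_cancel h2
    calc c * b = c * b * (c * c) := by rw [hcc, mul_one]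
      _ = (c * b * c) * c := by group
      _ = b * c := by rw [k3]
  · rcases F.f0.three c hc b hb with k2 | k2
    · refine ⟨?_, k2⟩
      have k3 : c * b * c = b := by rw [k2, mul_assoc, hcc, mul_one]
      rw [k3] at h2
      have k4 : c * a * c = a := mul_right_cancel h2
      calc c * a = c * a * (c * c) := by rw [hcc, mul_one]
        _ = (c * a * c) * c := by group
        _ = a * c := by rw [k4]
    · exfalso
      rw [k1, k2] at h2
      have h3 : c * (a * b) * c = 1 := by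
        have : a * (c * (a * b) * c) * b = a * 1 * b := by
          rw [mul_one]
          calc a * (c * (a * b) * c) * b = (a * c * a) * (b * c * b) := by group
            _ = a * b := h2
        exact mul_left_cancel (mul_right_cancel this)
      rw [h1] at h3
      apply hab
      rw [← F.inv_self hb]
      exact eq_inv_of_mul_eq_one_left h3

theorem ord3 {a b : G} (ha : a ∈ T) (hb : b ∈ T) (hab : a * b ≠ b * a) : (a * b) ^ 3 = 1 := by
  have h1 := (F.f0.three a ha b hb).resolve_left hab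
  have haa := F.sq ha
  have hbb := F.sq hb
  calc (a * b) ^ 3 = (a * b * a) * (b * a * b) := by simp only [pow_succ, pow_zero, one_mul, mul_assoc]
    _ = (b * a * b) * (b * a * b) := by rw [h1]
    _ = b * a * (b * b) * a * b := by group
    _ = b * (a * a) * b := by rw [hbb]; group
    _ = 1 := by rw [haa, mul_one, hbb]

theorem odd3 {x : G} (hx : x ^ 3 = 1) : Odd (orderOf x) := by
  have h1 : orderOf x ∣ 3 := orderOf_dvd_of_pow_eq_one hx
  exact Odd.of_dvd_nat (by decide) h1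

/-- an element of `O_2(C)` commutes with `f` -/
theorem fixO2 [Finite G] {C : Subgroup G} {w f : G} (hw : w ∈ O2 C) (hf : f ∈ T) (hfC : f ∈ C)
    (hy : w * f * w⁻¹ ≠ f → w * f * w⁻¹ * f = f * (w * f * w⁻¹) →
      ∃ y ∈ T, y ∈ C ∧ y * (w * f * w⁻¹) = w * f * w⁻¹ * y ∧ y * f ≠ f * y) : w * f = f * w := by
  set e : G := w * f * w⁻¹ with he
  have heT : e ∈ T := F.conj w f hf
  have hff := F.sq hf
  have hee := F.sq heT
  have hfi := F.inv_self hf
  have hei := F.inv_self heT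
  have hr : w * f * w⁻¹ * f⁻¹ = e * f := by rw [hfi, ← he]
  by_cases hef : e = f
  · rw [he, mul_inv_eq_iff_eq_mul] at hef
    exact hef
  by_cases hc : e * f = f * e
  · exfalso
    obtain ⟨y, hyT, hyC, hye, hyf⟩ := hy hef hc
    apply hyf
    have hrO : e * f ∈ O2 C := by
      rw [← hr]
      have e1 : w * f * w⁻¹ * f⁻¹ = w * (f * w⁻¹ * f⁻¹) := by group
      rw [e1]
      exact (O2 C).mul_mem hw (conj_mem_O2 hfC ((O2 C).inv_mem hw))
    have hyy := F.sq hyT
    have hyi := F.inv_self hyT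
    have k1 : e * f * y * (e * f)⁻¹ * y⁻¹ = (f * y) ^ 2 := by
      rw [mul_inv_rev, hfi, hei, hyi]
      calc e * f * y * (f * e) * y = e * f * y * (e * f) * y := by rw [hc]
        _ = e * f * (y * e) * f * y := by group
        _ = e * f * (e * y) * f * y := by rw [hye]
        _ = e * (f * e) * y * f * y := by group
        _ = e * (e * f) * y * f * y := by rw [hc]
        _ = (e * e) * (f * y * f * y) := by group
        _ = (f * y) ^ 2 := by rw [hee, one_mul, pow_two]; group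
    have k2 : Odd (orderOf (e * f * y * (e * f)⁻¹ * y⁻¹)) := by
      rw [k1]
      apply F.odd3
      rw [← pow_mul, mul_comm, pow_mul, F.ord3 hf hyT (fun h => hyf h.symm), one_pow]
    have k3 := commute_of_odd_comm hrO hyC k2
    have k4 : (f * y) ^ 2 = 1 := by
      rw [← k1, k3.eq]; group
    have k5 : f * y * (f * y) = 1 := by rw [← pow_two]; exact k4
    calc y * f = (f * y)⁻¹ := by rw [mul_inv_rev, hfi, hyi]
      _ = f * y := inv_eq_of_mul_eq_one_left k5
  · have k1 : Odd (orderOf (w * f * w⁻¹ * f⁻¹)) := by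
      rw [hr]
      exact F.odd3 (F.ord3 heT hf hc)
    exact (commute_of_odd_comm hw hfC k1).eq

end

section

variable {G : Type u} [Group G] [Finite G] {V K : Subgroup G} {T : Set G} (h : Cx V K) (F : FG K T)
include h F

/-- products of three commuting transpositions are not in `V` -/
theorem no3 {a b c : G} (ha : a ∈ T) (hb : b ∈ T) (hc : c ∈ T) (n1 : a ≠ b) (n2 : a ≠ c) (n3 : b ≠ c)
    (c1 : a * b = b * a) (c2 : a * c = c * a) (c3 : b * c = c * b) : a * b * c ∉ V := by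
  intro hV
  obtain ⟨x, hxK, hx, hx1, hxi⟩ := F.f0.i13 a ha b hb c hc n1 n2 n3 c1 c2 c3
  have ho : Odd (orderOf x) := Odd.of_dvd_nat (by decide) (orderOf_dvd_of_pow_eq_one hx)
  obtain ⟨w, hw, hw1, hwx⟩ := h.t0 hV ho hxi
  exact hw1 (F.t13 w x (h.sq hw) hxK hx hx1 hwx.eq)

/-- transpositions are not in `V` -/
theorem no1 {b : G} (hb : b ∈ T) : b ∉ V := by
  intro hV
  obtain ⟨c, hc, hcb, -, ccb, -⟩ := F.f0.nb b hb b hb
  obtain ⟨t, ht, -, htb⟩ := F.f0.opp c hc b hb hcb ccb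
  have hbt : b * t ≠ t * b := fun h1 => htb h1.symm
  have hbi := F.inv_self hb
  have hti := F.inv_self ht
  have hbb := F.sq hb
  have hinv : b * (b * t) * b⁻¹ = (b * t)⁻¹ := by
    rw [mul_inv_rev, hbi, hti, ← mul_assoc, hbb, one_mul]
  obtain ⟨w, hwV, hw1, hwx, hwO⟩ := h.t1 hV (F.f0.ne1 b hb) (F.odd3 (F.ord3 hb ht hbt)) hinv
  set C := centralizer ({b} : Set G) ⊓ centralizer ({b * t} : Set G) with hC
  have hCm : ∀ y : G, y * b = b * y → y * t = t * y → y ∈ C := by
    intro y h1 h2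
    rw [hC, mem_inf, mem_centralizer_singleton_iff, mem_centralizer_singleton_iff]
    exact ⟨h1, ((show Commute y b from h1).mul_right (show Commute y t from h2)).eq⟩
  have hwC := O2_le C hwO
  rw [hC, mem_inf, mem_centralizer_singleton_iff, mem_centralizer_singleton_iff] at hwC
  have wb : w * b = b * w := hwC.1
  have wt : w * t = t * w := by
    have e1 : t = b⁻¹ * (b * t) := by group
    have h1 : Commute w (b⁻¹ * (b * t)) := (show Commute w b from wb).inv_right.mul_right hwx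
    rw [← e1] at h1
    exact h1.eq
  have conjc : ∀ f s : G, f * s = s * f → w * s = s * w → s * (w * f * w⁻¹) = w * f * w⁻¹ * s := by
    intro f s h1 h2
    have k1 : Commute s w := (show Commute w s from h2).symm
    exact ((k1.mul_right (show Commute f s from h1).symm).mul_right k1.inv_right).eq
  have claim1 : ∀ f ∈ T, f * b = b * f → f * t = t * f → w * f = f * w := by
    intro f hf fb ft
    refine F.fixO2 hwO hf (hCm f fb ft) fun hne hcomm => ?_
    have e1 := conjc f b fb wb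
    have e2 := conjc f t ft wt
    obtain ⟨y, hy, h1, h2, h3, h4⟩ := F.f0.L1 (w * f * w⁻¹) (F.conj w f hf) b hb t ht f hf e1 e2 hbt hne.symm
      hcomm.symm fb ft
    exact ⟨y, hy, hCm y h2 h3, h1, h4⟩
  obtain ⟨a, ha, -, -, ab, at'⟩ := F.f0.nb b hb t ht
  have hwK : w ∈ K := F.kl w (h.sq hwV) a ha b hb t ht ab.symm at'.symm hbt (claim1 a ha ab at')
    fun y hy _ h2 h3 => claim1 y hy h2 h3
  have noC : ∀ f ∈ T, f * b = b * f → f * t = t * f → (∀ y ∈ T, y * b = b * y → y * t = t * y → y * f = f * y) →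
      False := by
    intro f hf fb ft hall
    obtain ⟨f', hf', n, h1, h2, h3⟩ := F.f0.L5 f hf b hb t ht fb.symm ft.symm hbt
    obtain ⟨y, hy, -, k2, k3, k4⟩ := F.f0.L1 f' hf' b hb t ht f hf h2.symm h3.symm hbt n.symm h1.symm fb ft
    exact k4 (hall y hy k2 k3)
  rcases F.f0.inv w hwK (h.sq hwV) with h1 | h1 | ⟨c, hc, d, hd, n, ccd, h1⟩ |
    ⟨c, hc, d, hd, f, hf, n1, n2, n3, c1, c2, c3, h1⟩
  · exact hw1 h1
  · exact noC w h1 wb wt fun y hy h2 h3 => (claim1 y hy h2 h3).symm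
  · have k : ∀ y ∈ T, w * y = y * w → y * c = c * y := by
      intro y hy h2
      rw [h1] at h2
      exact (F.pairc hc hd hy n ccd h2.symm).1
    exact noC c hc (k b hb wb).symm (k t ht wt).symm fun y hy h2 h3 => k y hy (claim1 y hy h2 h3)
  · rw [h1] at hwV
    exact no3 h F hc hd hf n1 n2 n3 c1 c2 c3 hwV

/-- products of two commuting transpositions are not in `V` -/
theorem no2 {a b : G} (ha : a ∈ T) (hb : b ∈ T) (hne : a ≠ b) (cab : a * b = b * a) : a * b ∉ V := by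
  intro hV
  obtain ⟨t, ht, ta, htb⟩ := F.f0.opp a ha b hb hne cab
  have hbt : b * t ≠ t * b := fun h1 => htb h1.symm
  have hai := F.inv_self ha
  have hbi := F.inv_self hb
  have hti := F.inv_self ht
  have haa := F.sq ha
  have hbb := F.sq hb
  have hx3 := F.ord3 hb ht hbt
  have hxi : (b * t)⁻¹ = t * b := by rw [mul_inv_rev, hbi, hti]
  have hax : a * (b * t) = b * t * a := by
    calc a * (b * t) = (a * b) * t := by group
      _ = b * (a * t) := by rw [cab]; group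
      _ = b * t * a := by rw [← ta]; group
  have hatb : a * (t * b) * a = t * b := by
    calc a * (t * b) * a = (a * t) * (b * a) := by group
      _ = (t * a) * (a * b) := by rw [ta, cab]
      _ = t * (a * a) * b := by group
      _ = t * b := by rw [haa, mul_one]
  have hinv : a * b * (b * t) * (a * b)⁻¹ = (b * t)⁻¹ := by
    rw [hxi, mul_inv_rev, hai, hbi]
    calc a * b * (b * t) * (b * a) = a * ((b * b) * t * b) * a := by group
      _ = t * b := by rw [hbb, one_mul, hatb]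
  have hv1 : a * b ≠ 1 := by
    intro h1
    apply hne
    rw [← hbi]
    exact eq_inv_of_mul_eq_one_left h1
  obtain ⟨w, hwV, hw1, hwx, hwO⟩ := h.t1 hV hv1 (F.odd3 hx3) hinv
  set C := centralizer ({a * b} : Set G) ⊓ centralizer ({b * t} : Set G) with hC
  have hCm : ∀ y : G, y * a = a * y → y * b = b * y → y * t = t * y → y ∈ C := by
    intro y h1 h2 h3
    rw [hC, mem_inf, mem_centralizer_singleton_iff, mem_centralizer_singleton_iff]
    exact ⟨((show Commute y a from h1).mul_right (show Commute y b from h2)).eq,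
      ((show Commute y b from h2).mul_right (show Commute y t from h3)).eq⟩
  -- the elements of `C` commute with `a`, `b`, `t`
  have hCc : ∀ g ∈ C, g * a = a * g ∧ g * b = b * g ∧ g * t = t * g := by
    intro g hg
    rw [hC, mem_inf, mem_centralizer_singleton_iff, mem_centralizer_singleton_iff] at hg
    obtain ⟨h1, h2⟩ := hg
    have hgaT := F.conj g a ha
    have hgbT := F.conj g b hb
    have h3 : a * b = (g * a * g⁻¹) * (g * b * g⁻¹) := by
      calc a * b = (a * b * g) * g⁻¹ := by group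
        _ = (g * (a * b)) * g⁻¹ := by rw [h1]
        _ = _ := by group
    have h4 : (g * a * g⁻¹) * (g * b * g⁻¹) = (g * b * g⁻¹) * (g * a * g⁻¹) := by
      calc (g * a * g⁻¹) * (g * b * g⁻¹) = g * (a * b) * g⁻¹ := by group
        _ = g * (b * a) * g⁻¹ := by rw [cab]
        _ = _ := by group
    have hga : g * a * g⁻¹ = a := by
      rcases F.f0.uniq a ha b hb _ hgaT _ hgbT hne cab h4 h3 with h5 | h5
      · exact h5
      exfalso
      rw [h5] at h3
      have h6 : g * b * g⁻¹ = a := by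
        have : b * (g * b * g⁻¹) = b * a := by rw [← h3, cab]
        exact mul_left_cancel this
      -- `b` inverts `b t`, so `a` does
      have h7 : a * (b * t) * a⁻¹ = (b * t)⁻¹ := by
        have h8 : b * (b * t) * b⁻¹ = (b * t)⁻¹ := by
          rw [hxi, hbi, ← mul_assoc, hbb, one_mul]
        have h9 : g * (b * t) * g⁻¹ = b * t := by rw [h2]; group
        calc a * (b * t) * a⁻¹ = (g * b * g⁻¹) * (g * (b * t) * g⁻¹) * (g * b * g⁻¹)⁻¹ := by rw [h6, h9]
          _ = g * (b * (b * t) * b⁻¹) * g⁻¹ := by group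
          _ = g * (b * t)⁻¹ * g⁻¹ := by rw [h8]
          _ = (g * (b * t) * g⁻¹)⁻¹ := by group
          _ = (b * t)⁻¹ := by rw [h9]
      rw [hax, mul_inv_cancel_right] at h7
      apply hbt
      rw [h7, hxi]
    have hgb : g * b * g⁻¹ = b := by
      rw [hga] at h3
      exact (mul_left_cancel h3).symm
    have ga : g * a = a * g := mul_inv_eq_iff_eq_mul.1 hga
    have gb : g * b = b * g := mul_inv_eq_iff_eq_mul.1 hgb
    refine ⟨ga, gb, ?_⟩
    have e1 : t = b⁻¹ * (b * t) := by group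
    have h10 : Commute g (b⁻¹ * (b * t)) := (show Commute g b from gb).inv_right.mul_right h2
    rw [← e1] at h10
    exact h10.eq
  obtain ⟨wa, wb, wt⟩ := hCc w (O2_le C hwO)
  have conjc : ∀ f s : G, f * s = s * f → w * s = s * w → s * (w * f * w⁻¹) = w * f * w⁻¹ * s := by
    intro f s h1 h2
    have k1 : Commute s w := (show Commute w s from h2).symm
    exact ((k1.mul_right (show Commute f s from h1).symm).mul_right k1.inv_right).eq
  have claim1 : ∀ f ∈ T, f * a = a * f → f * b = b * f → f * t = t * f → w * f = f * w := by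
    intro f hf fa fb ft
    by_cases hfa : f = a
    · rw [hfa]; exact wa
    refine F.fixO2 hwO hf (hCm f fa fb ft) fun hen hcomm => ?_
    have e0 := conjc f a fa wa
    have e1 := conjc f b fb wb
    have e2 := conjc f t ft wt
    have hea : w * f * w⁻¹ ≠ a := by
      intro h1
      apply hfa
      have h2 : w * f * w⁻¹ = w * a * w⁻¹ := by rw [h1, wa]; group
      exact mul_left_cancel (mul_right_cancel h2)
    obtain ⟨y, hy, h1, h2, h3, h4, h5⟩ := F.f0.L2 a ha b hb t ht (w * f * w⁻¹) (F.conj w f hf) f hf cab.symm ta hbt hea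
      hfa hen e0.symm e1.symm e2.symm fa fb ft hcomm
    exact ⟨y, hy, hCm y h1 h2 h3, h4, h5⟩
  have hwK : w ∈ K := F.kl w (h.sq hwV) a ha b hb t ht cab.symm ta hbt wa claim1
  rcases F.f0.inv w hwK (h.sq hwV) with h1 | h1 | ⟨c, hc, d, hd, n, ccd, h1⟩ |
    ⟨c, hc, d, hd, f, hf, n1, n2, n3, c1, c2, c3, h1⟩
  · exact hw1 h1
  · exact no1 h F h1 hwV
  · have k : ∀ y ∈ T, w * y = y * w → y * c = c * y ∧ y * d = d * y := by
      intro y hy h2
      rw [h1] at h2
      exact F.pairc hc hd hy n ccd h2.symm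
    have noC : ∀ f ∈ T, f ≠ a → f * a = a * f → f * b = b * f → f * t = t * f →
        (∀ y ∈ T, w * y = y * w → y * f = f * y) → False := by
      intro f hf hfa fa fb ft hall
      obtain ⟨y, hy, k1, k2, k3, k4⟩ := F.f0.L1 a ha b hb t ht f hf cab.symm ta hbt hfa fa fb ft
      exact k4 (hall y hy (claim1 y hy k1 k2 k3))
    by_cases hca : c = a
    · have hda : d ≠ a := by
        rintro rfl
        exact n hca
      exact noC d hd hda (k a ha wa).2.symm (k b hb wb).2.symm (k t ht wt).2.symm fun y hy h2 => (k y hy h2).2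
    · exact noC c hc hca (k a ha wa).1.symm (k b hb wb).1.symm (k t ht wt).1.symm fun y hy h2 => (k y hy h2).1
  · rw [h1] at hwV
    exact no3 h F hc hd hf n1 n2 n3 c1 c2 c3 hwV

/-- **No counterexample.** -/
theorem false_of_cx : False := by
  obtain ⟨v, hv, hv1, hvK⟩ : ∃ v ∈ V, v ≠ 1 ∧ v ∈ K := by
    by_contra hcon
    push Not at hcon
    have h8 := h.card
    obtain ⟨v1, hv1, hv11⟩ : ∃ w ∈ V, w ≠ 1 := by
      by_contra hcon
      push Not at hcon
      exact h.V_ne_bot ((Subgroup.eq_bot_iff_forall V).2 hcon)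
    obtain ⟨v2, hv2, hv21, hv22⟩ : ∃ w ∈ V, w ≠ 1 ∧ w ≠ v1 := by
      by_contra hcon2
      push Not at hcon2
      have h1 : (V : Set G) ⊆ {1, v1} := by
        intro w hw
        by_cases hw1 : w = 1
        · left; exact hw1
        · right; exact hcon2 w hw hw1
      have h2 := Set.ncard_le_ncard h1 (Set.toFinite _)
      have h3 := Set.ncard_insert_le (1 : G) ({v1} : Set G)
      rw [Set.ncard_singleton] at h3
      have h4 : (V : Set G).ncard = Nat.card V := rfl
      omega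
    refine hcon (v1 * v2) (V.mul_mem hv1 hv2) ?_ (F.two v1 v2 (hcon v1 hv1 hv11) (hcon v2 hv2 hv21))
    intro h1
    apply hv22
    rw [← h.inv_eq hv1]
    exact eq_inv_of_mul_eq_one_right h1
  rcases F.f0.inv v hvK (h.sq hv) with h1 | h1 | ⟨c, hc, d, hd, n, ccd, h1⟩ |
    ⟨c, hc, d, hd, f, hf, n1, n2, n3, c1, c2, c3, h1⟩
  · exact hv1 h1
  · exact no1 h F h1 hv
  · rw [h1] at hv
    exact no2 h F hc hd n ccd hv
  · rw [h1] at hv
    exact no3 h F hc hd hf n1 n2 n3 c1 c2 c3 hv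

end

end FG

open Cfsg.Agent.OddHalf.NI3.Ex.FiRow.Base (T kt)

/-- the facts hold in a minimal counterexample with `K` isomorphic to `Fi22` -/
theorem exists_fg {G : Type u} [Group G] [Finite G] {V K : Subgroup G} (h : Cx V K) (e : ↥K ≃* Spor.Fi22) :
    ∃ T' : Set G, FG K T' := by
  obtain ⟨φ, hφ, hφK, hφg⟩ := h.exists_toAut e
  set ι : Spor.Fi22 →* G := K.subtype.comp e.symm.toMonoidHom with hι
  have hιi : Function.Injective ι := K.subtype_injective.comp e.symm.injective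
  have hιv : ∀ s, ι s = (e.symm s : G) := fun s => rfl
  have hιK : ∀ s, ι s ∈ K := fun s => (e.symm s).2
  have hKι : ∀ x ∈ K, ∃ s, ι s = x := fun x hx => ⟨e ⟨x, hx⟩, by rw [hιv, e.symm_apply_apply]⟩
  have hmap : (⊤ : Subgroup Spor.Fi22).map ι = K := by
    ext x
    constructor
    · rintro ⟨s, -, rfl⟩
      exact hιK s
    · intro hx
      obtain ⟨s, hs⟩ := hKι x hx
      exact ⟨s, mem_top _, hs⟩
  have rel : ∀ (g : G) (s : Spor.Fi22), g * ι s * g⁻¹ = ι (φ g s) := by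
    intro g s
    obtain ⟨h1, h2⟩ := hφg g (e.symm s)
    rw [e.apply_symm_apply] at h2
    rw [h2, hιv, hιv, e.symm_apply_apply]
  have hφι : ∀ s : Spor.Fi22, φ (ι s) = MulAut.conj s := by
    intro s
    rw [hιv, hφK, e.apply_symm_apply]
  have hin : ∀ g : G, ∀ s, φ g = MulAut.conj s → g ∈ K := by
    intro g s hs
    rw [← hφι] at hs
    rw [hφ hs]
    exact hιK s
  refine ⟨ι '' T, ?_, ?_, ?_, ?_, ?_⟩
  · have h1 := SK.f0.map ι hιi
    rwa [hmap] at h1
  · rintro g _ ⟨s, hs, rfl⟩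
    rw [rel]
    exact ⟨_, kt.aut (φ g) s hs, rfl⟩
  · rintro w hw _ ⟨a, ha, rfl⟩ _ ⟨b, hb, rfl⟩ _ ⟨t, ht, rfl⟩ h1 h2 h3 h4 h5
    simp only [← map_mul, hιi.eq_iff, ne_eq] at h1 h2 h3
    have hfixed : ∀ s : Spor.Fi22, w * ι s = ι s * w → φ w s = s := by
      intro s hs
      apply hιi
      rw [← rel, hs, mul_inv_cancel_right]
    obtain ⟨k, hk⟩ := FiKL.inner_of_fix (α := φ w) (by rw [← map_mul, hw, map_one]) ha hb ht h1 h2 h3
      (hfixed a h4) (by
        intro y hy k1 k2 k3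
        apply hfixed
        exact h5 _ ⟨y, hy, rfl⟩ (by rw [← map_mul, k1, map_mul]) (by rw [← map_mul, k2, map_mul])
          (by rw [← map_mul, k3, map_mul]))
    exact hin w k hk
  · intro g g' hg hg'
    obtain ⟨x, hx⟩ := kt.out (φ g) (φ g') (fun x hx => hg (hin g x hx)) (fun x hx => hg' (hin g' x hx))
    apply hin _ x
    rw [map_mul, hx]
  · intro w x hw hx hx13 hx1 hwx
    obtain ⟨x', rfl⟩ := hKι x hx
    have hx13' : x' ^ 13 = 1 := hιi (by rw [map_pow, hx13, map_one])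
    have hx1' : x' ≠ 1 := fun h1 => hx1 (by rw [h1, map_one])
    have ho : orderOf x' = 13 := by
      have : Fact (Nat.Prime 13) := ⟨by norm_num⟩
      exact orderOf_eq_prime hx13' hx1'
    by_cases hwK : w ∈ K
    · obtain ⟨w', rfl⟩ := hKι w hwK
      rw [← map_mul, ← map_mul, hιi.eq_iff] at hwx
      have h1 := Cfsg.Agent.PreUniqCo.FiTwentyTwo.thirteen (MulEquiv.refl Spor.Fi22) ho hwx
      have h2 : w' ^ 2 = 1 := by
        rw [pow_two]
        apply hιi
        rw [map_mul, hw, map_one]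
      have h3 : w' = 1 := by
        calc w' = w' ^ 13 * (w' ^ 2) ^ (-6 : ℤ) := by group
          _ = 1 := by rw [h1, h2]; group
      rw [h3, map_one]
    · exfalso
      have hQ := Cfsg.Agent.H323.FiOut.q_all (α := φ w) (by rw [← map_mul, hw, map_one])
        (by rintro ⟨k, hk⟩; exact hwK (hin w k hk))
      apply hQ.1
      have h1 : φ w x' = x' := by
        apply hιi
        rw [← rel, hwx, mul_inv_cancel_right]
      have h2 : x' ∈ fixedSubgroup (φ w) := h1
      have h3 := _root_.orderOf_dvd_natCard (⟨x', h2⟩ : ↥(fixedSubgroup (φ w)))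
      rwa [Subgroup.orderOf_mk, ho] at h3

/-- **S3010: the row `Fi22`.** -/
theorem Fi22.dead : DeadS.{u} (fun K _ => Cfsg.Spor.IsoFi22 K) := by
  intro G _ _ V K h hK
  obtain ⟨e⟩ := hK
  obtain ⟨T', F⟩ := exists_fg h e
  exact F.false_of_cx h

end Cfsg.Agent.H359.SK
end

private theorem dce_b77ac96fb54c : _root_.True := by
  try have : _root_.True := by simp only [_root_.Cfsg.Agent.H791.SK.Co3Dat.nrels.eq_1]
  try have : _root_.True := by simp only [_root_.Cfsg.Agent.H359.SK.FiThirteen.vw.eq_1]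
  try have : _root_.True := by simp only [_root_.Cfsg.Agent.H791.SK.Co3Dat.rels.eq_1]
  try have : _root_.True := by simp only [_root_.Cfsg.Agent.R01.Fi22Facts.word.eq_1]
  exact _root_.True.intro
end
end
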